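import Cfsg.Agent.Lib.Helper35.ON122760.Data

set_option Elab.async false

namespace Cfsg.Agent.Lib.Helper35.ON122760

open Cfsg.Agent.Lib.Helper35

theorem s0c398 : allBelow (fun k => fs0 (Nat.add (Nat.succ 186633) k)) 325 = true := by decide +kernel
theorem s0c399 : allBelow (fun k => fs0 (Nat.add (Nat.succ 186958) k)) 308 = true := by decide +kernel
theorem s0c400 : allBelow (fun k => fs0 (Nat.add (Nat.succ 187266) k)) 358 = true := by decide +kernel
theorem s0c401 : allBelow (fun k => fs0 (Nat.add (Nat.succ 187624) k)) 335 = true := by decide +kernel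
theorem s0c402 : allBelow (fun k => fs0 (Nat.add (Nat.succ 187959) k)) 296 = true := by decide +kernel
theorem s0c403 : allBelow (fun k => fs0 (Nat.add (Nat.succ 188255) k)) 309 = true := by decide +kernel
theorem s0c404 : allBelow (fun k => fs0 (Nat.add (Nat.succ 188564) k)) 332 = true := by decide +kernel
theorem s0c405 : allBelow (fun k => fs0 (Nat.add (Nat.succ 188896) k)) 319 = true := by decide +kernel
theorem s0c406 : allBelow (fun k => fs0 (Nat.add (Nat.succ 189215) k)) 322 = true := by decide +kernel
theorem s0c407 : allBelow (fun k => fs0 (Nat.add (Nat.succ 189537) k)) 310 = true := by decide +kernel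
theorem s0c408 : allBelow (fun k => fs0 (Nat.add (Nat.succ 189847) k)) 296 = true := by decide +kernel
theorem s0c409 : allBelow (fun k => fs0 (Nat.add (Nat.succ 190143) k)) 288 = true := by decide +kernel
theorem s0c410 : allBelow (fun k => fs0 (Nat.add (Nat.succ 190431) k)) 301 = true := by decide +kernel
theorem s0c411 : allBelow (fun k => fs0 (Nat.add (Nat.succ 190732) k)) 308 = true := by decide +kernel
theorem s0c412 : allBelow (fun k => fs0 (Nat.add (Nat.succ 191040) k)) 307 = true := by decide +kernel
theorem s0c413 : allBelow (fun k => fs0 (Nat.add (Nat.succ 191347) k)) 301 = true := by decide +kernel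
theorem s0c414 : allBelow (fun k => fs0 (Nat.add (Nat.succ 191648) k)) 314 = true := by decide +kernel
theorem s0c415 : allBelow (fun k => fs0 (Nat.add (Nat.succ 191962) k)) 331 = true := by decide +kernel
theorem s0c416 : allBelow (fun k => fs0 (Nat.add (Nat.succ 192293) k)) 325 = true := by decide +kernel
theorem s0c417 : allBelow (fun k => fs0 (Nat.add (Nat.succ 192618) k)) 324 = true := by decide +kernel
theorem s0c418 : allBelow (fun k => fs0 (Nat.add (Nat.succ 192942) k)) 331 = true := by decide +kernel
theorem s0c419 : allBelow (fun k => fs0 (Nat.add (Nat.succ 193273) k)) 308 = true := by decide +kernel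
theorem s0c420 : allBelow (fun k => fs0 (Nat.add (Nat.succ 193581) k)) 300 = true := by decide +kernel
theorem s0c421 : allBelow (fun k => fs0 (Nat.add (Nat.succ 193881) k)) 313 = true := by decide +kernel
theorem s0c422 : allBelow (fun k => fs0 (Nat.add (Nat.succ 194194) k)) 311 = true := by decide +kernel
theorem s0c423 : allBelow (fun k => fs0 (Nat.add (Nat.succ 194505) k)) 307 = true := by decide +kernel
theorem s0c424 : allBelow (fun k => fs0 (Nat.add (Nat.succ 194812) k)) 309 = true := by decide +kernel
theorem s0c425 : allBelow (fun k => fs0 (Nat.add (Nat.succ 195121) k)) 288 = true := by decide +kernel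
theorem s0c426 : allBelow (fun k => fs0 (Nat.add (Nat.succ 195409) k)) 308 = true := by decide +kernel
theorem s0c427 : allBelow (fun k => fs0 (Nat.add (Nat.succ 195717) k)) 284 = true := by decide +kernel
theorem s0c428 : allBelow (fun k => fs0 (Nat.add (Nat.succ 196001) k)) 291 = true := by decide +kernel
theorem s0c429 : allBelow (fun k => fs0 (Nat.add (Nat.succ 196292) k)) 274 = true := by decide +kernel
theorem s0c430 : allBelow (fun k => fs0 (Nat.add (Nat.succ 196566) k)) 296 = true := by decide +kernel
theorem s0c431 : allBelow (fun k => fs0 (Nat.add (Nat.succ 196862) k)) 292 = true := by decide +kernel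
theorem s0c432 : allBelow (fun k => fs0 (Nat.add (Nat.succ 197154) k)) 308 = true := by decide +kernel
theorem s0c433 : allBelow (fun k => fs0 (Nat.add (Nat.succ 197462) k)) 267 = true := by decide +kernel
theorem s0c434 : allBelow (fun k => fs0 (Nat.add (Nat.succ 197729) k)) 285 = true := by decide +kernel
theorem s0c435 : allBelow (fun k => fs0 (Nat.add (Nat.succ 198014) k)) 277 = true := by decide +kernel
theorem s0c436 : allBelow (fun k => fs0 (Nat.add (Nat.succ 198291) k)) 272 = true := by decide +kernel
theorem s0c437 : allBelow (fun k => fs0 (Nat.add (Nat.succ 198563) k)) 300 = true := by decide +kernel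
theorem s0c438 : allBelow (fun k => fs0 (Nat.add (Nat.succ 198863) k)) 292 = true := by decide +kernel
theorem s0c439 : allBelow (fun k => fs0 (Nat.add (Nat.succ 199155) k)) 272 = true := by decide +kernel
theorem s0c440 : allBelow (fun k => fs0 (Nat.add (Nat.succ 199427) k)) 276 = true := by decide +kernel
theorem s0c441 : allBelow (fun k => fs0 (Nat.add (Nat.succ 199703) k)) 254 = true := by decide +kernel
theorem s0c442 : allBelow (fun k => fs0 (Nat.add (Nat.succ 199957) k)) 283 = true := by decide +kernel
theorem s0c443 : allBelow (fun k => fs0 (Nat.add (Nat.succ 200240) k)) 276 = true := by decide +kernel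
theorem s0c444 : allBelow (fun k => fs0 (Nat.add (Nat.succ 200516) k)) 282 = true := by decide +kernel
theorem s0c445 : allBelow (fun k => fs0 (Nat.add (Nat.succ 200798) k)) 270 = true := by decide +kernel
theorem s0c446 : allBelow (fun k => fs0 (Nat.add (Nat.succ 201068) k)) 255 = true := by decide +kernel
theorem s0c447 : allBelow (fun k => fs0 (Nat.add (Nat.succ 201323) k)) 253 = true := by decide +kernel
theorem s0c448 : allBelow (fun k => fs0 (Nat.add (Nat.succ 201576) k)) 6 = true := by decide +kernel
theorem s1c0 : allBelow (fun k => fs1 (Nat.add (Nat.succ 0) k)) 536 = true := by decide +kernel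
theorem s1c1 : allBelow (fun k => fs1 (Nat.add (Nat.succ 536) k)) 479 = true := by decide +kernel
theorem s1c2 : allBelow (fun k => fs1 (Nat.add (Nat.succ 1015) k)) 496 = true := by decide +kernel
theorem s1c3 : allBelow (fun k => fs1 (Nat.add (Nat.succ 1511) k)) 495 = true := by decide +kernel
theorem s1c4 : allBelow (fun k => fs1 (Nat.add (Nat.succ 2006) k)) 502 = true := by decide +kernel
theorem s1c5 : allBelow (fun k => fs1 (Nat.add (Nat.succ 2508) k)) 531 = true := by decide +kernel
theorem s1c6 : allBelow (fun k => fs1 (Nat.add (Nat.succ 3039) k)) 497 = true := by decide +kernel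
theorem s1c7 : allBelow (fun k => fs1 (Nat.add (Nat.succ 3536) k)) 493 = true := by decide +kernel
theorem s1c8 : allBelow (fun k => fs1 (Nat.add (Nat.succ 4029) k)) 530 = true := by decide +kernel
theorem s1c9 : allBelow (fun k => fs1 (Nat.add (Nat.succ 4559) k)) 496 = true := by decide +kernel
theorem s1c10 : allBelow (fun k => fs1 (Nat.add (Nat.succ 5055) k)) 478 = true := by decide +kernel
theorem s1c11 : allBelow (fun k => fs1 (Nat.add (Nat.succ 5533) k)) 473 = true := by decide +kernel
theorem s1c12 : allBelow (fun k => fs1 (Nat.add (Nat.succ 6006) k)) 464 = true := by decide +kernel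
theorem s1c13 : allBelow (fun k => fs1 (Nat.add (Nat.succ 6470) k)) 474 = true := by decide +kernel
theorem s1c14 : allBelow (fun k => fs1 (Nat.add (Nat.succ 6944) k)) 502 = true := by decide +kernel
theorem s1c15 : allBelow (fun k => fs1 (Nat.add (Nat.succ 7446) k)) 487 = true := by decide +kernel
theorem s1c16 : allBelow (fun k => fs1 (Nat.add (Nat.succ 7933) k)) 509 = true := by decide +kernel
theorem s1c17 : allBelow (fun k => fs1 (Nat.add (Nat.succ 8442) k)) 483 = true := by decide +kernel
theorem s1c18 : allBelow (fun k => fs1 (Nat.add (Nat.succ 8925) k)) 484 = true := by decide +kernel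
theorem s1c19 : allBelow (fun k => fs1 (Nat.add (Nat.succ 9409) k)) 528 = true := by decide +kernel
theorem s1c20 : allBelow (fun k => fs1 (Nat.add (Nat.succ 9937) k)) 511 = true := by decide +kernel
theorem s1c21 : allBelow (fun k => fs1 (Nat.add (Nat.succ 10448) k)) 507 = true := by decide +kernel
theorem s1c22 : allBelow (fun k => fs1 (Nat.add (Nat.succ 10955) k)) 438 = true := by decide +kernel
theorem s1c23 : allBelow (fun k => fs1 (Nat.add (Nat.succ 11393) k)) 439 = true := by decide +kernel
theorem s1c24 : allBelow (fun k => fs1 (Nat.add (Nat.succ 11832) k)) 442 = true := by decide +kernel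
theorem s1c25 : allBelow (fun k => fs1 (Nat.add (Nat.succ 12274) k)) 498 = true := by decide +kernel
theorem s1c26 : allBelow (fun k => fs1 (Nat.add (Nat.succ 12772) k)) 464 = true := by decide +kernel
theorem s1c27 : allBelow (fun k => fs1 (Nat.add (Nat.succ 13236) k)) 443 = true := by decide +kernel
theorem s1c28 : allBelow (fun k => fs1 (Nat.add (Nat.succ 13679) k)) 450 = true := by decide +kernel
theorem s1c29 : allBelow (fun k => fs1 (Nat.add (Nat.succ 14129) k)) 456 = true := by decide +kernel
theorem s1c30 : allBelow (fun k => fs1 (Nat.add (Nat.succ 14585) k)) 505 = true := by decide +kernel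
theorem s1c31 : allBelow (fun k => fs1 (Nat.add (Nat.succ 15090) k)) 547 = true := by decide +kernel
theorem s1c32 : allBelow (fun k => fs1 (Nat.add (Nat.succ 15637) k)) 536 = true := by decide +kernel
theorem s1c33 : allBelow (fun k => fs1 (Nat.add (Nat.succ 16173) k)) 437 = true := by decide +kernel
theorem s1c34 : allBelow (fun k => fs1 (Nat.add (Nat.succ 16610) k)) 457 = true := by decide +kernel
theorem s1c35 : allBelow (fun k => fs1 (Nat.add (Nat.succ 17067) k)) 478 = true := by decide +kernel
theorem s1c36 : allBelow (fun k => fs1 (Nat.add (Nat.succ 17545) k)) 503 = true := by decide +kernel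
theorem s1c37 : allBelow (fun k => fs1 (Nat.add (Nat.succ 18048) k)) 535 = true := by decide +kernel
theorem s1c38 : allBelow (fun k => fs1 (Nat.add (Nat.succ 18583) k)) 488 = true := by decide +kernel
theorem s1c39 : allBelow (fun k => fs1 (Nat.add (Nat.succ 19071) k)) 482 = true := by decide +kernel
theorem s1c40 : allBelow (fun k => fs1 (Nat.add (Nat.succ 19553) k)) 509 = true := by decide +kernel
theorem s1c41 : allBelow (fun k => fs1 (Nat.add (Nat.succ 20062) k)) 482 = true := by decide +kernel
theorem s1c42 : allBelow (fun k => fs1 (Nat.add (Nat.succ 20544) k)) 516 = true := by decide +kernel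
theorem s1c43 : allBelow (fun k => fs1 (Nat.add (Nat.succ 21060) k)) 503 = true := by decide +kernel
theorem s1c44 : allBelow (fun k => fs1 (Nat.add (Nat.succ 21563) k)) 510 = true := by decide +kernel
theorem s1c45 : allBelow (fun k => fs1 (Nat.add (Nat.succ 22073) k)) 494 = true := by decide +kernel
theorem s1c46 : allBelow (fun k => fs1 (Nat.add (Nat.succ 22567) k)) 524 = true := by decide +kernel
theorem s1c47 : allBelow (fun k => fs1 (Nat.add (Nat.succ 23091) k)) 447 = true := by decide +kernel
theorem s1c48 : allBelow (fun k => fs1 (Nat.add (Nat.succ 23538) k)) 444 = true := by decide +kernel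
theorem s1c49 : allBelow (fun k => fs1 (Nat.add (Nat.succ 23982) k)) 435 = true := by decide +kernel
theorem s1c50 : allBelow (fun k => fs1 (Nat.add (Nat.succ 24417) k)) 433 = true := by decide +kernel
theorem s1c51 : allBelow (fun k => fs1 (Nat.add (Nat.succ 24850) k)) 450 = true := by decide +kernel
theorem s1c52 : allBelow (fun k => fs1 (Nat.add (Nat.succ 25300) k)) 469 = true := by decide +kernel
theorem s1c53 : allBelow (fun k => fs1 (Nat.add (Nat.succ 25769) k)) 460 = true := by decide +kernel
theorem s1c54 : allBelow (fun k => fs1 (Nat.add (Nat.succ 26229) k)) 481 = true := by decide +kernel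
theorem s1c55 : allBelow (fun k => fs1 (Nat.add (Nat.succ 26710) k)) 501 = true := by decide +kernel
theorem s1c56 : allBelow (fun k => fs1 (Nat.add (Nat.succ 27211) k)) 465 = true := by decide +kernel
theorem s1c57 : allBelow (fun k => fs1 (Nat.add (Nat.succ 27676) k)) 465 = true := by decide +kernel
theorem s1c58 : allBelow (fun k => fs1 (Nat.add (Nat.succ 28141) k)) 455 = true := by decide +kernel
theorem s1c59 : allBelow (fun k => fs1 (Nat.add (Nat.succ 28596) k)) 458 = true := by decide +kernel
theorem s1c60 : allBelow (fun k => fs1 (Nat.add (Nat.succ 29054) k)) 458 = true := by decide +kernel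
theorem s1c61 : allBelow (fun k => fs1 (Nat.add (Nat.succ 29512) k)) 456 = true := by decide +kernel
theorem s1c62 : allBelow (fun k => fs1 (Nat.add (Nat.succ 29968) k)) 489 = true := by decide +kernel
theorem s1c63 : allBelow (fun k => fs1 (Nat.add (Nat.succ 30457) k)) 525 = true := by decide +kernel
theorem s1c64 : allBelow (fun k => fs1 (Nat.add (Nat.succ 30982) k)) 479 = true := by decide +kernel
theorem s1c65 : allBelow (fun k => fs1 (Nat.add (Nat.succ 31461) k)) 466 = true := by decide +kernel
theorem s1c66 : allBelow (fun k => fs1 (Nat.add (Nat.succ 31927) k)) 484 = true := by decide +kernel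
theorem s1c67 : allBelow (fun k => fs1 (Nat.add (Nat.succ 32411) k)) 487 = true := by decide +kernel
theorem s1c68 : allBelow (fun k => fs1 (Nat.add (Nat.succ 32898) k)) 515 = true := by decide +kernel
theorem s1c69 : allBelow (fun k => fs1 (Nat.add (Nat.succ 33413) k)) 451 = true := by decide +kernel
theorem s1c70 : allBelow (fun k => fs1 (Nat.add (Nat.succ 33864) k)) 482 = true := by decide +kernel
theorem s1c71 : allBelow (fun k => fs1 (Nat.add (Nat.succ 34346) k)) 460 = true := by decide +kernel
theorem s1c72 : allBelow (fun k => fs1 (Nat.add (Nat.succ 34806) k)) 501 = true := by decide +kernel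
theorem s1c73 : allBelow (fun k => fs1 (Nat.add (Nat.succ 35307) k)) 455 = true := by decide +kernel
theorem s1c74 : allBelow (fun k => fs1 (Nat.add (Nat.succ 35762) k)) 498 = true := by decide +kernel
theorem s1c75 : allBelow (fun k => fs1 (Nat.add (Nat.succ 36260) k)) 498 = true := by decide +kernel
theorem s1c76 : allBelow (fun k => fs1 (Nat.add (Nat.succ 36758) k)) 513 = true := by decide +kernel
theorem s1c77 : allBelow (fun k => fs1 (Nat.add (Nat.succ 37271) k)) 520 = true := by decide +kernel
theorem s1c78 : allBelow (fun k => fs1 (Nat.add (Nat.succ 37791) k)) 526 = true := by decide +kernel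
theorem s1c79 : allBelow (fun k => fs1 (Nat.add (Nat.succ 38317) k)) 525 = true := by decide +kernel
theorem s1c80 : allBelow (fun k => fs1 (Nat.add (Nat.succ 38842) k)) 515 = true := by decide +kernel
theorem s1c81 : allBelow (fun k => fs1 (Nat.add (Nat.succ 39357) k)) 487 = true := by decide +kernel
theorem s1c82 : allBelow (fun k => fs1 (Nat.add (Nat.succ 39844) k)) 534 = true := by decide +kernel
theorem s1c83 : allBelow (fun k => fs1 (Nat.add (Nat.succ 40378) k)) 453 = true := by decide +kernel
theorem s1c84 : allBelow (fun k => fs1 (Nat.add (Nat.succ 40831) k)) 446 = true := by decide +kernel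
theorem s1c85 : allBelow (fun k => fs1 (Nat.add (Nat.succ 41277) k)) 477 = true := by decide +kernel
theorem s1c86 : allBelow (fun k => fs1 (Nat.add (Nat.succ 41754) k)) 493 = true := by decide +kernel
theorem s1c87 : allBelow (fun k => fs1 (Nat.add (Nat.succ 42247) k)) 478 = true := by decide +kernel
theorem s1c88 : allBelow (fun k => fs1 (Nat.add (Nat.succ 42725) k)) 465 = true := by decide +kernel
theorem s1c89 : allBelow (fun k => fs1 (Nat.add (Nat.succ 43190) k)) 504 = true := by decide +kernel
theorem s1c90 : allBelow (fun k => fs1 (Nat.add (Nat.succ 43694) k)) 466 = true := by decide +kernel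
theorem s1c91 : allBelow (fun k => fs1 (Nat.add (Nat.succ 44160) k)) 473 = true := by decide +kernel
theorem s1c92 : allBelow (fun k => fs1 (Nat.add (Nat.succ 44633) k)) 487 = true := by decide +kernel
theorem s1c93 : allBelow (fun k => fs1 (Nat.add (Nat.succ 45120) k)) 503 = true := by decide +kernel
theorem s1c94 : allBelow (fun k => fs1 (Nat.add (Nat.succ 45623) k)) 471 = true := by decide +kernel
theorem s1c95 : allBelow (fun k => fs1 (Nat.add (Nat.succ 46094) k)) 503 = true := by decide +kernel
theorem s1c96 : allBelow (fun k => fs1 (Nat.add (Nat.succ 46597) k)) 478 = true := by decide +kernel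
theorem s1c97 : allBelow (fun k => fs1 (Nat.add (Nat.succ 47075) k)) 430 = true := by decide +kernel
theorem s1c98 : allBelow (fun k => fs1 (Nat.add (Nat.succ 47505) k)) 450 = true := by decide +kernel
theorem s1c99 : allBelow (fun k => fs1 (Nat.add (Nat.succ 47955) k)) 459 = true := by decide +kernel
theorem s1c100 : allBelow (fun k => fs1 (Nat.add (Nat.succ 48414) k)) 517 = true := by decide +kernel
theorem s1c101 : allBelow (fun k => fs1 (Nat.add (Nat.succ 48931) k)) 455 = true := by decide +kernel
theorem s1c102 : allBelow (fun k => fs1 (Nat.add (Nat.succ 49386) k)) 456 = true := by decide +kernel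
theorem s1c103 : allBelow (fun k => fs1 (Nat.add (Nat.succ 49842) k)) 500 = true := by decide +kernel
theorem s1c104 : allBelow (fun k => fs1 (Nat.add (Nat.succ 50342) k)) 439 = true := by decide +kernel
theorem s1c105 : allBelow (fun k => fs1 (Nat.add (Nat.succ 50781) k)) 475 = true := by decide +kernel
theorem s1c106 : allBelow (fun k => fs1 (Nat.add (Nat.succ 51256) k)) 499 = true := by decide +kernel
theorem s1c107 : allBelow (fun k => fs1 (Nat.add (Nat.succ 51755) k)) 491 = true := by decide +kernel
theorem s1c108 : allBelow (fun k => fs1 (Nat.add (Nat.succ 52246) k)) 473 = true := by decide +kernel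
theorem s1c109 : allBelow (fun k => fs1 (Nat.add (Nat.succ 52719) k)) 489 = true := by decide +kernel
theorem s1c110 : allBelow (fun k => fs1 (Nat.add (Nat.succ 53208) k)) 483 = true := by decide +kernel
theorem s1c111 : allBelow (fun k => fs1 (Nat.add (Nat.succ 53691) k)) 498 = true := by decide +kernel
theorem s1c112 : allBelow (fun k => fs1 (Nat.add (Nat.succ 54189) k)) 530 = true := by decide +kernel
theorem s1c113 : allBelow (fun k => fs1 (Nat.add (Nat.succ 54719) k)) 520 = true := by decide +kernel
theorem s1c114 : allBelow (fun k => fs1 (Nat.add (Nat.succ 55239) k)) 540 = true := by decide +kernel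
theorem s1c115 : allBelow (fun k => fs1 (Nat.add (Nat.succ 55779) k)) 507 = true := by decide +kernel
theorem s1c116 : allBelow (fun k => fs1 (Nat.add (Nat.succ 56286) k)) 513 = true := by decide +kernel
theorem s1c117 : allBelow (fun k => fs1 (Nat.add (Nat.succ 56799) k)) 466 = true := by decide +kernel
theorem s1c118 : allBelow (fun k => fs1 (Nat.add (Nat.succ 57265) k)) 479 = true := by decide +kernel
theorem s1c119 : allBelow (fun k => fs1 (Nat.add (Nat.succ 57744) k)) 476 = true := by decide +kernel
theorem s1c120 : allBelow (fun k => fs1 (Nat.add (Nat.succ 58220) k)) 450 = true := by decide +kernel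
theorem s1c121 : allBelow (fun k => fs1 (Nat.add (Nat.succ 58670) k)) 479 = true := by decide +kernel
theorem s1c122 : allBelow (fun k => fs1 (Nat.add (Nat.succ 59149) k)) 456 = true := by decide +kernel
theorem s1c123 : allBelow (fun k => fs1 (Nat.add (Nat.succ 59605) k)) 491 = true := by decide +kernel
theorem s1c124 : allBelow (fun k => fs1 (Nat.add (Nat.succ 60096) k)) 447 = true := by decide +kernel
theorem s1c125 : allBelow (fun k => fs1 (Nat.add (Nat.succ 60543) k)) 457 = true := by decide +kernel
theorem s1c126 : allBelow (fun k => fs1 (Nat.add (Nat.succ 61000) k)) 476 = true := by decide +kernel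
theorem s1c127 : allBelow (fun k => fs1 (Nat.add (Nat.succ 61476) k)) 468 = true := by decide +kernel
theorem s1c128 : allBelow (fun k => fs1 (Nat.add (Nat.succ 61944) k)) 490 = true := by decide +kernel
theorem s1c129 : allBelow (fun k => fs1 (Nat.add (Nat.succ 62434) k)) 532 = true := by decide +kernel
theorem s1c130 : allBelow (fun k => fs1 (Nat.add (Nat.succ 62966) k)) 517 = true := by decide +kernel
theorem s1c131 : allBelow (fun k => fs1 (Nat.add (Nat.succ 63483) k)) 549 = true := by decide +kernel
theorem s1c132 : allBelow (fun k => fs1 (Nat.add (Nat.succ 64032) k)) 596 = true := by decide +kernel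
theorem s1c133 : allBelow (fun k => fs1 (Nat.add (Nat.succ 64628) k)) 533 = true := by decide +kernel
theorem s1c134 : allBelow (fun k => fs1 (Nat.add (Nat.succ 65161) k)) 508 = true := by decide +kernel
theorem s1c135 : allBelow (fun k => fs1 (Nat.add (Nat.succ 65669) k)) 483 = true := by decide +kernel
theorem s1c136 : allBelow (fun k => fs1 (Nat.add (Nat.succ 66152) k)) 469 = true := by decide +kernel
theorem s1c137 : allBelow (fun k => fs1 (Nat.add (Nat.succ 66621) k)) 508 = true := by decide +kernel
theorem s1c138 : allBelow (fun k => fs1 (Nat.add (Nat.succ 67129) k)) 456 = true := by decide +kernel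
theorem s1c139 : allBelow (fun k => fs1 (Nat.add (Nat.succ 67585) k)) 491 = true := by decide +kernel
theorem s1c140 : allBelow (fun k => fs1 (Nat.add (Nat.succ 68076) k)) 485 = true := by decide +kernel
theorem s1c141 : allBelow (fun k => fs1 (Nat.add (Nat.succ 68561) k)) 487 = true := by decide +kernel
theorem s1c142 : allBelow (fun k => fs1 (Nat.add (Nat.succ 69048) k)) 532 = true := by decide +kernel
theorem s1c143 : allBelow (fun k => fs1 (Nat.add (Nat.succ 69580) k)) 524 = true := by decide +kernel
theorem s1c144 : allBelow (fun k => fs1 (Nat.add (Nat.succ 70104) k)) 534 = true := by decide +kernel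
theorem s1c145 : allBelow (fun k => fs1 (Nat.add (Nat.succ 70638) k)) 555 = true := by decide +kernel
theorem s1c146 : allBelow (fun k => fs1 (Nat.add (Nat.succ 71193) k)) 459 = true := by decide +kernel
theorem s1c147 : allBelow (fun k => fs1 (Nat.add (Nat.succ 71652) k)) 515 = true := by decide +kernel
theorem s1c148 : allBelow (fun k => fs1 (Nat.add (Nat.succ 72167) k)) 519 = true := by decide +kernel
theorem s1c149 : allBelow (fun k => fs1 (Nat.add (Nat.succ 72686) k)) 517 = true := by decide +kernel
theorem s1c150 : allBelow (fun k => fs1 (Nat.add (Nat.succ 73203) k)) 460 = true := by decide +kernel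
theorem s1c151 : allBelow (fun k => fs1 (Nat.add (Nat.succ 73663) k)) 522 = true := by decide +kernel
theorem s1c152 : allBelow (fun k => fs1 (Nat.add (Nat.succ 74185) k)) 540 = true := by decide +kernel
theorem s1c153 : allBelow (fun k => fs1 (Nat.add (Nat.succ 74725) k)) 524 = true := by decide +kernel
theorem s1c154 : allBelow (fun k => fs1 (Nat.add (Nat.succ 75249) k)) 494 = true := by decide +kernel
theorem s1c155 : allBelow (fun k => fs1 (Nat.add (Nat.succ 75743) k)) 482 = true := by decide +kernel
theorem s1c156 : allBelow (fun k => fs1 (Nat.add (Nat.succ 76225) k)) 515 = true := by decide +kernel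
theorem s1c157 : allBelow (fun k => fs1 (Nat.add (Nat.succ 76740) k)) 501 = true := by decide +kernel
theorem s1c158 : allBelow (fun k => fs1 (Nat.add (Nat.succ 77241) k)) 487 = true := by decide +kernel
theorem s1c159 : allBelow (fun k => fs1 (Nat.add (Nat.succ 77728) k)) 502 = true := by decide +kernel
theorem s1c160 : allBelow (fun k => fs1 (Nat.add (Nat.succ 78230) k)) 517 = true := by decide +kernel
theorem s1c161 : allBelow (fun k => fs1 (Nat.add (Nat.succ 78747) k)) 514 = true := by decide +kernel
theorem s1c162 : allBelow (fun k => fs1 (Nat.add (Nat.succ 79261) k)) 515 = true := by decide +kernel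
theorem s1c163 : allBelow (fun k => fs1 (Nat.add (Nat.succ 79776) k)) 526 = true := by decide +kernel
theorem s1c164 : allBelow (fun k => fs1 (Nat.add (Nat.succ 80302) k)) 516 = true := by decide +kernel
theorem s1c165 : allBelow (fun k => fs1 (Nat.add (Nat.succ 80818) k)) 513 = true := by decide +kernel
theorem s1c166 : allBelow (fun k => fs1 (Nat.add (Nat.succ 81331) k)) 547 = true := by decide +kernel
theorem s1c167 : allBelow (fun k => fs1 (Nat.add (Nat.succ 81878) k)) 525 = true := by decide +kernel
theorem s1c168 : allBelow (fun k => fs1 (Nat.add (Nat.succ 82403) k)) 521 = true := by decide +kernel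
theorem s1c169 : allBelow (fun k => fs1 (Nat.add (Nat.succ 82924) k)) 502 = true := by decide +kernel
theorem s1c170 : allBelow (fun k => fs1 (Nat.add (Nat.succ 83426) k)) 505 = true := by decide +kernel
theorem s1c171 : allBelow (fun k => fs1 (Nat.add (Nat.succ 83931) k)) 497 = true := by decide +kernel
theorem s1c172 : allBelow (fun k => fs1 (Nat.add (Nat.succ 84428) k)) 459 = true := by decide +kernel
theorem s1c173 : allBelow (fun k => fs1 (Nat.add (Nat.succ 84887) k)) 460 = true := by decide +kernel
theorem s1c174 : allBelow (fun k => fs1 (Nat.add (Nat.succ 85347) k)) 427 = true := by decide +kernel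
theorem s1c175 : allBelow (fun k => fs1 (Nat.add (Nat.succ 85774) k)) 448 = true := by decide +kernel
theorem s1c176 : allBelow (fun k => fs1 (Nat.add (Nat.succ 86222) k)) 501 = true := by decide +kernel
theorem s1c177 : allBelow (fun k => fs1 (Nat.add (Nat.succ 86723) k)) 482 = true := by decide +kernel
theorem s1c178 : allBelow (fun k => fs1 (Nat.add (Nat.succ 87205) k)) 434 = true := by decide +kernel
theorem s1c179 : allBelow (fun k => fs1 (Nat.add (Nat.succ 87639) k)) 491 = true := by decide +kernel
theorem s1c180 : allBelow (fun k => fs1 (Nat.add (Nat.succ 88130) k)) 450 = true := by decide +kernel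
theorem s1c181 : allBelow (fun k => fs1 (Nat.add (Nat.succ 88580) k)) 453 = true := by decide +kernel
theorem s1c182 : allBelow (fun k => fs1 (Nat.add (Nat.succ 89033) k)) 480 = true := by decide +kernel
theorem s1c183 : allBelow (fun k => fs1 (Nat.add (Nat.succ 89513) k)) 486 = true := by decide +kernel
theorem s1c184 : allBelow (fun k => fs1 (Nat.add (Nat.succ 89999) k)) 465 = true := by decide +kernel
theorem s1c185 : allBelow (fun k => fs1 (Nat.add (Nat.succ 90464) k)) 447 = true := by decide +kernel
theorem s1c186 : allBelow (fun k => fs1 (Nat.add (Nat.succ 90911) k)) 475 = true := by decide +kernel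
theorem s1c187 : allBelow (fun k => fs1 (Nat.add (Nat.succ 91386) k)) 498 = true := by decide +kernel
theorem s1c188 : allBelow (fun k => fs1 (Nat.add (Nat.succ 91884) k)) 503 = true := by decide +kernel
theorem s1c189 : allBelow (fun k => fs1 (Nat.add (Nat.succ 92387) k)) 474 = true := by decide +kernel
theorem s1c190 : allBelow (fun k => fs1 (Nat.add (Nat.succ 92861) k)) 505 = true := by decide +kernel
theorem s1c191 : allBelow (fun k => fs1 (Nat.add (Nat.succ 93366) k)) 491 = true := by decide +kernel
theorem s1c192 : allBelow (fun k => fs1 (Nat.add (Nat.succ 93857) k)) 545 = true := by decide +kernel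
theorem s1c193 : allBelow (fun k => fs1 (Nat.add (Nat.succ 94402) k)) 464 = true := by decide +kernel
theorem s1c194 : allBelow (fun k => fs1 (Nat.add (Nat.succ 94866) k)) 515 = true := by decide +kernel
theorem s1c195 : allBelow (fun k => fs1 (Nat.add (Nat.succ 95381) k)) 464 = true := by decide +kernel
theorem s1c196 : allBelow (fun k => fs1 (Nat.add (Nat.succ 95845) k)) 454 = true := by decide +kernel
theorem s1c197 : allBelow (fun k => fs1 (Nat.add (Nat.succ 96299) k)) 438 = true := by decide +kernel
theorem s1c198 : allBelow (fun k => fs1 (Nat.add (Nat.succ 96737) k)) 458 = true := by decide +kernel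
theorem s1c199 : allBelow (fun k => fs1 (Nat.add (Nat.succ 97195) k)) 466 = true := by decide +kernel
theorem s1c200 : allBelow (fun k => fs1 (Nat.add (Nat.succ 97661) k)) 441 = true := by decide +kernel
theorem s1c201 : allBelow (fun k => fs1 (Nat.add (Nat.succ 98102) k)) 434 = true := by decide +kernel
theorem s1c202 : allBelow (fun k => fs1 (Nat.add (Nat.succ 98536) k)) 423 = true := by decide +kernel
theorem s1c203 : allBelow (fun k => fs1 (Nat.add (Nat.succ 98959) k)) 449 = true := by decide +kernel
theorem s1c204 : allBelow (fun k => fs1 (Nat.add (Nat.succ 99408) k)) 459 = true := by decide +kernel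
theorem s1c205 : allBelow (fun k => fs1 (Nat.add (Nat.succ 99867) k)) 501 = true := by decide +kernel
theorem s1c206 : allBelow (fun k => fs1 (Nat.add (Nat.succ 100368) k)) 541 = true := by decide +kernel
theorem s1c207 : allBelow (fun k => fs1 (Nat.add (Nat.succ 100909) k)) 428 = true := by decide +kernel
theorem s1c208 : allBelow (fun k => fs1 (Nat.add (Nat.succ 101337) k)) 419 = true := by decide +kernel
theorem s1c209 : allBelow (fun k => fs1 (Nat.add (Nat.succ 101756) k)) 420 = true := by decide +kernel
theorem s1c210 : allBelow (fun k => fs1 (Nat.add (Nat.succ 102176) k)) 420 = true := by decide +kernel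
theorem s1c211 : allBelow (fun k => fs1 (Nat.add (Nat.succ 102596) k)) 441 = true := by decide +kernel
theorem s1c212 : allBelow (fun k => fs1 (Nat.add (Nat.succ 103037) k)) 473 = true := by decide +kernel
theorem s1c213 : allBelow (fun k => fs1 (Nat.add (Nat.succ 103510) k)) 418 = true := by decide +kernel
theorem s1c214 : allBelow (fun k => fs1 (Nat.add (Nat.succ 103928) k)) 418 = true := by decide +kernel
theorem s1c215 : allBelow (fun k => fs1 (Nat.add (Nat.succ 104346) k)) 459 = true := by decide +kernel
theorem s1c216 : allBelow (fun k => fs1 (Nat.add (Nat.succ 104805) k)) 447 = true := by decide +kernel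
theorem s1c217 : allBelow (fun k => fs1 (Nat.add (Nat.succ 105252) k)) 475 = true := by decide +kernel
theorem s1c218 : allBelow (fun k => fs1 (Nat.add (Nat.succ 105727) k)) 430 = true := by decide +kernel
theorem s1c219 : allBelow (fun k => fs1 (Nat.add (Nat.succ 106157) k)) 472 = true := by decide +kernel
theorem s1c220 : allBelow (fun k => fs1 (Nat.add (Nat.succ 106629) k)) 512 = true := by decide +kernel
theorem s1c221 : allBelow (fun k => fs1 (Nat.add (Nat.succ 107141) k)) 462 = true := by decide +kernel
theorem s1c222 : allBelow (fun k => fs1 (Nat.add (Nat.succ 107603) k)) 466 = true := by decide +kernel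
theorem s1c223 : allBelow (fun k => fs1 (Nat.add (Nat.succ 108069) k)) 487 = true := by decide +kernel
theorem s1c224 : allBelow (fun k => fs1 (Nat.add (Nat.succ 108556) k)) 491 = true := by decide +kernel
theorem s1c225 : allBelow (fun k => fs1 (Nat.add (Nat.succ 109047) k)) 472 = true := by decide +kernel
theorem s1c226 : allBelow (fun k => fs1 (Nat.add (Nat.succ 109519) k)) 484 = true := by decide +kernel
theorem s1c227 : allBelow (fun k => fs1 (Nat.add (Nat.succ 110003) k)) 479 = true := by decide +kernel
theorem s1c228 : allBelow (fun k => fs1 (Nat.add (Nat.succ 110482) k)) 469 = true := by decide +kernel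
theorem s1c229 : allBelow (fun k => fs1 (Nat.add (Nat.succ 110951) k)) 521 = true := by decide +kernel
theorem s1c230 : allBelow (fun k => fs1 (Nat.add (Nat.succ 111472) k)) 516 = true := by decide +kernel
theorem s1c231 : allBelow (fun k => fs1 (Nat.add (Nat.succ 111988) k)) 454 = true := by decide +kernel
theorem s1c232 : allBelow (fun k => fs1 (Nat.add (Nat.succ 112442) k)) 479 = true := by decide +kernel
theorem s1c233 : allBelow (fun k => fs1 (Nat.add (Nat.succ 112921) k)) 503 = true := by decide +kernel
theorem s1c234 : allBelow (fun k => fs1 (Nat.add (Nat.succ 113424) k)) 468 = true := by decide +kernel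
theorem s1c235 : allBelow (fun k => fs1 (Nat.add (Nat.succ 113892) k)) 462 = true := by decide +kernel
theorem s1c236 : allBelow (fun k => fs1 (Nat.add (Nat.succ 114354) k)) 504 = true := by decide +kernel
theorem s1c237 : allBelow (fun k => fs1 (Nat.add (Nat.succ 114858) k)) 439 = true := by decide +kernel
theorem s1c238 : allBelow (fun k => fs1 (Nat.add (Nat.succ 115297) k)) 420 = true := by decide +kernel
theorem s1c239 : allBelow (fun k => fs1 (Nat.add (Nat.succ 115717) k)) 403 = true := by decide +kernel
theorem s1c240 : allBelow (fun k => fs1 (Nat.add (Nat.succ 116120) k)) 478 = true := by decide +kernel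
theorem s1c241 : allBelow (fun k => fs1 (Nat.add (Nat.succ 116598) k)) 462 = true := by decide +kernel
theorem s1c242 : allBelow (fun k => fs1 (Nat.add (Nat.succ 117060) k)) 438 = true := by decide +kernel
theorem s1c243 : allBelow (fun k => fs1 (Nat.add (Nat.succ 117498) k)) 451 = true := by decide +kernel
theorem s1c244 : allBelow (fun k => fs1 (Nat.add (Nat.succ 117949) k)) 465 = true := by decide +kernel
theorem s1c245 : allBelow (fun k => fs1 (Nat.add (Nat.succ 118414) k)) 512 = true := by decide +kernel
theorem s1c246 : allBelow (fun k => fs1 (Nat.add (Nat.succ 118926) k)) 519 = true := by decide +kernel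
theorem s1c247 : allBelow (fun k => fs1 (Nat.add (Nat.succ 119445) k)) 443 = true := by decide +kernel
theorem s1c248 : allBelow (fun k => fs1 (Nat.add (Nat.succ 119888) k)) 459 = true := by decide +kernel
theorem s1c249 : allBelow (fun k => fs1 (Nat.add (Nat.succ 120347) k)) 458 = true := by decide +kernel
theorem s1c250 : allBelow (fun k => fs1 (Nat.add (Nat.succ 120805) k)) 447 = true := by decide +kernel
theorem s1c251 : allBelow (fun k => fs1 (Nat.add (Nat.succ 121252) k)) 509 = true := by decide +kernel
theorem s1c252 : allBelow (fun k => fs1 (Nat.add (Nat.succ 121761) k)) 436 = true := by decide +kernel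
theorem s1c253 : allBelow (fun k => fs1 (Nat.add (Nat.succ 122197) k)) 426 = true := by decide +kernel
theorem s1c254 : allBelow (fun k => fs1 (Nat.add (Nat.succ 122623) k)) 463 = true := by decide +kernel
theorem s1c255 : allBelow (fun k => fs1 (Nat.add (Nat.succ 123086) k)) 478 = true := by decide +kernel
theorem s1c256 : allBelow (fun k => fs1 (Nat.add (Nat.succ 123564) k)) 440 = true := by decide +kernel
theorem s1c257 : allBelow (fun k => fs1 (Nat.add (Nat.succ 124004) k)) 456 = true := by decide +kernel
theorem s1c258 : allBelow (fun k => fs1 (Nat.add (Nat.succ 124460) k)) 448 = true := by decide +kernel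
theorem s1c259 : allBelow (fun k => fs1 (Nat.add (Nat.succ 124908) k)) 464 = true := by decide +kernel
theorem s1c260 : allBelow (fun k => fs1 (Nat.add (Nat.succ 125372) k)) 455 = true := by decide +kernel
theorem s1c261 : allBelow (fun k => fs1 (Nat.add (Nat.succ 125827) k)) 439 = true := by decide +kernel
theorem s1c262 : allBelow (fun k => fs1 (Nat.add (Nat.succ 126266) k)) 489 = true := by decide +kernel
theorem s1c263 : allBelow (fun k => fs1 (Nat.add (Nat.succ 126755) k)) 534 = true := by decide +kernel
theorem s1c264 : allBelow (fun k => fs1 (Nat.add (Nat.succ 127289) k)) 545 = true := by decide +kernel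
theorem s1c265 : allBelow (fun k => fs1 (Nat.add (Nat.succ 127834) k)) 461 = true := by decide +kernel
theorem s1c266 : allBelow (fun k => fs1 (Nat.add (Nat.succ 128295) k)) 534 = true := by decide +kernel
theorem s1c267 : allBelow (fun k => fs1 (Nat.add (Nat.succ 128829) k)) 472 = true := by decide +kernel
theorem s1c268 : allBelow (fun k => fs1 (Nat.add (Nat.succ 129301) k)) 492 = true := by decide +kernel
theorem s1c269 : allBelow (fun k => fs1 (Nat.add (Nat.succ 129793) k)) 524 = true := by decide +kernel
theorem s1c270 : allBelow (fun k => fs1 (Nat.add (Nat.succ 130317) k)) 589 = true := by decide +kernel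
theorem s1c271 : allBelow (fun k => fs1 (Nat.add (Nat.succ 130906) k)) 535 = true := by decide +kernel
theorem s1c272 : allBelow (fun k => fs1 (Nat.add (Nat.succ 131441) k)) 472 = true := by decide +kernel
theorem s1c273 : allBelow (fun k => fs1 (Nat.add (Nat.succ 131913) k)) 478 = true := by decide +kernel
theorem s1c274 : allBelow (fun k => fs1 (Nat.add (Nat.succ 132391) k)) 478 = true := by decide +kernel
theorem s1c275 : allBelow (fun k => fs1 (Nat.add (Nat.succ 132869) k)) 487 = true := by decide +kernel
theorem s1c276 : allBelow (fun k => fs1 (Nat.add (Nat.succ 133356) k)) 482 = true := by decide +kernel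
theorem s1c277 : allBelow (fun k => fs1 (Nat.add (Nat.succ 133838) k)) 490 = true := by decide +kernel
theorem s1c278 : allBelow (fun k => fs1 (Nat.add (Nat.succ 134328) k)) 484 = true := by decide +kernel
theorem s1c279 : allBelow (fun k => fs1 (Nat.add (Nat.succ 134812) k)) 534 = true := by decide +kernel
theorem s1c280 : allBelow (fun k => fs1 (Nat.add (Nat.succ 135346) k)) 473 = true := by decide +kernel
theorem s1c281 : allBelow (fun k => fs1 (Nat.add (Nat.succ 135819) k)) 476 = true := by decide +kernel
theorem s1c282 : allBelow (fun k => fs1 (Nat.add (Nat.succ 136295) k)) 499 = true := by decide +kernel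
theorem s1c283 : allBelow (fun k => fs1 (Nat.add (Nat.succ 136794) k)) 508 = true := by decide +kernel
theorem s1c284 : allBelow (fun k => fs1 (Nat.add (Nat.succ 137302) k)) 449 = true := by decide +kernel
theorem s1c285 : allBelow (fun k => fs1 (Nat.add (Nat.succ 137751) k)) 476 = true := by decide +kernel
theorem s1c286 : allBelow (fun k => fs1 (Nat.add (Nat.succ 138227) k)) 500 = true := by decide +kernel
theorem s1c287 : allBelow (fun k => fs1 (Nat.add (Nat.succ 138727) k)) 455 = true := by decide +kernel
theorem s1c288 : allBelow (fun k => fs1 (Nat.add (Nat.succ 139182) k)) 487 = true := by decide +kernel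
theorem s1c289 : allBelow (fun k => fs1 (Nat.add (Nat.succ 139669) k)) 458 = true := by decide +kernel
theorem s1c290 : allBelow (fun k => fs1 (Nat.add (Nat.succ 140127) k)) 538 = true := by decide +kernel
theorem s1c291 : allBelow (fun k => fs1 (Nat.add (Nat.succ 140665) k)) 502 = true := by decide +kernel
theorem s1c292 : allBelow (fun k => fs1 (Nat.add (Nat.succ 141167) k)) 458 = true := by decide +kernel
theorem s1c293 : allBelow (fun k => fs1 (Nat.add (Nat.succ 141625) k)) 500 = true := by decide +kernel
theorem s1c294 : allBelow (fun k => fs1 (Nat.add (Nat.succ 142125) k)) 499 = true := by decide +kernel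
theorem s1c295 : allBelow (fun k => fs1 (Nat.add (Nat.succ 142624) k)) 529 = true := by decide +kernel
theorem s1c296 : allBelow (fun k => fs1 (Nat.add (Nat.succ 143153) k)) 487 = true := by decide +kernel
theorem s1c297 : allBelow (fun k => fs1 (Nat.add (Nat.succ 143640) k)) 491 = true := by decide +kernel
theorem s1c298 : allBelow (fun k => fs1 (Nat.add (Nat.succ 144131) k)) 473 = true := by decide +kernel
theorem s1c299 : allBelow (fun k => fs1 (Nat.add (Nat.succ 144604) k)) 537 = true := by decide +kernel
theorem s1c300 : allBelow (fun k => fs1 (Nat.add (Nat.succ 145141) k)) 578 = true := by decide +kernel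
theorem s1c301 : allBelow (fun k => fs1 (Nat.add (Nat.succ 145719) k)) 533 = true := by decide +kernel
theorem s1c302 : allBelow (fun k => fs1 (Nat.add (Nat.succ 146252) k)) 507 = true := by decide +kernel
theorem s1c303 : allBelow (fun k => fs1 (Nat.add (Nat.succ 146759) k)) 532 = true := by decide +kernel
theorem s1c304 : allBelow (fun k => fs1 (Nat.add (Nat.succ 147291) k)) 479 = true := by decide +kernel
theorem s1c305 : allBelow (fun k => fs1 (Nat.add (Nat.succ 147770) k)) 632 = true := by decide +kernel
theorem s1c306 : allBelow (fun k => fs1 (Nat.add (Nat.succ 148402) k)) 504 = true := by decide +kernel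
theorem s1c307 : allBelow (fun k => fs1 (Nat.add (Nat.succ 148906) k)) 537 = true := by decide +kernel
theorem s1c308 : allBelow (fun k => fs1 (Nat.add (Nat.succ 149443) k)) 567 = true := by decide +kernel
theorem s1c309 : allBelow (fun k => fs1 (Nat.add (Nat.succ 150010) k)) 483 = true := by decide +kernel
theorem s1c310 : allBelow (fun k => fs1 (Nat.add (Nat.succ 150493) k)) 569 = true := by decide +kernel
theorem s1c311 : allBelow (fun k => fs1 (Nat.add (Nat.succ 151062) k)) 560 = true := by decide +kernel
theorem s1c312 : allBelow (fun k => fs1 (Nat.add (Nat.succ 151622) k)) 533 = true := by decide +kernel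
theorem s1c313 : allBelow (fun k => fs1 (Nat.add (Nat.succ 152155) k)) 523 = true := by decide +kernel
theorem s1c314 : allBelow (fun k => fs1 (Nat.add (Nat.succ 152678) k)) 508 = true := by decide +kernel
theorem s1c315 : allBelow (fun k => fs1 (Nat.add (Nat.succ 153186) k)) 557 = true := by decide +kernel
theorem s1c316 : allBelow (fun k => fs1 (Nat.add (Nat.succ 153743) k)) 573 = true := by decide +kernel
theorem s1c317 : allBelow (fun k => fs1 (Nat.add (Nat.succ 154316) k)) 569 = true := by decide +kernel
theorem s1c318 : allBelow (fun k => fs1 (Nat.add (Nat.succ 154885) k)) 474 = true := by decide +kernel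
theorem s1c319 : allBelow (fun k => fs1 (Nat.add (Nat.succ 155359) k)) 530 = true := by decide +kernel
theorem s1c320 : allBelow (fun k => fs1 (Nat.add (Nat.succ 155889) k)) 480 = true := by decide +kernel
theorem s1c321 : allBelow (fun k => fs1 (Nat.add (Nat.succ 156369) k)) 535 = true := by decide +kernel
theorem s1c322 : allBelow (fun k => fs1 (Nat.add (Nat.succ 156904) k)) 494 = true := by decide +kernel
theorem s1c323 : allBelow (fun k => fs1 (Nat.add (Nat.succ 157398) k)) 560 = true := by decide +kernel
theorem s1c324 : allBelow (fun k => fs1 (Nat.add (Nat.succ 157958) k)) 625 = true := by decide +kernel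
theorem s1c325 : allBelow (fun k => fs1 (Nat.add (Nat.succ 158583) k)) 500 = true := by decide +kernel
theorem s1c326 : allBelow (fun k => fs1 (Nat.add (Nat.succ 159083) k)) 506 = true := by decide +kernel
theorem s1c327 : allBelow (fun k => fs1 (Nat.add (Nat.succ 159589) k)) 499 = true := by decide +kernel
theorem s1c328 : allBelow (fun k => fs1 (Nat.add (Nat.succ 160088) k)) 560 = true := by decide +kernel
theorem s1c329 : allBelow (fun k => fs1 (Nat.add (Nat.succ 160648) k)) 453 = true := by decide +kernel
theorem s1c330 : allBelow (fun k => fs1 (Nat.add (Nat.succ 161101) k)) 525 = true := by decide +kernel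
theorem s1c331 : allBelow (fun k => fs1 (Nat.add (Nat.succ 161626) k)) 448 = true := by decide +kernel
theorem s1c332 : allBelow (fun k => fs1 (Nat.add (Nat.succ 162074) k)) 369 = true := by decide +kernel
theorem s1c333 : allBelow (fun k => fs1 (Nat.add (Nat.succ 162443) k)) 358 = true := by decide +kernel
theorem s1c334 : allBelow (fun k => fs1 (Nat.add (Nat.succ 162801) k)) 362 = true := by decide +kernel
theorem s1c335 : allBelow (fun k => fs1 (Nat.add (Nat.succ 163163) k)) 368 = true := by decide +kernel
theorem s1c336 : allBelow (fun k => fs1 (Nat.add (Nat.succ 163531) k)) 357 = true := by decide +kernel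
theorem s1c337 : allBelow (fun k => fs1 (Nat.add (Nat.succ 163888) k)) 355 = true := by decide +kernel
theorem s1c338 : allBelow (fun k => fs1 (Nat.add (Nat.succ 164243) k)) 344 = true := by decide +kernel
theorem s1c339 : allBelow (fun k => fs1 (Nat.add (Nat.succ 164587) k)) 372 = true := by decide +kernel
theorem s1c340 : allBelow (fun k => fs1 (Nat.add (Nat.succ 164959) k)) 375 = true := by decide +kernel
theorem s1c341 : allBelow (fun k => fs1 (Nat.add (Nat.succ 165334) k)) 378 = true := by decide +kernel
theorem s1c342 : allBelow (fun k => fs1 (Nat.add (Nat.succ 165712) k)) 364 = true := by decide +kernel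
theorem s1c343 : allBelow (fun k => fs1 (Nat.add (Nat.succ 166076) k)) 371 = true := by decide +kernel
theorem s1c344 : allBelow (fun k => fs1 (Nat.add (Nat.succ 166447) k)) 332 = true := by decide +kernel
theorem s1c345 : allBelow (fun k => fs1 (Nat.add (Nat.succ 166779) k)) 343 = true := by decide +kernel
theorem s1c346 : allBelow (fun k => fs1 (Nat.add (Nat.succ 167122) k)) 343 = true := by decide +kernel
theorem s1c347 : allBelow (fun k => fs1 (Nat.add (Nat.succ 167465) k)) 348 = true := by decide +kernel

end Cfsg.Agent.Lib.Helper35.ON122760
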