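import Cfsg.Agent.Lib.Helper35.ON122760.Data

set_option Elab.async false

namespace Cfsg.Agent.Lib.Helper35.ON122760

open Cfsg.Agent.Lib.Helper35

theorem s1c348 : allBelow (fun k => fs1 (Nat.add (Nat.succ 167813) k)) 330 = true := by decide +kernel
theorem s1c349 : allBelow (fun k => fs1 (Nat.add (Nat.succ 168143) k)) 360 = true := by decide +kernel
theorem s1c350 : allBelow (fun k => fs1 (Nat.add (Nat.succ 168503) k)) 345 = true := by decide +kernel
theorem s1c351 : allBelow (fun k => fs1 (Nat.add (Nat.succ 168848) k)) 340 = true := by decide +kernel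
theorem s1c352 : allBelow (fun k => fs1 (Nat.add (Nat.succ 169188) k)) 341 = true := by decide +kernel
theorem s1c353 : allBelow (fun k => fs1 (Nat.add (Nat.succ 169529) k)) 359 = true := by decide +kernel
theorem s1c354 : allBelow (fun k => fs1 (Nat.add (Nat.succ 169888) k)) 314 = true := by decide +kernel
theorem s1c355 : allBelow (fun k => fs1 (Nat.add (Nat.succ 170202) k)) 337 = true := by decide +kernel
theorem s1c356 : allBelow (fun k => fs1 (Nat.add (Nat.succ 170539) k)) 350 = true := by decide +kernel
theorem s1c357 : allBelow (fun k => fs1 (Nat.add (Nat.succ 170889) k)) 338 = true := by decide +kernel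
theorem s1c358 : allBelow (fun k => fs1 (Nat.add (Nat.succ 171227) k)) 335 = true := by decide +kernel
theorem s1c359 : allBelow (fun k => fs1 (Nat.add (Nat.succ 171562) k)) 357 = true := by decide +kernel
theorem s1c360 : allBelow (fun k => fs1 (Nat.add (Nat.succ 171919) k)) 346 = true := by decide +kernel
theorem s1c361 : allBelow (fun k => fs1 (Nat.add (Nat.succ 172265) k)) 353 = true := by decide +kernel
theorem s1c362 : allBelow (fun k => fs1 (Nat.add (Nat.succ 172618) k)) 333 = true := by decide +kernel
theorem s1c363 : allBelow (fun k => fs1 (Nat.add (Nat.succ 172951) k)) 363 = true := by decide +kernel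
theorem s1c364 : allBelow (fun k => fs1 (Nat.add (Nat.succ 173314) k)) 325 = true := by decide +kernel
theorem s1c365 : allBelow (fun k => fs1 (Nat.add (Nat.succ 173639) k)) 319 = true := by decide +kernel
theorem s1c366 : allBelow (fun k => fs1 (Nat.add (Nat.succ 173958) k)) 333 = true := by decide +kernel
theorem s1c367 : allBelow (fun k => fs1 (Nat.add (Nat.succ 174291) k)) 331 = true := by decide +kernel
theorem s1c368 : allBelow (fun k => fs1 (Nat.add (Nat.succ 174622) k)) 318 = true := by decide +kernel
theorem s1c369 : allBelow (fun k => fs1 (Nat.add (Nat.succ 174940) k)) 351 = true := by decide +kernel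
theorem s1c370 : allBelow (fun k => fs1 (Nat.add (Nat.succ 175291) k)) 321 = true := by decide +kernel
theorem s1c371 : allBelow (fun k => fs1 (Nat.add (Nat.succ 175612) k)) 315 = true := by decide +kernel
theorem s1c372 : allBelow (fun k => fs1 (Nat.add (Nat.succ 175927) k)) 308 = true := by decide +kernel
theorem s1c373 : allBelow (fun k => fs1 (Nat.add (Nat.succ 176235) k)) 324 = true := by decide +kernel
theorem s1c374 : allBelow (fun k => fs1 (Nat.add (Nat.succ 176559) k)) 328 = true := by decide +kernel
theorem s1c375 : allBelow (fun k => fs1 (Nat.add (Nat.succ 176887) k)) 327 = true := by decide +kernel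
theorem s1c376 : allBelow (fun k => fs1 (Nat.add (Nat.succ 177214) k)) 318 = true := by decide +kernel
theorem s1c377 : allBelow (fun k => fs1 (Nat.add (Nat.succ 177532) k)) 366 = true := by decide +kernel
theorem s1c378 : allBelow (fun k => fs1 (Nat.add (Nat.succ 177898) k)) 311 = true := by decide +kernel
theorem s1c379 : allBelow (fun k => fs1 (Nat.add (Nat.succ 178209) k)) 310 = true := by decide +kernel
theorem s1c380 : allBelow (fun k => fs1 (Nat.add (Nat.succ 178519) k)) 321 = true := by decide +kernel
theorem s1c381 : allBelow (fun k => fs1 (Nat.add (Nat.succ 178840) k)) 330 = true := by decide +kernel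
theorem s1c382 : allBelow (fun k => fs1 (Nat.add (Nat.succ 179170) k)) 322 = true := by decide +kernel
theorem s1c383 : allBelow (fun k => fs1 (Nat.add (Nat.succ 179492) k)) 335 = true := by decide +kernel
theorem s1c384 : allBelow (fun k => fs1 (Nat.add (Nat.succ 179827) k)) 335 = true := by decide +kernel
theorem s1c385 : allBelow (fun k => fs1 (Nat.add (Nat.succ 180162) k)) 316 = true := by decide +kernel
theorem s1c386 : allBelow (fun k => fs1 (Nat.add (Nat.succ 180478) k)) 309 = true := by decide +kernel
theorem s1c387 : allBelow (fun k => fs1 (Nat.add (Nat.succ 180787) k)) 309 = true := by decide +kernel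
theorem s1c388 : allBelow (fun k => fs1 (Nat.add (Nat.succ 181096) k)) 321 = true := by decide +kernel
theorem s1c389 : allBelow (fun k => fs1 (Nat.add (Nat.succ 181417) k)) 295 = true := by decide +kernel
theorem s1c390 : allBelow (fun k => fs1 (Nat.add (Nat.succ 181712) k)) 316 = true := by decide +kernel
theorem s1c391 : allBelow (fun k => fs1 (Nat.add (Nat.succ 182028) k)) 331 = true := by decide +kernel
theorem s1c392 : allBelow (fun k => fs1 (Nat.add (Nat.succ 182359) k)) 320 = true := by decide +kernel
theorem s1c393 : allBelow (fun k => fs1 (Nat.add (Nat.succ 182679) k)) 289 = true := by decide +kernel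
theorem s1c394 : allBelow (fun k => fs1 (Nat.add (Nat.succ 182968) k)) 296 = true := by decide +kernel
theorem s1c395 : allBelow (fun k => fs1 (Nat.add (Nat.succ 183264) k)) 295 = true := by decide +kernel
theorem s1c396 : allBelow (fun k => fs1 (Nat.add (Nat.succ 183559) k)) 297 = true := by decide +kernel
theorem s1c397 : allBelow (fun k => fs1 (Nat.add (Nat.succ 183856) k)) 306 = true := by decide +kernel
theorem s1c398 : allBelow (fun k => fs1 (Nat.add (Nat.succ 184162) k)) 305 = true := by decide +kernel
theorem s1c399 : allBelow (fun k => fs1 (Nat.add (Nat.succ 184467) k)) 305 = true := by decide +kernel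
theorem s1c400 : allBelow (fun k => fs1 (Nat.add (Nat.succ 184772) k)) 324 = true := by decide +kernel
theorem s1c401 : allBelow (fun k => fs1 (Nat.add (Nat.succ 185096) k)) 312 = true := by decide +kernel
theorem s1c402 : allBelow (fun k => fs1 (Nat.add (Nat.succ 185408) k)) 330 = true := by decide +kernel
theorem s1c403 : allBelow (fun k => fs1 (Nat.add (Nat.succ 185738) k)) 286 = true := by decide +kernel
theorem s1c404 : allBelow (fun k => fs1 (Nat.add (Nat.succ 186024) k)) 315 = true := by decide +kernel
theorem s1c405 : allBelow (fun k => fs1 (Nat.add (Nat.succ 186339) k)) 317 = true := by decide +kernel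
theorem s1c406 : allBelow (fun k => fs1 (Nat.add (Nat.succ 186656) k)) 303 = true := by decide +kernel
theorem s1c407 : allBelow (fun k => fs1 (Nat.add (Nat.succ 186959) k)) 295 = true := by decide +kernel
theorem s1c408 : allBelow (fun k => fs1 (Nat.add (Nat.succ 187254) k)) 329 = true := by decide +kernel
theorem s1c409 : allBelow (fun k => fs1 (Nat.add (Nat.succ 187583) k)) 314 = true := by decide +kernel
theorem s1c410 : allBelow (fun k => fs1 (Nat.add (Nat.succ 187897) k)) 283 = true := by decide +kernel
theorem s1c411 : allBelow (fun k => fs1 (Nat.add (Nat.succ 188180) k)) 276 = true := by decide +kernel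
theorem s1c412 : allBelow (fun k => fs1 (Nat.add (Nat.succ 188456) k)) 318 = true := by decide +kernel
theorem s1c413 : allBelow (fun k => fs1 (Nat.add (Nat.succ 188774) k)) 307 = true := by decide +kernel
theorem s1c414 : allBelow (fun k => fs1 (Nat.add (Nat.succ 189081) k)) 295 = true := by decide +kernel
theorem s1c415 : allBelow (fun k => fs1 (Nat.add (Nat.succ 189376) k)) 308 = true := by decide +kernel
theorem s1c416 : allBelow (fun k => fs1 (Nat.add (Nat.succ 189684) k)) 277 = true := by decide +kernel
theorem s1c417 : allBelow (fun k => fs1 (Nat.add (Nat.succ 189961) k)) 295 = true := by decide +kernel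
theorem s1c418 : allBelow (fun k => fs1 (Nat.add (Nat.succ 190256) k)) 281 = true := by decide +kernel
theorem s1c419 : allBelow (fun k => fs1 (Nat.add (Nat.succ 190537) k)) 301 = true := by decide +kernel
theorem s1c420 : allBelow (fun k => fs1 (Nat.add (Nat.succ 190838) k)) 297 = true := by decide +kernel
theorem s1c421 : allBelow (fun k => fs1 (Nat.add (Nat.succ 191135) k)) 309 = true := by decide +kernel
theorem s1c422 : allBelow (fun k => fs1 (Nat.add (Nat.succ 191444) k)) 267 = true := by decide +kernel
theorem s1c423 : allBelow (fun k => fs1 (Nat.add (Nat.succ 191711) k)) 296 = true := by decide +kernel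
theorem s1c424 : allBelow (fun k => fs1 (Nat.add (Nat.succ 192007) k)) 327 = true := by decide +kernel
theorem s1c425 : allBelow (fun k => fs1 (Nat.add (Nat.succ 192334) k)) 289 = true := by decide +kernel
theorem s1c426 : allBelow (fun k => fs1 (Nat.add (Nat.succ 192623) k)) 312 = true := by decide +kernel
theorem s1c427 : allBelow (fun k => fs1 (Nat.add (Nat.succ 192935) k)) 296 = true := by decide +kernel
theorem s1c428 : allBelow (fun k => fs1 (Nat.add (Nat.succ 193231) k)) 305 = true := by decide +kernel
theorem s1c429 : allBelow (fun k => fs1 (Nat.add (Nat.succ 193536) k)) 267 = true := by decide +kernel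
theorem s1c430 : allBelow (fun k => fs1 (Nat.add (Nat.succ 193803) k)) 295 = true := by decide +kernel
theorem s1c431 : allBelow (fun k => fs1 (Nat.add (Nat.succ 194098) k)) 294 = true := by decide +kernel
theorem s1c432 : allBelow (fun k => fs1 (Nat.add (Nat.succ 194392) k)) 304 = true := by decide +kernel
theorem s1c433 : allBelow (fun k => fs1 (Nat.add (Nat.succ 194696) k)) 285 = true := by decide +kernel
theorem s1c434 : allBelow (fun k => fs1 (Nat.add (Nat.succ 194981) k)) 287 = true := by decide +kernel
theorem s1c435 : allBelow (fun k => fs1 (Nat.add (Nat.succ 195268) k)) 280 = true := by decide +kernel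
theorem s1c436 : allBelow (fun k => fs1 (Nat.add (Nat.succ 195548) k)) 293 = true := by decide +kernel
theorem s1c437 : allBelow (fun k => fs1 (Nat.add (Nat.succ 195841) k)) 277 = true := by decide +kernel
theorem s1c438 : allBelow (fun k => fs1 (Nat.add (Nat.succ 196118) k)) 274 = true := by decide +kernel
theorem s1c439 : allBelow (fun k => fs1 (Nat.add (Nat.succ 196392) k)) 283 = true := by decide +kernel
theorem s1c440 : allBelow (fun k => fs1 (Nat.add (Nat.succ 196675) k)) 289 = true := by decide +kernel
theorem s1c441 : allBelow (fun k => fs1 (Nat.add (Nat.succ 196964) k)) 278 = true := by decide +kernel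
theorem s1c442 : allBelow (fun k => fs1 (Nat.add (Nat.succ 197242) k)) 289 = true := by decide +kernel
theorem s1c443 : allBelow (fun k => fs1 (Nat.add (Nat.succ 197531) k)) 274 = true := by decide +kernel
theorem s1c444 : allBelow (fun k => fs1 (Nat.add (Nat.succ 197805) k)) 268 = true := by decide +kernel
theorem s1c445 : allBelow (fun k => fs1 (Nat.add (Nat.succ 198073) k)) 274 = true := by decide +kernel
theorem s1c446 : allBelow (fun k => fs1 (Nat.add (Nat.succ 198347) k)) 288 = true := by decide +kernel
theorem s1c447 : allBelow (fun k => fs1 (Nat.add (Nat.succ 198635) k)) 278 = true := by decide +kernel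
theorem s1c448 : allBelow (fun k => fs1 (Nat.add (Nat.succ 198913) k)) 286 = true := by decide +kernel
theorem s1c449 : allBelow (fun k => fs1 (Nat.add (Nat.succ 199199) k)) 278 = true := by decide +kernel
theorem s1c450 : allBelow (fun k => fs1 (Nat.add (Nat.succ 199477) k)) 263 = true := by decide +kernel
theorem s1c451 : allBelow (fun k => fs1 (Nat.add (Nat.succ 199740) k)) 249 = true := by decide +kernel
theorem s1c452 : allBelow (fun k => fs1 (Nat.add (Nat.succ 199989) k)) 272 = true := by decide +kernel
theorem s1c453 : allBelow (fun k => fs1 (Nat.add (Nat.succ 200261) k)) 266 = true := by decide +kernel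
theorem s1c454 : allBelow (fun k => fs1 (Nat.add (Nat.succ 200527) k)) 262 = true := by decide +kernel
theorem s1c455 : allBelow (fun k => fs1 (Nat.add (Nat.succ 200789) k)) 249 = true := by decide +kernel
theorem s1c456 : allBelow (fun k => fs1 (Nat.add (Nat.succ 201038) k)) 252 = true := by decide +kernel
theorem s1c457 : allBelow (fun k => fs1 (Nat.add (Nat.succ 201290) k)) 249 = true := by decide +kernel
theorem s1c458 : allBelow (fun k => fs1 (Nat.add (Nat.succ 201539) k)) 43 = true := by decide +kernel
theorem s2c0 : allBelow (fun k => fs2 (Nat.add (Nat.succ 0) k)) 539 = true := by decide +kernel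
theorem s2c1 : allBelow (fun k => fs2 (Nat.add (Nat.succ 539) k)) 457 = true := by decide +kernel
theorem s2c2 : allBelow (fun k => fs2 (Nat.add (Nat.succ 996) k)) 486 = true := by decide +kernel
theorem s2c3 : allBelow (fun k => fs2 (Nat.add (Nat.succ 1482) k)) 500 = true := by decide +kernel
theorem s2c4 : allBelow (fun k => fs2 (Nat.add (Nat.succ 1982) k)) 478 = true := by decide +kernel
theorem s2c5 : allBelow (fun k => fs2 (Nat.add (Nat.succ 2460) k)) 518 = true := by decide +kernel
theorem s2c6 : allBelow (fun k => fs2 (Nat.add (Nat.succ 2978) k)) 526 = true := by decide +kernel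
theorem s2c7 : allBelow (fun k => fs2 (Nat.add (Nat.succ 3504) k)) 529 = true := by decide +kernel
theorem s2c8 : allBelow (fun k => fs2 (Nat.add (Nat.succ 4033) k)) 514 = true := by decide +kernel
theorem s2c9 : allBelow (fun k => fs2 (Nat.add (Nat.succ 4547) k)) 493 = true := by decide +kernel
theorem s2c10 : allBelow (fun k => fs2 (Nat.add (Nat.succ 5040) k)) 499 = true := by decide +kernel
theorem s2c11 : allBelow (fun k => fs2 (Nat.add (Nat.succ 5539) k)) 479 = true := by decide +kernel
theorem s2c12 : allBelow (fun k => fs2 (Nat.add (Nat.succ 6018) k)) 503 = true := by decide +kernel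
theorem s2c13 : allBelow (fun k => fs2 (Nat.add (Nat.succ 6521) k)) 488 = true := by decide +kernel
theorem s2c14 : allBelow (fun k => fs2 (Nat.add (Nat.succ 7009) k)) 543 = true := by decide +kernel
theorem s2c15 : allBelow (fun k => fs2 (Nat.add (Nat.succ 7552) k)) 505 = true := by decide +kernel
theorem s2c16 : allBelow (fun k => fs2 (Nat.add (Nat.succ 8057) k)) 536 = true := by decide +kernel
theorem s2c17 : allBelow (fun k => fs2 (Nat.add (Nat.succ 8593) k)) 510 = true := by decide +kernel
theorem s2c18 : allBelow (fun k => fs2 (Nat.add (Nat.succ 9103) k)) 492 = true := by decide +kernel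
theorem s2c19 : allBelow (fun k => fs2 (Nat.add (Nat.succ 9595) k)) 565 = true := by decide +kernel
theorem s2c20 : allBelow (fun k => fs2 (Nat.add (Nat.succ 10160) k)) 522 = true := by decide +kernel
theorem s2c21 : allBelow (fun k => fs2 (Nat.add (Nat.succ 10682) k)) 498 = true := by decide +kernel
theorem s2c22 : allBelow (fun k => fs2 (Nat.add (Nat.succ 11180) k)) 468 = true := by decide +kernel
theorem s2c23 : allBelow (fun k => fs2 (Nat.add (Nat.succ 11648) k)) 481 = true := by decide +kernel
theorem s2c24 : allBelow (fun k => fs2 (Nat.add (Nat.succ 12129) k)) 499 = true := by decide +kernel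
theorem s2c25 : allBelow (fun k => fs2 (Nat.add (Nat.succ 12628) k)) 473 = true := by decide +kernel
theorem s2c26 : allBelow (fun k => fs2 (Nat.add (Nat.succ 13101) k)) 503 = true := by decide +kernel
theorem s2c27 : allBelow (fun k => fs2 (Nat.add (Nat.succ 13604) k)) 482 = true := by decide +kernel
theorem s2c28 : allBelow (fun k => fs2 (Nat.add (Nat.succ 14086) k)) 473 = true := by decide +kernel
theorem s2c29 : allBelow (fun k => fs2 (Nat.add (Nat.succ 14559) k)) 532 = true := by decide +kernel
theorem s2c30 : allBelow (fun k => fs2 (Nat.add (Nat.succ 15091) k)) 575 = true := by decide +kernel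
theorem s2c31 : allBelow (fun k => fs2 (Nat.add (Nat.succ 15666) k)) 526 = true := by decide +kernel
theorem s2c32 : allBelow (fun k => fs2 (Nat.add (Nat.succ 16192) k)) 475 = true := by decide +kernel
theorem s2c33 : allBelow (fun k => fs2 (Nat.add (Nat.succ 16667) k)) 493 = true := by decide +kernel
theorem s2c34 : allBelow (fun k => fs2 (Nat.add (Nat.succ 17160) k)) 517 = true := by decide +kernel
theorem s2c35 : allBelow (fun k => fs2 (Nat.add (Nat.succ 17677) k)) 529 = true := by decide +kernel
theorem s2c36 : allBelow (fun k => fs2 (Nat.add (Nat.succ 18206) k)) 529 = true := by decide +kernel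
theorem s2c37 : allBelow (fun k => fs2 (Nat.add (Nat.succ 18735) k)) 508 = true := by decide +kernel
theorem s2c38 : allBelow (fun k => fs2 (Nat.add (Nat.succ 19243) k)) 510 = true := by decide +kernel
theorem s2c39 : allBelow (fun k => fs2 (Nat.add (Nat.succ 19753) k)) 540 = true := by decide +kernel
theorem s2c40 : allBelow (fun k => fs2 (Nat.add (Nat.succ 20293) k)) 567 = true := by decide +kernel
theorem s2c41 : allBelow (fun k => fs2 (Nat.add (Nat.succ 20860) k)) 526 = true := by decide +kernel
theorem s2c42 : allBelow (fun k => fs2 (Nat.add (Nat.succ 21386) k)) 536 = true := by decide +kernel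
theorem s2c43 : allBelow (fun k => fs2 (Nat.add (Nat.succ 21922) k)) 525 = true := by decide +kernel
theorem s2c44 : allBelow (fun k => fs2 (Nat.add (Nat.succ 22447) k)) 564 = true := by decide +kernel
theorem s2c45 : allBelow (fun k => fs2 (Nat.add (Nat.succ 23011) k)) 480 = true := by decide +kernel
theorem s2c46 : allBelow (fun k => fs2 (Nat.add (Nat.succ 23491) k)) 452 = true := by decide +kernel
theorem s2c47 : allBelow (fun k => fs2 (Nat.add (Nat.succ 23943) k)) 470 = true := by decide +kernel
theorem s2c48 : allBelow (fun k => fs2 (Nat.add (Nat.succ 24413) k)) 461 = true := by decide +kernel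
theorem s2c49 : allBelow (fun k => fs2 (Nat.add (Nat.succ 24874) k)) 459 = true := by decide +kernel
theorem s2c50 : allBelow (fun k => fs2 (Nat.add (Nat.succ 25333) k)) 473 = true := by decide +kernel
theorem s2c51 : allBelow (fun k => fs2 (Nat.add (Nat.succ 25806) k)) 452 = true := by decide +kernel
theorem s2c52 : allBelow (fun k => fs2 (Nat.add (Nat.succ 26258) k)) 482 = true := by decide +kernel
theorem s2c53 : allBelow (fun k => fs2 (Nat.add (Nat.succ 26740) k)) 508 = true := by decide +kernel
theorem s2c54 : allBelow (fun k => fs2 (Nat.add (Nat.succ 27248) k)) 469 = true := by decide +kernel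
theorem s2c55 : allBelow (fun k => fs2 (Nat.add (Nat.succ 27717) k)) 508 = true := by decide +kernel
theorem s2c56 : allBelow (fun k => fs2 (Nat.add (Nat.succ 28225) k)) 509 = true := by decide +kernel
theorem s2c57 : allBelow (fun k => fs2 (Nat.add (Nat.succ 28734) k)) 486 = true := by decide +kernel
theorem s2c58 : allBelow (fun k => fs2 (Nat.add (Nat.succ 29220) k)) 476 = true := by decide +kernel
theorem s2c59 : allBelow (fun k => fs2 (Nat.add (Nat.succ 29696) k)) 511 = true := by decide +kernel
theorem s2c60 : allBelow (fun k => fs2 (Nat.add (Nat.succ 30207) k)) 551 = true := by decide +kernel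
theorem s2c61 : allBelow (fun k => fs2 (Nat.add (Nat.succ 30758) k)) 540 = true := by decide +kernel
theorem s2c62 : allBelow (fun k => fs2 (Nat.add (Nat.succ 31298) k)) 508 = true := by decide +kernel
theorem s2c63 : allBelow (fun k => fs2 (Nat.add (Nat.succ 31806) k)) 520 = true := by decide +kernel
theorem s2c64 : allBelow (fun k => fs2 (Nat.add (Nat.succ 32326) k)) 520 = true := by decide +kernel
theorem s2c65 : allBelow (fun k => fs2 (Nat.add (Nat.succ 32846) k)) 514 = true := by decide +kernel
theorem s2c66 : allBelow (fun k => fs2 (Nat.add (Nat.succ 33360) k)) 499 = true := by decide +kernel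
theorem s2c67 : allBelow (fun k => fs2 (Nat.add (Nat.succ 33859) k)) 504 = true := by decide +kernel
theorem s2c68 : allBelow (fun k => fs2 (Nat.add (Nat.succ 34363) k)) 513 = true := by decide +kernel
theorem s2c69 : allBelow (fun k => fs2 (Nat.add (Nat.succ 34876) k)) 524 = true := by decide +kernel
theorem s2c70 : allBelow (fun k => fs2 (Nat.add (Nat.succ 35400) k)) 507 = true := by decide +kernel
theorem s2c71 : allBelow (fun k => fs2 (Nat.add (Nat.succ 35907) k)) 559 = true := by decide +kernel
theorem s2c72 : allBelow (fun k => fs2 (Nat.add (Nat.succ 36466) k)) 567 = true := by decide +kernel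
theorem s2c73 : allBelow (fun k => fs2 (Nat.add (Nat.succ 37033) k)) 551 = true := by decide +kernel
theorem s2c74 : allBelow (fun k => fs2 (Nat.add (Nat.succ 37584) k)) 523 = true := by decide +kernel
theorem s2c75 : allBelow (fun k => fs2 (Nat.add (Nat.succ 38107) k)) 534 = true := by decide +kernel
theorem s2c76 : allBelow (fun k => fs2 (Nat.add (Nat.succ 38641) k)) 553 = true := by decide +kernel
theorem s2c77 : allBelow (fun k => fs2 (Nat.add (Nat.succ 39194) k)) 532 = true := by decide +kernel
theorem s2c78 : allBelow (fun k => fs2 (Nat.add (Nat.succ 39726) k)) 544 = true := by decide +kernel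
theorem s2c79 : allBelow (fun k => fs2 (Nat.add (Nat.succ 40270) k)) 501 = true := by decide +kernel
theorem s2c80 : allBelow (fun k => fs2 (Nat.add (Nat.succ 40771) k)) 514 = true := by decide +kernel
theorem s2c81 : allBelow (fun k => fs2 (Nat.add (Nat.succ 41285) k)) 519 = true := by decide +kernel
theorem s2c82 : allBelow (fun k => fs2 (Nat.add (Nat.succ 41804) k)) 494 = true := by decide +kernel
theorem s2c83 : allBelow (fun k => fs2 (Nat.add (Nat.succ 42298) k)) 564 = true := by decide +kernel
theorem s2c84 : allBelow (fun k => fs2 (Nat.add (Nat.succ 42862) k)) 500 = true := by decide +kernel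
theorem s2c85 : allBelow (fun k => fs2 (Nat.add (Nat.succ 43362) k)) 535 = true := by decide +kernel
theorem s2c86 : allBelow (fun k => fs2 (Nat.add (Nat.succ 43897) k)) 478 = true := by decide +kernel
theorem s2c87 : allBelow (fun k => fs2 (Nat.add (Nat.succ 44375) k)) 518 = true := by decide +kernel
theorem s2c88 : allBelow (fun k => fs2 (Nat.add (Nat.succ 44893) k)) 511 = true := by decide +kernel
theorem s2c89 : allBelow (fun k => fs2 (Nat.add (Nat.succ 45404) k)) 514 = true := by decide +kernel
theorem s2c90 : allBelow (fun k => fs2 (Nat.add (Nat.succ 45918) k)) 525 = true := by decide +kernel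
theorem s2c91 : allBelow (fun k => fs2 (Nat.add (Nat.succ 46443) k)) 512 = true := by decide +kernel
theorem s2c92 : allBelow (fun k => fs2 (Nat.add (Nat.succ 46955) k)) 462 = true := by decide +kernel
theorem s2c93 : allBelow (fun k => fs2 (Nat.add (Nat.succ 47417) k)) 475 = true := by decide +kernel
theorem s2c94 : allBelow (fun k => fs2 (Nat.add (Nat.succ 47892) k)) 486 = true := by decide +kernel
theorem s2c95 : allBelow (fun k => fs2 (Nat.add (Nat.succ 48378) k)) 548 = true := by decide +kernel
theorem s2c96 : allBelow (fun k => fs2 (Nat.add (Nat.succ 48926) k)) 474 = true := by decide +kernel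
theorem s2c97 : allBelow (fun k => fs2 (Nat.add (Nat.succ 49400) k)) 473 = true := by decide +kernel
theorem s2c98 : allBelow (fun k => fs2 (Nat.add (Nat.succ 49873) k)) 506 = true := by decide +kernel
theorem s2c99 : allBelow (fun k => fs2 (Nat.add (Nat.succ 50379) k)) 481 = true := by decide +kernel
theorem s2c100 : allBelow (fun k => fs2 (Nat.add (Nat.succ 50860) k)) 475 = true := by decide +kernel
theorem s2c101 : allBelow (fun k => fs2 (Nat.add (Nat.succ 51335) k)) 503 = true := by decide +kernel
theorem s2c102 : allBelow (fun k => fs2 (Nat.add (Nat.succ 51838) k)) 478 = true := by decide +kernel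
theorem s2c103 : allBelow (fun k => fs2 (Nat.add (Nat.succ 52316) k)) 478 = true := by decide +kernel
theorem s2c104 : allBelow (fun k => fs2 (Nat.add (Nat.succ 52794) k)) 459 = true := by decide +kernel
theorem s2c105 : allBelow (fun k => fs2 (Nat.add (Nat.succ 53253) k)) 505 = true := by decide +kernel
theorem s2c106 : allBelow (fun k => fs2 (Nat.add (Nat.succ 53758) k)) 566 = true := by decide +kernel
theorem s2c107 : allBelow (fun k => fs2 (Nat.add (Nat.succ 54324) k)) 594 = true := by decide +kernel
theorem s2c108 : allBelow (fun k => fs2 (Nat.add (Nat.succ 54918) k)) 557 = true := by decide +kernel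
theorem s2c109 : allBelow (fun k => fs2 (Nat.add (Nat.succ 55475) k)) 550 = true := by decide +kernel
theorem s2c110 : allBelow (fun k => fs2 (Nat.add (Nat.succ 56025) k)) 532 = true := by decide +kernel
theorem s2c111 : allBelow (fun k => fs2 (Nat.add (Nat.succ 56557) k)) 510 = true := by decide +kernel
theorem s2c112 : allBelow (fun k => fs2 (Nat.add (Nat.succ 57067) k)) 512 = true := by decide +kernel
theorem s2c113 : allBelow (fun k => fs2 (Nat.add (Nat.succ 57579) k)) 498 = true := by decide +kernel
theorem s2c114 : allBelow (fun k => fs2 (Nat.add (Nat.succ 58077) k)) 515 = true := by decide +kernel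
theorem s2c115 : allBelow (fun k => fs2 (Nat.add (Nat.succ 58592) k)) 529 = true := by decide +kernel
theorem s2c116 : allBelow (fun k => fs2 (Nat.add (Nat.succ 59121) k)) 491 = true := by decide +kernel
theorem s2c117 : allBelow (fun k => fs2 (Nat.add (Nat.succ 59612) k)) 498 = true := by decide +kernel
theorem s2c118 : allBelow (fun k => fs2 (Nat.add (Nat.succ 60110) k)) 483 = true := by decide +kernel
theorem s2c119 : allBelow (fun k => fs2 (Nat.add (Nat.succ 60593) k)) 517 = true := by decide +kernel
theorem s2c120 : allBelow (fun k => fs2 (Nat.add (Nat.succ 61110) k)) 499 = true := by decide +kernel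
theorem s2c121 : allBelow (fun k => fs2 (Nat.add (Nat.succ 61609) k)) 483 = true := by decide +kernel
theorem s2c122 : allBelow (fun k => fs2 (Nat.add (Nat.succ 62092) k)) 521 = true := by decide +kernel
theorem s2c123 : allBelow (fun k => fs2 (Nat.add (Nat.succ 62613) k)) 560 = true := by decide +kernel
theorem s2c124 : allBelow (fun k => fs2 (Nat.add (Nat.succ 63173) k)) 532 = true := by decide +kernel
theorem s2c125 : allBelow (fun k => fs2 (Nat.add (Nat.succ 63705) k)) 555 = true := by decide +kernel
theorem s2c126 : allBelow (fun k => fs2 (Nat.add (Nat.succ 64260) k)) 569 = true := by decide +kernel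
theorem s2c127 : allBelow (fun k => fs2 (Nat.add (Nat.succ 64829) k)) 541 = true := by decide +kernel
theorem s2c128 : allBelow (fun k => fs2 (Nat.add (Nat.succ 65370) k)) 537 = true := by decide +kernel
theorem s2c129 : allBelow (fun k => fs2 (Nat.add (Nat.succ 65907) k)) 522 = true := by decide +kernel
theorem s2c130 : allBelow (fun k => fs2 (Nat.add (Nat.succ 66429) k)) 511 = true := by decide +kernel
theorem s2c131 : allBelow (fun k => fs2 (Nat.add (Nat.succ 66940) k)) 552 = true := by decide +kernel
theorem s2c132 : allBelow (fun k => fs2 (Nat.add (Nat.succ 67492) k)) 554 = true := by decide +kernel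
theorem s2c133 : allBelow (fun k => fs2 (Nat.add (Nat.succ 68046) k)) 562 = true := by decide +kernel
theorem s2c134 : allBelow (fun k => fs2 (Nat.add (Nat.succ 68608) k)) 544 = true := by decide +kernel
theorem s2c135 : allBelow (fun k => fs2 (Nat.add (Nat.succ 69152) k)) 524 = true := by decide +kernel
theorem s2c136 : allBelow (fun k => fs2 (Nat.add (Nat.succ 69676) k)) 551 = true := by decide +kernel
theorem s2c137 : allBelow (fun k => fs2 (Nat.add (Nat.succ 70227) k)) 538 = true := by decide +kernel
theorem s2c138 : allBelow (fun k => fs2 (Nat.add (Nat.succ 70765) k)) 574 = true := by decide +kernel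
theorem s2c139 : allBelow (fun k => fs2 (Nat.add (Nat.succ 71339) k)) 536 = true := by decide +kernel
theorem s2c140 : allBelow (fun k => fs2 (Nat.add (Nat.succ 71875) k)) 539 = true := by decide +kernel
theorem s2c141 : allBelow (fun k => fs2 (Nat.add (Nat.succ 72414) k)) 582 = true := by decide +kernel
theorem s2c142 : allBelow (fun k => fs2 (Nat.add (Nat.succ 72996) k)) 530 = true := by decide +kernel
theorem s2c143 : allBelow (fun k => fs2 (Nat.add (Nat.succ 73526) k)) 543 = true := by decide +kernel
theorem s2c144 : allBelow (fun k => fs2 (Nat.add (Nat.succ 74069) k)) 628 = true := by decide +kernel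
theorem s2c145 : allBelow (fun k => fs2 (Nat.add (Nat.succ 74697) k)) 552 = true := by decide +kernel
theorem s2c146 : allBelow (fun k => fs2 (Nat.add (Nat.succ 75249) k)) 515 = true := by decide +kernel
theorem s2c147 : allBelow (fun k => fs2 (Nat.add (Nat.succ 75764) k)) 575 = true := by decide +kernel
theorem s2c148 : allBelow (fun k => fs2 (Nat.add (Nat.succ 76339) k)) 567 = true := by decide +kernel
theorem s2c149 : allBelow (fun k => fs2 (Nat.add (Nat.succ 76906) k)) 610 = true := by decide +kernel
theorem s2c150 : allBelow (fun k => fs2 (Nat.add (Nat.succ 77516) k)) 521 = true := by decide +kernel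
theorem s2c151 : allBelow (fun k => fs2 (Nat.add (Nat.succ 78037) k)) 594 = true := by decide +kernel
theorem s2c152 : allBelow (fun k => fs2 (Nat.add (Nat.succ 78631) k)) 567 = true := by decide +kernel
theorem s2c153 : allBelow (fun k => fs2 (Nat.add (Nat.succ 79198) k)) 538 = true := by decide +kernel
theorem s2c154 : allBelow (fun k => fs2 (Nat.add (Nat.succ 79736) k)) 531 = true := by decide +kernel
theorem s2c155 : allBelow (fun k => fs2 (Nat.add (Nat.succ 80267) k)) 560 = true := by decide +kernel
theorem s2c156 : allBelow (fun k => fs2 (Nat.add (Nat.succ 80827) k)) 558 = true := by decide +kernel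
theorem s2c157 : allBelow (fun k => fs2 (Nat.add (Nat.succ 81385) k)) 572 = true := by decide +kernel
theorem s2c158 : allBelow (fun k => fs2 (Nat.add (Nat.succ 81957) k)) 574 = true := by decide +kernel
theorem s2c159 : allBelow (fun k => fs2 (Nat.add (Nat.succ 82531) k)) 553 = true := by decide +kernel
theorem s2c160 : allBelow (fun k => fs2 (Nat.add (Nat.succ 83084) k)) 565 = true := by decide +kernel
theorem s2c161 : allBelow (fun k => fs2 (Nat.add (Nat.succ 83649) k)) 534 = true := by decide +kernel
theorem s2c162 : allBelow (fun k => fs2 (Nat.add (Nat.succ 84183) k)) 524 = true := by decide +kernel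
theorem s2c163 : allBelow (fun k => fs2 (Nat.add (Nat.succ 84707) k)) 513 = true := by decide +kernel
theorem s2c164 : allBelow (fun k => fs2 (Nat.add (Nat.succ 85220) k)) 529 = true := by decide +kernel
theorem s2c165 : allBelow (fun k => fs2 (Nat.add (Nat.succ 85749) k)) 498 = true := by decide +kernel
theorem s2c166 : allBelow (fun k => fs2 (Nat.add (Nat.succ 86247) k)) 588 = true := by decide +kernel
theorem s2c167 : allBelow (fun k => fs2 (Nat.add (Nat.succ 86835) k)) 513 = true := by decide +kernel
theorem s2c168 : allBelow (fun k => fs2 (Nat.add (Nat.succ 87348) k)) 526 = true := by decide +kernel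
theorem s2c169 : allBelow (fun k => fs2 (Nat.add (Nat.succ 87874) k)) 597 = true := by decide +kernel
theorem s2c170 : allBelow (fun k => fs2 (Nat.add (Nat.succ 88471) k)) 491 = true := by decide +kernel
theorem s2c171 : allBelow (fun k => fs2 (Nat.add (Nat.succ 88962) k)) 557 = true := by decide +kernel
theorem s2c172 : allBelow (fun k => fs2 (Nat.add (Nat.succ 89519) k)) 534 = true := by decide +kernel
theorem s2c173 : allBelow (fun k => fs2 (Nat.add (Nat.succ 90053) k)) 463 = true := by decide +kernel
theorem s2c174 : allBelow (fun k => fs2 (Nat.add (Nat.succ 90516) k)) 517 = true := by decide +kernel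
theorem s2c175 : allBelow (fun k => fs2 (Nat.add (Nat.succ 91033) k)) 544 = true := by decide +kernel
theorem s2c176 : allBelow (fun k => fs2 (Nat.add (Nat.succ 91577) k)) 496 = true := by decide +kernel
theorem s2c177 : allBelow (fun k => fs2 (Nat.add (Nat.succ 92073) k)) 512 = true := by decide +kernel
theorem s2c178 : allBelow (fun k => fs2 (Nat.add (Nat.succ 92585) k)) 562 = true := by decide +kernel
theorem s2c179 : allBelow (fun k => fs2 (Nat.add (Nat.succ 93147) k)) 526 = true := by decide +kernel
theorem s2c180 : allBelow (fun k => fs2 (Nat.add (Nat.succ 93673) k)) 552 = true := by decide +kernel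
theorem s2c181 : allBelow (fun k => fs2 (Nat.add (Nat.succ 94225) k)) 533 = true := by decide +kernel
theorem s2c182 : allBelow (fun k => fs2 (Nat.add (Nat.succ 94758) k)) 547 = true := by decide +kernel
theorem s2c183 : allBelow (fun k => fs2 (Nat.add (Nat.succ 95305) k)) 524 = true := by decide +kernel
theorem s2c184 : allBelow (fun k => fs2 (Nat.add (Nat.succ 95829) k)) 551 = true := by decide +kernel
theorem s2c185 : allBelow (fun k => fs2 (Nat.add (Nat.succ 96380) k)) 489 = true := by decide +kernel
theorem s2c186 : allBelow (fun k => fs2 (Nat.add (Nat.succ 96869) k)) 533 = true := by decide +kernel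
theorem s2c187 : allBelow (fun k => fs2 (Nat.add (Nat.succ 97402) k)) 459 = true := by decide +kernel
theorem s2c188 : allBelow (fun k => fs2 (Nat.add (Nat.succ 97861) k)) 497 = true := by decide +kernel
theorem s2c189 : allBelow (fun k => fs2 (Nat.add (Nat.succ 98358) k)) 499 = true := by decide +kernel
theorem s2c190 : allBelow (fun k => fs2 (Nat.add (Nat.succ 98857) k)) 513 = true := by decide +kernel
theorem s2c191 : allBelow (fun k => fs2 (Nat.add (Nat.succ 99370) k)) 470 = true := by decide +kernel
theorem s2c192 : allBelow (fun k => fs2 (Nat.add (Nat.succ 99840) k)) 531 = true := by decide +kernel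
theorem s2c193 : allBelow (fun k => fs2 (Nat.add (Nat.succ 100371) k)) 579 = true := by decide +kernel
theorem s2c194 : allBelow (fun k => fs2 (Nat.add (Nat.succ 100950) k)) 496 = true := by decide +kernel
theorem s2c195 : allBelow (fun k => fs2 (Nat.add (Nat.succ 101446) k)) 462 = true := by decide +kernel
theorem s2c196 : allBelow (fun k => fs2 (Nat.add (Nat.succ 101908) k)) 458 = true := by decide +kernel
theorem s2c197 : allBelow (fun k => fs2 (Nat.add (Nat.succ 102366) k)) 485 = true := by decide +kernel
theorem s2c198 : allBelow (fun k => fs2 (Nat.add (Nat.succ 102851) k)) 531 = true := by decide +kernel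
theorem s2c199 : allBelow (fun k => fs2 (Nat.add (Nat.succ 103382) k)) 475 = true := by decide +kernel
theorem s2c200 : allBelow (fun k => fs2 (Nat.add (Nat.succ 103857) k)) 473 = true := by decide +kernel
theorem s2c201 : allBelow (fun k => fs2 (Nat.add (Nat.succ 104330) k)) 492 = true := by decide +kernel
theorem s2c202 : allBelow (fun k => fs2 (Nat.add (Nat.succ 104822) k)) 513 = true := by decide +kernel
theorem s2c203 : allBelow (fun k => fs2 (Nat.add (Nat.succ 105335) k)) 500 = true := by decide +kernel
theorem s2c204 : allBelow (fun k => fs2 (Nat.add (Nat.succ 105835) k)) 474 = true := by decide +kernel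
theorem s2c205 : allBelow (fun k => fs2 (Nat.add (Nat.succ 106309) k)) 524 = true := by decide +kernel
theorem s2c206 : allBelow (fun k => fs2 (Nat.add (Nat.succ 106833) k)) 543 = true := by decide +kernel
theorem s2c207 : allBelow (fun k => fs2 (Nat.add (Nat.succ 107376) k)) 502 = true := by decide +kernel
theorem s2c208 : allBelow (fun k => fs2 (Nat.add (Nat.succ 107878) k)) 557 = true := by decide +kernel
theorem s2c209 : allBelow (fun k => fs2 (Nat.add (Nat.succ 108435) k)) 538 = true := by decide +kernel
theorem s2c210 : allBelow (fun k => fs2 (Nat.add (Nat.succ 108973) k)) 547 = true := by decide +kernel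
theorem s2c211 : allBelow (fun k => fs2 (Nat.add (Nat.succ 109520) k)) 521 = true := by decide +kernel
theorem s2c212 : allBelow (fun k => fs2 (Nat.add (Nat.succ 110041) k)) 548 = true := by decide +kernel
theorem s2c213 : allBelow (fun k => fs2 (Nat.add (Nat.succ 110589) k)) 534 = true := by decide +kernel
theorem s2c214 : allBelow (fun k => fs2 (Nat.add (Nat.succ 111123) k)) 636 = true := by decide +kernel
theorem s2c215 : allBelow (fun k => fs2 (Nat.add (Nat.succ 111759) k)) 588 = true := by decide +kernel
theorem s2c216 : allBelow (fun k => fs2 (Nat.add (Nat.succ 112347) k)) 548 = true := by decide +kernel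
theorem s2c217 : allBelow (fun k => fs2 (Nat.add (Nat.succ 112895) k)) 546 = true := by decide +kernel
theorem s2c218 : allBelow (fun k => fs2 (Nat.add (Nat.succ 113441) k)) 565 = true := by decide +kernel
theorem s2c219 : allBelow (fun k => fs2 (Nat.add (Nat.succ 114006) k)) 510 = true := by decide +kernel
theorem s2c220 : allBelow (fun k => fs2 (Nat.add (Nat.succ 114516) k)) 539 = true := by decide +kernel
theorem s2c221 : allBelow (fun k => fs2 (Nat.add (Nat.succ 115055) k)) 479 = true := by decide +kernel
theorem s2c222 : allBelow (fun k => fs2 (Nat.add (Nat.succ 115534) k)) 465 = true := by decide +kernel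
theorem s2c223 : allBelow (fun k => fs2 (Nat.add (Nat.succ 115999) k)) 552 = true := by decide +kernel
theorem s2c224 : allBelow (fun k => fs2 (Nat.add (Nat.succ 116551) k)) 513 = true := by decide +kernel
theorem s2c225 : allBelow (fun k => fs2 (Nat.add (Nat.succ 117064) k)) 531 = true := by decide +kernel
theorem s2c226 : allBelow (fun k => fs2 (Nat.add (Nat.succ 117595) k)) 524 = true := by decide +kernel
theorem s2c227 : allBelow (fun k => fs2 (Nat.add (Nat.succ 118119) k)) 547 = true := by decide +kernel
theorem s2c228 : allBelow (fun k => fs2 (Nat.add (Nat.succ 118666) k)) 569 = true := by decide +kernel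
theorem s2c229 : allBelow (fun k => fs2 (Nat.add (Nat.succ 119235) k)) 552 = true := by decide +kernel
theorem s2c230 : allBelow (fun k => fs2 (Nat.add (Nat.succ 119787) k)) 566 = true := by decide +kernel
theorem s2c231 : allBelow (fun k => fs2 (Nat.add (Nat.succ 120353) k)) 507 = true := by decide +kernel
theorem s2c232 : allBelow (fun k => fs2 (Nat.add (Nat.succ 120860) k)) 497 = true := by decide +kernel
theorem s2c233 : allBelow (fun k => fs2 (Nat.add (Nat.succ 121357) k)) 560 = true := by decide +kernel
theorem s2c234 : allBelow (fun k => fs2 (Nat.add (Nat.succ 121917) k)) 496 = true := by decide +kernel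
theorem s2c235 : allBelow (fun k => fs2 (Nat.add (Nat.succ 122413) k)) 535 = true := by decide +kernel
theorem s2c236 : allBelow (fun k => fs2 (Nat.add (Nat.succ 122948) k)) 542 = true := by decide +kernel
theorem s2c237 : allBelow (fun k => fs2 (Nat.add (Nat.succ 123490) k)) 498 = true := by decide +kernel
theorem s2c238 : allBelow (fun k => fs2 (Nat.add (Nat.succ 123988) k)) 504 = true := by decide +kernel
theorem s2c239 : allBelow (fun k => fs2 (Nat.add (Nat.succ 124492) k)) 477 = true := by decide +kernel
theorem s2c240 : allBelow (fun k => fs2 (Nat.add (Nat.succ 124969) k)) 510 = true := by decide +kernel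
theorem s2c241 : allBelow (fun k => fs2 (Nat.add (Nat.succ 125479) k)) 506 = true := by decide +kernel
theorem s2c242 : allBelow (fun k => fs2 (Nat.add (Nat.succ 125985) k)) 574 = true := by decide +kernel
theorem s2c243 : allBelow (fun k => fs2 (Nat.add (Nat.succ 126559) k)) 576 = true := by decide +kernel
theorem s2c244 : allBelow (fun k => fs2 (Nat.add (Nat.succ 127135) k)) 596 = true := by decide +kernel
theorem s2c245 : allBelow (fun k => fs2 (Nat.add (Nat.succ 127731) k)) 531 = true := by decide +kernel
theorem s2c246 : allBelow (fun k => fs2 (Nat.add (Nat.succ 128262) k)) 605 = true := by decide +kernel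
theorem s2c247 : allBelow (fun k => fs2 (Nat.add (Nat.succ 128867) k)) 536 = true := by decide +kernel
theorem s2c248 : allBelow (fun k => fs2 (Nat.add (Nat.succ 129403) k)) 564 = true := by decide +kernel
theorem s2c249 : allBelow (fun k => fs2 (Nat.add (Nat.succ 129967) k)) 609 = true := by decide +kernel
theorem s2c250 : allBelow (fun k => fs2 (Nat.add (Nat.succ 130576) k)) 638 = true := by decide +kernel
theorem s2c251 : allBelow (fun k => fs2 (Nat.add (Nat.succ 131214) k)) 570 = true := by decide +kernel
theorem s2c252 : allBelow (fun k => fs2 (Nat.add (Nat.succ 131784) k)) 553 = true := by decide +kernel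
theorem s2c253 : allBelow (fun k => fs2 (Nat.add (Nat.succ 132337) k)) 581 = true := by decide +kernel
theorem s2c254 : allBelow (fun k => fs2 (Nat.add (Nat.succ 132918) k)) 586 = true := by decide +kernel
theorem s2c255 : allBelow (fun k => fs2 (Nat.add (Nat.succ 133504) k)) 581 = true := by decide +kernel
theorem s2c256 : allBelow (fun k => fs2 (Nat.add (Nat.succ 134085) k)) 558 = true := by decide +kernel
theorem s2c257 : allBelow (fun k => fs2 (Nat.add (Nat.succ 134643) k)) 590 = true := by decide +kernel
theorem s2c258 : allBelow (fun k => fs2 (Nat.add (Nat.succ 135233) k)) 578 = true := by decide +kernel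
theorem s2c259 : allBelow (fun k => fs2 (Nat.add (Nat.succ 135811) k)) 576 = true := by decide +kernel
theorem s2c260 : allBelow (fun k => fs2 (Nat.add (Nat.succ 136387) k)) 628 = true := by decide +kernel
theorem s2c261 : allBelow (fun k => fs2 (Nat.add (Nat.succ 137015) k)) 549 = true := by decide +kernel
theorem s2c262 : allBelow (fun k => fs2 (Nat.add (Nat.succ 137564) k)) 554 = true := by decide +kernel
theorem s2c263 : allBelow (fun k => fs2 (Nat.add (Nat.succ 138118) k)) 551 = true := by decide +kernel
theorem s2c264 : allBelow (fun k => fs2 (Nat.add (Nat.succ 138669) k)) 521 = true := by decide +kernel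
theorem s2c265 : allBelow (fun k => fs2 (Nat.add (Nat.succ 139190) k)) 569 = true := by decide +kernel
theorem s2c266 : allBelow (fun k => fs2 (Nat.add (Nat.succ 139759) k)) 580 = true := by decide +kernel
theorem s2c267 : allBelow (fun k => fs2 (Nat.add (Nat.succ 140339) k)) 649 = true := by decide +kernel
theorem s2c268 : allBelow (fun k => fs2 (Nat.add (Nat.succ 140988) k)) 478 = true := by decide +kernel
theorem s2c269 : allBelow (fun k => fs2 (Nat.add (Nat.succ 141466) k)) 587 = true := by decide +kernel
theorem s2c270 : allBelow (fun k => fs2 (Nat.add (Nat.succ 142053) k)) 589 = true := by decide +kernel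
theorem s2c271 : allBelow (fun k => fs2 (Nat.add (Nat.succ 142642) k)) 634 = true := by decide +kernel
theorem s2c272 : allBelow (fun k => fs2 (Nat.add (Nat.succ 143276) k)) 601 = true := by decide +kernel
theorem s2c273 : allBelow (fun k => fs2 (Nat.add (Nat.succ 143877) k)) 541 = true := by decide +kernel
theorem s2c274 : allBelow (fun k => fs2 (Nat.add (Nat.succ 144418) k)) 585 = true := by decide +kernel
theorem s2c275 : allBelow (fun k => fs2 (Nat.add (Nat.succ 145003) k)) 719 = true := by decide +kernel
theorem s2c276 : allBelow (fun k => fs2 (Nat.add (Nat.succ 145722) k)) 615 = true := by decide +kernel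
theorem s2c277 : allBelow (fun k => fs2 (Nat.add (Nat.succ 146337) k)) 589 = true := by decide +kernel
theorem s2c278 : allBelow (fun k => fs2 (Nat.add (Nat.succ 146926) k)) 560 = true := by decide +kernel
theorem s2c279 : allBelow (fun k => fs2 (Nat.add (Nat.succ 147486) k)) 684 = true := by decide +kernel
theorem s2c280 : allBelow (fun k => fs2 (Nat.add (Nat.succ 148170) k)) 660 = true := by decide +kernel
theorem s2c281 : allBelow (fun k => fs2 (Nat.add (Nat.succ 148830) k)) 676 = true := by decide +kernel
theorem s2c282 : allBelow (fun k => fs2 (Nat.add (Nat.succ 149506) k)) 667 = true := by decide +kernel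
theorem s2c283 : allBelow (fun k => fs2 (Nat.add (Nat.succ 150173) k)) 668 = true := by decide +kernel
theorem s2c284 : allBelow (fun k => fs2 (Nat.add (Nat.succ 150841) k)) 664 = true := by decide +kernel
theorem s2c285 : allBelow (fun k => fs2 (Nat.add (Nat.succ 151505) k)) 614 = true := by decide +kernel
theorem s2c286 : allBelow (fun k => fs2 (Nat.add (Nat.succ 152119) k)) 598 = true := by decide +kernel
theorem s2c287 : allBelow (fun k => fs2 (Nat.add (Nat.succ 152717) k)) 626 = true := by decide +kernel

end Cfsg.Agent.Lib.Helper35.ON122760
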