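import Cfsg.Agent.Lib.Helper35.ON122760.Data

set_option Elab.async false

namespace Cfsg.Agent.Lib.Helper35.ON122760

open Cfsg.Agent.Lib.Helper35

theorem s2c288 : allBelow (fun k => fs2 (Nat.add (Nat.succ 153343) k)) 603 = true := by decide +kernel
theorem s2c289 : allBelow (fun k => fs2 (Nat.add (Nat.succ 153946) k)) 664 = true := by decide +kernel
theorem s2c290 : allBelow (fun k => fs2 (Nat.add (Nat.succ 154610) k)) 583 = true := by decide +kernel
theorem s2c291 : allBelow (fun k => fs2 (Nat.add (Nat.succ 155193) k)) 632 = true := by decide +kernel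
theorem s2c292 : allBelow (fun k => fs2 (Nat.add (Nat.succ 155825) k)) 637 = true := by decide +kernel
theorem s2c293 : allBelow (fun k => fs2 (Nat.add (Nat.succ 156462) k)) 619 = true := by decide +kernel
theorem s2c294 : allBelow (fun k => fs2 (Nat.add (Nat.succ 157081) k)) 645 = true := by decide +kernel
theorem s2c295 : allBelow (fun k => fs2 (Nat.add (Nat.succ 157726) k)) 691 = true := by decide +kernel
theorem s2c296 : allBelow (fun k => fs2 (Nat.add (Nat.succ 158417) k)) 578 = true := by decide +kernel
theorem s2c297 : allBelow (fun k => fs2 (Nat.add (Nat.succ 158995) k)) 602 = true := by decide +kernel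
theorem s2c298 : allBelow (fun k => fs2 (Nat.add (Nat.succ 159597) k)) 581 = true := by decide +kernel
theorem s2c299 : allBelow (fun k => fs2 (Nat.add (Nat.succ 160178) k)) 671 = true := by decide +kernel
theorem s2c300 : allBelow (fun k => fs2 (Nat.add (Nat.succ 160849) k)) 553 = true := by decide +kernel
theorem s2c301 : allBelow (fun k => fs2 (Nat.add (Nat.succ 161402) k)) 549 = true := by decide +kernel
theorem s2c302 : allBelow (fun k => fs2 (Nat.add (Nat.succ 161951) k)) 427 = true := by decide +kernel
theorem s2c303 : allBelow (fun k => fs2 (Nat.add (Nat.succ 162378) k)) 438 = true := by decide +kernel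
theorem s2c304 : allBelow (fun k => fs2 (Nat.add (Nat.succ 162816) k)) 425 = true := by decide +kernel
theorem s2c305 : allBelow (fun k => fs2 (Nat.add (Nat.succ 163241) k)) 444 = true := by decide +kernel
theorem s2c306 : allBelow (fun k => fs2 (Nat.add (Nat.succ 163685) k)) 409 = true := by decide +kernel
theorem s2c307 : allBelow (fun k => fs2 (Nat.add (Nat.succ 164094) k)) 439 = true := by decide +kernel
theorem s2c308 : allBelow (fun k => fs2 (Nat.add (Nat.succ 164533) k)) 438 = true := by decide +kernel
theorem s2c309 : allBelow (fun k => fs2 (Nat.add (Nat.succ 164971) k)) 439 = true := by decide +kernel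
theorem s2c310 : allBelow (fun k => fs2 (Nat.add (Nat.succ 165410) k)) 441 = true := by decide +kernel
theorem s2c311 : allBelow (fun k => fs2 (Nat.add (Nat.succ 165851) k)) 416 = true := by decide +kernel
theorem s2c312 : allBelow (fun k => fs2 (Nat.add (Nat.succ 166267) k)) 427 = true := by decide +kernel
theorem s2c313 : allBelow (fun k => fs2 (Nat.add (Nat.succ 166694) k)) 434 = true := by decide +kernel
theorem s2c314 : allBelow (fun k => fs2 (Nat.add (Nat.succ 167128) k)) 424 = true := by decide +kernel
theorem s2c315 : allBelow (fun k => fs2 (Nat.add (Nat.succ 167552) k)) 421 = true := by decide +kernel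
theorem s2c316 : allBelow (fun k => fs2 (Nat.add (Nat.succ 167973) k)) 438 = true := by decide +kernel
theorem s2c317 : allBelow (fun k => fs2 (Nat.add (Nat.succ 168411) k)) 436 = true := by decide +kernel
theorem s2c318 : allBelow (fun k => fs2 (Nat.add (Nat.succ 168847) k)) 434 = true := by decide +kernel
theorem s2c319 : allBelow (fun k => fs2 (Nat.add (Nat.succ 169281) k)) 424 = true := by decide +kernel
theorem s2c320 : allBelow (fun k => fs2 (Nat.add (Nat.succ 169705) k)) 426 = true := by decide +kernel
theorem s2c321 : allBelow (fun k => fs2 (Nat.add (Nat.succ 170131) k)) 413 = true := by decide +kernel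
theorem s2c322 : allBelow (fun k => fs2 (Nat.add (Nat.succ 170544) k)) 425 = true := by decide +kernel
theorem s2c323 : allBelow (fun k => fs2 (Nat.add (Nat.succ 170969) k)) 421 = true := by decide +kernel
theorem s2c324 : allBelow (fun k => fs2 (Nat.add (Nat.succ 171390) k)) 421 = true := by decide +kernel
theorem s2c325 : allBelow (fun k => fs2 (Nat.add (Nat.succ 171811) k)) 431 = true := by decide +kernel
theorem s2c326 : allBelow (fun k => fs2 (Nat.add (Nat.succ 172242) k)) 418 = true := by decide +kernel
theorem s2c327 : allBelow (fun k => fs2 (Nat.add (Nat.succ 172660) k)) 420 = true := by decide +kernel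
theorem s2c328 : allBelow (fun k => fs2 (Nat.add (Nat.succ 173080) k)) 434 = true := by decide +kernel
theorem s2c329 : allBelow (fun k => fs2 (Nat.add (Nat.succ 173514) k)) 416 = true := by decide +kernel
theorem s2c330 : allBelow (fun k => fs2 (Nat.add (Nat.succ 173930) k)) 416 = true := by decide +kernel
theorem s2c331 : allBelow (fun k => fs2 (Nat.add (Nat.succ 174346) k)) 420 = true := by decide +kernel
theorem s2c332 : allBelow (fun k => fs2 (Nat.add (Nat.succ 174766) k)) 422 = true := by decide +kernel
theorem s2c333 : allBelow (fun k => fs2 (Nat.add (Nat.succ 175188) k)) 421 = true := by decide +kernel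
theorem s2c334 : allBelow (fun k => fs2 (Nat.add (Nat.succ 175609) k)) 403 = true := by decide +kernel
theorem s2c335 : allBelow (fun k => fs2 (Nat.add (Nat.succ 176012) k)) 424 = true := by decide +kernel
theorem s2c336 : allBelow (fun k => fs2 (Nat.add (Nat.succ 176436) k)) 429 = true := by decide +kernel
theorem s2c337 : allBelow (fun k => fs2 (Nat.add (Nat.succ 176865) k)) 426 = true := by decide +kernel
theorem s2c338 : allBelow (fun k => fs2 (Nat.add (Nat.succ 177291) k)) 427 = true := by decide +kernel
theorem s2c339 : allBelow (fun k => fs2 (Nat.add (Nat.succ 177718) k)) 420 = true := by decide +kernel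
theorem s2c340 : allBelow (fun k => fs2 (Nat.add (Nat.succ 178138) k)) 404 = true := by decide +kernel
theorem s2c341 : allBelow (fun k => fs2 (Nat.add (Nat.succ 178542) k)) 419 = true := by decide +kernel
theorem s2c342 : allBelow (fun k => fs2 (Nat.add (Nat.succ 178961) k)) 411 = true := by decide +kernel
theorem s2c343 : allBelow (fun k => fs2 (Nat.add (Nat.succ 179372) k)) 421 = true := by decide +kernel
theorem s2c344 : allBelow (fun k => fs2 (Nat.add (Nat.succ 179793) k)) 423 = true := by decide +kernel
theorem s2c345 : allBelow (fun k => fs2 (Nat.add (Nat.succ 180216) k)) 418 = true := by decide +kernel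
theorem s2c346 : allBelow (fun k => fs2 (Nat.add (Nat.succ 180634) k)) 407 = true := by decide +kernel
theorem s2c347 : allBelow (fun k => fs2 (Nat.add (Nat.succ 181041) k)) 404 = true := by decide +kernel
theorem s2c348 : allBelow (fun k => fs2 (Nat.add (Nat.succ 181445) k)) 407 = true := by decide +kernel
theorem s2c349 : allBelow (fun k => fs2 (Nat.add (Nat.succ 181852) k)) 430 = true := by decide +kernel
theorem s2c350 : allBelow (fun k => fs2 (Nat.add (Nat.succ 182282) k)) 429 = true := by decide +kernel
theorem s2c351 : allBelow (fun k => fs2 (Nat.add (Nat.succ 182711) k)) 401 = true := by decide +kernel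
theorem s2c352 : allBelow (fun k => fs2 (Nat.add (Nat.succ 183112) k)) 403 = true := by decide +kernel
theorem s2c353 : allBelow (fun k => fs2 (Nat.add (Nat.succ 183515) k)) 396 = true := by decide +kernel
theorem s2c354 : allBelow (fun k => fs2 (Nat.add (Nat.succ 183911) k)) 416 = true := by decide +kernel
theorem s2c355 : allBelow (fun k => fs2 (Nat.add (Nat.succ 184327) k)) 409 = true := by decide +kernel
theorem s2c356 : allBelow (fun k => fs2 (Nat.add (Nat.succ 184736) k)) 421 = true := by decide +kernel
theorem s2c357 : allBelow (fun k => fs2 (Nat.add (Nat.succ 185157) k)) 424 = true := by decide +kernel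
theorem s2c358 : allBelow (fun k => fs2 (Nat.add (Nat.succ 185581) k)) 411 = true := by decide +kernel
theorem s2c359 : allBelow (fun k => fs2 (Nat.add (Nat.succ 185992) k)) 413 = true := by decide +kernel
theorem s2c360 : allBelow (fun k => fs2 (Nat.add (Nat.succ 186405) k)) 425 = true := by decide +kernel
theorem s2c361 : allBelow (fun k => fs2 (Nat.add (Nat.succ 186830) k)) 408 = true := by decide +kernel
theorem s2c362 : allBelow (fun k => fs2 (Nat.add (Nat.succ 187238) k)) 424 = true := by decide +kernel
theorem s2c363 : allBelow (fun k => fs2 (Nat.add (Nat.succ 187662) k)) 406 = true := by decide +kernel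
theorem s2c364 : allBelow (fun k => fs2 (Nat.add (Nat.succ 188068) k)) 406 = true := by decide +kernel
theorem s2c365 : allBelow (fun k => fs2 (Nat.add (Nat.succ 188474) k)) 403 = true := by decide +kernel
theorem s2c366 : allBelow (fun k => fs2 (Nat.add (Nat.succ 188877) k)) 411 = true := by decide +kernel
theorem s2c367 : allBelow (fun k => fs2 (Nat.add (Nat.succ 189288) k)) 410 = true := by decide +kernel
theorem s2c368 : allBelow (fun k => fs2 (Nat.add (Nat.succ 189698) k)) 395 = true := by decide +kernel
theorem s2c369 : allBelow (fun k => fs2 (Nat.add (Nat.succ 190093) k)) 399 = true := by decide +kernel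
theorem s2c370 : allBelow (fun k => fs2 (Nat.add (Nat.succ 190492) k)) 403 = true := by decide +kernel
theorem s2c371 : allBelow (fun k => fs2 (Nat.add (Nat.succ 190895) k)) 403 = true := by decide +kernel
theorem s2c372 : allBelow (fun k => fs2 (Nat.add (Nat.succ 191298) k)) 406 = true := by decide +kernel
theorem s2c373 : allBelow (fun k => fs2 (Nat.add (Nat.succ 191704) k)) 415 = true := by decide +kernel
theorem s2c374 : allBelow (fun k => fs2 (Nat.add (Nat.succ 192119) k)) 407 = true := by decide +kernel
theorem s2c375 : allBelow (fun k => fs2 (Nat.add (Nat.succ 192526) k)) 413 = true := by decide +kernel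
theorem s2c376 : allBelow (fun k => fs2 (Nat.add (Nat.succ 192939) k)) 397 = true := by decide +kernel
theorem s2c377 : allBelow (fun k => fs2 (Nat.add (Nat.succ 193336) k)) 400 = true := by decide +kernel
theorem s2c378 : allBelow (fun k => fs2 (Nat.add (Nat.succ 193736) k)) 404 = true := by decide +kernel
theorem s2c379 : allBelow (fun k => fs2 (Nat.add (Nat.succ 194140) k)) 408 = true := by decide +kernel
theorem s2c380 : allBelow (fun k => fs2 (Nat.add (Nat.succ 194548) k)) 386 = true := by decide +kernel
theorem s2c381 : allBelow (fun k => fs2 (Nat.add (Nat.succ 194934) k)) 395 = true := by decide +kernel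
theorem s2c382 : allBelow (fun k => fs2 (Nat.add (Nat.succ 195329) k)) 400 = true := by decide +kernel
theorem s2c383 : allBelow (fun k => fs2 (Nat.add (Nat.succ 195729) k)) 400 = true := by decide +kernel
theorem s2c384 : allBelow (fun k => fs2 (Nat.add (Nat.succ 196129) k)) 392 = true := by decide +kernel
theorem s2c385 : allBelow (fun k => fs2 (Nat.add (Nat.succ 196521) k)) 394 = true := by decide +kernel
theorem s2c386 : allBelow (fun k => fs2 (Nat.add (Nat.succ 196915) k)) 402 = true := by decide +kernel
theorem s2c387 : allBelow (fun k => fs2 (Nat.add (Nat.succ 197317) k)) 397 = true := by decide +kernel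
theorem s2c388 : allBelow (fun k => fs2 (Nat.add (Nat.succ 197714) k)) 392 = true := by decide +kernel
theorem s2c389 : allBelow (fun k => fs2 (Nat.add (Nat.succ 198106) k)) 396 = true := by decide +kernel
theorem s2c390 : allBelow (fun k => fs2 (Nat.add (Nat.succ 198502) k)) 395 = true := by decide +kernel
theorem s2c391 : allBelow (fun k => fs2 (Nat.add (Nat.succ 198897) k)) 401 = true := by decide +kernel
theorem s2c392 : allBelow (fun k => fs2 (Nat.add (Nat.succ 199298) k)) 394 = true := by decide +kernel
theorem s2c393 : allBelow (fun k => fs2 (Nat.add (Nat.succ 199692) k)) 385 = true := by decide +kernel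
theorem s2c394 : allBelow (fun k => fs2 (Nat.add (Nat.succ 200077) k)) 395 = true := by decide +kernel
theorem s2c395 : allBelow (fun k => fs2 (Nat.add (Nat.succ 200472) k)) 381 = true := by decide +kernel
theorem s2c396 : allBelow (fun k => fs2 (Nat.add (Nat.succ 200853) k)) 389 = true := by decide +kernel
theorem s2c397 : allBelow (fun k => fs2 (Nat.add (Nat.succ 201242) k)) 340 = true := by decide +kernel
theorem s3c0 : allBelow (fun k => fs3 (Nat.add (Nat.succ 0) k)) 548 = true := by decide +kernel
theorem s3c1 : allBelow (fun k => fs3 (Nat.add (Nat.succ 548) k)) 481 = true := by decide +kernel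
theorem s3c2 : allBelow (fun k => fs3 (Nat.add (Nat.succ 1029) k)) 510 = true := by decide +kernel
theorem s3c3 : allBelow (fun k => fs3 (Nat.add (Nat.succ 1539) k)) 493 = true := by decide +kernel
theorem s3c4 : allBelow (fun k => fs3 (Nat.add (Nat.succ 2032) k)) 503 = true := by decide +kernel
theorem s3c5 : allBelow (fun k => fs3 (Nat.add (Nat.succ 2535) k)) 562 = true := by decide +kernel
theorem s3c6 : allBelow (fun k => fs3 (Nat.add (Nat.succ 3097) k)) 515 = true := by decide +kernel
theorem s3c7 : allBelow (fun k => fs3 (Nat.add (Nat.succ 3612) k)) 538 = true := by decide +kernel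
theorem s3c8 : allBelow (fun k => fs3 (Nat.add (Nat.succ 4150) k)) 553 = true := by decide +kernel
theorem s3c9 : allBelow (fun k => fs3 (Nat.add (Nat.succ 4703) k)) 504 = true := by decide +kernel
theorem s3c10 : allBelow (fun k => fs3 (Nat.add (Nat.succ 5207) k)) 511 = true := by decide +kernel
theorem s3c11 : allBelow (fun k => fs3 (Nat.add (Nat.succ 5718) k)) 501 = true := by decide +kernel
theorem s3c12 : allBelow (fun k => fs3 (Nat.add (Nat.succ 6219) k)) 496 = true := by decide +kernel
theorem s3c13 : allBelow (fun k => fs3 (Nat.add (Nat.succ 6715) k)) 513 = true := by decide +kernel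
theorem s3c14 : allBelow (fun k => fs3 (Nat.add (Nat.succ 7228) k)) 524 = true := by decide +kernel
theorem s3c15 : allBelow (fun k => fs3 (Nat.add (Nat.succ 7752) k)) 508 = true := by decide +kernel
theorem s3c16 : allBelow (fun k => fs3 (Nat.add (Nat.succ 8260) k)) 546 = true := by decide +kernel
theorem s3c17 : allBelow (fun k => fs3 (Nat.add (Nat.succ 8806) k)) 534 = true := by decide +kernel
theorem s3c18 : allBelow (fun k => fs3 (Nat.add (Nat.succ 9340) k)) 570 = true := by decide +kernel
theorem s3c19 : allBelow (fun k => fs3 (Nat.add (Nat.succ 9910) k)) 554 = true := by decide +kernel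
theorem s3c20 : allBelow (fun k => fs3 (Nat.add (Nat.succ 10464) k)) 526 = true := by decide +kernel
theorem s3c21 : allBelow (fun k => fs3 (Nat.add (Nat.succ 10990) k)) 485 = true := by decide +kernel
theorem s3c22 : allBelow (fun k => fs3 (Nat.add (Nat.succ 11475) k)) 495 = true := by decide +kernel
theorem s3c23 : allBelow (fun k => fs3 (Nat.add (Nat.succ 11970) k)) 486 = true := by decide +kernel
theorem s3c24 : allBelow (fun k => fs3 (Nat.add (Nat.succ 12456) k)) 498 = true := by decide +kernel
theorem s3c25 : allBelow (fun k => fs3 (Nat.add (Nat.succ 12954) k)) 487 = true := by decide +kernel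
theorem s3c26 : allBelow (fun k => fs3 (Nat.add (Nat.succ 13441) k)) 516 = true := by decide +kernel
theorem s3c27 : allBelow (fun k => fs3 (Nat.add (Nat.succ 13957) k)) 485 = true := by decide +kernel
theorem s3c28 : allBelow (fun k => fs3 (Nat.add (Nat.succ 14442) k)) 534 = true := by decide +kernel
theorem s3c29 : allBelow (fun k => fs3 (Nat.add (Nat.succ 14976) k)) 563 = true := by decide +kernel
theorem s3c30 : allBelow (fun k => fs3 (Nat.add (Nat.succ 15539) k)) 529 = true := by decide +kernel
theorem s3c31 : allBelow (fun k => fs3 (Nat.add (Nat.succ 16068) k)) 513 = true := by decide +kernel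
theorem s3c32 : allBelow (fun k => fs3 (Nat.add (Nat.succ 16581) k)) 485 = true := by decide +kernel
theorem s3c33 : allBelow (fun k => fs3 (Nat.add (Nat.succ 17066) k)) 519 = true := by decide +kernel
theorem s3c34 : allBelow (fun k => fs3 (Nat.add (Nat.succ 17585) k)) 550 = true := by decide +kernel
theorem s3c35 : allBelow (fun k => fs3 (Nat.add (Nat.succ 18135) k)) 577 = true := by decide +kernel
theorem s3c36 : allBelow (fun k => fs3 (Nat.add (Nat.succ 18712) k)) 520 = true := by decide +kernel
theorem s3c37 : allBelow (fun k => fs3 (Nat.add (Nat.succ 19232) k)) 531 = true := by decide +kernel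
theorem s3c38 : allBelow (fun k => fs3 (Nat.add (Nat.succ 19763) k)) 552 = true := by decide +kernel
theorem s3c39 : allBelow (fun k => fs3 (Nat.add (Nat.succ 20315) k)) 560 = true := by decide +kernel
theorem s3c40 : allBelow (fun k => fs3 (Nat.add (Nat.succ 20875) k)) 549 = true := by decide +kernel
theorem s3c41 : allBelow (fun k => fs3 (Nat.add (Nat.succ 21424) k)) 533 = true := by decide +kernel
theorem s3c42 : allBelow (fun k => fs3 (Nat.add (Nat.succ 21957) k)) 538 = true := by decide +kernel
theorem s3c43 : allBelow (fun k => fs3 (Nat.add (Nat.succ 22495) k)) 563 = true := by decide +kernel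
theorem s3c44 : allBelow (fun k => fs3 (Nat.add (Nat.succ 23058) k)) 482 = true := by decide +kernel
theorem s3c45 : allBelow (fun k => fs3 (Nat.add (Nat.succ 23540) k)) 496 = true := by decide +kernel
theorem s3c46 : allBelow (fun k => fs3 (Nat.add (Nat.succ 24036) k)) 478 = true := by decide +kernel
theorem s3c47 : allBelow (fun k => fs3 (Nat.add (Nat.succ 24514) k)) 479 = true := by decide +kernel
theorem s3c48 : allBelow (fun k => fs3 (Nat.add (Nat.succ 24993) k)) 479 = true := by decide +kernel
theorem s3c49 : allBelow (fun k => fs3 (Nat.add (Nat.succ 25472) k)) 473 = true := by decide +kernel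
theorem s3c50 : allBelow (fun k => fs3 (Nat.add (Nat.succ 25945) k)) 480 = true := by decide +kernel
theorem s3c51 : allBelow (fun k => fs3 (Nat.add (Nat.succ 26425) k)) 538 = true := by decide +kernel
theorem s3c52 : allBelow (fun k => fs3 (Nat.add (Nat.succ 26963) k)) 527 = true := by decide +kernel
theorem s3c53 : allBelow (fun k => fs3 (Nat.add (Nat.succ 27490) k)) 513 = true := by decide +kernel
theorem s3c54 : allBelow (fun k => fs3 (Nat.add (Nat.succ 28003) k)) 535 = true := by decide +kernel
theorem s3c55 : allBelow (fun k => fs3 (Nat.add (Nat.succ 28538) k)) 511 = true := by decide +kernel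
theorem s3c56 : allBelow (fun k => fs3 (Nat.add (Nat.succ 29049) k)) 514 = true := by decide +kernel
theorem s3c57 : allBelow (fun k => fs3 (Nat.add (Nat.succ 29563) k)) 513 = true := by decide +kernel
theorem s3c58 : allBelow (fun k => fs3 (Nat.add (Nat.succ 30076) k)) 541 = true := by decide +kernel
theorem s3c59 : allBelow (fun k => fs3 (Nat.add (Nat.succ 30617) k)) 543 = true := by decide +kernel
theorem s3c60 : allBelow (fun k => fs3 (Nat.add (Nat.succ 31160) k)) 532 = true := by decide +kernel
theorem s3c61 : allBelow (fun k => fs3 (Nat.add (Nat.succ 31692) k)) 527 = true := by decide +kernel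
theorem s3c62 : allBelow (fun k => fs3 (Nat.add (Nat.succ 32219) k)) 519 = true := by decide +kernel
theorem s3c63 : allBelow (fun k => fs3 (Nat.add (Nat.succ 32738) k)) 549 = true := by decide +kernel
theorem s3c64 : allBelow (fun k => fs3 (Nat.add (Nat.succ 33287) k)) 543 = true := by decide +kernel
theorem s3c65 : allBelow (fun k => fs3 (Nat.add (Nat.succ 33830) k)) 541 = true := by decide +kernel
theorem s3c66 : allBelow (fun k => fs3 (Nat.add (Nat.succ 34371) k)) 520 = true := by decide +kernel
theorem s3c67 : allBelow (fun k => fs3 (Nat.add (Nat.succ 34891) k)) 529 = true := by decide +kernel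
theorem s3c68 : allBelow (fun k => fs3 (Nat.add (Nat.succ 35420) k)) 522 = true := by decide +kernel
theorem s3c69 : allBelow (fun k => fs3 (Nat.add (Nat.succ 35942) k)) 588 = true := by decide +kernel
theorem s3c70 : allBelow (fun k => fs3 (Nat.add (Nat.succ 36530) k)) 567 = true := by decide +kernel
theorem s3c71 : allBelow (fun k => fs3 (Nat.add (Nat.succ 37097) k)) 550 = true := by decide +kernel
theorem s3c72 : allBelow (fun k => fs3 (Nat.add (Nat.succ 37647) k)) 548 = true := by decide +kernel
theorem s3c73 : allBelow (fun k => fs3 (Nat.add (Nat.succ 38195) k)) 537 = true := by decide +kernel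
theorem s3c74 : allBelow (fun k => fs3 (Nat.add (Nat.succ 38732) k)) 574 = true := by decide +kernel
theorem s3c75 : allBelow (fun k => fs3 (Nat.add (Nat.succ 39306) k)) 551 = true := by decide +kernel
theorem s3c76 : allBelow (fun k => fs3 (Nat.add (Nat.succ 39857) k)) 561 = true := by decide +kernel
theorem s3c77 : allBelow (fun k => fs3 (Nat.add (Nat.succ 40418) k)) 525 = true := by decide +kernel
theorem s3c78 : allBelow (fun k => fs3 (Nat.add (Nat.succ 40943) k)) 525 = true := by decide +kernel
theorem s3c79 : allBelow (fun k => fs3 (Nat.add (Nat.succ 41468) k)) 562 = true := by decide +kernel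
theorem s3c80 : allBelow (fun k => fs3 (Nat.add (Nat.succ 42030) k)) 522 = true := by decide +kernel
theorem s3c81 : allBelow (fun k => fs3 (Nat.add (Nat.succ 42552) k)) 556 = true := by decide +kernel
theorem s3c82 : allBelow (fun k => fs3 (Nat.add (Nat.succ 43108) k)) 533 = true := by decide +kernel
theorem s3c83 : allBelow (fun k => fs3 (Nat.add (Nat.succ 43641) k)) 524 = true := by decide +kernel
theorem s3c84 : allBelow (fun k => fs3 (Nat.add (Nat.succ 44165) k)) 529 = true := by decide +kernel
theorem s3c85 : allBelow (fun k => fs3 (Nat.add (Nat.succ 44694) k)) 499 = true := by decide +kernel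
theorem s3c86 : allBelow (fun k => fs3 (Nat.add (Nat.succ 45193) k)) 531 = true := by decide +kernel
theorem s3c87 : allBelow (fun k => fs3 (Nat.add (Nat.succ 45724) k)) 530 = true := by decide +kernel
theorem s3c88 : allBelow (fun k => fs3 (Nat.add (Nat.succ 46254) k)) 565 = true := by decide +kernel
theorem s3c89 : allBelow (fun k => fs3 (Nat.add (Nat.succ 46819) k)) 473 = true := by decide +kernel
theorem s3c90 : allBelow (fun k => fs3 (Nat.add (Nat.succ 47292) k)) 488 = true := by decide +kernel
theorem s3c91 : allBelow (fun k => fs3 (Nat.add (Nat.succ 47780) k)) 505 = true := by decide +kernel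
theorem s3c92 : allBelow (fun k => fs3 (Nat.add (Nat.succ 48285) k)) 552 = true := by decide +kernel
theorem s3c93 : allBelow (fun k => fs3 (Nat.add (Nat.succ 48837) k)) 494 = true := by decide +kernel
theorem s3c94 : allBelow (fun k => fs3 (Nat.add (Nat.succ 49331) k)) 499 = true := by decide +kernel
theorem s3c95 : allBelow (fun k => fs3 (Nat.add (Nat.succ 49830) k)) 530 = true := by decide +kernel
theorem s3c96 : allBelow (fun k => fs3 (Nat.add (Nat.succ 50360) k)) 494 = true := by decide +kernel
theorem s3c97 : allBelow (fun k => fs3 (Nat.add (Nat.succ 50854) k)) 489 = true := by decide +kernel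
theorem s3c98 : allBelow (fun k => fs3 (Nat.add (Nat.succ 51343) k)) 535 = true := by decide +kernel
theorem s3c99 : allBelow (fun k => fs3 (Nat.add (Nat.succ 51878) k)) 523 = true := by decide +kernel
theorem s3c100 : allBelow (fun k => fs3 (Nat.add (Nat.succ 52401) k)) 511 = true := by decide +kernel
theorem s3c101 : allBelow (fun k => fs3 (Nat.add (Nat.succ 52912) k)) 506 = true := by decide +kernel
theorem s3c102 : allBelow (fun k => fs3 (Nat.add (Nat.succ 53418) k)) 535 = true := by decide +kernel
theorem s3c103 : allBelow (fun k => fs3 (Nat.add (Nat.succ 53953) k)) 599 = true := by decide +kernel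
theorem s3c104 : allBelow (fun k => fs3 (Nat.add (Nat.succ 54552) k)) 624 = true := by decide +kernel
theorem s3c105 : allBelow (fun k => fs3 (Nat.add (Nat.succ 55176) k)) 527 = true := by decide +kernel
theorem s3c106 : allBelow (fun k => fs3 (Nat.add (Nat.succ 55703) k)) 558 = true := by decide +kernel
theorem s3c107 : allBelow (fun k => fs3 (Nat.add (Nat.succ 56261) k)) 553 = true := by decide +kernel
theorem s3c108 : allBelow (fun k => fs3 (Nat.add (Nat.succ 56814) k)) 499 = true := by decide +kernel
theorem s3c109 : allBelow (fun k => fs3 (Nat.add (Nat.succ 57313) k)) 533 = true := by decide +kernel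
theorem s3c110 : allBelow (fun k => fs3 (Nat.add (Nat.succ 57846) k)) 542 = true := by decide +kernel
theorem s3c111 : allBelow (fun k => fs3 (Nat.add (Nat.succ 58388) k)) 528 = true := by decide +kernel
theorem s3c112 : allBelow (fun k => fs3 (Nat.add (Nat.succ 58916) k)) 523 = true := by decide +kernel
theorem s3c113 : allBelow (fun k => fs3 (Nat.add (Nat.succ 59439) k)) 522 = true := by decide +kernel
theorem s3c114 : allBelow (fun k => fs3 (Nat.add (Nat.succ 59961) k)) 512 = true := by decide +kernel
theorem s3c115 : allBelow (fun k => fs3 (Nat.add (Nat.succ 60473) k)) 524 = true := by decide +kernel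
theorem s3c116 : allBelow (fun k => fs3 (Nat.add (Nat.succ 60997) k)) 524 = true := by decide +kernel
theorem s3c117 : allBelow (fun k => fs3 (Nat.add (Nat.succ 61521) k)) 501 = true := by decide +kernel
theorem s3c118 : allBelow (fun k => fs3 (Nat.add (Nat.succ 62022) k)) 528 = true := by decide +kernel
theorem s3c119 : allBelow (fun k => fs3 (Nat.add (Nat.succ 62550) k)) 549 = true := by decide +kernel
theorem s3c120 : allBelow (fun k => fs3 (Nat.add (Nat.succ 63099) k)) 544 = true := by decide +kernel
theorem s3c121 : allBelow (fun k => fs3 (Nat.add (Nat.succ 63643) k)) 563 = true := by decide +kernel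
theorem s3c122 : allBelow (fun k => fs3 (Nat.add (Nat.succ 64206) k)) 596 = true := by decide +kernel
theorem s3c123 : allBelow (fun k => fs3 (Nat.add (Nat.succ 64802) k)) 582 = true := by decide +kernel
theorem s3c124 : allBelow (fun k => fs3 (Nat.add (Nat.succ 65384) k)) 567 = true := by decide +kernel
theorem s3c125 : allBelow (fun k => fs3 (Nat.add (Nat.succ 65951) k)) 538 = true := by decide +kernel
theorem s3c126 : allBelow (fun k => fs3 (Nat.add (Nat.succ 66489) k)) 573 = true := by decide +kernel
theorem s3c127 : allBelow (fun k => fs3 (Nat.add (Nat.succ 67062) k)) 530 = true := by decide +kernel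
theorem s3c128 : allBelow (fun k => fs3 (Nat.add (Nat.succ 67592) k)) 542 = true := by decide +kernel
theorem s3c129 : allBelow (fun k => fs3 (Nat.add (Nat.succ 68134) k)) 595 = true := by decide +kernel
theorem s3c130 : allBelow (fun k => fs3 (Nat.add (Nat.succ 68729) k)) 556 = true := by decide +kernel
theorem s3c131 : allBelow (fun k => fs3 (Nat.add (Nat.succ 69285) k)) 566 = true := by decide +kernel
theorem s3c132 : allBelow (fun k => fs3 (Nat.add (Nat.succ 69851) k)) 586 = true := by decide +kernel
theorem s3c133 : allBelow (fun k => fs3 (Nat.add (Nat.succ 70437) k)) 573 = true := by decide +kernel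
theorem s3c134 : allBelow (fun k => fs3 (Nat.add (Nat.succ 71010) k)) 547 = true := by decide +kernel
theorem s3c135 : allBelow (fun k => fs3 (Nat.add (Nat.succ 71557) k)) 575 = true := by decide +kernel
theorem s3c136 : allBelow (fun k => fs3 (Nat.add (Nat.succ 72132) k)) 584 = true := by decide +kernel
theorem s3c137 : allBelow (fun k => fs3 (Nat.add (Nat.succ 72716) k)) 585 = true := by decide +kernel
theorem s3c138 : allBelow (fun k => fs3 (Nat.add (Nat.succ 73301) k)) 519 = true := by decide +kernel
theorem s3c139 : allBelow (fun k => fs3 (Nat.add (Nat.succ 73820) k)) 628 = true := by decide +kernel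
theorem s3c140 : allBelow (fun k => fs3 (Nat.add (Nat.succ 74448) k)) 603 = true := by decide +kernel
theorem s3c141 : allBelow (fun k => fs3 (Nat.add (Nat.succ 75051) k)) 571 = true := by decide +kernel
theorem s3c142 : allBelow (fun k => fs3 (Nat.add (Nat.succ 75622) k)) 540 = true := by decide +kernel
theorem s3c143 : allBelow (fun k => fs3 (Nat.add (Nat.succ 76162) k)) 583 = true := by decide +kernel
theorem s3c144 : allBelow (fun k => fs3 (Nat.add (Nat.succ 76745) k)) 661 = true := by decide +kernel
theorem s3c145 : allBelow (fun k => fs3 (Nat.add (Nat.succ 77406) k)) 542 = true := by decide +kernel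
theorem s3c146 : allBelow (fun k => fs3 (Nat.add (Nat.succ 77948) k)) 580 = true := by decide +kernel
theorem s3c147 : allBelow (fun k => fs3 (Nat.add (Nat.succ 78528) k)) 584 = true := by decide +kernel
theorem s3c148 : allBelow (fun k => fs3 (Nat.add (Nat.succ 79112) k)) 535 = true := by decide +kernel
theorem s3c149 : allBelow (fun k => fs3 (Nat.add (Nat.succ 79647) k)) 551 = true := by decide +kernel
theorem s3c150 : allBelow (fun k => fs3 (Nat.add (Nat.succ 80198) k)) 570 = true := by decide +kernel
theorem s3c151 : allBelow (fun k => fs3 (Nat.add (Nat.succ 80768) k)) 549 = true := by decide +kernel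
theorem s3c152 : allBelow (fun k => fs3 (Nat.add (Nat.succ 81317) k)) 627 = true := by decide +kernel
theorem s3c153 : allBelow (fun k => fs3 (Nat.add (Nat.succ 81944) k)) 597 = true := by decide +kernel
theorem s3c154 : allBelow (fun k => fs3 (Nat.add (Nat.succ 82541) k)) 561 = true := by decide +kernel
theorem s3c155 : allBelow (fun k => fs3 (Nat.add (Nat.succ 83102) k)) 549 = true := by decide +kernel
theorem s3c156 : allBelow (fun k => fs3 (Nat.add (Nat.succ 83651) k)) 545 = true := by decide +kernel
theorem s3c157 : allBelow (fun k => fs3 (Nat.add (Nat.succ 84196) k)) 513 = true := by decide +kernel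
theorem s3c158 : allBelow (fun k => fs3 (Nat.add (Nat.succ 84709) k)) 520 = true := by decide +kernel
theorem s3c159 : allBelow (fun k => fs3 (Nat.add (Nat.succ 85229) k)) 515 = true := by decide +kernel
theorem s3c160 : allBelow (fun k => fs3 (Nat.add (Nat.succ 85744) k)) 493 = true := by decide +kernel
theorem s3c161 : allBelow (fun k => fs3 (Nat.add (Nat.succ 86237) k)) 533 = true := by decide +kernel
theorem s3c162 : allBelow (fun k => fs3 (Nat.add (Nat.succ 86770) k)) 529 = true := by decide +kernel
theorem s3c163 : allBelow (fun k => fs3 (Nat.add (Nat.succ 87299) k)) 517 = true := by decide +kernel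
theorem s3c164 : allBelow (fun k => fs3 (Nat.add (Nat.succ 87816) k)) 549 = true := by decide +kernel
theorem s3c165 : allBelow (fun k => fs3 (Nat.add (Nat.succ 88365) k)) 500 = true := by decide +kernel
theorem s3c166 : allBelow (fun k => fs3 (Nat.add (Nat.succ 88865) k)) 555 = true := by decide +kernel
theorem s3c167 : allBelow (fun k => fs3 (Nat.add (Nat.succ 89420) k)) 531 = true := by decide +kernel
theorem s3c168 : allBelow (fun k => fs3 (Nat.add (Nat.succ 89951) k)) 496 = true := by decide +kernel
theorem s3c169 : allBelow (fun k => fs3 (Nat.add (Nat.succ 90447) k)) 491 = true := by decide +kernel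
theorem s3c170 : allBelow (fun k => fs3 (Nat.add (Nat.succ 90938) k)) 538 = true := by decide +kernel
theorem s3c171 : allBelow (fun k => fs3 (Nat.add (Nat.succ 91476) k)) 515 = true := by decide +kernel
theorem s3c172 : allBelow (fun k => fs3 (Nat.add (Nat.succ 91991) k)) 502 = true := by decide +kernel
theorem s3c173 : allBelow (fun k => fs3 (Nat.add (Nat.succ 92493) k)) 522 = true := by decide +kernel
theorem s3c174 : allBelow (fun k => fs3 (Nat.add (Nat.succ 93015) k)) 539 = true := by decide +kernel
theorem s3c175 : allBelow (fun k => fs3 (Nat.add (Nat.succ 93554) k)) 551 = true := by decide +kernel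
theorem s3c176 : allBelow (fun k => fs3 (Nat.add (Nat.succ 94105) k)) 569 = true := by decide +kernel
theorem s3c177 : allBelow (fun k => fs3 (Nat.add (Nat.succ 94674) k)) 533 = true := by decide +kernel
theorem s3c178 : allBelow (fun k => fs3 (Nat.add (Nat.succ 95207) k)) 543 = true := by decide +kernel
theorem s3c179 : allBelow (fun k => fs3 (Nat.add (Nat.succ 95750) k)) 529 = true := by decide +kernel
theorem s3c180 : allBelow (fun k => fs3 (Nat.add (Nat.succ 96279) k)) 488 = true := by decide +kernel
theorem s3c181 : allBelow (fun k => fs3 (Nat.add (Nat.succ 96767) k)) 505 = true := by decide +kernel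
theorem s3c182 : allBelow (fun k => fs3 (Nat.add (Nat.succ 97272) k)) 491 = true := by decide +kernel
theorem s3c183 : allBelow (fun k => fs3 (Nat.add (Nat.succ 97763) k)) 448 = true := by decide +kernel
theorem s3c184 : allBelow (fun k => fs3 (Nat.add (Nat.succ 98211) k)) 477 = true := by decide +kernel
theorem s3c185 : allBelow (fun k => fs3 (Nat.add (Nat.succ 98688) k)) 520 = true := by decide +kernel
theorem s3c186 : allBelow (fun k => fs3 (Nat.add (Nat.succ 99208) k)) 490 = true := by decide +kernel
theorem s3c187 : allBelow (fun k => fs3 (Nat.add (Nat.succ 99698) k)) 501 = true := by decide +kernel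
theorem s3c188 : allBelow (fun k => fs3 (Nat.add (Nat.succ 100199) k)) 545 = true := by decide +kernel
theorem s3c189 : allBelow (fun k => fs3 (Nat.add (Nat.succ 100744) k)) 511 = true := by decide +kernel
theorem s3c190 : allBelow (fun k => fs3 (Nat.add (Nat.succ 101255) k)) 479 = true := by decide +kernel
theorem s3c191 : allBelow (fun k => fs3 (Nat.add (Nat.succ 101734) k)) 459 = true := by decide +kernel
theorem s3c192 : allBelow (fun k => fs3 (Nat.add (Nat.succ 102193) k)) 456 = true := by decide +kernel
theorem s3c193 : allBelow (fun k => fs3 (Nat.add (Nat.succ 102649) k)) 493 = true := by decide +kernel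
theorem s3c194 : allBelow (fun k => fs3 (Nat.add (Nat.succ 103142) k)) 482 = true := by decide +kernel
theorem s3c195 : allBelow (fun k => fs3 (Nat.add (Nat.succ 103624) k)) 454 = true := by decide +kernel
theorem s3c196 : allBelow (fun k => fs3 (Nat.add (Nat.succ 104078) k)) 498 = true := by decide +kernel
theorem s3c197 : allBelow (fun k => fs3 (Nat.add (Nat.succ 104576) k)) 483 = true := by decide +kernel
theorem s3c198 : allBelow (fun k => fs3 (Nat.add (Nat.succ 105059) k)) 524 = true := by decide +kernel
theorem s3c199 : allBelow (fun k => fs3 (Nat.add (Nat.succ 105583) k)) 455 = true := by decide +kernel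
theorem s3c200 : allBelow (fun k => fs3 (Nat.add (Nat.succ 106038) k)) 490 = true := by decide +kernel
theorem s3c201 : allBelow (fun k => fs3 (Nat.add (Nat.succ 106528) k)) 562 = true := by decide +kernel
theorem s3c202 : allBelow (fun k => fs3 (Nat.add (Nat.succ 107090) k)) 540 = true := by decide +kernel
theorem s3c203 : allBelow (fun k => fs3 (Nat.add (Nat.succ 107630) k)) 520 = true := by decide +kernel
theorem s3c204 : allBelow (fun k => fs3 (Nat.add (Nat.succ 108150) k)) 562 = true := by decide +kernel
theorem s3c205 : allBelow (fun k => fs3 (Nat.add (Nat.succ 108712) k)) 576 = true := by decide +kernel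
theorem s3c206 : allBelow (fun k => fs3 (Nat.add (Nat.succ 109288) k)) 511 = true := by decide +kernel
theorem s3c207 : allBelow (fun k => fs3 (Nat.add (Nat.succ 109799) k)) 551 = true := by decide +kernel
theorem s3c208 : allBelow (fun k => fs3 (Nat.add (Nat.succ 110350) k)) 537 = true := by decide +kernel
theorem s3c209 : allBelow (fun k => fs3 (Nat.add (Nat.succ 110887) k)) 590 = true := by decide +kernel
theorem s3c210 : allBelow (fun k => fs3 (Nat.add (Nat.succ 111477) k)) 629 = true := by decide +kernel
theorem s3c211 : allBelow (fun k => fs3 (Nat.add (Nat.succ 112106) k)) 555 = true := by decide +kernel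
theorem s3c212 : allBelow (fun k => fs3 (Nat.add (Nat.succ 112661) k)) 527 = true := by decide +kernel
theorem s3c213 : allBelow (fun k => fs3 (Nat.add (Nat.succ 113188) k)) 542 = true := by decide +kernel
theorem s3c214 : allBelow (fun k => fs3 (Nat.add (Nat.succ 113730) k)) 531 = true := by decide +kernel
theorem s3c215 : allBelow (fun k => fs3 (Nat.add (Nat.succ 114261) k)) 554 = true := by decide +kernel
theorem s3c216 : allBelow (fun k => fs3 (Nat.add (Nat.succ 114815) k)) 477 = true := by decide +kernel
theorem s3c217 : allBelow (fun k => fs3 (Nat.add (Nat.succ 115292) k)) 466 = true := by decide +kernel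
theorem s3c218 : allBelow (fun k => fs3 (Nat.add (Nat.succ 115758) k)) 426 = true := by decide +kernel
theorem s3c219 : allBelow (fun k => fs3 (Nat.add (Nat.succ 116184) k)) 554 = true := by decide +kernel
theorem s3c220 : allBelow (fun k => fs3 (Nat.add (Nat.succ 116738) k)) 520 = true := by decide +kernel
theorem s3c221 : allBelow (fun k => fs3 (Nat.add (Nat.succ 117258) k)) 517 = true := by decide +kernel
theorem s3c222 : allBelow (fun k => fs3 (Nat.add (Nat.succ 117775) k)) 499 = true := by decide +kernel
theorem s3c223 : allBelow (fun k => fs3 (Nat.add (Nat.succ 118274) k)) 544 = true := by decide +kernel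
theorem s3c224 : allBelow (fun k => fs3 (Nat.add (Nat.succ 118818) k)) 589 = true := by decide +kernel
theorem s3c225 : allBelow (fun k => fs3 (Nat.add (Nat.succ 119407) k)) 540 = true := by decide +kernel
theorem s3c226 : allBelow (fun k => fs3 (Nat.add (Nat.succ 119947) k)) 566 = true := by decide +kernel
theorem s3c227 : allBelow (fun k => fs3 (Nat.add (Nat.succ 120513) k)) 467 = true := by decide +kernel
theorem s3c228 : allBelow (fun k => fs3 (Nat.add (Nat.succ 120980) k)) 480 = true := by decide +kernel
theorem s3c229 : allBelow (fun k => fs3 (Nat.add (Nat.succ 121460) k)) 538 = true := by decide +kernel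
theorem s3c230 : allBelow (fun k => fs3 (Nat.add (Nat.succ 121998) k)) 491 = true := by decide +kernel
theorem s3c231 : allBelow (fun k => fs3 (Nat.add (Nat.succ 122489) k)) 485 = true := by decide +kernel
theorem s3c232 : allBelow (fun k => fs3 (Nat.add (Nat.succ 122974) k)) 544 = true := by decide +kernel
theorem s3c233 : allBelow (fun k => fs3 (Nat.add (Nat.succ 123518) k)) 476 = true := by decide +kernel
theorem s3c234 : allBelow (fun k => fs3 (Nat.add (Nat.succ 123994) k)) 502 = true := by decide +kernel
theorem s3c235 : allBelow (fun k => fs3 (Nat.add (Nat.succ 124496) k)) 500 = true := by decide +kernel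
theorem s3c236 : allBelow (fun k => fs3 (Nat.add (Nat.succ 124996) k)) 478 = true := by decide +kernel
theorem s3c237 : allBelow (fun k => fs3 (Nat.add (Nat.succ 125474) k)) 476 = true := by decide +kernel
theorem s3c238 : allBelow (fun k => fs3 (Nat.add (Nat.succ 125950) k)) 547 = true := by decide +kernel
theorem s3c239 : allBelow (fun k => fs3 (Nat.add (Nat.succ 126497) k)) 555 = true := by decide +kernel
theorem s3c240 : allBelow (fun k => fs3 (Nat.add (Nat.succ 127052) k)) 609 = true := by decide +kernel
theorem s3c241 : allBelow (fun k => fs3 (Nat.add (Nat.succ 127661) k)) 516 = true := by decide +kernel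
theorem s3c242 : allBelow (fun k => fs3 (Nat.add (Nat.succ 128177) k)) 593 = true := by decide +kernel
theorem s3c243 : allBelow (fun k => fs3 (Nat.add (Nat.succ 128770) k)) 519 = true := by decide +kernel
theorem s3c244 : allBelow (fun k => fs3 (Nat.add (Nat.succ 129289) k)) 545 = true := by decide +kernel
theorem s3c245 : allBelow (fun k => fs3 (Nat.add (Nat.succ 129834) k)) 588 = true := by decide +kernel
theorem s3c246 : allBelow (fun k => fs3 (Nat.add (Nat.succ 130422) k)) 604 = true := by decide +kernel
theorem s3c247 : allBelow (fun k => fs3 (Nat.add (Nat.succ 131026) k)) 562 = true := by decide +kernel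
theorem s3c248 : allBelow (fun k => fs3 (Nat.add (Nat.succ 131588) k)) 575 = true := by decide +kernel
theorem s3c249 : allBelow (fun k => fs3 (Nat.add (Nat.succ 132163) k)) 502 = true := by decide +kernel
theorem s3c250 : allBelow (fun k => fs3 (Nat.add (Nat.succ 132665) k)) 624 = true := by decide +kernel
theorem s3c251 : allBelow (fun k => fs3 (Nat.add (Nat.succ 133289) k)) 558 = true := by decide +kernel
theorem s3c252 : allBelow (fun k => fs3 (Nat.add (Nat.succ 133847) k)) 547 = true := by decide +kernel
theorem s3c253 : allBelow (fun k => fs3 (Nat.add (Nat.succ 134394) k)) 539 = true := by decide +kernel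
theorem s3c254 : allBelow (fun k => fs3 (Nat.add (Nat.succ 134933) k)) 569 = true := by decide +kernel
theorem s3c255 : allBelow (fun k => fs3 (Nat.add (Nat.succ 135502) k)) 545 = true := by decide +kernel
theorem s3c256 : allBelow (fun k => fs3 (Nat.add (Nat.succ 136047) k)) 576 = true := by decide +kernel
theorem s3c257 : allBelow (fun k => fs3 (Nat.add (Nat.succ 136623) k)) 571 = true := by decide +kernel
theorem s3c258 : allBelow (fun k => fs3 (Nat.add (Nat.succ 137194) k)) 534 = true := by decide +kernel
theorem s3c259 : allBelow (fun k => fs3 (Nat.add (Nat.succ 137728) k)) 541 = true := by decide +kernel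
theorem s3c260 : allBelow (fun k => fs3 (Nat.add (Nat.succ 138269) k)) 522 = true := by decide +kernel
theorem s3c261 : allBelow (fun k => fs3 (Nat.add (Nat.succ 138791) k)) 535 = true := by decide +kernel
theorem s3c262 : allBelow (fun k => fs3 (Nat.add (Nat.succ 139326) k)) 561 = true := by decide +kernel
theorem s3c263 : allBelow (fun k => fs3 (Nat.add (Nat.succ 139887) k)) 527 = true := by decide +kernel
theorem s3c264 : allBelow (fun k => fs3 (Nat.add (Nat.succ 140414) k)) 588 = true := by decide +kernel
theorem s3c265 : allBelow (fun k => fs3 (Nat.add (Nat.succ 141002) k)) 444 = true := by decide +kernel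
theorem s3c266 : allBelow (fun k => fs3 (Nat.add (Nat.succ 141446) k)) 592 = true := by decide +kernel
theorem s3c267 : allBelow (fun k => fs3 (Nat.add (Nat.succ 142038) k)) 539 = true := by decide +kernel
theorem s3c268 : allBelow (fun k => fs3 (Nat.add (Nat.succ 142577) k)) 585 = true := by decide +kernel
theorem s3c269 : allBelow (fun k => fs3 (Nat.add (Nat.succ 143162) k)) 591 = true := by decide +kernel
theorem s3c270 : allBelow (fun k => fs3 (Nat.add (Nat.succ 143753) k)) 511 = true := by decide +kernel
theorem s3c271 : allBelow (fun k => fs3 (Nat.add (Nat.succ 144264) k)) 525 = true := by decide +kernel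
theorem s3c272 : allBelow (fun k => fs3 (Nat.add (Nat.succ 144789) k)) 618 = true := by decide +kernel
theorem s3c273 : allBelow (fun k => fs3 (Nat.add (Nat.succ 145407) k)) 633 = true := by decide +kernel
theorem s3c274 : allBelow (fun k => fs3 (Nat.add (Nat.succ 146040) k)) 574 = true := by decide +kernel
theorem s3c275 : allBelow (fun k => fs3 (Nat.add (Nat.succ 146614) k)) 570 = true := by decide +kernel
theorem s3c276 : allBelow (fun k => fs3 (Nat.add (Nat.succ 147184) k)) 534 = true := by decide +kernel
theorem s3c277 : allBelow (fun k => fs3 (Nat.add (Nat.succ 147718) k)) 640 = true := by decide +kernel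
theorem s3c278 : allBelow (fun k => fs3 (Nat.add (Nat.succ 148358) k)) 612 = true := by decide +kernel
theorem s3c279 : allBelow (fun k => fs3 (Nat.add (Nat.succ 148970) k)) 653 = true := by decide +kernel
theorem s3c280 : allBelow (fun k => fs3 (Nat.add (Nat.succ 149623) k)) 581 = true := by decide +kernel
theorem s3c281 : allBelow (fun k => fs3 (Nat.add (Nat.succ 150204) k)) 634 = true := by decide +kernel
theorem s3c282 : allBelow (fun k => fs3 (Nat.add (Nat.succ 150838) k)) 649 = true := by decide +kernel
theorem s3c283 : allBelow (fun k => fs3 (Nat.add (Nat.succ 151487) k)) 586 = true := by decide +kernel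
theorem s3c284 : allBelow (fun k => fs3 (Nat.add (Nat.succ 152073) k)) 573 = true := by decide +kernel
theorem s3c285 : allBelow (fun k => fs3 (Nat.add (Nat.succ 152646) k)) 591 = true := by decide +kernel
theorem s3c286 : allBelow (fun k => fs3 (Nat.add (Nat.succ 153237) k)) 581 = true := by decide +kernel
theorem s3c287 : allBelow (fun k => fs3 (Nat.add (Nat.succ 153818) k)) 614 = true := by decide +kernel

end Cfsg.Agent.Lib.Helper35.ON122760
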