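import Cfsg.Agent.Lib.Helper35.ON122760.Data

set_option Elab.async false

namespace Cfsg.Agent.Lib.Helper35.ON122760

open Cfsg.Agent.Lib.Helper35

theorem s3c288 : allBelow (fun k => fs3 (Nat.add (Nat.succ 154432) k)) 578 = true := by decide +kernel
theorem s3c289 : allBelow (fun k => fs3 (Nat.add (Nat.succ 155010) k)) 581 = true := by decide +kernel
theorem s3c290 : allBelow (fun k => fs3 (Nat.add (Nat.succ 155591) k)) 595 = true := by decide +kernel
theorem s3c291 : allBelow (fun k => fs3 (Nat.add (Nat.succ 156186) k)) 638 = true := by decide +kernel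
theorem s3c292 : allBelow (fun k => fs3 (Nat.add (Nat.succ 156824) k)) 600 = true := by decide +kernel
theorem s3c293 : allBelow (fun k => fs3 (Nat.add (Nat.succ 157424) k)) 578 = true := by decide +kernel
theorem s3c294 : allBelow (fun k => fs3 (Nat.add (Nat.succ 158002) k)) 646 = true := by decide +kernel
theorem s3c295 : allBelow (fun k => fs3 (Nat.add (Nat.succ 158648) k)) 595 = true := by decide +kernel
theorem s3c296 : allBelow (fun k => fs3 (Nat.add (Nat.succ 159243) k)) 573 = true := by decide +kernel
theorem s3c297 : allBelow (fun k => fs3 (Nat.add (Nat.succ 159816) k)) 592 = true := by decide +kernel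
theorem s3c298 : allBelow (fun k => fs3 (Nat.add (Nat.succ 160408) k)) 619 = true := by decide +kernel
theorem s3c299 : allBelow (fun k => fs3 (Nat.add (Nat.succ 161027) k)) 548 = true := by decide +kernel
theorem s3c300 : allBelow (fun k => fs3 (Nat.add (Nat.succ 161575) k)) 496 = true := by decide +kernel
theorem s3c301 : allBelow (fun k => fs3 (Nat.add (Nat.succ 162071) k)) 401 = true := by decide +kernel
theorem s3c302 : allBelow (fun k => fs3 (Nat.add (Nat.succ 162472) k)) 411 = true := by decide +kernel
theorem s3c303 : allBelow (fun k => fs3 (Nat.add (Nat.succ 162883) k)) 423 = true := by decide +kernel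
theorem s3c304 : allBelow (fun k => fs3 (Nat.add (Nat.succ 163306) k)) 441 = true := by decide +kernel
theorem s3c305 : allBelow (fun k => fs3 (Nat.add (Nat.succ 163747) k)) 415 = true := by decide +kernel
theorem s3c306 : allBelow (fun k => fs3 (Nat.add (Nat.succ 164162) k)) 415 = true := by decide +kernel
theorem s3c307 : allBelow (fun k => fs3 (Nat.add (Nat.succ 164577) k)) 424 = true := by decide +kernel
theorem s3c308 : allBelow (fun k => fs3 (Nat.add (Nat.succ 165001) k)) 404 = true := by decide +kernel
theorem s3c309 : allBelow (fun k => fs3 (Nat.add (Nat.succ 165405) k)) 415 = true := by decide +kernel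
theorem s3c310 : allBelow (fun k => fs3 (Nat.add (Nat.succ 165820) k)) 388 = true := by decide +kernel
theorem s3c311 : allBelow (fun k => fs3 (Nat.add (Nat.succ 166208) k)) 412 = true := by decide +kernel
theorem s3c312 : allBelow (fun k => fs3 (Nat.add (Nat.succ 166620) k)) 386 = true := by decide +kernel
theorem s3c313 : allBelow (fun k => fs3 (Nat.add (Nat.succ 167006) k)) 402 = true := by decide +kernel
theorem s3c314 : allBelow (fun k => fs3 (Nat.add (Nat.succ 167408) k)) 393 = true := by decide +kernel
theorem s3c315 : allBelow (fun k => fs3 (Nat.add (Nat.succ 167801) k)) 402 = true := by decide +kernel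
theorem s3c316 : allBelow (fun k => fs3 (Nat.add (Nat.succ 168203) k)) 405 = true := by decide +kernel
theorem s3c317 : allBelow (fun k => fs3 (Nat.add (Nat.succ 168608) k)) 401 = true := by decide +kernel
theorem s3c318 : allBelow (fun k => fs3 (Nat.add (Nat.succ 169009) k)) 418 = true := by decide +kernel
theorem s3c319 : allBelow (fun k => fs3 (Nat.add (Nat.succ 169427) k)) 406 = true := by decide +kernel
theorem s3c320 : allBelow (fun k => fs3 (Nat.add (Nat.succ 169833) k)) 413 = true := by decide +kernel
theorem s3c321 : allBelow (fun k => fs3 (Nat.add (Nat.succ 170246) k)) 380 = true := by decide +kernel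
theorem s3c322 : allBelow (fun k => fs3 (Nat.add (Nat.succ 170626) k)) 396 = true := by decide +kernel
theorem s3c323 : allBelow (fun k => fs3 (Nat.add (Nat.succ 171022) k)) 382 = true := by decide +kernel
theorem s3c324 : allBelow (fun k => fs3 (Nat.add (Nat.succ 171404) k)) 398 = true := by decide +kernel
theorem s3c325 : allBelow (fun k => fs3 (Nat.add (Nat.succ 171802) k)) 400 = true := by decide +kernel
theorem s3c326 : allBelow (fun k => fs3 (Nat.add (Nat.succ 172202) k)) 391 = true := by decide +kernel
theorem s3c327 : allBelow (fun k => fs3 (Nat.add (Nat.succ 172593) k)) 397 = true := by decide +kernel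
theorem s3c328 : allBelow (fun k => fs3 (Nat.add (Nat.succ 172990) k)) 404 = true := by decide +kernel
theorem s3c329 : allBelow (fun k => fs3 (Nat.add (Nat.succ 173394) k)) 376 = true := by decide +kernel
theorem s3c330 : allBelow (fun k => fs3 (Nat.add (Nat.succ 173770) k)) 392 = true := by decide +kernel
theorem s3c331 : allBelow (fun k => fs3 (Nat.add (Nat.succ 174162) k)) 380 = true := by decide +kernel
theorem s3c332 : allBelow (fun k => fs3 (Nat.add (Nat.succ 174542) k)) 376 = true := by decide +kernel
theorem s3c333 : allBelow (fun k => fs3 (Nat.add (Nat.succ 174918) k)) 384 = true := by decide +kernel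
theorem s3c334 : allBelow (fun k => fs3 (Nat.add (Nat.succ 175302) k)) 390 = true := by decide +kernel
theorem s3c335 : allBelow (fun k => fs3 (Nat.add (Nat.succ 175692) k)) 376 = true := by decide +kernel
theorem s3c336 : allBelow (fun k => fs3 (Nat.add (Nat.succ 176068) k)) 370 = true := by decide +kernel
theorem s3c337 : allBelow (fun k => fs3 (Nat.add (Nat.succ 176438) k)) 387 = true := by decide +kernel
theorem s3c338 : allBelow (fun k => fs3 (Nat.add (Nat.succ 176825) k)) 369 = true := by decide +kernel
theorem s3c339 : allBelow (fun k => fs3 (Nat.add (Nat.succ 177194) k)) 393 = true := by decide +kernel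
theorem s3c340 : allBelow (fun k => fs3 (Nat.add (Nat.succ 177587) k)) 388 = true := by decide +kernel
theorem s3c341 : allBelow (fun k => fs3 (Nat.add (Nat.succ 177975) k)) 395 = true := by decide +kernel
theorem s3c342 : allBelow (fun k => fs3 (Nat.add (Nat.succ 178370) k)) 389 = true := by decide +kernel
theorem s3c343 : allBelow (fun k => fs3 (Nat.add (Nat.succ 178759) k)) 356 = true := by decide +kernel
theorem s3c344 : allBelow (fun k => fs3 (Nat.add (Nat.succ 179115) k)) 371 = true := by decide +kernel
theorem s3c345 : allBelow (fun k => fs3 (Nat.add (Nat.succ 179486) k)) 373 = true := by decide +kernel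
theorem s3c346 : allBelow (fun k => fs3 (Nat.add (Nat.succ 179859) k)) 390 = true := by decide +kernel
theorem s3c347 : allBelow (fun k => fs3 (Nat.add (Nat.succ 180249) k)) 383 = true := by decide +kernel
theorem s3c348 : allBelow (fun k => fs3 (Nat.add (Nat.succ 180632) k)) 357 = true := by decide +kernel
theorem s3c349 : allBelow (fun k => fs3 (Nat.add (Nat.succ 180989) k)) 381 = true := by decide +kernel
theorem s3c350 : allBelow (fun k => fs3 (Nat.add (Nat.succ 181370) k)) 375 = true := by decide +kernel
theorem s3c351 : allBelow (fun k => fs3 (Nat.add (Nat.succ 181745) k)) 375 = true := by decide +kernel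
theorem s3c352 : allBelow (fun k => fs3 (Nat.add (Nat.succ 182120) k)) 382 = true := by decide +kernel
theorem s3c353 : allBelow (fun k => fs3 (Nat.add (Nat.succ 182502) k)) 365 = true := by decide +kernel
theorem s3c354 : allBelow (fun k => fs3 (Nat.add (Nat.succ 182867) k)) 345 = true := by decide +kernel
theorem s3c355 : allBelow (fun k => fs3 (Nat.add (Nat.succ 183212) k)) 383 = true := by decide +kernel
theorem s3c356 : allBelow (fun k => fs3 (Nat.add (Nat.succ 183595) k)) 369 = true := by decide +kernel
theorem s3c357 : allBelow (fun k => fs3 (Nat.add (Nat.succ 183964) k)) 365 = true := by decide +kernel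
theorem s3c358 : allBelow (fun k => fs3 (Nat.add (Nat.succ 184329) k)) 369 = true := by decide +kernel
theorem s3c359 : allBelow (fun k => fs3 (Nat.add (Nat.succ 184698) k)) 370 = true := by decide +kernel
theorem s3c360 : allBelow (fun k => fs3 (Nat.add (Nat.succ 185068) k)) 370 = true := by decide +kernel
theorem s3c361 : allBelow (fun k => fs3 (Nat.add (Nat.succ 185438) k)) 384 = true := by decide +kernel
theorem s3c362 : allBelow (fun k => fs3 (Nat.add (Nat.succ 185822) k)) 365 = true := by decide +kernel
theorem s3c363 : allBelow (fun k => fs3 (Nat.add (Nat.succ 186187) k)) 396 = true := by decide +kernel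
theorem s3c364 : allBelow (fun k => fs3 (Nat.add (Nat.succ 186583) k)) 391 = true := by decide +kernel
theorem s3c365 : allBelow (fun k => fs3 (Nat.add (Nat.succ 186974) k)) 360 = true := by decide +kernel
theorem s3c366 : allBelow (fun k => fs3 (Nat.add (Nat.succ 187334) k)) 367 = true := by decide +kernel
theorem s3c367 : allBelow (fun k => fs3 (Nat.add (Nat.succ 187701) k)) 351 = true := by decide +kernel
theorem s3c368 : allBelow (fun k => fs3 (Nat.add (Nat.succ 188052) k)) 360 = true := by decide +kernel
theorem s3c369 : allBelow (fun k => fs3 (Nat.add (Nat.succ 188412) k)) 373 = true := by decide +kernel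
theorem s3c370 : allBelow (fun k => fs3 (Nat.add (Nat.succ 188785) k)) 365 = true := by decide +kernel
theorem s3c371 : allBelow (fun k => fs3 (Nat.add (Nat.succ 189150) k)) 367 = true := by decide +kernel
theorem s3c372 : allBelow (fun k => fs3 (Nat.add (Nat.succ 189517) k)) 377 = true := by decide +kernel
theorem s3c373 : allBelow (fun k => fs3 (Nat.add (Nat.succ 189894) k)) 364 = true := by decide +kernel
theorem s3c374 : allBelow (fun k => fs3 (Nat.add (Nat.succ 190258) k)) 368 = true := by decide +kernel
theorem s3c375 : allBelow (fun k => fs3 (Nat.add (Nat.succ 190626) k)) 359 = true := by decide +kernel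
theorem s3c376 : allBelow (fun k => fs3 (Nat.add (Nat.succ 190985) k)) 360 = true := by decide +kernel
theorem s3c377 : allBelow (fun k => fs3 (Nat.add (Nat.succ 191345) k)) 352 = true := by decide +kernel
theorem s3c378 : allBelow (fun k => fs3 (Nat.add (Nat.succ 191697) k)) 367 = true := by decide +kernel
theorem s3c379 : allBelow (fun k => fs3 (Nat.add (Nat.succ 192064) k)) 378 = true := by decide +kernel
theorem s3c380 : allBelow (fun k => fs3 (Nat.add (Nat.succ 192442) k)) 359 = true := by decide +kernel
theorem s3c381 : allBelow (fun k => fs3 (Nat.add (Nat.succ 192801) k)) 361 = true := by decide +kernel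
theorem s3c382 : allBelow (fun k => fs3 (Nat.add (Nat.succ 193162) k)) 362 = true := by decide +kernel
theorem s3c383 : allBelow (fun k => fs3 (Nat.add (Nat.succ 193524) k)) 347 = true := by decide +kernel
theorem s3c384 : allBelow (fun k => fs3 (Nat.add (Nat.succ 193871) k)) 346 = true := by decide +kernel
theorem s3c385 : allBelow (fun k => fs3 (Nat.add (Nat.succ 194217) k)) 361 = true := by decide +kernel
theorem s3c386 : allBelow (fun k => fs3 (Nat.add (Nat.succ 194578) k)) 351 = true := by decide +kernel
theorem s3c387 : allBelow (fun k => fs3 (Nat.add (Nat.succ 194929) k)) 340 = true := by decide +kernel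
theorem s3c388 : allBelow (fun k => fs3 (Nat.add (Nat.succ 195269) k)) 363 = true := by decide +kernel
theorem s3c389 : allBelow (fun k => fs3 (Nat.add (Nat.succ 195632) k)) 365 = true := by decide +kernel
theorem s3c390 : allBelow (fun k => fs3 (Nat.add (Nat.succ 195997) k)) 348 = true := by decide +kernel
theorem s3c391 : allBelow (fun k => fs3 (Nat.add (Nat.succ 196345) k)) 325 = true := by decide +kernel
theorem s3c392 : allBelow (fun k => fs3 (Nat.add (Nat.succ 196670) k)) 338 = true := by decide +kernel
theorem s3c393 : allBelow (fun k => fs3 (Nat.add (Nat.succ 197008) k)) 343 = true := by decide +kernel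
theorem s3c394 : allBelow (fun k => fs3 (Nat.add (Nat.succ 197351) k)) 319 = true := by decide +kernel
theorem s3c395 : allBelow (fun k => fs3 (Nat.add (Nat.succ 197670) k)) 336 = true := by decide +kernel
theorem s3c396 : allBelow (fun k => fs3 (Nat.add (Nat.succ 198006) k)) 329 = true := by decide +kernel
theorem s3c397 : allBelow (fun k => fs3 (Nat.add (Nat.succ 198335) k)) 337 = true := by decide +kernel
theorem s3c398 : allBelow (fun k => fs3 (Nat.add (Nat.succ 198672) k)) 321 = true := by decide +kernel
theorem s3c399 : allBelow (fun k => fs3 (Nat.add (Nat.succ 198993) k)) 324 = true := by decide +kernel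
theorem s3c400 : allBelow (fun k => fs3 (Nat.add (Nat.succ 199317) k)) 325 = true := by decide +kernel
theorem s3c401 : allBelow (fun k => fs3 (Nat.add (Nat.succ 199642) k)) 322 = true := by decide +kernel
theorem s3c402 : allBelow (fun k => fs3 (Nat.add (Nat.succ 199964) k)) 324 = true := by decide +kernel
theorem s3c403 : allBelow (fun k => fs3 (Nat.add (Nat.succ 200288) k)) 321 = true := by decide +kernel
theorem s3c404 : allBelow (fun k => fs3 (Nat.add (Nat.succ 200609) k)) 321 = true := by decide +kernel
theorem s3c405 : allBelow (fun k => fs3 (Nat.add (Nat.succ 200930) k)) 330 = true := by decide +kernel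
theorem s3c406 : allBelow (fun k => fs3 (Nat.add (Nat.succ 201260) k)) 316 = true := by decide +kernel
theorem s3c407 : allBelow (fun k => fs3 (Nat.add (Nat.succ 201576) k)) 6 = true := by decide +kernel
theorem s4c0 : allBelow (fun k => fs4 (Nat.add (Nat.succ 0) k)) 523 = true := by decide +kernel
theorem s4c1 : allBelow (fun k => fs4 (Nat.add (Nat.succ 523) k)) 460 = true := by decide +kernel
theorem s4c2 : allBelow (fun k => fs4 (Nat.add (Nat.succ 983) k)) 482 = true := by decide +kernel
theorem s4c3 : allBelow (fun k => fs4 (Nat.add (Nat.succ 1465) k)) 506 = true := by decide +kernel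
theorem s4c4 : allBelow (fun k => fs4 (Nat.add (Nat.succ 1971) k)) 507 = true := by decide +kernel
theorem s4c5 : allBelow (fun k => fs4 (Nat.add (Nat.succ 2478) k)) 520 = true := by decide +kernel
theorem s4c6 : allBelow (fun k => fs4 (Nat.add (Nat.succ 2998) k)) 501 = true := by decide +kernel
theorem s4c7 : allBelow (fun k => fs4 (Nat.add (Nat.succ 3499) k)) 511 = true := by decide +kernel
theorem s4c8 : allBelow (fun k => fs4 (Nat.add (Nat.succ 4010) k)) 534 = true := by decide +kernel
theorem s4c9 : allBelow (fun k => fs4 (Nat.add (Nat.succ 4544) k)) 511 = true := by decide +kernel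
theorem s4c10 : allBelow (fun k => fs4 (Nat.add (Nat.succ 5055) k)) 483 = true := by decide +kernel
theorem s4c11 : allBelow (fun k => fs4 (Nat.add (Nat.succ 5538) k)) 462 = true := by decide +kernel
theorem s4c12 : allBelow (fun k => fs4 (Nat.add (Nat.succ 6000) k)) 497 = true := by decide +kernel
theorem s4c13 : allBelow (fun k => fs4 (Nat.add (Nat.succ 6497) k)) 485 = true := by decide +kernel
theorem s4c14 : allBelow (fun k => fs4 (Nat.add (Nat.succ 6982) k)) 523 = true := by decide +kernel
theorem s4c15 : allBelow (fun k => fs4 (Nat.add (Nat.succ 7505) k)) 487 = true := by decide +kernel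
theorem s4c16 : allBelow (fun k => fs4 (Nat.add (Nat.succ 7992) k)) 495 = true := by decide +kernel
theorem s4c17 : allBelow (fun k => fs4 (Nat.add (Nat.succ 8487) k)) 488 = true := by decide +kernel
theorem s4c18 : allBelow (fun k => fs4 (Nat.add (Nat.succ 8975) k)) 488 = true := by decide +kernel
theorem s4c19 : allBelow (fun k => fs4 (Nat.add (Nat.succ 9463) k)) 501 = true := by decide +kernel
theorem s4c20 : allBelow (fun k => fs4 (Nat.add (Nat.succ 9964) k)) 493 = true := by decide +kernel
theorem s4c21 : allBelow (fun k => fs4 (Nat.add (Nat.succ 10457) k)) 506 = true := by decide +kernel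
theorem s4c22 : allBelow (fun k => fs4 (Nat.add (Nat.succ 10963) k)) 466 = true := by decide +kernel
theorem s4c23 : allBelow (fun k => fs4 (Nat.add (Nat.succ 11429) k)) 497 = true := by decide +kernel
theorem s4c24 : allBelow (fun k => fs4 (Nat.add (Nat.succ 11926) k)) 458 = true := by decide +kernel
theorem s4c25 : allBelow (fun k => fs4 (Nat.add (Nat.succ 12384) k)) 494 = true := by decide +kernel
theorem s4c26 : allBelow (fun k => fs4 (Nat.add (Nat.succ 12878) k)) 484 = true := by decide +kernel
theorem s4c27 : allBelow (fun k => fs4 (Nat.add (Nat.succ 13362) k)) 488 = true := by decide +kernel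
theorem s4c28 : allBelow (fun k => fs4 (Nat.add (Nat.succ 13850) k)) 483 = true := by decide +kernel
theorem s4c29 : allBelow (fun k => fs4 (Nat.add (Nat.succ 14333) k)) 471 = true := by decide +kernel
theorem s4c30 : allBelow (fun k => fs4 (Nat.add (Nat.succ 14804) k)) 526 = true := by decide +kernel
theorem s4c31 : allBelow (fun k => fs4 (Nat.add (Nat.succ 15330) k)) 527 = true := by decide +kernel
theorem s4c32 : allBelow (fun k => fs4 (Nat.add (Nat.succ 15857) k)) 506 = true := by decide +kernel
theorem s4c33 : allBelow (fun k => fs4 (Nat.add (Nat.succ 16363) k)) 480 = true := by decide +kernel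
theorem s4c34 : allBelow (fun k => fs4 (Nat.add (Nat.succ 16843) k)) 486 = true := by decide +kernel
theorem s4c35 : allBelow (fun k => fs4 (Nat.add (Nat.succ 17329) k)) 478 = true := by decide +kernel
theorem s4c36 : allBelow (fun k => fs4 (Nat.add (Nat.succ 17807) k)) 501 = true := by decide +kernel
theorem s4c37 : allBelow (fun k => fs4 (Nat.add (Nat.succ 18308) k)) 518 = true := by decide +kernel
theorem s4c38 : allBelow (fun k => fs4 (Nat.add (Nat.succ 18826) k)) 483 = true := by decide +kernel
theorem s4c39 : allBelow (fun k => fs4 (Nat.add (Nat.succ 19309) k)) 497 = true := by decide +kernel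
theorem s4c40 : allBelow (fun k => fs4 (Nat.add (Nat.succ 19806) k)) 496 = true := by decide +kernel
theorem s4c41 : allBelow (fun k => fs4 (Nat.add (Nat.succ 20302) k)) 501 = true := by decide +kernel
theorem s4c42 : allBelow (fun k => fs4 (Nat.add (Nat.succ 20803) k)) 458 = true := by decide +kernel
theorem s4c43 : allBelow (fun k => fs4 (Nat.add (Nat.succ 21261) k)) 473 = true := by decide +kernel
theorem s4c44 : allBelow (fun k => fs4 (Nat.add (Nat.succ 21734) k)) 483 = true := by decide +kernel
theorem s4c45 : allBelow (fun k => fs4 (Nat.add (Nat.succ 22217) k)) 503 = true := by decide +kernel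
theorem s4c46 : allBelow (fun k => fs4 (Nat.add (Nat.succ 22720) k)) 512 = true := by decide +kernel
theorem s4c47 : allBelow (fun k => fs4 (Nat.add (Nat.succ 23232) k)) 444 = true := by decide +kernel
theorem s4c48 : allBelow (fun k => fs4 (Nat.add (Nat.succ 23676) k)) 472 = true := by decide +kernel
theorem s4c49 : allBelow (fun k => fs4 (Nat.add (Nat.succ 24148) k)) 442 = true := by decide +kernel
theorem s4c50 : allBelow (fun k => fs4 (Nat.add (Nat.succ 24590) k)) 438 = true := by decide +kernel
theorem s4c51 : allBelow (fun k => fs4 (Nat.add (Nat.succ 25028) k)) 462 = true := by decide +kernel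
theorem s4c52 : allBelow (fun k => fs4 (Nat.add (Nat.succ 25490) k)) 476 = true := by decide +kernel
theorem s4c53 : allBelow (fun k => fs4 (Nat.add (Nat.succ 25966) k)) 482 = true := by decide +kernel
theorem s4c54 : allBelow (fun k => fs4 (Nat.add (Nat.succ 26448) k)) 490 = true := by decide +kernel
theorem s4c55 : allBelow (fun k => fs4 (Nat.add (Nat.succ 26938) k)) 507 = true := by decide +kernel
theorem s4c56 : allBelow (fun k => fs4 (Nat.add (Nat.succ 27445) k)) 441 = true := by decide +kernel
theorem s4c57 : allBelow (fun k => fs4 (Nat.add (Nat.succ 27886) k)) 461 = true := by decide +kernel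
theorem s4c58 : allBelow (fun k => fs4 (Nat.add (Nat.succ 28347) k)) 461 = true := by decide +kernel
theorem s4c59 : allBelow (fun k => fs4 (Nat.add (Nat.succ 28808) k)) 468 = true := by decide +kernel
theorem s4c60 : allBelow (fun k => fs4 (Nat.add (Nat.succ 29276) k)) 446 = true := by decide +kernel
theorem s4c61 : allBelow (fun k => fs4 (Nat.add (Nat.succ 29722) k)) 483 = true := by decide +kernel
theorem s4c62 : allBelow (fun k => fs4 (Nat.add (Nat.succ 30205) k)) 535 = true := by decide +kernel
theorem s4c63 : allBelow (fun k => fs4 (Nat.add (Nat.succ 30740) k)) 503 = true := by decide +kernel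
theorem s4c64 : allBelow (fun k => fs4 (Nat.add (Nat.succ 31243) k)) 514 = true := by decide +kernel
theorem s4c65 : allBelow (fun k => fs4 (Nat.add (Nat.succ 31757) k)) 496 = true := by decide +kernel
theorem s4c66 : allBelow (fun k => fs4 (Nat.add (Nat.succ 32253) k)) 494 = true := by decide +kernel
theorem s4c67 : allBelow (fun k => fs4 (Nat.add (Nat.succ 32747) k)) 511 = true := by decide +kernel
theorem s4c68 : allBelow (fun k => fs4 (Nat.add (Nat.succ 33258) k)) 478 = true := by decide +kernel
theorem s4c69 : allBelow (fun k => fs4 (Nat.add (Nat.succ 33736) k)) 498 = true := by decide +kernel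
theorem s4c70 : allBelow (fun k => fs4 (Nat.add (Nat.succ 34234) k)) 493 = true := by decide +kernel
theorem s4c71 : allBelow (fun k => fs4 (Nat.add (Nat.succ 34727) k)) 499 = true := by decide +kernel
theorem s4c72 : allBelow (fun k => fs4 (Nat.add (Nat.succ 35226) k)) 478 = true := by decide +kernel
theorem s4c73 : allBelow (fun k => fs4 (Nat.add (Nat.succ 35704) k)) 501 = true := by decide +kernel
theorem s4c74 : allBelow (fun k => fs4 (Nat.add (Nat.succ 36205) k)) 509 = true := by decide +kernel
theorem s4c75 : allBelow (fun k => fs4 (Nat.add (Nat.succ 36714) k)) 493 = true := by decide +kernel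
theorem s4c76 : allBelow (fun k => fs4 (Nat.add (Nat.succ 37207) k)) 527 = true := by decide +kernel
theorem s4c77 : allBelow (fun k => fs4 (Nat.add (Nat.succ 37734) k)) 516 = true := by decide +kernel
theorem s4c78 : allBelow (fun k => fs4 (Nat.add (Nat.succ 38250) k)) 517 = true := by decide +kernel
theorem s4c79 : allBelow (fun k => fs4 (Nat.add (Nat.succ 38767) k)) 511 = true := by decide +kernel
theorem s4c80 : allBelow (fun k => fs4 (Nat.add (Nat.succ 39278) k)) 470 = true := by decide +kernel
theorem s4c81 : allBelow (fun k => fs4 (Nat.add (Nat.succ 39748) k)) 543 = true := by decide +kernel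
theorem s4c82 : allBelow (fun k => fs4 (Nat.add (Nat.succ 40291) k)) 457 = true := by decide +kernel
theorem s4c83 : allBelow (fun k => fs4 (Nat.add (Nat.succ 40748) k)) 481 = true := by decide +kernel
theorem s4c84 : allBelow (fun k => fs4 (Nat.add (Nat.succ 41229) k)) 452 = true := by decide +kernel
theorem s4c85 : allBelow (fun k => fs4 (Nat.add (Nat.succ 41681) k)) 474 = true := by decide +kernel
theorem s4c86 : allBelow (fun k => fs4 (Nat.add (Nat.succ 42155) k)) 484 = true := by decide +kernel
theorem s4c87 : allBelow (fun k => fs4 (Nat.add (Nat.succ 42639) k)) 462 = true := by decide +kernel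
theorem s4c88 : allBelow (fun k => fs4 (Nat.add (Nat.succ 43101) k)) 465 = true := by decide +kernel
theorem s4c89 : allBelow (fun k => fs4 (Nat.add (Nat.succ 43566) k)) 458 = true := by decide +kernel
theorem s4c90 : allBelow (fun k => fs4 (Nat.add (Nat.succ 44024) k)) 483 = true := by decide +kernel
theorem s4c91 : allBelow (fun k => fs4 (Nat.add (Nat.succ 44507) k)) 479 = true := by decide +kernel
theorem s4c92 : allBelow (fun k => fs4 (Nat.add (Nat.succ 44986) k)) 468 = true := by decide +kernel
theorem s4c93 : allBelow (fun k => fs4 (Nat.add (Nat.succ 45454) k)) 518 = true := by decide +kernel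
theorem s4c94 : allBelow (fun k => fs4 (Nat.add (Nat.succ 45972) k)) 464 = true := by decide +kernel
theorem s4c95 : allBelow (fun k => fs4 (Nat.add (Nat.succ 46436) k)) 470 = true := by decide +kernel
theorem s4c96 : allBelow (fun k => fs4 (Nat.add (Nat.succ 46906) k)) 443 = true := by decide +kernel
theorem s4c97 : allBelow (fun k => fs4 (Nat.add (Nat.succ 47349) k)) 435 = true := by decide +kernel
theorem s4c98 : allBelow (fun k => fs4 (Nat.add (Nat.succ 47784) k)) 442 = true := by decide +kernel
theorem s4c99 : allBelow (fun k => fs4 (Nat.add (Nat.succ 48226) k)) 503 = true := by decide +kernel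
theorem s4c100 : allBelow (fun k => fs4 (Nat.add (Nat.succ 48729) k)) 473 = true := by decide +kernel
theorem s4c101 : allBelow (fun k => fs4 (Nat.add (Nat.succ 49202) k)) 432 = true := by decide +kernel
theorem s4c102 : allBelow (fun k => fs4 (Nat.add (Nat.succ 49634) k)) 498 = true := by decide +kernel
theorem s4c103 : allBelow (fun k => fs4 (Nat.add (Nat.succ 50132) k)) 456 = true := by decide +kernel
theorem s4c104 : allBelow (fun k => fs4 (Nat.add (Nat.succ 50588) k)) 469 = true := by decide +kernel
theorem s4c105 : allBelow (fun k => fs4 (Nat.add (Nat.succ 51057) k)) 465 = true := by decide +kernel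
theorem s4c106 : allBelow (fun k => fs4 (Nat.add (Nat.succ 51522) k)) 501 = true := by decide +kernel
theorem s4c107 : allBelow (fun k => fs4 (Nat.add (Nat.succ 52023) k)) 491 = true := by decide +kernel
theorem s4c108 : allBelow (fun k => fs4 (Nat.add (Nat.succ 52514) k)) 504 = true := by decide +kernel
theorem s4c109 : allBelow (fun k => fs4 (Nat.add (Nat.succ 53018) k)) 495 = true := by decide +kernel
theorem s4c110 : allBelow (fun k => fs4 (Nat.add (Nat.succ 53513) k)) 518 = true := by decide +kernel
theorem s4c111 : allBelow (fun k => fs4 (Nat.add (Nat.succ 54031) k)) 531 = true := by decide +kernel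
theorem s4c112 : allBelow (fun k => fs4 (Nat.add (Nat.succ 54562) k)) 515 = true := by decide +kernel
theorem s4c113 : allBelow (fun k => fs4 (Nat.add (Nat.succ 55077) k)) 527 = true := by decide +kernel
theorem s4c114 : allBelow (fun k => fs4 (Nat.add (Nat.succ 55604) k)) 518 = true := by decide +kernel
theorem s4c115 : allBelow (fun k => fs4 (Nat.add (Nat.succ 56122) k)) 513 = true := by decide +kernel
theorem s4c116 : allBelow (fun k => fs4 (Nat.add (Nat.succ 56635) k)) 458 = true := by decide +kernel
theorem s4c117 : allBelow (fun k => fs4 (Nat.add (Nat.succ 57093) k)) 439 = true := by decide +kernel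
theorem s4c118 : allBelow (fun k => fs4 (Nat.add (Nat.succ 57532) k)) 473 = true := by decide +kernel
theorem s4c119 : allBelow (fun k => fs4 (Nat.add (Nat.succ 58005) k)) 463 = true := by decide +kernel
theorem s4c120 : allBelow (fun k => fs4 (Nat.add (Nat.succ 58468) k)) 510 = true := by decide +kernel
theorem s4c121 : allBelow (fun k => fs4 (Nat.add (Nat.succ 58978) k)) 475 = true := by decide +kernel
theorem s4c122 : allBelow (fun k => fs4 (Nat.add (Nat.succ 59453) k)) 447 = true := by decide +kernel
theorem s4c123 : allBelow (fun k => fs4 (Nat.add (Nat.succ 59900) k)) 490 = true := by decide +kernel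
theorem s4c124 : allBelow (fun k => fs4 (Nat.add (Nat.succ 60390) k)) 439 = true := by decide +kernel
theorem s4c125 : allBelow (fun k => fs4 (Nat.add (Nat.succ 60829) k)) 463 = true := by decide +kernel
theorem s4c126 : allBelow (fun k => fs4 (Nat.add (Nat.succ 61292) k)) 470 = true := by decide +kernel
theorem s4c127 : allBelow (fun k => fs4 (Nat.add (Nat.succ 61762) k)) 474 = true := by decide +kernel
theorem s4c128 : allBelow (fun k => fs4 (Nat.add (Nat.succ 62236) k)) 522 = true := by decide +kernel
theorem s4c129 : allBelow (fun k => fs4 (Nat.add (Nat.succ 62758) k)) 511 = true := by decide +kernel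
theorem s4c130 : allBelow (fun k => fs4 (Nat.add (Nat.succ 63269) k)) 512 = true := by decide +kernel
theorem s4c131 : allBelow (fun k => fs4 (Nat.add (Nat.succ 63781) k)) 551 = true := by decide +kernel
theorem s4c132 : allBelow (fun k => fs4 (Nat.add (Nat.succ 64332) k)) 555 = true := by decide +kernel
theorem s4c133 : allBelow (fun k => fs4 (Nat.add (Nat.succ 64887) k)) 495 = true := by decide +kernel
theorem s4c134 : allBelow (fun k => fs4 (Nat.add (Nat.succ 65382) k)) 496 = true := by decide +kernel
theorem s4c135 : allBelow (fun k => fs4 (Nat.add (Nat.succ 65878) k)) 513 = true := by decide +kernel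
theorem s4c136 : allBelow (fun k => fs4 (Nat.add (Nat.succ 66391) k)) 526 = true := by decide +kernel
theorem s4c137 : allBelow (fun k => fs4 (Nat.add (Nat.succ 66917) k)) 484 = true := by decide +kernel
theorem s4c138 : allBelow (fun k => fs4 (Nat.add (Nat.succ 67401) k)) 472 = true := by decide +kernel
theorem s4c139 : allBelow (fun k => fs4 (Nat.add (Nat.succ 67873) k)) 500 = true := by decide +kernel
theorem s4c140 : allBelow (fun k => fs4 (Nat.add (Nat.succ 68373) k)) 505 = true := by decide +kernel
theorem s4c141 : allBelow (fun k => fs4 (Nat.add (Nat.succ 68878) k)) 551 = true := by decide +kernel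
theorem s4c142 : allBelow (fun k => fs4 (Nat.add (Nat.succ 69429) k)) 506 = true := by decide +kernel
theorem s4c143 : allBelow (fun k => fs4 (Nat.add (Nat.succ 69935) k)) 558 = true := by decide +kernel
theorem s4c144 : allBelow (fun k => fs4 (Nat.add (Nat.succ 70493) k)) 539 = true := by decide +kernel
theorem s4c145 : allBelow (fun k => fs4 (Nat.add (Nat.succ 71032) k)) 484 = true := by decide +kernel
theorem s4c146 : allBelow (fun k => fs4 (Nat.add (Nat.succ 71516) k)) 505 = true := by decide +kernel
theorem s4c147 : allBelow (fun k => fs4 (Nat.add (Nat.succ 72021) k)) 486 = true := by decide +kernel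
theorem s4c148 : allBelow (fun k => fs4 (Nat.add (Nat.succ 72507) k)) 531 = true := by decide +kernel
theorem s4c149 : allBelow (fun k => fs4 (Nat.add (Nat.succ 73038) k)) 511 = true := by decide +kernel
theorem s4c150 : allBelow (fun k => fs4 (Nat.add (Nat.succ 73549) k)) 481 = true := by decide +kernel
theorem s4c151 : allBelow (fun k => fs4 (Nat.add (Nat.succ 74030) k)) 516 = true := by decide +kernel
theorem s4c152 : allBelow (fun k => fs4 (Nat.add (Nat.succ 74546) k)) 541 = true := by decide +kernel
theorem s4c153 : allBelow (fun k => fs4 (Nat.add (Nat.succ 75087) k)) 507 = true := by decide +kernel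
theorem s4c154 : allBelow (fun k => fs4 (Nat.add (Nat.succ 75594) k)) 463 = true := by decide +kernel
theorem s4c155 : allBelow (fun k => fs4 (Nat.add (Nat.succ 76057) k)) 536 = true := by decide +kernel
theorem s4c156 : allBelow (fun k => fs4 (Nat.add (Nat.succ 76593) k)) 513 = true := by decide +kernel
theorem s4c157 : allBelow (fun k => fs4 (Nat.add (Nat.succ 77106) k)) 479 = true := by decide +kernel
theorem s4c158 : allBelow (fun k => fs4 (Nat.add (Nat.succ 77585) k)) 514 = true := by decide +kernel
theorem s4c159 : allBelow (fun k => fs4 (Nat.add (Nat.succ 78099) k)) 486 = true := by decide +kernel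
theorem s4c160 : allBelow (fun k => fs4 (Nat.add (Nat.succ 78585) k)) 526 = true := by decide +kernel
theorem s4c161 : allBelow (fun k => fs4 (Nat.add (Nat.succ 79111) k)) 508 = true := by decide +kernel
theorem s4c162 : allBelow (fun k => fs4 (Nat.add (Nat.succ 79619) k)) 517 = true := by decide +kernel
theorem s4c163 : allBelow (fun k => fs4 (Nat.add (Nat.succ 80136) k)) 517 = true := by decide +kernel
theorem s4c164 : allBelow (fun k => fs4 (Nat.add (Nat.succ 80653) k)) 518 = true := by decide +kernel
theorem s4c165 : allBelow (fun k => fs4 (Nat.add (Nat.succ 81171) k)) 561 = true := by decide +kernel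
theorem s4c166 : allBelow (fun k => fs4 (Nat.add (Nat.succ 81732) k)) 527 = true := by decide +kernel
theorem s4c167 : allBelow (fun k => fs4 (Nat.add (Nat.succ 82259) k)) 470 = true := by decide +kernel
theorem s4c168 : allBelow (fun k => fs4 (Nat.add (Nat.succ 82729) k)) 499 = true := by decide +kernel
theorem s4c169 : allBelow (fun k => fs4 (Nat.add (Nat.succ 83228) k)) 525 = true := by decide +kernel
theorem s4c170 : allBelow (fun k => fs4 (Nat.add (Nat.succ 83753) k)) 521 = true := by decide +kernel
theorem s4c171 : allBelow (fun k => fs4 (Nat.add (Nat.succ 84274) k)) 464 = true := by decide +kernel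
theorem s4c172 : allBelow (fun k => fs4 (Nat.add (Nat.succ 84738) k)) 492 = true := by decide +kernel
theorem s4c173 : allBelow (fun k => fs4 (Nat.add (Nat.succ 85230) k)) 422 = true := by decide +kernel
theorem s4c174 : allBelow (fun k => fs4 (Nat.add (Nat.succ 85652) k)) 450 = true := by decide +kernel
theorem s4c175 : allBelow (fun k => fs4 (Nat.add (Nat.succ 86102) k)) 460 = true := by decide +kernel
theorem s4c176 : allBelow (fun k => fs4 (Nat.add (Nat.succ 86562) k)) 493 = true := by decide +kernel
theorem s4c177 : allBelow (fun k => fs4 (Nat.add (Nat.succ 87055) k)) 440 = true := by decide +kernel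
theorem s4c178 : allBelow (fun k => fs4 (Nat.add (Nat.succ 87495) k)) 479 = true := by decide +kernel
theorem s4c179 : allBelow (fun k => fs4 (Nat.add (Nat.succ 87974) k)) 477 = true := by decide +kernel
theorem s4c180 : allBelow (fun k => fs4 (Nat.add (Nat.succ 88451) k)) 449 = true := by decide +kernel
theorem s4c181 : allBelow (fun k => fs4 (Nat.add (Nat.succ 88900) k)) 459 = true := by decide +kernel
theorem s4c182 : allBelow (fun k => fs4 (Nat.add (Nat.succ 89359) k)) 477 = true := by decide +kernel
theorem s4c183 : allBelow (fun k => fs4 (Nat.add (Nat.succ 89836) k)) 483 = true := by decide +kernel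
theorem s4c184 : allBelow (fun k => fs4 (Nat.add (Nat.succ 90319) k)) 474 = true := by decide +kernel
theorem s4c185 : allBelow (fun k => fs4 (Nat.add (Nat.succ 90793) k)) 476 = true := by decide +kernel
theorem s4c186 : allBelow (fun k => fs4 (Nat.add (Nat.succ 91269) k)) 506 = true := by decide +kernel
theorem s4c187 : allBelow (fun k => fs4 (Nat.add (Nat.succ 91775) k)) 486 = true := by decide +kernel
theorem s4c188 : allBelow (fun k => fs4 (Nat.add (Nat.succ 92261) k)) 476 = true := by decide +kernel
theorem s4c189 : allBelow (fun k => fs4 (Nat.add (Nat.succ 92737) k)) 511 = true := by decide +kernel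
theorem s4c190 : allBelow (fun k => fs4 (Nat.add (Nat.succ 93248) k)) 477 = true := by decide +kernel
theorem s4c191 : allBelow (fun k => fs4 (Nat.add (Nat.succ 93725) k)) 499 = true := by decide +kernel
theorem s4c192 : allBelow (fun k => fs4 (Nat.add (Nat.succ 94224) k)) 497 = true := by decide +kernel
theorem s4c193 : allBelow (fun k => fs4 (Nat.add (Nat.succ 94721) k)) 482 = true := by decide +kernel
theorem s4c194 : allBelow (fun k => fs4 (Nat.add (Nat.succ 95203) k)) 453 = true := by decide +kernel
theorem s4c195 : allBelow (fun k => fs4 (Nat.add (Nat.succ 95656) k)) 479 = true := by decide +kernel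
theorem s4c196 : allBelow (fun k => fs4 (Nat.add (Nat.succ 96135) k)) 465 = true := by decide +kernel
theorem s4c197 : allBelow (fun k => fs4 (Nat.add (Nat.succ 96600) k)) 418 = true := by decide +kernel
theorem s4c198 : allBelow (fun k => fs4 (Nat.add (Nat.succ 97018) k)) 506 = true := by decide +kernel
theorem s4c199 : allBelow (fun k => fs4 (Nat.add (Nat.succ 97524) k)) 423 = true := by decide +kernel
theorem s4c200 : allBelow (fun k => fs4 (Nat.add (Nat.succ 97947) k)) 430 = true := by decide +kernel
theorem s4c201 : allBelow (fun k => fs4 (Nat.add (Nat.succ 98377) k)) 431 = true := by decide +kernel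
theorem s4c202 : allBelow (fun k => fs4 (Nat.add (Nat.succ 98808) k)) 415 = true := by decide +kernel
theorem s4c203 : allBelow (fun k => fs4 (Nat.add (Nat.succ 99223) k)) 450 = true := by decide +kernel
theorem s4c204 : allBelow (fun k => fs4 (Nat.add (Nat.succ 99673) k)) 462 = true := by decide +kernel
theorem s4c205 : allBelow (fun k => fs4 (Nat.add (Nat.succ 100135) k)) 496 = true := by decide +kernel
theorem s4c206 : allBelow (fun k => fs4 (Nat.add (Nat.succ 100631) k)) 492 = true := by decide +kernel
theorem s4c207 : allBelow (fun k => fs4 (Nat.add (Nat.succ 101123) k)) 442 = true := by decide +kernel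
theorem s4c208 : allBelow (fun k => fs4 (Nat.add (Nat.succ 101565) k)) 421 = true := by decide +kernel
theorem s4c209 : allBelow (fun k => fs4 (Nat.add (Nat.succ 101986) k)) 406 = true := by decide +kernel
theorem s4c210 : allBelow (fun k => fs4 (Nat.add (Nat.succ 102392) k)) 436 = true := by decide +kernel
theorem s4c211 : allBelow (fun k => fs4 (Nat.add (Nat.succ 102828) k)) 452 = true := by decide +kernel
theorem s4c212 : allBelow (fun k => fs4 (Nat.add (Nat.succ 103280) k)) 426 = true := by decide +kernel
theorem s4c213 : allBelow (fun k => fs4 (Nat.add (Nat.succ 103706) k)) 448 = true := by decide +kernel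
theorem s4c214 : allBelow (fun k => fs4 (Nat.add (Nat.succ 104154) k)) 462 = true := by decide +kernel
theorem s4c215 : allBelow (fun k => fs4 (Nat.add (Nat.succ 104616) k)) 434 = true := by decide +kernel
theorem s4c216 : allBelow (fun k => fs4 (Nat.add (Nat.succ 105050) k)) 469 = true := by decide +kernel
theorem s4c217 : allBelow (fun k => fs4 (Nat.add (Nat.succ 105519) k)) 422 = true := by decide +kernel
theorem s4c218 : allBelow (fun k => fs4 (Nat.add (Nat.succ 105941) k)) 427 = true := by decide +kernel
theorem s4c219 : allBelow (fun k => fs4 (Nat.add (Nat.succ 106368) k)) 481 = true := by decide +kernel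
theorem s4c220 : allBelow (fun k => fs4 (Nat.add (Nat.succ 106849) k)) 493 = true := by decide +kernel
theorem s4c221 : allBelow (fun k => fs4 (Nat.add (Nat.succ 107342) k)) 460 = true := by decide +kernel
theorem s4c222 : allBelow (fun k => fs4 (Nat.add (Nat.succ 107802) k)) 499 = true := by decide +kernel
theorem s4c223 : allBelow (fun k => fs4 (Nat.add (Nat.succ 108301) k)) 483 = true := by decide +kernel
theorem s4c224 : allBelow (fun k => fs4 (Nat.add (Nat.succ 108784) k)) 478 = true := by decide +kernel
theorem s4c225 : allBelow (fun k => fs4 (Nat.add (Nat.succ 109262) k)) 482 = true := by decide +kernel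
theorem s4c226 : allBelow (fun k => fs4 (Nat.add (Nat.succ 109744) k)) 506 = true := by decide +kernel
theorem s4c227 : allBelow (fun k => fs4 (Nat.add (Nat.succ 110250) k)) 462 = true := by decide +kernel
theorem s4c228 : allBelow (fun k => fs4 (Nat.add (Nat.succ 110712) k)) 480 = true := by decide +kernel
theorem s4c229 : allBelow (fun k => fs4 (Nat.add (Nat.succ 111192) k)) 513 = true := by decide +kernel
theorem s4c230 : allBelow (fun k => fs4 (Nat.add (Nat.succ 111705) k)) 501 = true := by decide +kernel
theorem s4c231 : allBelow (fun k => fs4 (Nat.add (Nat.succ 112206) k)) 471 = true := by decide +kernel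
theorem s4c232 : allBelow (fun k => fs4 (Nat.add (Nat.succ 112677) k)) 488 = true := by decide +kernel
theorem s4c233 : allBelow (fun k => fs4 (Nat.add (Nat.succ 113165) k)) 505 = true := by decide +kernel
theorem s4c234 : allBelow (fun k => fs4 (Nat.add (Nat.succ 113670) k)) 453 = true := by decide +kernel
theorem s4c235 : allBelow (fun k => fs4 (Nat.add (Nat.succ 114123) k)) 484 = true := by decide +kernel
theorem s4c236 : allBelow (fun k => fs4 (Nat.add (Nat.succ 114607) k)) 484 = true := by decide +kernel
theorem s4c237 : allBelow (fun k => fs4 (Nat.add (Nat.succ 115091) k)) 410 = true := by decide +kernel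
theorem s4c238 : allBelow (fun k => fs4 (Nat.add (Nat.succ 115501) k)) 428 = true := by decide +kernel
theorem s4c239 : allBelow (fun k => fs4 (Nat.add (Nat.succ 115929) k)) 448 = true := by decide +kernel
theorem s4c240 : allBelow (fun k => fs4 (Nat.add (Nat.succ 116377) k)) 499 = true := by decide +kernel
theorem s4c241 : allBelow (fun k => fs4 (Nat.add (Nat.succ 116876) k)) 445 = true := by decide +kernel
theorem s4c242 : allBelow (fun k => fs4 (Nat.add (Nat.succ 117321) k)) 437 = true := by decide +kernel
theorem s4c243 : allBelow (fun k => fs4 (Nat.add (Nat.succ 117758) k)) 474 = true := by decide +kernel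
theorem s4c244 : allBelow (fun k => fs4 (Nat.add (Nat.succ 118232) k)) 497 = true := by decide +kernel
theorem s4c245 : allBelow (fun k => fs4 (Nat.add (Nat.succ 118729) k)) 498 = true := by decide +kernel
theorem s4c246 : allBelow (fun k => fs4 (Nat.add (Nat.succ 119227) k)) 498 = true := by decide +kernel
theorem s4c247 : allBelow (fun k => fs4 (Nat.add (Nat.succ 119725) k)) 485 = true := by decide +kernel
theorem s4c248 : allBelow (fun k => fs4 (Nat.add (Nat.succ 120210) k)) 470 = true := by decide +kernel
theorem s4c249 : allBelow (fun k => fs4 (Nat.add (Nat.succ 120680) k)) 431 = true := by decide +kernel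
theorem s4c250 : allBelow (fun k => fs4 (Nat.add (Nat.succ 121111) k)) 460 = true := by decide +kernel
theorem s4c251 : allBelow (fun k => fs4 (Nat.add (Nat.succ 121571) k)) 482 = true := by decide +kernel
theorem s4c252 : allBelow (fun k => fs4 (Nat.add (Nat.succ 122053) k)) 451 = true := by decide +kernel
theorem s4c253 : allBelow (fun k => fs4 (Nat.add (Nat.succ 122504) k)) 462 = true := by decide +kernel
theorem s4c254 : allBelow (fun k => fs4 (Nat.add (Nat.succ 122966) k)) 493 = true := by decide +kernel
theorem s4c255 : allBelow (fun k => fs4 (Nat.add (Nat.succ 123459) k)) 443 = true := by decide +kernel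
theorem s4c256 : allBelow (fun k => fs4 (Nat.add (Nat.succ 123902) k)) 475 = true := by decide +kernel
theorem s4c257 : allBelow (fun k => fs4 (Nat.add (Nat.succ 124377) k)) 438 = true := by decide +kernel
theorem s4c258 : allBelow (fun k => fs4 (Nat.add (Nat.succ 124815) k)) 487 = true := by decide +kernel
theorem s4c259 : allBelow (fun k => fs4 (Nat.add (Nat.succ 125302) k)) 476 = true := by decide +kernel
theorem s4c260 : allBelow (fun k => fs4 (Nat.add (Nat.succ 125778) k)) 474 = true := by decide +kernel
theorem s4c261 : allBelow (fun k => fs4 (Nat.add (Nat.succ 126252) k)) 497 = true := by decide +kernel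
theorem s4c262 : allBelow (fun k => fs4 (Nat.add (Nat.succ 126749) k)) 541 = true := by decide +kernel
theorem s4c263 : allBelow (fun k => fs4 (Nat.add (Nat.succ 127290) k)) 529 = true := by decide +kernel
theorem s4c264 : allBelow (fun k => fs4 (Nat.add (Nat.succ 127819) k)) 485 = true := by decide +kernel
theorem s4c265 : allBelow (fun k => fs4 (Nat.add (Nat.succ 128304) k)) 520 = true := by decide +kernel
theorem s4c266 : allBelow (fun k => fs4 (Nat.add (Nat.succ 128824) k)) 484 = true := by decide +kernel
theorem s4c267 : allBelow (fun k => fs4 (Nat.add (Nat.succ 129308) k)) 507 = true := by decide +kernel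
theorem s4c268 : allBelow (fun k => fs4 (Nat.add (Nat.succ 129815) k)) 529 = true := by decide +kernel
theorem s4c269 : allBelow (fun k => fs4 (Nat.add (Nat.succ 130344) k)) 531 = true := by decide +kernel
theorem s4c270 : allBelow (fun k => fs4 (Nat.add (Nat.succ 130875) k)) 545 = true := by decide +kernel
theorem s4c271 : allBelow (fun k => fs4 (Nat.add (Nat.succ 131420) k)) 495 = true := by decide +kernel
theorem s4c272 : allBelow (fun k => fs4 (Nat.add (Nat.succ 131915) k)) 458 = true := by decide +kernel
theorem s4c273 : allBelow (fun k => fs4 (Nat.add (Nat.succ 132373) k)) 449 = true := by decide +kernel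
theorem s4c274 : allBelow (fun k => fs4 (Nat.add (Nat.succ 132822) k)) 486 = true := by decide +kernel
theorem s4c275 : allBelow (fun k => fs4 (Nat.add (Nat.succ 133308) k)) 452 = true := by decide +kernel
theorem s4c276 : allBelow (fun k => fs4 (Nat.add (Nat.succ 133760) k)) 492 = true := by decide +kernel
theorem s4c277 : allBelow (fun k => fs4 (Nat.add (Nat.succ 134252) k)) 477 = true := by decide +kernel
theorem s4c278 : allBelow (fun k => fs4 (Nat.add (Nat.succ 134729) k)) 521 = true := by decide +kernel

end Cfsg.Agent.Lib.Helper35.ON122760
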