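import Cfsg.Agent.Lib.Helper35.ON122760.Data

set_option Elab.async false

namespace Cfsg.Agent.Lib.Helper35.ON122760

open Cfsg.Agent.Lib.Helper35

theorem s4c279 : allBelow (fun k => fs4 (Nat.add (Nat.succ 135250) k)) 474 = true := by decide +kernel
theorem s4c280 : allBelow (fun k => fs4 (Nat.add (Nat.succ 135724) k)) 476 = true := by decide +kernel
theorem s4c281 : allBelow (fun k => fs4 (Nat.add (Nat.succ 136200) k)) 477 = true := by decide +kernel
theorem s4c282 : allBelow (fun k => fs4 (Nat.add (Nat.succ 136677) k)) 467 = true := by decide +kernel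
theorem s4c283 : allBelow (fun k => fs4 (Nat.add (Nat.succ 137144) k)) 481 = true := by decide +kernel
theorem s4c284 : allBelow (fun k => fs4 (Nat.add (Nat.succ 137625) k)) 464 = true := by decide +kernel
theorem s4c285 : allBelow (fun k => fs4 (Nat.add (Nat.succ 138089) k)) 482 = true := by decide +kernel
theorem s4c286 : allBelow (fun k => fs4 (Nat.add (Nat.succ 138571) k)) 463 = true := by decide +kernel
theorem s4c287 : allBelow (fun k => fs4 (Nat.add (Nat.succ 139034) k)) 505 = true := by decide +kernel
theorem s4c288 : allBelow (fun k => fs4 (Nat.add (Nat.succ 139539) k)) 482 = true := by decide +kernel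
theorem s4c289 : allBelow (fun k => fs4 (Nat.add (Nat.succ 140021) k)) 506 = true := by decide +kernel
theorem s4c290 : allBelow (fun k => fs4 (Nat.add (Nat.succ 140527) k)) 529 = true := by decide +kernel
theorem s4c291 : allBelow (fun k => fs4 (Nat.add (Nat.succ 141056) k)) 421 = true := by decide +kernel
theorem s4c292 : allBelow (fun k => fs4 (Nat.add (Nat.succ 141477) k)) 504 = true := by decide +kernel
theorem s4c293 : allBelow (fun k => fs4 (Nat.add (Nat.succ 141981) k)) 480 = true := by decide +kernel
theorem s4c294 : allBelow (fun k => fs4 (Nat.add (Nat.succ 142461) k)) 480 = true := by decide +kernel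
theorem s4c295 : allBelow (fun k => fs4 (Nat.add (Nat.succ 142941) k)) 521 = true := by decide +kernel
theorem s4c296 : allBelow (fun k => fs4 (Nat.add (Nat.succ 143462) k)) 456 = true := by decide +kernel
theorem s4c297 : allBelow (fun k => fs4 (Nat.add (Nat.succ 143918) k)) 481 = true := by decide +kernel
theorem s4c298 : allBelow (fun k => fs4 (Nat.add (Nat.succ 144399) k)) 488 = true := by decide +kernel
theorem s4c299 : allBelow (fun k => fs4 (Nat.add (Nat.succ 144887) k)) 494 = true := by decide +kernel
theorem s4c300 : allBelow (fun k => fs4 (Nat.add (Nat.succ 145381) k)) 556 = true := by decide +kernel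
theorem s4c301 : allBelow (fun k => fs4 (Nat.add (Nat.succ 145937) k)) 506 = true := by decide +kernel
theorem s4c302 : allBelow (fun k => fs4 (Nat.add (Nat.succ 146443) k)) 485 = true := by decide +kernel
theorem s4c303 : allBelow (fun k => fs4 (Nat.add (Nat.succ 146928) k)) 499 = true := by decide +kernel
theorem s4c304 : allBelow (fun k => fs4 (Nat.add (Nat.succ 147427) k)) 503 = true := by decide +kernel
theorem s4c305 : allBelow (fun k => fs4 (Nat.add (Nat.succ 147930) k)) 560 = true := by decide +kernel
theorem s4c306 : allBelow (fun k => fs4 (Nat.add (Nat.succ 148490) k)) 519 = true := by decide +kernel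
theorem s4c307 : allBelow (fun k => fs4 (Nat.add (Nat.succ 149009) k)) 489 = true := by decide +kernel
theorem s4c308 : allBelow (fun k => fs4 (Nat.add (Nat.succ 149498) k)) 525 = true := by decide +kernel
theorem s4c309 : allBelow (fun k => fs4 (Nat.add (Nat.succ 150023) k)) 513 = true := by decide +kernel
theorem s4c310 : allBelow (fun k => fs4 (Nat.add (Nat.succ 150536) k)) 538 = true := by decide +kernel
theorem s4c311 : allBelow (fun k => fs4 (Nat.add (Nat.succ 151074) k)) 504 = true := by decide +kernel
theorem s4c312 : allBelow (fun k => fs4 (Nat.add (Nat.succ 151578) k)) 507 = true := by decide +kernel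
theorem s4c313 : allBelow (fun k => fs4 (Nat.add (Nat.succ 152085) k)) 524 = true := by decide +kernel
theorem s4c314 : allBelow (fun k => fs4 (Nat.add (Nat.succ 152609) k)) 484 = true := by decide +kernel
theorem s4c315 : allBelow (fun k => fs4 (Nat.add (Nat.succ 153093) k)) 522 = true := by decide +kernel
theorem s4c316 : allBelow (fun k => fs4 (Nat.add (Nat.succ 153615) k)) 537 = true := by decide +kernel
theorem s4c317 : allBelow (fun k => fs4 (Nat.add (Nat.succ 154152) k)) 548 = true := by decide +kernel
theorem s4c318 : allBelow (fun k => fs4 (Nat.add (Nat.succ 154700) k)) 494 = true := by decide +kernel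
theorem s4c319 : allBelow (fun k => fs4 (Nat.add (Nat.succ 155194) k)) 492 = true := by decide +kernel
theorem s4c320 : allBelow (fun k => fs4 (Nat.add (Nat.succ 155686) k)) 496 = true := by decide +kernel
theorem s4c321 : allBelow (fun k => fs4 (Nat.add (Nat.succ 156182) k)) 529 = true := by decide +kernel
theorem s4c322 : allBelow (fun k => fs4 (Nat.add (Nat.succ 156711) k)) 471 = true := by decide +kernel
theorem s4c323 : allBelow (fun k => fs4 (Nat.add (Nat.succ 157182) k)) 547 = true := by decide +kernel
theorem s4c324 : allBelow (fun k => fs4 (Nat.add (Nat.succ 157729) k)) 487 = true := by decide +kernel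
theorem s4c325 : allBelow (fun k => fs4 (Nat.add (Nat.succ 158216) k)) 547 = true := by decide +kernel
theorem s4c326 : allBelow (fun k => fs4 (Nat.add (Nat.succ 158763) k)) 491 = true := by decide +kernel
theorem s4c327 : allBelow (fun k => fs4 (Nat.add (Nat.succ 159254) k)) 516 = true := by decide +kernel
theorem s4c328 : allBelow (fun k => fs4 (Nat.add (Nat.succ 159770) k)) 495 = true := by decide +kernel
theorem s4c329 : allBelow (fun k => fs4 (Nat.add (Nat.succ 160265) k)) 552 = true := by decide +kernel
theorem s4c330 : allBelow (fun k => fs4 (Nat.add (Nat.succ 160817) k)) 478 = true := by decide +kernel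
theorem s4c331 : allBelow (fun k => fs4 (Nat.add (Nat.succ 161295) k)) 483 = true := by decide +kernel
theorem s4c332 : allBelow (fun k => fs4 (Nat.add (Nat.succ 161778) k)) 440 = true := by decide +kernel
theorem s4c333 : allBelow (fun k => fs4 (Nat.add (Nat.succ 162218) k)) 377 = true := by decide +kernel
theorem s4c334 : allBelow (fun k => fs4 (Nat.add (Nat.succ 162595) k)) 390 = true := by decide +kernel
theorem s4c335 : allBelow (fun k => fs4 (Nat.add (Nat.succ 162985) k)) 402 = true := by decide +kernel
theorem s4c336 : allBelow (fun k => fs4 (Nat.add (Nat.succ 163387) k)) 403 = true := by decide +kernel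
theorem s4c337 : allBelow (fun k => fs4 (Nat.add (Nat.succ 163790) k)) 383 = true := by decide +kernel
theorem s4c338 : allBelow (fun k => fs4 (Nat.add (Nat.succ 164173) k)) 399 = true := by decide +kernel
theorem s4c339 : allBelow (fun k => fs4 (Nat.add (Nat.succ 164572) k)) 384 = true := by decide +kernel
theorem s4c340 : allBelow (fun k => fs4 (Nat.add (Nat.succ 164956) k)) 387 = true := by decide +kernel
theorem s4c341 : allBelow (fun k => fs4 (Nat.add (Nat.succ 165343) k)) 396 = true := by decide +kernel
theorem s4c342 : allBelow (fun k => fs4 (Nat.add (Nat.succ 165739) k)) 362 = true := by decide +kernel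
theorem s4c343 : allBelow (fun k => fs4 (Nat.add (Nat.succ 166101) k)) 387 = true := by decide +kernel
theorem s4c344 : allBelow (fun k => fs4 (Nat.add (Nat.succ 166488) k)) 356 = true := by decide +kernel
theorem s4c345 : allBelow (fun k => fs4 (Nat.add (Nat.succ 166844) k)) 389 = true := by decide +kernel
theorem s4c346 : allBelow (fun k => fs4 (Nat.add (Nat.succ 167233) k)) 392 = true := by decide +kernel
theorem s4c347 : allBelow (fun k => fs4 (Nat.add (Nat.succ 167625) k)) 384 = true := by decide +kernel
theorem s4c348 : allBelow (fun k => fs4 (Nat.add (Nat.succ 168009) k)) 394 = true := by decide +kernel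
theorem s4c349 : allBelow (fun k => fs4 (Nat.add (Nat.succ 168403) k)) 384 = true := by decide +kernel
theorem s4c350 : allBelow (fun k => fs4 (Nat.add (Nat.succ 168787) k)) 378 = true := by decide +kernel
theorem s4c351 : allBelow (fun k => fs4 (Nat.add (Nat.succ 169165) k)) 381 = true := by decide +kernel
theorem s4c352 : allBelow (fun k => fs4 (Nat.add (Nat.succ 169546) k)) 377 = true := by decide +kernel
theorem s4c353 : allBelow (fun k => fs4 (Nat.add (Nat.succ 169923) k)) 359 = true := by decide +kernel
theorem s4c354 : allBelow (fun k => fs4 (Nat.add (Nat.succ 170282) k)) 359 = true := by decide +kernel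
theorem s4c355 : allBelow (fun k => fs4 (Nat.add (Nat.succ 170641) k)) 366 = true := by decide +kernel
theorem s4c356 : allBelow (fun k => fs4 (Nat.add (Nat.succ 171007) k)) 359 = true := by decide +kernel
theorem s4c357 : allBelow (fun k => fs4 (Nat.add (Nat.succ 171366) k)) 367 = true := by decide +kernel
theorem s4c358 : allBelow (fun k => fs4 (Nat.add (Nat.succ 171733) k)) 360 = true := by decide +kernel
theorem s4c359 : allBelow (fun k => fs4 (Nat.add (Nat.succ 172093) k)) 365 = true := by decide +kernel
theorem s4c360 : allBelow (fun k => fs4 (Nat.add (Nat.succ 172458) k)) 364 = true := by decide +kernel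
theorem s4c361 : allBelow (fun k => fs4 (Nat.add (Nat.succ 172822) k)) 370 = true := by decide +kernel
theorem s4c362 : allBelow (fun k => fs4 (Nat.add (Nat.succ 173192) k)) 377 = true := by decide +kernel
theorem s4c363 : allBelow (fun k => fs4 (Nat.add (Nat.succ 173569) k)) 351 = true := by decide +kernel
theorem s4c364 : allBelow (fun k => fs4 (Nat.add (Nat.succ 173920) k)) 370 = true := by decide +kernel
theorem s4c365 : allBelow (fun k => fs4 (Nat.add (Nat.succ 174290) k)) 367 = true := by decide +kernel
theorem s4c366 : allBelow (fun k => fs4 (Nat.add (Nat.succ 174657) k)) 338 = true := by decide +kernel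
theorem s4c367 : allBelow (fun k => fs4 (Nat.add (Nat.succ 174995) k)) 367 = true := by decide +kernel
theorem s4c368 : allBelow (fun k => fs4 (Nat.add (Nat.succ 175362) k)) 363 = true := by decide +kernel
theorem s4c369 : allBelow (fun k => fs4 (Nat.add (Nat.succ 175725) k)) 349 = true := by decide +kernel
theorem s4c370 : allBelow (fun k => fs4 (Nat.add (Nat.succ 176074) k)) 345 = true := by decide +kernel
theorem s4c371 : allBelow (fun k => fs4 (Nat.add (Nat.succ 176419) k)) 350 = true := by decide +kernel
theorem s4c372 : allBelow (fun k => fs4 (Nat.add (Nat.succ 176769) k)) 349 = true := by decide +kernel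
theorem s4c373 : allBelow (fun k => fs4 (Nat.add (Nat.succ 177118) k)) 356 = true := by decide +kernel
theorem s4c374 : allBelow (fun k => fs4 (Nat.add (Nat.succ 177474) k)) 360 = true := by decide +kernel
theorem s4c375 : allBelow (fun k => fs4 (Nat.add (Nat.succ 177834) k)) 356 = true := by decide +kernel
theorem s4c376 : allBelow (fun k => fs4 (Nat.add (Nat.succ 178190) k)) 325 = true := by decide +kernel
theorem s4c377 : allBelow (fun k => fs4 (Nat.add (Nat.succ 178515) k)) 343 = true := by decide +kernel
theorem s4c378 : allBelow (fun k => fs4 (Nat.add (Nat.succ 178858) k)) 328 = true := by decide +kernel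
theorem s4c379 : allBelow (fun k => fs4 (Nat.add (Nat.succ 179186) k)) 349 = true := by decide +kernel
theorem s4c380 : allBelow (fun k => fs4 (Nat.add (Nat.succ 179535) k)) 351 = true := by decide +kernel
theorem s4c381 : allBelow (fun k => fs4 (Nat.add (Nat.succ 179886) k)) 365 = true := by decide +kernel
theorem s4c382 : allBelow (fun k => fs4 (Nat.add (Nat.succ 180251) k)) 324 = true := by decide +kernel
theorem s4c383 : allBelow (fun k => fs4 (Nat.add (Nat.succ 180575) k)) 339 = true := by decide +kernel
theorem s4c384 : allBelow (fun k => fs4 (Nat.add (Nat.succ 180914) k)) 347 = true := by decide +kernel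
theorem s4c385 : allBelow (fun k => fs4 (Nat.add (Nat.succ 181261) k)) 351 = true := by decide +kernel
theorem s4c386 : allBelow (fun k => fs4 (Nat.add (Nat.succ 181612) k)) 338 = true := by decide +kernel
theorem s4c387 : allBelow (fun k => fs4 (Nat.add (Nat.succ 181950) k)) 342 = true := by decide +kernel
theorem s4c388 : allBelow (fun k => fs4 (Nat.add (Nat.succ 182292) k)) 358 = true := by decide +kernel
theorem s4c389 : allBelow (fun k => fs4 (Nat.add (Nat.succ 182650) k)) 336 = true := by decide +kernel
theorem s4c390 : allBelow (fun k => fs4 (Nat.add (Nat.succ 182986) k)) 330 = true := by decide +kernel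
theorem s4c391 : allBelow (fun k => fs4 (Nat.add (Nat.succ 183316) k)) 325 = true := by decide +kernel
theorem s4c392 : allBelow (fun k => fs4 (Nat.add (Nat.succ 183641) k)) 352 = true := by decide +kernel
theorem s4c393 : allBelow (fun k => fs4 (Nat.add (Nat.succ 183993) k)) 334 = true := by decide +kernel
theorem s4c394 : allBelow (fun k => fs4 (Nat.add (Nat.succ 184327) k)) 328 = true := by decide +kernel
theorem s4c395 : allBelow (fun k => fs4 (Nat.add (Nat.succ 184655) k)) 357 = true := by decide +kernel
theorem s4c396 : allBelow (fun k => fs4 (Nat.add (Nat.succ 185012) k)) 348 = true := by decide +kernel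
theorem s4c397 : allBelow (fun k => fs4 (Nat.add (Nat.succ 185360) k)) 351 = true := by decide +kernel
theorem s4c398 : allBelow (fun k => fs4 (Nat.add (Nat.succ 185711) k)) 333 = true := by decide +kernel
theorem s4c399 : allBelow (fun k => fs4 (Nat.add (Nat.succ 186044) k)) 336 = true := by decide +kernel
theorem s4c400 : allBelow (fun k => fs4 (Nat.add (Nat.succ 186380) k)) 339 = true := by decide +kernel
theorem s4c401 : allBelow (fun k => fs4 (Nat.add (Nat.succ 186719) k)) 345 = true := by decide +kernel
theorem s4c402 : allBelow (fun k => fs4 (Nat.add (Nat.succ 187064) k)) 323 = true := by decide +kernel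
theorem s4c403 : allBelow (fun k => fs4 (Nat.add (Nat.succ 187387) k)) 325 = true := by decide +kernel
theorem s4c404 : allBelow (fun k => fs4 (Nat.add (Nat.succ 187712) k)) 319 = true := by decide +kernel
theorem s4c405 : allBelow (fun k => fs4 (Nat.add (Nat.succ 188031) k)) 324 = true := by decide +kernel
theorem s4c406 : allBelow (fun k => fs4 (Nat.add (Nat.succ 188355) k)) 336 = true := by decide +kernel
theorem s4c407 : allBelow (fun k => fs4 (Nat.add (Nat.succ 188691) k)) 327 = true := by decide +kernel
theorem s4c408 : allBelow (fun k => fs4 (Nat.add (Nat.succ 189018) k)) 335 = true := by decide +kernel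
theorem s4c409 : allBelow (fun k => fs4 (Nat.add (Nat.succ 189353) k)) 328 = true := by decide +kernel
theorem s4c410 : allBelow (fun k => fs4 (Nat.add (Nat.succ 189681) k)) 323 = true := by decide +kernel
theorem s4c411 : allBelow (fun k => fs4 (Nat.add (Nat.succ 190004) k)) 329 = true := by decide +kernel
theorem s4c412 : allBelow (fun k => fs4 (Nat.add (Nat.succ 190333) k)) 324 = true := by decide +kernel
theorem s4c413 : allBelow (fun k => fs4 (Nat.add (Nat.succ 190657) k)) 323 = true := by decide +kernel
theorem s4c414 : allBelow (fun k => fs4 (Nat.add (Nat.succ 190980) k)) 330 = true := by decide +kernel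
theorem s4c415 : allBelow (fun k => fs4 (Nat.add (Nat.succ 191310) k)) 327 = true := by decide +kernel
theorem s4c416 : allBelow (fun k => fs4 (Nat.add (Nat.succ 191637) k)) 341 = true := by decide +kernel
theorem s4c417 : allBelow (fun k => fs4 (Nat.add (Nat.succ 191978) k)) 344 = true := by decide +kernel
theorem s4c418 : allBelow (fun k => fs4 (Nat.add (Nat.succ 192322) k)) 335 = true := by decide +kernel
theorem s4c419 : allBelow (fun k => fs4 (Nat.add (Nat.succ 192657) k)) 340 = true := by decide +kernel
theorem s4c420 : allBelow (fun k => fs4 (Nat.add (Nat.succ 192997) k)) 318 = true := by decide +kernel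
theorem s4c421 : allBelow (fun k => fs4 (Nat.add (Nat.succ 193315) k)) 315 = true := by decide +kernel
theorem s4c422 : allBelow (fun k => fs4 (Nat.add (Nat.succ 193630) k)) 324 = true := by decide +kernel
theorem s4c423 : allBelow (fun k => fs4 (Nat.add (Nat.succ 193954) k)) 306 = true := by decide +kernel
theorem s4c424 : allBelow (fun k => fs4 (Nat.add (Nat.succ 194260) k)) 323 = true := by decide +kernel
theorem s4c425 : allBelow (fun k => fs4 (Nat.add (Nat.succ 194583) k)) 313 = true := by decide +kernel
theorem s4c426 : allBelow (fun k => fs4 (Nat.add (Nat.succ 194896) k)) 304 = true := by decide +kernel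
theorem s4c427 : allBelow (fun k => fs4 (Nat.add (Nat.succ 195200) k)) 315 = true := by decide +kernel
theorem s4c428 : allBelow (fun k => fs4 (Nat.add (Nat.succ 195515) k)) 315 = true := by decide +kernel
theorem s4c429 : allBelow (fun k => fs4 (Nat.add (Nat.succ 195830) k)) 310 = true := by decide +kernel
theorem s4c430 : allBelow (fun k => fs4 (Nat.add (Nat.succ 196140) k)) 300 = true := by decide +kernel
theorem s4c431 : allBelow (fun k => fs4 (Nat.add (Nat.succ 196440) k)) 293 = true := by decide +kernel
theorem s4c432 : allBelow (fun k => fs4 (Nat.add (Nat.succ 196733) k)) 303 = true := by decide +kernel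
theorem s4c433 : allBelow (fun k => fs4 (Nat.add (Nat.succ 197036) k)) 330 = true := by decide +kernel
theorem s4c434 : allBelow (fun k => fs4 (Nat.add (Nat.succ 197366) k)) 295 = true := by decide +kernel
theorem s4c435 : allBelow (fun k => fs4 (Nat.add (Nat.succ 197661) k)) 303 = true := by decide +kernel
theorem s4c436 : allBelow (fun k => fs4 (Nat.add (Nat.succ 197964) k)) 308 = true := by decide +kernel
theorem s4c437 : allBelow (fun k => fs4 (Nat.add (Nat.succ 198272) k)) 298 = true := by decide +kernel
theorem s4c438 : allBelow (fun k => fs4 (Nat.add (Nat.succ 198570) k)) 299 = true := by decide +kernel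
theorem s4c439 : allBelow (fun k => fs4 (Nat.add (Nat.succ 198869) k)) 308 = true := by decide +kernel
theorem s4c440 : allBelow (fun k => fs4 (Nat.add (Nat.succ 199177) k)) 305 = true := by decide +kernel
theorem s4c441 : allBelow (fun k => fs4 (Nat.add (Nat.succ 199482) k)) 280 = true := by decide +kernel
theorem s4c442 : allBelow (fun k => fs4 (Nat.add (Nat.succ 199762) k)) 288 = true := by decide +kernel
theorem s4c443 : allBelow (fun k => fs4 (Nat.add (Nat.succ 200050) k)) 297 = true := by decide +kernel
theorem s4c444 : allBelow (fun k => fs4 (Nat.add (Nat.succ 200347) k)) 304 = true := by decide +kernel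
theorem s4c445 : allBelow (fun k => fs4 (Nat.add (Nat.succ 200651) k)) 293 = true := by decide +kernel
theorem s4c446 : allBelow (fun k => fs4 (Nat.add (Nat.succ 200944) k)) 294 = true := by decide +kernel
theorem s4c447 : allBelow (fun k => fs4 (Nat.add (Nat.succ 201238) k)) 279 = true := by decide +kernel
theorem s4c448 : allBelow (fun k => fs4 (Nat.add (Nat.succ 201517) k)) 65 = true := by decide +kernel
theorem s5c0 : allBelow (fun k => fs5 (Nat.add (Nat.succ 0) k)) 533 = true := by decide +kernel
theorem s5c1 : allBelow (fun k => fs5 (Nat.add (Nat.succ 533) k)) 485 = true := by decide +kernel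
theorem s5c2 : allBelow (fun k => fs5 (Nat.add (Nat.succ 1018) k)) 486 = true := by decide +kernel
theorem s5c3 : allBelow (fun k => fs5 (Nat.add (Nat.succ 1504) k)) 531 = true := by decide +kernel
theorem s5c4 : allBelow (fun k => fs5 (Nat.add (Nat.succ 2035) k)) 511 = true := by decide +kernel
theorem s5c5 : allBelow (fun k => fs5 (Nat.add (Nat.succ 2546) k)) 530 = true := by decide +kernel
theorem s5c6 : allBelow (fun k => fs5 (Nat.add (Nat.succ 3076) k)) 533 = true := by decide +kernel
theorem s5c7 : allBelow (fun k => fs5 (Nat.add (Nat.succ 3609) k)) 552 = true := by decide +kernel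
theorem s5c8 : allBelow (fun k => fs5 (Nat.add (Nat.succ 4161) k)) 532 = true := by decide +kernel
theorem s5c9 : allBelow (fun k => fs5 (Nat.add (Nat.succ 4693) k)) 495 = true := by decide +kernel
theorem s5c10 : allBelow (fun k => fs5 (Nat.add (Nat.succ 5188) k)) 494 = true := by decide +kernel
theorem s5c11 : allBelow (fun k => fs5 (Nat.add (Nat.succ 5682) k)) 516 = true := by decide +kernel
theorem s5c12 : allBelow (fun k => fs5 (Nat.add (Nat.succ 6198) k)) 463 = true := by decide +kernel
theorem s5c13 : allBelow (fun k => fs5 (Nat.add (Nat.succ 6661) k)) 512 = true := by decide +kernel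
theorem s5c14 : allBelow (fun k => fs5 (Nat.add (Nat.succ 7173) k)) 537 = true := by decide +kernel
theorem s5c15 : allBelow (fun k => fs5 (Nat.add (Nat.succ 7710) k)) 521 = true := by decide +kernel
theorem s5c16 : allBelow (fun k => fs5 (Nat.add (Nat.succ 8231) k)) 526 = true := by decide +kernel
theorem s5c17 : allBelow (fun k => fs5 (Nat.add (Nat.succ 8757) k)) 508 = true := by decide +kernel
theorem s5c18 : allBelow (fun k => fs5 (Nat.add (Nat.succ 9265) k)) 538 = true := by decide +kernel
theorem s5c19 : allBelow (fun k => fs5 (Nat.add (Nat.succ 9803) k)) 532 = true := by decide +kernel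
theorem s5c20 : allBelow (fun k => fs5 (Nat.add (Nat.succ 10335) k)) 537 = true := by decide +kernel
theorem s5c21 : allBelow (fun k => fs5 (Nat.add (Nat.succ 10872) k)) 460 = true := by decide +kernel
theorem s5c22 : allBelow (fun k => fs5 (Nat.add (Nat.succ 11332) k)) 461 = true := by decide +kernel
theorem s5c23 : allBelow (fun k => fs5 (Nat.add (Nat.succ 11793) k)) 477 = true := by decide +kernel
theorem s5c24 : allBelow (fun k => fs5 (Nat.add (Nat.succ 12270) k)) 514 = true := by decide +kernel
theorem s5c25 : allBelow (fun k => fs5 (Nat.add (Nat.succ 12784) k)) 475 = true := by decide +kernel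
theorem s5c26 : allBelow (fun k => fs5 (Nat.add (Nat.succ 13259) k)) 480 = true := by decide +kernel
theorem s5c27 : allBelow (fun k => fs5 (Nat.add (Nat.succ 13739) k)) 468 = true := by decide +kernel
theorem s5c28 : allBelow (fun k => fs5 (Nat.add (Nat.succ 14207) k)) 491 = true := by decide +kernel
theorem s5c29 : allBelow (fun k => fs5 (Nat.add (Nat.succ 14698) k)) 531 = true := by decide +kernel
theorem s5c30 : allBelow (fun k => fs5 (Nat.add (Nat.succ 15229) k)) 508 = true := by decide +kernel
theorem s5c31 : allBelow (fun k => fs5 (Nat.add (Nat.succ 15737) k)) 522 = true := by decide +kernel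
theorem s5c32 : allBelow (fun k => fs5 (Nat.add (Nat.succ 16259) k)) 483 = true := by decide +kernel
theorem s5c33 : allBelow (fun k => fs5 (Nat.add (Nat.succ 16742) k)) 498 = true := by decide +kernel
theorem s5c34 : allBelow (fun k => fs5 (Nat.add (Nat.succ 17240) k)) 532 = true := by decide +kernel
theorem s5c35 : allBelow (fun k => fs5 (Nat.add (Nat.succ 17772) k)) 532 = true := by decide +kernel
theorem s5c36 : allBelow (fun k => fs5 (Nat.add (Nat.succ 18304) k)) 537 = true := by decide +kernel
theorem s5c37 : allBelow (fun k => fs5 (Nat.add (Nat.succ 18841) k)) 498 = true := by decide +kernel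
theorem s5c38 : allBelow (fun k => fs5 (Nat.add (Nat.succ 19339) k)) 502 = true := by decide +kernel
theorem s5c39 : allBelow (fun k => fs5 (Nat.add (Nat.succ 19841) k)) 534 = true := by decide +kernel
theorem s5c40 : allBelow (fun k => fs5 (Nat.add (Nat.succ 20375) k)) 525 = true := by decide +kernel
theorem s5c41 : allBelow (fun k => fs5 (Nat.add (Nat.succ 20900) k)) 548 = true := by decide +kernel
theorem s5c42 : allBelow (fun k => fs5 (Nat.add (Nat.succ 21448) k)) 528 = true := by decide +kernel
theorem s5c43 : allBelow (fun k => fs5 (Nat.add (Nat.succ 21976) k)) 525 = true := by decide +kernel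
theorem s5c44 : allBelow (fun k => fs5 (Nat.add (Nat.succ 22501) k)) 530 = true := by decide +kernel
theorem s5c45 : allBelow (fun k => fs5 (Nat.add (Nat.succ 23031) k)) 476 = true := by decide +kernel
theorem s5c46 : allBelow (fun k => fs5 (Nat.add (Nat.succ 23507) k)) 453 = true := by decide +kernel
theorem s5c47 : allBelow (fun k => fs5 (Nat.add (Nat.succ 23960) k)) 456 = true := by decide +kernel
theorem s5c48 : allBelow (fun k => fs5 (Nat.add (Nat.succ 24416) k)) 462 = true := by decide +kernel
theorem s5c49 : allBelow (fun k => fs5 (Nat.add (Nat.succ 24878) k)) 485 = true := by decide +kernel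
theorem s5c50 : allBelow (fun k => fs5 (Nat.add (Nat.succ 25363) k)) 486 = true := by decide +kernel
theorem s5c51 : allBelow (fun k => fs5 (Nat.add (Nat.succ 25849) k)) 467 = true := by decide +kernel
theorem s5c52 : allBelow (fun k => fs5 (Nat.add (Nat.succ 26316) k)) 483 = true := by decide +kernel
theorem s5c53 : allBelow (fun k => fs5 (Nat.add (Nat.succ 26799) k)) 513 = true := by decide +kernel
theorem s5c54 : allBelow (fun k => fs5 (Nat.add (Nat.succ 27312) k)) 475 = true := by decide +kernel
theorem s5c55 : allBelow (fun k => fs5 (Nat.add (Nat.succ 27787) k)) 508 = true := by decide +kernel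
theorem s5c56 : allBelow (fun k => fs5 (Nat.add (Nat.succ 28295) k)) 481 = true := by decide +kernel
theorem s5c57 : allBelow (fun k => fs5 (Nat.add (Nat.succ 28776) k)) 482 = true := by decide +kernel
theorem s5c58 : allBelow (fun k => fs5 (Nat.add (Nat.succ 29258) k)) 479 = true := by decide +kernel
theorem s5c59 : allBelow (fun k => fs5 (Nat.add (Nat.succ 29737) k)) 510 = true := by decide +kernel
theorem s5c60 : allBelow (fun k => fs5 (Nat.add (Nat.succ 30247) k)) 562 = true := by decide +kernel
theorem s5c61 : allBelow (fun k => fs5 (Nat.add (Nat.succ 30809) k)) 502 = true := by decide +kernel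
theorem s5c62 : allBelow (fun k => fs5 (Nat.add (Nat.succ 31311) k)) 492 = true := by decide +kernel
theorem s5c63 : allBelow (fun k => fs5 (Nat.add (Nat.succ 31803) k)) 477 = true := by decide +kernel
theorem s5c64 : allBelow (fun k => fs5 (Nat.add (Nat.succ 32280) k)) 500 = true := by decide +kernel
theorem s5c65 : allBelow (fun k => fs5 (Nat.add (Nat.succ 32780) k)) 523 = true := by decide +kernel
theorem s5c66 : allBelow (fun k => fs5 (Nat.add (Nat.succ 33303) k)) 523 = true := by decide +kernel
theorem s5c67 : allBelow (fun k => fs5 (Nat.add (Nat.succ 33826) k)) 506 = true := by decide +kernel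
theorem s5c68 : allBelow (fun k => fs5 (Nat.add (Nat.succ 34332) k)) 502 = true := by decide +kernel
theorem s5c69 : allBelow (fun k => fs5 (Nat.add (Nat.succ 34834) k)) 523 = true := by decide +kernel
theorem s5c70 : allBelow (fun k => fs5 (Nat.add (Nat.succ 35357) k)) 498 = true := by decide +kernel
theorem s5c71 : allBelow (fun k => fs5 (Nat.add (Nat.succ 35855) k)) 569 = true := by decide +kernel
theorem s5c72 : allBelow (fun k => fs5 (Nat.add (Nat.succ 36424) k)) 535 = true := by decide +kernel
theorem s5c73 : allBelow (fun k => fs5 (Nat.add (Nat.succ 36959) k)) 524 = true := by decide +kernel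
theorem s5c74 : allBelow (fun k => fs5 (Nat.add (Nat.succ 37483) k)) 530 = true := by decide +kernel
theorem s5c75 : allBelow (fun k => fs5 (Nat.add (Nat.succ 38013) k)) 531 = true := by decide +kernel
theorem s5c76 : allBelow (fun k => fs5 (Nat.add (Nat.succ 38544) k)) 570 = true := by decide +kernel
theorem s5c77 : allBelow (fun k => fs5 (Nat.add (Nat.succ 39114) k)) 510 = true := by decide +kernel
theorem s5c78 : allBelow (fun k => fs5 (Nat.add (Nat.succ 39624) k)) 533 = true := by decide +kernel
theorem s5c79 : allBelow (fun k => fs5 (Nat.add (Nat.succ 40157) k)) 517 = true := by decide +kernel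
theorem s5c80 : allBelow (fun k => fs5 (Nat.add (Nat.succ 40674) k)) 475 = true := by decide +kernel
theorem s5c81 : allBelow (fun k => fs5 (Nat.add (Nat.succ 41149) k)) 481 = true := by decide +kernel
theorem s5c82 : allBelow (fun k => fs5 (Nat.add (Nat.succ 41630) k)) 534 = true := by decide +kernel
theorem s5c83 : allBelow (fun k => fs5 (Nat.add (Nat.succ 42164) k)) 539 = true := by decide +kernel
theorem s5c84 : allBelow (fun k => fs5 (Nat.add (Nat.succ 42703) k)) 520 = true := by decide +kernel
theorem s5c85 : allBelow (fun k => fs5 (Nat.add (Nat.succ 43223) k)) 515 = true := by decide +kernel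
theorem s5c86 : allBelow (fun k => fs5 (Nat.add (Nat.succ 43738) k)) 483 = true := by decide +kernel
theorem s5c87 : allBelow (fun k => fs5 (Nat.add (Nat.succ 44221) k)) 530 = true := by decide +kernel
theorem s5c88 : allBelow (fun k => fs5 (Nat.add (Nat.succ 44751) k)) 481 = true := by decide +kernel
theorem s5c89 : allBelow (fun k => fs5 (Nat.add (Nat.succ 45232) k)) 539 = true := by decide +kernel
theorem s5c90 : allBelow (fun k => fs5 (Nat.add (Nat.succ 45771) k)) 514 = true := by decide +kernel
theorem s5c91 : allBelow (fun k => fs5 (Nat.add (Nat.succ 46285) k)) 523 = true := by decide +kernel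
theorem s5c92 : allBelow (fun k => fs5 (Nat.add (Nat.succ 46808) k)) 479 = true := by decide +kernel
theorem s5c93 : allBelow (fun k => fs5 (Nat.add (Nat.succ 47287) k)) 456 = true := by decide +kernel
theorem s5c94 : allBelow (fun k => fs5 (Nat.add (Nat.succ 47743) k)) 452 = true := by decide +kernel
theorem s5c95 : allBelow (fun k => fs5 (Nat.add (Nat.succ 48195) k)) 508 = true := by decide +kernel
theorem s5c96 : allBelow (fun k => fs5 (Nat.add (Nat.succ 48703) k)) 513 = true := by decide +kernel
theorem s5c97 : allBelow (fun k => fs5 (Nat.add (Nat.succ 49216) k)) 445 = true := by decide +kernel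
theorem s5c98 : allBelow (fun k => fs5 (Nat.add (Nat.succ 49661) k)) 513 = true := by decide +kernel
theorem s5c99 : allBelow (fun k => fs5 (Nat.add (Nat.succ 50174) k)) 484 = true := by decide +kernel
theorem s5c100 : allBelow (fun k => fs5 (Nat.add (Nat.succ 50658) k)) 470 = true := by decide +kernel
theorem s5c101 : allBelow (fun k => fs5 (Nat.add (Nat.succ 51128) k)) 475 = true := by decide +kernel
theorem s5c102 : allBelow (fun k => fs5 (Nat.add (Nat.succ 51603) k)) 533 = true := by decide +kernel
theorem s5c103 : allBelow (fun k => fs5 (Nat.add (Nat.succ 52136) k)) 475 = true := by decide +kernel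
theorem s5c104 : allBelow (fun k => fs5 (Nat.add (Nat.succ 52611) k)) 474 = true := by decide +kernel
theorem s5c105 : allBelow (fun k => fs5 (Nat.add (Nat.succ 53085) k)) 506 = true := by decide +kernel
theorem s5c106 : allBelow (fun k => fs5 (Nat.add (Nat.succ 53591) k)) 516 = true := by decide +kernel
theorem s5c107 : allBelow (fun k => fs5 (Nat.add (Nat.succ 54107) k)) 602 = true := by decide +kernel
theorem s5c108 : allBelow (fun k => fs5 (Nat.add (Nat.succ 54709) k)) 538 = true := by decide +kernel
theorem s5c109 : allBelow (fun k => fs5 (Nat.add (Nat.succ 55247) k)) 527 = true := by decide +kernel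
theorem s5c110 : allBelow (fun k => fs5 (Nat.add (Nat.succ 55774) k)) 541 = true := by decide +kernel
theorem s5c111 : allBelow (fun k => fs5 (Nat.add (Nat.succ 56315) k)) 527 = true := by decide +kernel
theorem s5c112 : allBelow (fun k => fs5 (Nat.add (Nat.succ 56842) k)) 478 = true := by decide +kernel
theorem s5c113 : allBelow (fun k => fs5 (Nat.add (Nat.succ 57320) k)) 510 = true := by decide +kernel
theorem s5c114 : allBelow (fun k => fs5 (Nat.add (Nat.succ 57830) k)) 508 = true := by decide +kernel
theorem s5c115 : allBelow (fun k => fs5 (Nat.add (Nat.succ 58338) k)) 527 = true := by decide +kernel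
theorem s5c116 : allBelow (fun k => fs5 (Nat.add (Nat.succ 58865) k)) 505 = true := by decide +kernel
theorem s5c117 : allBelow (fun k => fs5 (Nat.add (Nat.succ 59370) k)) 497 = true := by decide +kernel
theorem s5c118 : allBelow (fun k => fs5 (Nat.add (Nat.succ 59867) k)) 518 = true := by decide +kernel
theorem s5c119 : allBelow (fun k => fs5 (Nat.add (Nat.succ 60385) k)) 488 = true := by decide +kernel
theorem s5c120 : allBelow (fun k => fs5 (Nat.add (Nat.succ 60873) k)) 534 = true := by decide +kernel
theorem s5c121 : allBelow (fun k => fs5 (Nat.add (Nat.succ 61407) k)) 500 = true := by decide +kernel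
theorem s5c122 : allBelow (fun k => fs5 (Nat.add (Nat.succ 61907) k)) 514 = true := by decide +kernel
theorem s5c123 : allBelow (fun k => fs5 (Nat.add (Nat.succ 62421) k)) 557 = true := by decide +kernel
theorem s5c124 : allBelow (fun k => fs5 (Nat.add (Nat.succ 62978) k)) 558 = true := by decide +kernel
theorem s5c125 : allBelow (fun k => fs5 (Nat.add (Nat.succ 63536) k)) 589 = true := by decide +kernel
theorem s5c126 : allBelow (fun k => fs5 (Nat.add (Nat.succ 64125) k)) 588 = true := by decide +kernel
theorem s5c127 : allBelow (fun k => fs5 (Nat.add (Nat.succ 64713) k)) 579 = true := by decide +kernel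
theorem s5c128 : allBelow (fun k => fs5 (Nat.add (Nat.succ 65292) k)) 508 = true := by decide +kernel
theorem s5c129 : allBelow (fun k => fs5 (Nat.add (Nat.succ 65800) k)) 512 = true := by decide +kernel
theorem s5c130 : allBelow (fun k => fs5 (Nat.add (Nat.succ 66312) k)) 502 = true := by decide +kernel
theorem s5c131 : allBelow (fun k => fs5 (Nat.add (Nat.succ 66814) k)) 507 = true := by decide +kernel
theorem s5c132 : allBelow (fun k => fs5 (Nat.add (Nat.succ 67321) k)) 501 = true := by decide +kernel
theorem s5c133 : allBelow (fun k => fs5 (Nat.add (Nat.succ 67822) k)) 539 = true := by decide +kernel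
theorem s5c134 : allBelow (fun k => fs5 (Nat.add (Nat.succ 68361) k)) 536 = true := by decide +kernel
theorem s5c135 : allBelow (fun k => fs5 (Nat.add (Nat.succ 68897) k)) 534 = true := by decide +kernel
theorem s5c136 : allBelow (fun k => fs5 (Nat.add (Nat.succ 69431) k)) 532 = true := by decide +kernel
theorem s5c137 : allBelow (fun k => fs5 (Nat.add (Nat.succ 69963) k)) 561 = true := by decide +kernel
theorem s5c138 : allBelow (fun k => fs5 (Nat.add (Nat.succ 70524) k)) 562 = true := by decide +kernel
theorem s5c139 : allBelow (fun k => fs5 (Nat.add (Nat.succ 71086) k)) 509 = true := by decide +kernel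
theorem s5c140 : allBelow (fun k => fs5 (Nat.add (Nat.succ 71595) k)) 521 = true := by decide +kernel
theorem s5c141 : allBelow (fun k => fs5 (Nat.add (Nat.succ 72116) k)) 512 = true := by decide +kernel
theorem s5c142 : allBelow (fun k => fs5 (Nat.add (Nat.succ 72628) k)) 522 = true := by decide +kernel
theorem s5c143 : allBelow (fun k => fs5 (Nat.add (Nat.succ 73150) k)) 489 = true := by decide +kernel
theorem s5c144 : allBelow (fun k => fs5 (Nat.add (Nat.succ 73639) k)) 515 = true := by decide +kernel
theorem s5c145 : allBelow (fun k => fs5 (Nat.add (Nat.succ 74154) k)) 571 = true := by decide +kernel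
theorem s5c146 : allBelow (fun k => fs5 (Nat.add (Nat.succ 74725) k)) 537 = true := by decide +kernel
theorem s5c147 : allBelow (fun k => fs5 (Nat.add (Nat.succ 75262) k)) 521 = true := by decide +kernel
theorem s5c148 : allBelow (fun k => fs5 (Nat.add (Nat.succ 75783) k)) 572 = true := by decide +kernel
theorem s5c149 : allBelow (fun k => fs5 (Nat.add (Nat.succ 76355) k)) 559 = true := by decide +kernel
theorem s5c150 : allBelow (fun k => fs5 (Nat.add (Nat.succ 76914) k)) 572 = true := by decide +kernel
theorem s5c151 : allBelow (fun k => fs5 (Nat.add (Nat.succ 77486) k)) 493 = true := by decide +kernel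
theorem s5c152 : allBelow (fun k => fs5 (Nat.add (Nat.succ 77979) k)) 539 = true := by decide +kernel
theorem s5c153 : allBelow (fun k => fs5 (Nat.add (Nat.succ 78518) k)) 543 = true := by decide +kernel
theorem s5c154 : allBelow (fun k => fs5 (Nat.add (Nat.succ 79061) k)) 501 = true := by decide +kernel
theorem s5c155 : allBelow (fun k => fs5 (Nat.add (Nat.succ 79562) k)) 544 = true := by decide +kernel
theorem s5c156 : allBelow (fun k => fs5 (Nat.add (Nat.succ 80106) k)) 561 = true := by decide +kernel
theorem s5c157 : allBelow (fun k => fs5 (Nat.add (Nat.succ 80667) k)) 548 = true := by decide +kernel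
theorem s5c158 : allBelow (fun k => fs5 (Nat.add (Nat.succ 81215) k)) 589 = true := by decide +kernel
theorem s5c159 : allBelow (fun k => fs5 (Nat.add (Nat.succ 81804) k)) 581 = true := by decide +kernel
theorem s5c160 : allBelow (fun k => fs5 (Nat.add (Nat.succ 82385) k)) 556 = true := by decide +kernel
theorem s5c161 : allBelow (fun k => fs5 (Nat.add (Nat.succ 82941) k)) 523 = true := by decide +kernel
theorem s5c162 : allBelow (fun k => fs5 (Nat.add (Nat.succ 83464) k)) 514 = true := by decide +kernel
theorem s5c163 : allBelow (fun k => fs5 (Nat.add (Nat.succ 83978) k)) 539 = true := by decide +kernel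
theorem s5c164 : allBelow (fun k => fs5 (Nat.add (Nat.succ 84517) k)) 476 = true := by decide +kernel
theorem s5c165 : allBelow (fun k => fs5 (Nat.add (Nat.succ 84993) k)) 459 = true := by decide +kernel
theorem s5c166 : allBelow (fun k => fs5 (Nat.add (Nat.succ 85452) k)) 444 = true := by decide +kernel
theorem s5c167 : allBelow (fun k => fs5 (Nat.add (Nat.succ 85896) k)) 454 = true := by decide +kernel
theorem s5c168 : allBelow (fun k => fs5 (Nat.add (Nat.succ 86350) k)) 491 = true := by decide +kernel
theorem s5c169 : allBelow (fun k => fs5 (Nat.add (Nat.succ 86841) k)) 467 = true := by decide +kernel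
theorem s5c170 : allBelow (fun k => fs5 (Nat.add (Nat.succ 87308) k)) 451 = true := by decide +kernel
theorem s5c171 : allBelow (fun k => fs5 (Nat.add (Nat.succ 87759) k)) 492 = true := by decide +kernel
theorem s5c172 : allBelow (fun k => fs5 (Nat.add (Nat.succ 88251) k)) 466 = true := by decide +kernel
theorem s5c173 : allBelow (fun k => fs5 (Nat.add (Nat.succ 88717) k)) 477 = true := by decide +kernel
theorem s5c174 : allBelow (fun k => fs5 (Nat.add (Nat.succ 89194) k)) 487 = true := by decide +kernel
theorem s5c175 : allBelow (fun k => fs5 (Nat.add (Nat.succ 89681) k)) 476 = true := by decide +kernel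
theorem s5c176 : allBelow (fun k => fs5 (Nat.add (Nat.succ 90157) k)) 452 = true := by decide +kernel
theorem s5c177 : allBelow (fun k => fs5 (Nat.add (Nat.succ 90609) k)) 454 = true := by decide +kernel
theorem s5c178 : allBelow (fun k => fs5 (Nat.add (Nat.succ 91063) k)) 498 = true := by decide +kernel
theorem s5c179 : allBelow (fun k => fs5 (Nat.add (Nat.succ 91561) k)) 473 = true := by decide +kernel
theorem s5c180 : allBelow (fun k => fs5 (Nat.add (Nat.succ 92034) k)) 473 = true := by decide +kernel
theorem s5c181 : allBelow (fun k => fs5 (Nat.add (Nat.succ 92507) k)) 472 = true := by decide +kernel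
theorem s5c182 : allBelow (fun k => fs5 (Nat.add (Nat.succ 92979) k)) 495 = true := by decide +kernel
theorem s5c183 : allBelow (fun k => fs5 (Nat.add (Nat.succ 93474) k)) 495 = true := by decide +kernel
theorem s5c184 : allBelow (fun k => fs5 (Nat.add (Nat.succ 93969) k)) 556 = true := by decide +kernel
theorem s5c185 : allBelow (fun k => fs5 (Nat.add (Nat.succ 94525) k)) 454 = true := by decide +kernel
theorem s5c186 : allBelow (fun k => fs5 (Nat.add (Nat.succ 94979) k)) 487 = true := by decide +kernel
theorem s5c187 : allBelow (fun k => fs5 (Nat.add (Nat.succ 95466) k)) 437 = true := by decide +kernel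
theorem s5c188 : allBelow (fun k => fs5 (Nat.add (Nat.succ 95903) k)) 460 = true := by decide +kernel
theorem s5c189 : allBelow (fun k => fs5 (Nat.add (Nat.succ 96363) k)) 448 = true := by decide +kernel
theorem s5c190 : allBelow (fun k => fs5 (Nat.add (Nat.succ 96811) k)) 477 = true := by decide +kernel
theorem s5c191 : allBelow (fun k => fs5 (Nat.add (Nat.succ 97288) k)) 464 = true := by decide +kernel
theorem s5c192 : allBelow (fun k => fs5 (Nat.add (Nat.succ 97752) k)) 452 = true := by decide +kernel
theorem s5c193 : allBelow (fun k => fs5 (Nat.add (Nat.succ 98204) k)) 446 = true := by decide +kernel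
theorem s5c194 : allBelow (fun k => fs5 (Nat.add (Nat.succ 98650) k)) 463 = true := by decide +kernel
theorem s5c195 : allBelow (fun k => fs5 (Nat.add (Nat.succ 99113) k)) 475 = true := by decide +kernel
theorem s5c196 : allBelow (fun k => fs5 (Nat.add (Nat.succ 99588) k)) 476 = true := by decide +kernel
theorem s5c197 : allBelow (fun k => fs5 (Nat.add (Nat.succ 100064) k)) 512 = true := by decide +kernel
theorem s5c198 : allBelow (fun k => fs5 (Nat.add (Nat.succ 100576) k)) 538 = true := by decide +kernel
theorem s5c199 : allBelow (fun k => fs5 (Nat.add (Nat.succ 101114) k)) 456 = true := by decide +kernel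
theorem s5c200 : allBelow (fun k => fs5 (Nat.add (Nat.succ 101570) k)) 434 = true := by decide +kernel
theorem s5c201 : allBelow (fun k => fs5 (Nat.add (Nat.succ 102004) k)) 432 = true := by decide +kernel
theorem s5c202 : allBelow (fun k => fs5 (Nat.add (Nat.succ 102436) k)) 462 = true := by decide +kernel
theorem s5c203 : allBelow (fun k => fs5 (Nat.add (Nat.succ 102898) k)) 506 = true := by decide +kernel
theorem s5c204 : allBelow (fun k => fs5 (Nat.add (Nat.succ 103404) k)) 429 = true := by decide +kernel
theorem s5c205 : allBelow (fun k => fs5 (Nat.add (Nat.succ 103833) k)) 451 = true := by decide +kernel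
theorem s5c206 : allBelow (fun k => fs5 (Nat.add (Nat.succ 104284) k)) 467 = true := by decide +kernel
theorem s5c207 : allBelow (fun k => fs5 (Nat.add (Nat.succ 104751) k)) 451 = true := by decide +kernel
theorem s5c208 : allBelow (fun k => fs5 (Nat.add (Nat.succ 105202) k)) 504 = true := by decide +kernel
theorem s5c209 : allBelow (fun k => fs5 (Nat.add (Nat.succ 105706) k)) 470 = true := by decide +kernel
theorem s5c210 : allBelow (fun k => fs5 (Nat.add (Nat.succ 106176) k)) 484 = true := by decide +kernel
theorem s5c211 : allBelow (fun k => fs5 (Nat.add (Nat.succ 106660) k)) 508 = true := by decide +kernel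
theorem s5c212 : allBelow (fun k => fs5 (Nat.add (Nat.succ 107168) k)) 501 = true := by decide +kernel
theorem s5c213 : allBelow (fun k => fs5 (Nat.add (Nat.succ 107669) k)) 466 = true := by decide +kernel
theorem s5c214 : allBelow (fun k => fs5 (Nat.add (Nat.succ 108135) k)) 513 = true := by decide +kernel
theorem s5c215 : allBelow (fun k => fs5 (Nat.add (Nat.succ 108648) k)) 497 = true := by decide +kernel
theorem s5c216 : allBelow (fun k => fs5 (Nat.add (Nat.succ 109145) k)) 502 = true := by decide +kernel
theorem s5c217 : allBelow (fun k => fs5 (Nat.add (Nat.succ 109647) k)) 485 = true := by decide +kernel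
theorem s5c218 : allBelow (fun k => fs5 (Nat.add (Nat.succ 110132) k)) 504 = true := by decide +kernel
theorem s5c219 : allBelow (fun k => fs5 (Nat.add (Nat.succ 110636) k)) 457 = true := by decide +kernel
theorem s5c220 : allBelow (fun k => fs5 (Nat.add (Nat.succ 111093) k)) 538 = true := by decide +kernel
theorem s5c221 : allBelow (fun k => fs5 (Nat.add (Nat.succ 111631) k)) 489 = true := by decide +kernel
theorem s5c222 : allBelow (fun k => fs5 (Nat.add (Nat.succ 112120) k)) 452 = true := by decide +kernel
theorem s5c223 : allBelow (fun k => fs5 (Nat.add (Nat.succ 112572) k)) 485 = true := by decide +kernel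
theorem s5c224 : allBelow (fun k => fs5 (Nat.add (Nat.succ 113057) k)) 515 = true := by decide +kernel
theorem s5c225 : allBelow (fun k => fs5 (Nat.add (Nat.succ 113572) k)) 466 = true := by decide +kernel
theorem s5c226 : allBelow (fun k => fs5 (Nat.add (Nat.succ 114038) k)) 456 = true := by decide +kernel
theorem s5c227 : allBelow (fun k => fs5 (Nat.add (Nat.succ 114494) k)) 489 = true := by decide +kernel
theorem s5c228 : allBelow (fun k => fs5 (Nat.add (Nat.succ 114983) k)) 441 = true := by decide +kernel

end Cfsg.Agent.Lib.Helper35.ON122760
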