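import Cfsg.Agent.Lib.Helper35.ON122760.Data

set_option Elab.async false

namespace Cfsg.Agent.Lib.Helper35.ON122760

open Cfsg.Agent.Lib.Helper35

theorem s5c229 : allBelow (fun k => fs5 (Nat.add (Nat.succ 115424) k)) 429 = true := by decide +kernel
theorem s5c230 : allBelow (fun k => fs5 (Nat.add (Nat.succ 115853) k)) 456 = true := by decide +kernel
theorem s5c231 : allBelow (fun k => fs5 (Nat.add (Nat.succ 116309) k)) 475 = true := by decide +kernel
theorem s5c232 : allBelow (fun k => fs5 (Nat.add (Nat.succ 116784) k)) 453 = true := by decide +kernel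
theorem s5c233 : allBelow (fun k => fs5 (Nat.add (Nat.succ 117237) k)) 480 = true := by decide +kernel
theorem s5c234 : allBelow (fun k => fs5 (Nat.add (Nat.succ 117717) k)) 441 = true := by decide +kernel
theorem s5c235 : allBelow (fun k => fs5 (Nat.add (Nat.succ 118158) k)) 518 = true := by decide +kernel
theorem s5c236 : allBelow (fun k => fs5 (Nat.add (Nat.succ 118676) k)) 530 = true := by decide +kernel
theorem s5c237 : allBelow (fun k => fs5 (Nat.add (Nat.succ 119206) k)) 532 = true := by decide +kernel
theorem s5c238 : allBelow (fun k => fs5 (Nat.add (Nat.succ 119738) k)) 483 = true := by decide +kernel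
theorem s5c239 : allBelow (fun k => fs5 (Nat.add (Nat.succ 120221) k)) 476 = true := by decide +kernel
theorem s5c240 : allBelow (fun k => fs5 (Nat.add (Nat.succ 120697) k)) 455 = true := by decide +kernel
theorem s5c241 : allBelow (fun k => fs5 (Nat.add (Nat.succ 121152) k)) 469 = true := by decide +kernel
theorem s5c242 : allBelow (fun k => fs5 (Nat.add (Nat.succ 121621) k)) 491 = true := by decide +kernel
theorem s5c243 : allBelow (fun k => fs5 (Nat.add (Nat.succ 122112) k)) 442 = true := by decide +kernel
theorem s5c244 : allBelow (fun k => fs5 (Nat.add (Nat.succ 122554) k)) 480 = true := by decide +kernel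
theorem s5c245 : allBelow (fun k => fs5 (Nat.add (Nat.succ 123034) k)) 497 = true := by decide +kernel
theorem s5c246 : allBelow (fun k => fs5 (Nat.add (Nat.succ 123531) k)) 458 = true := by decide +kernel
theorem s5c247 : allBelow (fun k => fs5 (Nat.add (Nat.succ 123989) k)) 482 = true := by decide +kernel
theorem s5c248 : allBelow (fun k => fs5 (Nat.add (Nat.succ 124471) k)) 451 = true := by decide +kernel
theorem s5c249 : allBelow (fun k => fs5 (Nat.add (Nat.succ 124922) k)) 468 = true := by decide +kernel
theorem s5c250 : allBelow (fun k => fs5 (Nat.add (Nat.succ 125390) k)) 455 = true := by decide +kernel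
theorem s5c251 : allBelow (fun k => fs5 (Nat.add (Nat.succ 125845) k)) 480 = true := by decide +kernel
theorem s5c252 : allBelow (fun k => fs5 (Nat.add (Nat.succ 126325) k)) 503 = true := by decide +kernel
theorem s5c253 : allBelow (fun k => fs5 (Nat.add (Nat.succ 126828) k)) 541 = true := by decide +kernel
theorem s5c254 : allBelow (fun k => fs5 (Nat.add (Nat.succ 127369) k)) 531 = true := by decide +kernel
theorem s5c255 : allBelow (fun k => fs5 (Nat.add (Nat.succ 127900) k)) 434 = true := by decide +kernel
theorem s5c256 : allBelow (fun k => fs5 (Nat.add (Nat.succ 128334) k)) 523 = true := by decide +kernel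
theorem s5c257 : allBelow (fun k => fs5 (Nat.add (Nat.succ 128857) k)) 492 = true := by decide +kernel
theorem s5c258 : allBelow (fun k => fs5 (Nat.add (Nat.succ 129349) k)) 497 = true := by decide +kernel
theorem s5c259 : allBelow (fun k => fs5 (Nat.add (Nat.succ 129846) k)) 524 = true := by decide +kernel
theorem s5c260 : allBelow (fun k => fs5 (Nat.add (Nat.succ 130370) k)) 553 = true := by decide +kernel
theorem s5c261 : allBelow (fun k => fs5 (Nat.add (Nat.succ 130923) k)) 525 = true := by decide +kernel
theorem s5c262 : allBelow (fun k => fs5 (Nat.add (Nat.succ 131448) k)) 497 = true := by decide +kernel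
theorem s5c263 : allBelow (fun k => fs5 (Nat.add (Nat.succ 131945) k)) 499 = true := by decide +kernel
theorem s5c264 : allBelow (fun k => fs5 (Nat.add (Nat.succ 132444) k)) 488 = true := by decide +kernel
theorem s5c265 : allBelow (fun k => fs5 (Nat.add (Nat.succ 132932) k)) 491 = true := by decide +kernel
theorem s5c266 : allBelow (fun k => fs5 (Nat.add (Nat.succ 133423) k)) 480 = true := by decide +kernel
theorem s5c267 : allBelow (fun k => fs5 (Nat.add (Nat.succ 133903) k)) 466 = true := by decide +kernel
theorem s5c268 : allBelow (fun k => fs5 (Nat.add (Nat.succ 134369) k)) 481 = true := by decide +kernel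
theorem s5c269 : allBelow (fun k => fs5 (Nat.add (Nat.succ 134850) k)) 516 = true := by decide +kernel
theorem s5c270 : allBelow (fun k => fs5 (Nat.add (Nat.succ 135366) k)) 465 = true := by decide +kernel
theorem s5c271 : allBelow (fun k => fs5 (Nat.add (Nat.succ 135831) k)) 479 = true := by decide +kernel
theorem s5c272 : allBelow (fun k => fs5 (Nat.add (Nat.succ 136310) k)) 509 = true := by decide +kernel
theorem s5c273 : allBelow (fun k => fs5 (Nat.add (Nat.succ 136819) k)) 497 = true := by decide +kernel
theorem s5c274 : allBelow (fun k => fs5 (Nat.add (Nat.succ 137316) k)) 495 = true := by decide +kernel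
theorem s5c275 : allBelow (fun k => fs5 (Nat.add (Nat.succ 137811) k)) 487 = true := by decide +kernel
theorem s5c276 : allBelow (fun k => fs5 (Nat.add (Nat.succ 138298) k)) 469 = true := by decide +kernel
theorem s5c277 : allBelow (fun k => fs5 (Nat.add (Nat.succ 138767) k)) 462 = true := by decide +kernel
theorem s5c278 : allBelow (fun k => fs5 (Nat.add (Nat.succ 139229) k)) 471 = true := by decide +kernel
theorem s5c279 : allBelow (fun k => fs5 (Nat.add (Nat.succ 139700) k)) 467 = true := by decide +kernel
theorem s5c280 : allBelow (fun k => fs5 (Nat.add (Nat.succ 140167) k)) 537 = true := by decide +kernel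
theorem s5c281 : allBelow (fun k => fs5 (Nat.add (Nat.succ 140704) k)) 479 = true := by decide +kernel
theorem s5c282 : allBelow (fun k => fs5 (Nat.add (Nat.succ 141183) k)) 471 = true := by decide +kernel
theorem s5c283 : allBelow (fun k => fs5 (Nat.add (Nat.succ 141654) k)) 529 = true := by decide +kernel
theorem s5c284 : allBelow (fun k => fs5 (Nat.add (Nat.succ 142183) k)) 467 = true := by decide +kernel
theorem s5c285 : allBelow (fun k => fs5 (Nat.add (Nat.succ 142650) k)) 489 = true := by decide +kernel
theorem s5c286 : allBelow (fun k => fs5 (Nat.add (Nat.succ 143139) k)) 452 = true := by decide +kernel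
theorem s5c287 : allBelow (fun k => fs5 (Nat.add (Nat.succ 143591) k)) 481 = true := by decide +kernel
theorem s5c288 : allBelow (fun k => fs5 (Nat.add (Nat.succ 144072) k)) 461 = true := by decide +kernel
theorem s5c289 : allBelow (fun k => fs5 (Nat.add (Nat.succ 144533) k)) 491 = true := by decide +kernel
theorem s5c290 : allBelow (fun k => fs5 (Nat.add (Nat.succ 145024) k)) 581 = true := by decide +kernel
theorem s5c291 : allBelow (fun k => fs5 (Nat.add (Nat.succ 145605) k)) 520 = true := by decide +kernel
theorem s5c292 : allBelow (fun k => fs5 (Nat.add (Nat.succ 146125) k)) 525 = true := by decide +kernel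
theorem s5c293 : allBelow (fun k => fs5 (Nat.add (Nat.succ 146650) k)) 526 = true := by decide +kernel
theorem s5c294 : allBelow (fun k => fs5 (Nat.add (Nat.succ 147176) k)) 484 = true := by decide +kernel
theorem s5c295 : allBelow (fun k => fs5 (Nat.add (Nat.succ 147660) k)) 605 = true := by decide +kernel
theorem s5c296 : allBelow (fun k => fs5 (Nat.add (Nat.succ 148265) k)) 509 = true := by decide +kernel
theorem s5c297 : allBelow (fun k => fs5 (Nat.add (Nat.succ 148774) k)) 554 = true := by decide +kernel
theorem s5c298 : allBelow (fun k => fs5 (Nat.add (Nat.succ 149328) k)) 557 = true := by decide +kernel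
theorem s5c299 : allBelow (fun k => fs5 (Nat.add (Nat.succ 149885) k)) 463 = true := by decide +kernel
theorem s5c300 : allBelow (fun k => fs5 (Nat.add (Nat.succ 150348) k)) 518 = true := by decide +kernel
theorem s5c301 : allBelow (fun k => fs5 (Nat.add (Nat.succ 150866) k)) 535 = true := by decide +kernel
theorem s5c302 : allBelow (fun k => fs5 (Nat.add (Nat.succ 151401) k)) 539 = true := by decide +kernel
theorem s5c303 : allBelow (fun k => fs5 (Nat.add (Nat.succ 151940) k)) 536 = true := by decide +kernel
theorem s5c304 : allBelow (fun k => fs5 (Nat.add (Nat.succ 152476) k)) 495 = true := by decide +kernel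
theorem s5c305 : allBelow (fun k => fs5 (Nat.add (Nat.succ 152971) k)) 510 = true := by decide +kernel
theorem s5c306 : allBelow (fun k => fs5 (Nat.add (Nat.succ 153481) k)) 506 = true := by decide +kernel
theorem s5c307 : allBelow (fun k => fs5 (Nat.add (Nat.succ 153987) k)) 551 = true := by decide +kernel
theorem s5c308 : allBelow (fun k => fs5 (Nat.add (Nat.succ 154538) k)) 535 = true := by decide +kernel
theorem s5c309 : allBelow (fun k => fs5 (Nat.add (Nat.succ 155073) k)) 509 = true := by decide +kernel
theorem s5c310 : allBelow (fun k => fs5 (Nat.add (Nat.succ 155582) k)) 528 = true := by decide +kernel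
theorem s5c311 : allBelow (fun k => fs5 (Nat.add (Nat.succ 156110) k)) 521 = true := by decide +kernel
theorem s5c312 : allBelow (fun k => fs5 (Nat.add (Nat.succ 156631) k)) 499 = true := by decide +kernel
theorem s5c313 : allBelow (fun k => fs5 (Nat.add (Nat.succ 157130) k)) 534 = true := by decide +kernel
theorem s5c314 : allBelow (fun k => fs5 (Nat.add (Nat.succ 157664) k)) 514 = true := by decide +kernel
theorem s5c315 : allBelow (fun k => fs5 (Nat.add (Nat.succ 158178) k)) 520 = true := by decide +kernel
theorem s5c316 : allBelow (fun k => fs5 (Nat.add (Nat.succ 158698) k)) 493 = true := by decide +kernel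
theorem s5c317 : allBelow (fun k => fs5 (Nat.add (Nat.succ 159191) k)) 463 = true := by decide +kernel
theorem s5c318 : allBelow (fun k => fs5 (Nat.add (Nat.succ 159654) k)) 508 = true := by decide +kernel
theorem s5c319 : allBelow (fun k => fs5 (Nat.add (Nat.succ 160162) k)) 517 = true := by decide +kernel
theorem s5c320 : allBelow (fun k => fs5 (Nat.add (Nat.succ 160679) k)) 466 = true := by decide +kernel
theorem s5c321 : allBelow (fun k => fs5 (Nat.add (Nat.succ 161145) k)) 492 = true := by decide +kernel
theorem s5c322 : allBelow (fun k => fs5 (Nat.add (Nat.succ 161637) k)) 449 = true := by decide +kernel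
theorem s5c323 : allBelow (fun k => fs5 (Nat.add (Nat.succ 162086) k)) 371 = true := by decide +kernel
theorem s5c324 : allBelow (fun k => fs5 (Nat.add (Nat.succ 162457) k)) 359 = true := by decide +kernel
theorem s5c325 : allBelow (fun k => fs5 (Nat.add (Nat.succ 162816) k)) 372 = true := by decide +kernel
theorem s5c326 : allBelow (fun k => fs5 (Nat.add (Nat.succ 163188) k)) 390 = true := by decide +kernel
theorem s5c327 : allBelow (fun k => fs5 (Nat.add (Nat.succ 163578) k)) 381 = true := by decide +kernel
theorem s5c328 : allBelow (fun k => fs5 (Nat.add (Nat.succ 163959) k)) 394 = true := by decide +kernel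
theorem s5c329 : allBelow (fun k => fs5 (Nat.add (Nat.succ 164353) k)) 386 = true := by decide +kernel
theorem s5c330 : allBelow (fun k => fs5 (Nat.add (Nat.succ 164739) k)) 378 = true := by decide +kernel
theorem s5c331 : allBelow (fun k => fs5 (Nat.add (Nat.succ 165117) k)) 388 = true := by decide +kernel
theorem s5c332 : allBelow (fun k => fs5 (Nat.add (Nat.succ 165505) k)) 359 = true := by decide +kernel
theorem s5c333 : allBelow (fun k => fs5 (Nat.add (Nat.succ 165864) k)) 361 = true := by decide +kernel
theorem s5c334 : allBelow (fun k => fs5 (Nat.add (Nat.succ 166225) k)) 341 = true := by decide +kernel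
theorem s5c335 : allBelow (fun k => fs5 (Nat.add (Nat.succ 166566) k)) 374 = true := by decide +kernel
theorem s5c336 : allBelow (fun k => fs5 (Nat.add (Nat.succ 166940) k)) 384 = true := by decide +kernel
theorem s5c337 : allBelow (fun k => fs5 (Nat.add (Nat.succ 167324) k)) 370 = true := by decide +kernel
theorem s5c338 : allBelow (fun k => fs5 (Nat.add (Nat.succ 167694) k)) 369 = true := by decide +kernel
theorem s5c339 : allBelow (fun k => fs5 (Nat.add (Nat.succ 168063) k)) 389 = true := by decide +kernel
theorem s5c340 : allBelow (fun k => fs5 (Nat.add (Nat.succ 168452) k)) 393 = true := by decide +kernel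
theorem s5c341 : allBelow (fun k => fs5 (Nat.add (Nat.succ 168845) k)) 369 = true := by decide +kernel
theorem s5c342 : allBelow (fun k => fs5 (Nat.add (Nat.succ 169214) k)) 386 = true := by decide +kernel
theorem s5c343 : allBelow (fun k => fs5 (Nat.add (Nat.succ 169600) k)) 382 = true := by decide +kernel
theorem s5c344 : allBelow (fun k => fs5 (Nat.add (Nat.succ 169982) k)) 363 = true := by decide +kernel
theorem s5c345 : allBelow (fun k => fs5 (Nat.add (Nat.succ 170345) k)) 358 = true := by decide +kernel
theorem s5c346 : allBelow (fun k => fs5 (Nat.add (Nat.succ 170703) k)) 376 = true := by decide +kernel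
theorem s5c347 : allBelow (fun k => fs5 (Nat.add (Nat.succ 171079) k)) 360 = true := by decide +kernel
theorem s5c348 : allBelow (fun k => fs5 (Nat.add (Nat.succ 171439) k)) 352 = true := by decide +kernel
theorem s5c349 : allBelow (fun k => fs5 (Nat.add (Nat.succ 171791) k)) 382 = true := by decide +kernel
theorem s5c350 : allBelow (fun k => fs5 (Nat.add (Nat.succ 172173) k)) 366 = true := by decide +kernel
theorem s5c351 : allBelow (fun k => fs5 (Nat.add (Nat.succ 172539) k)) 374 = true := by decide +kernel
theorem s5c352 : allBelow (fun k => fs5 (Nat.add (Nat.succ 172913) k)) 386 = true := by decide +kernel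
theorem s5c353 : allBelow (fun k => fs5 (Nat.add (Nat.succ 173299) k)) 368 = true := by decide +kernel
theorem s5c354 : allBelow (fun k => fs5 (Nat.add (Nat.succ 173667) k)) 385 = true := by decide +kernel
theorem s5c355 : allBelow (fun k => fs5 (Nat.add (Nat.succ 174052) k)) 354 = true := by decide +kernel
theorem s5c356 : allBelow (fun k => fs5 (Nat.add (Nat.succ 174406) k)) 364 = true := by decide +kernel
theorem s5c357 : allBelow (fun k => fs5 (Nat.add (Nat.succ 174770) k)) 371 = true := by decide +kernel
theorem s5c358 : allBelow (fun k => fs5 (Nat.add (Nat.succ 175141) k)) 367 = true := by decide +kernel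
theorem s5c359 : allBelow (fun k => fs5 (Nat.add (Nat.succ 175508) k)) 358 = true := by decide +kernel
theorem s5c360 : allBelow (fun k => fs5 (Nat.add (Nat.succ 175866) k)) 348 = true := by decide +kernel
theorem s5c361 : allBelow (fun k => fs5 (Nat.add (Nat.succ 176214) k)) 375 = true := by decide +kernel
theorem s5c362 : allBelow (fun k => fs5 (Nat.add (Nat.succ 176589) k)) 340 = true := by decide +kernel
theorem s5c363 : allBelow (fun k => fs5 (Nat.add (Nat.succ 176929) k)) 342 = true := by decide +kernel
theorem s5c364 : allBelow (fun k => fs5 (Nat.add (Nat.succ 177271) k)) 368 = true := by decide +kernel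
theorem s5c365 : allBelow (fun k => fs5 (Nat.add (Nat.succ 177639) k)) 374 = true := by decide +kernel
theorem s5c366 : allBelow (fun k => fs5 (Nat.add (Nat.succ 178013) k)) 357 = true := by decide +kernel
theorem s5c367 : allBelow (fun k => fs5 (Nat.add (Nat.succ 178370) k)) 352 = true := by decide +kernel
theorem s5c368 : allBelow (fun k => fs5 (Nat.add (Nat.succ 178722) k)) 356 = true := by decide +kernel
theorem s5c369 : allBelow (fun k => fs5 (Nat.add (Nat.succ 179078) k)) 360 = true := by decide +kernel
theorem s5c370 : allBelow (fun k => fs5 (Nat.add (Nat.succ 179438) k)) 348 = true := by decide +kernel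
theorem s5c371 : allBelow (fun k => fs5 (Nat.add (Nat.succ 179786) k)) 346 = true := by decide +kernel
theorem s5c372 : allBelow (fun k => fs5 (Nat.add (Nat.succ 180132) k)) 350 = true := by decide +kernel
theorem s5c373 : allBelow (fun k => fs5 (Nat.add (Nat.succ 180482) k)) 343 = true := by decide +kernel
theorem s5c374 : allBelow (fun k => fs5 (Nat.add (Nat.succ 180825) k)) 346 = true := by decide +kernel
theorem s5c375 : allBelow (fun k => fs5 (Nat.add (Nat.succ 181171) k)) 376 = true := by decide +kernel
theorem s5c376 : allBelow (fun k => fs5 (Nat.add (Nat.succ 181547) k)) 339 = true := by decide +kernel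
theorem s5c377 : allBelow (fun k => fs5 (Nat.add (Nat.succ 181886) k)) 351 = true := by decide +kernel
theorem s5c378 : allBelow (fun k => fs5 (Nat.add (Nat.succ 182237) k)) 351 = true := by decide +kernel
theorem s5c379 : allBelow (fun k => fs5 (Nat.add (Nat.succ 182588) k)) 342 = true := by decide +kernel
theorem s5c380 : allBelow (fun k => fs5 (Nat.add (Nat.succ 182930) k)) 351 = true := by decide +kernel
theorem s5c381 : allBelow (fun k => fs5 (Nat.add (Nat.succ 183281) k)) 359 = true := by decide +kernel
theorem s5c382 : allBelow (fun k => fs5 (Nat.add (Nat.succ 183640) k)) 339 = true := by decide +kernel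
theorem s5c383 : allBelow (fun k => fs5 (Nat.add (Nat.succ 183979) k)) 334 = true := by decide +kernel
theorem s5c384 : allBelow (fun k => fs5 (Nat.add (Nat.succ 184313) k)) 348 = true := by decide +kernel
theorem s5c385 : allBelow (fun k => fs5 (Nat.add (Nat.succ 184661) k)) 338 = true := by decide +kernel
theorem s5c386 : allBelow (fun k => fs5 (Nat.add (Nat.succ 184999) k)) 342 = true := by decide +kernel
theorem s5c387 : allBelow (fun k => fs5 (Nat.add (Nat.succ 185341) k)) 347 = true := by decide +kernel
theorem s5c388 : allBelow (fun k => fs5 (Nat.add (Nat.succ 185688) k)) 359 = true := by decide +kernel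
theorem s5c389 : allBelow (fun k => fs5 (Nat.add (Nat.succ 186047) k)) 346 = true := by decide +kernel
theorem s5c390 : allBelow (fun k => fs5 (Nat.add (Nat.succ 186393) k)) 344 = true := by decide +kernel
theorem s5c391 : allBelow (fun k => fs5 (Nat.add (Nat.succ 186737) k)) 344 = true := by decide +kernel
theorem s5c392 : allBelow (fun k => fs5 (Nat.add (Nat.succ 187081) k)) 341 = true := by decide +kernel
theorem s5c393 : allBelow (fun k => fs5 (Nat.add (Nat.succ 187422) k)) 336 = true := by decide +kernel
theorem s5c394 : allBelow (fun k => fs5 (Nat.add (Nat.succ 187758) k)) 339 = true := by decide +kernel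
theorem s5c395 : allBelow (fun k => fs5 (Nat.add (Nat.succ 188097) k)) 340 = true := by decide +kernel
theorem s5c396 : allBelow (fun k => fs5 (Nat.add (Nat.succ 188437) k)) 332 = true := by decide +kernel
theorem s5c397 : allBelow (fun k => fs5 (Nat.add (Nat.succ 188769) k)) 333 = true := by decide +kernel
theorem s5c398 : allBelow (fun k => fs5 (Nat.add (Nat.succ 189102) k)) 335 = true := by decide +kernel
theorem s5c399 : allBelow (fun k => fs5 (Nat.add (Nat.succ 189437) k)) 348 = true := by decide +kernel
theorem s5c400 : allBelow (fun k => fs5 (Nat.add (Nat.succ 189785) k)) 346 = true := by decide +kernel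
theorem s5c401 : allBelow (fun k => fs5 (Nat.add (Nat.succ 190131) k)) 324 = true := by decide +kernel
theorem s5c402 : allBelow (fun k => fs5 (Nat.add (Nat.succ 190455) k)) 311 = true := by decide +kernel
theorem s5c403 : allBelow (fun k => fs5 (Nat.add (Nat.succ 190766) k)) 329 = true := by decide +kernel
theorem s5c404 : allBelow (fun k => fs5 (Nat.add (Nat.succ 191095) k)) 340 = true := by decide +kernel
theorem s5c405 : allBelow (fun k => fs5 (Nat.add (Nat.succ 191435) k)) 328 = true := by decide +kernel
theorem s5c406 : allBelow (fun k => fs5 (Nat.add (Nat.succ 191763) k)) 325 = true := by decide +kernel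
theorem s5c407 : allBelow (fun k => fs5 (Nat.add (Nat.succ 192088) k)) 324 = true := by decide +kernel
theorem s5c408 : allBelow (fun k => fs5 (Nat.add (Nat.succ 192412) k)) 319 = true := by decide +kernel
theorem s5c409 : allBelow (fun k => fs5 (Nat.add (Nat.succ 192731) k)) 323 = true := by decide +kernel
theorem s5c410 : allBelow (fun k => fs5 (Nat.add (Nat.succ 193054) k)) 320 = true := by decide +kernel
theorem s5c411 : allBelow (fun k => fs5 (Nat.add (Nat.succ 193374) k)) 345 = true := by decide +kernel
theorem s5c412 : allBelow (fun k => fs5 (Nat.add (Nat.succ 193719) k)) 333 = true := by decide +kernel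
theorem s5c413 : allBelow (fun k => fs5 (Nat.add (Nat.succ 194052) k)) 325 = true := by decide +kernel
theorem s5c414 : allBelow (fun k => fs5 (Nat.add (Nat.succ 194377) k)) 319 = true := by decide +kernel
theorem s5c415 : allBelow (fun k => fs5 (Nat.add (Nat.succ 194696) k)) 312 = true := by decide +kernel
theorem s5c416 : allBelow (fun k => fs5 (Nat.add (Nat.succ 195008) k)) 319 = true := by decide +kernel
theorem s5c417 : allBelow (fun k => fs5 (Nat.add (Nat.succ 195327) k)) 329 = true := by decide +kernel
theorem s5c418 : allBelow (fun k => fs5 (Nat.add (Nat.succ 195656) k)) 329 = true := by decide +kernel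
theorem s5c419 : allBelow (fun k => fs5 (Nat.add (Nat.succ 195985) k)) 330 = true := by decide +kernel
theorem s5c420 : allBelow (fun k => fs5 (Nat.add (Nat.succ 196315) k)) 319 = true := by decide +kernel
theorem s5c421 : allBelow (fun k => fs5 (Nat.add (Nat.succ 196634) k)) 314 = true := by decide +kernel
theorem s5c422 : allBelow (fun k => fs5 (Nat.add (Nat.succ 196948) k)) 306 = true := by decide +kernel
theorem s5c423 : allBelow (fun k => fs5 (Nat.add (Nat.succ 197254) k)) 310 = true := by decide +kernel
theorem s5c424 : allBelow (fun k => fs5 (Nat.add (Nat.succ 197564) k)) 309 = true := by decide +kernel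
theorem s5c425 : allBelow (fun k => fs5 (Nat.add (Nat.succ 197873) k)) 314 = true := by decide +kernel
theorem s5c426 : allBelow (fun k => fs5 (Nat.add (Nat.succ 198187) k)) 311 = true := by decide +kernel
theorem s5c427 : allBelow (fun k => fs5 (Nat.add (Nat.succ 198498) k)) 318 = true := by decide +kernel
theorem s5c428 : allBelow (fun k => fs5 (Nat.add (Nat.succ 198816) k)) 294 = true := by decide +kernel
theorem s5c429 : allBelow (fun k => fs5 (Nat.add (Nat.succ 199110) k)) 285 = true := by decide +kernel
theorem s5c430 : allBelow (fun k => fs5 (Nat.add (Nat.succ 199395) k)) 312 = true := by decide +kernel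
theorem s5c431 : allBelow (fun k => fs5 (Nat.add (Nat.succ 199707) k)) 321 = true := by decide +kernel
theorem s5c432 : allBelow (fun k => fs5 (Nat.add (Nat.succ 200028) k)) 296 = true := by decide +kernel
theorem s5c433 : allBelow (fun k => fs5 (Nat.add (Nat.succ 200324) k)) 312 = true := by decide +kernel
theorem s5c434 : allBelow (fun k => fs5 (Nat.add (Nat.succ 200636) k)) 291 = true := by decide +kernel
theorem s5c435 : allBelow (fun k => fs5 (Nat.add (Nat.succ 200927) k)) 308 = true := by decide +kernel
theorem s5c436 : allBelow (fun k => fs5 (Nat.add (Nat.succ 201235) k)) 298 = true := by decide +kernel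
theorem s5c437 : allBelow (fun k => fs5 (Nat.add (Nat.succ 201533) k)) 49 = true := by decide +kernel
theorem s6c0 : allBelow (fun k => fs6 (Nat.add (Nat.succ 0) k)) 575 = true := by decide +kernel
theorem s6c1 : allBelow (fun k => fs6 (Nat.add (Nat.succ 575) k)) 519 = true := by decide +kernel
theorem s6c2 : allBelow (fun k => fs6 (Nat.add (Nat.succ 1094) k)) 513 = true := by decide +kernel
theorem s6c3 : allBelow (fun k => fs6 (Nat.add (Nat.succ 1607) k)) 539 = true := by decide +kernel
theorem s6c4 : allBelow (fun k => fs6 (Nat.add (Nat.succ 2146) k)) 526 = true := by decide +kernel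
theorem s6c5 : allBelow (fun k => fs6 (Nat.add (Nat.succ 2672) k)) 571 = true := by decide +kernel
theorem s6c6 : allBelow (fun k => fs6 (Nat.add (Nat.succ 3243) k)) 561 = true := by decide +kernel
theorem s6c7 : allBelow (fun k => fs6 (Nat.add (Nat.succ 3804) k)) 573 = true := by decide +kernel
theorem s6c8 : allBelow (fun k => fs6 (Nat.add (Nat.succ 4377) k)) 549 = true := by decide +kernel
theorem s6c9 : allBelow (fun k => fs6 (Nat.add (Nat.succ 4926) k)) 542 = true := by decide +kernel
theorem s6c10 : allBelow (fun k => fs6 (Nat.add (Nat.succ 5468) k)) 512 = true := by decide +kernel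
theorem s6c11 : allBelow (fun k => fs6 (Nat.add (Nat.succ 5980) k)) 516 = true := by decide +kernel
theorem s6c12 : allBelow (fun k => fs6 (Nat.add (Nat.succ 6496) k)) 544 = true := by decide +kernel
theorem s6c13 : allBelow (fun k => fs6 (Nat.add (Nat.succ 7040) k)) 575 = true := by decide +kernel
theorem s6c14 : allBelow (fun k => fs6 (Nat.add (Nat.succ 7615) k)) 541 = true := by decide +kernel
theorem s6c15 : allBelow (fun k => fs6 (Nat.add (Nat.succ 8156) k)) 571 = true := by decide +kernel
theorem s6c16 : allBelow (fun k => fs6 (Nat.add (Nat.succ 8727) k)) 552 = true := by decide +kernel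
theorem s6c17 : allBelow (fun k => fs6 (Nat.add (Nat.succ 9279) k)) 569 = true := by decide +kernel
theorem s6c18 : allBelow (fun k => fs6 (Nat.add (Nat.succ 9848) k)) 582 = true := by decide +kernel
theorem s6c19 : allBelow (fun k => fs6 (Nat.add (Nat.succ 10430) k)) 553 = true := by decide +kernel
theorem s6c20 : allBelow (fun k => fs6 (Nat.add (Nat.succ 10983) k)) 522 = true := by decide +kernel
theorem s6c21 : allBelow (fun k => fs6 (Nat.add (Nat.succ 11505) k)) 503 = true := by decide +kernel
theorem s6c22 : allBelow (fun k => fs6 (Nat.add (Nat.succ 12008) k)) 529 = true := by decide +kernel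
theorem s6c23 : allBelow (fun k => fs6 (Nat.add (Nat.succ 12537) k)) 519 = true := by decide +kernel
theorem s6c24 : allBelow (fun k => fs6 (Nat.add (Nat.succ 13056) k)) 533 = true := by decide +kernel
theorem s6c25 : allBelow (fun k => fs6 (Nat.add (Nat.succ 13589) k)) 544 = true := by decide +kernel
theorem s6c26 : allBelow (fun k => fs6 (Nat.add (Nat.succ 14133) k)) 541 = true := by decide +kernel
theorem s6c27 : allBelow (fun k => fs6 (Nat.add (Nat.succ 14674) k)) 567 = true := by decide +kernel
theorem s6c28 : allBelow (fun k => fs6 (Nat.add (Nat.succ 15241) k)) 616 = true := by decide +kernel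
theorem s6c29 : allBelow (fun k => fs6 (Nat.add (Nat.succ 15857) k)) 563 = true := by decide +kernel
theorem s6c30 : allBelow (fun k => fs6 (Nat.add (Nat.succ 16420) k)) 539 = true := by decide +kernel
theorem s6c31 : allBelow (fun k => fs6 (Nat.add (Nat.succ 16959) k)) 545 = true := by decide +kernel
theorem s6c32 : allBelow (fun k => fs6 (Nat.add (Nat.succ 17504) k)) 563 = true := by decide +kernel
theorem s6c33 : allBelow (fun k => fs6 (Nat.add (Nat.succ 18067) k)) 588 = true := by decide +kernel
theorem s6c34 : allBelow (fun k => fs6 (Nat.add (Nat.succ 18655) k)) 562 = true := by decide +kernel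
theorem s6c35 : allBelow (fun k => fs6 (Nat.add (Nat.succ 19217) k)) 551 = true := by decide +kernel
theorem s6c36 : allBelow (fun k => fs6 (Nat.add (Nat.succ 19768) k)) 559 = true := by decide +kernel
theorem s6c37 : allBelow (fun k => fs6 (Nat.add (Nat.succ 20327) k)) 570 = true := by decide +kernel
theorem s6c38 : allBelow (fun k => fs6 (Nat.add (Nat.succ 20897) k)) 569 = true := by decide +kernel
theorem s6c39 : allBelow (fun k => fs6 (Nat.add (Nat.succ 21466) k)) 585 = true := by decide +kernel
theorem s6c40 : allBelow (fun k => fs6 (Nat.add (Nat.succ 22051) k)) 593 = true := by decide +kernel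
theorem s6c41 : allBelow (fun k => fs6 (Nat.add (Nat.succ 22644) k)) 587 = true := by decide +kernel
theorem s6c42 : allBelow (fun k => fs6 (Nat.add (Nat.succ 23231) k)) 526 = true := by decide +kernel
theorem s6c43 : allBelow (fun k => fs6 (Nat.add (Nat.succ 23757) k)) 525 = true := by decide +kernel
theorem s6c44 : allBelow (fun k => fs6 (Nat.add (Nat.succ 24282) k)) 503 = true := by decide +kernel
theorem s6c45 : allBelow (fun k => fs6 (Nat.add (Nat.succ 24785) k)) 513 = true := by decide +kernel
theorem s6c46 : allBelow (fun k => fs6 (Nat.add (Nat.succ 25298) k)) 517 = true := by decide +kernel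
theorem s6c47 : allBelow (fun k => fs6 (Nat.add (Nat.succ 25815) k)) 535 = true := by decide +kernel
theorem s6c48 : allBelow (fun k => fs6 (Nat.add (Nat.succ 26350) k)) 528 = true := by decide +kernel
theorem s6c49 : allBelow (fun k => fs6 (Nat.add (Nat.succ 26878) k)) 548 = true := by decide +kernel
theorem s6c50 : allBelow (fun k => fs6 (Nat.add (Nat.succ 27426) k)) 539 = true := by decide +kernel
theorem s6c51 : allBelow (fun k => fs6 (Nat.add (Nat.succ 27965) k)) 551 = true := by decide +kernel
theorem s6c52 : allBelow (fun k => fs6 (Nat.add (Nat.succ 28516) k)) 518 = true := by decide +kernel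
theorem s6c53 : allBelow (fun k => fs6 (Nat.add (Nat.succ 29034) k)) 533 = true := by decide +kernel
theorem s6c54 : allBelow (fun k => fs6 (Nat.add (Nat.succ 29567) k)) 531 = true := by decide +kernel
theorem s6c55 : allBelow (fun k => fs6 (Nat.add (Nat.succ 30098) k)) 593 = true := by decide +kernel
theorem s6c56 : allBelow (fun k => fs6 (Nat.add (Nat.succ 30691) k)) 580 = true := by decide +kernel
theorem s6c57 : allBelow (fun k => fs6 (Nat.add (Nat.succ 31271) k)) 555 = true := by decide +kernel
theorem s6c58 : allBelow (fun k => fs6 (Nat.add (Nat.succ 31826) k)) 558 = true := by decide +kernel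
theorem s6c59 : allBelow (fun k => fs6 (Nat.add (Nat.succ 32384) k)) 553 = true := by decide +kernel
theorem s6c60 : allBelow (fun k => fs6 (Nat.add (Nat.succ 32937) k)) 584 = true := by decide +kernel
theorem s6c61 : allBelow (fun k => fs6 (Nat.add (Nat.succ 33521) k)) 525 = true := by decide +kernel
theorem s6c62 : allBelow (fun k => fs6 (Nat.add (Nat.succ 34046) k)) 541 = true := by decide +kernel
theorem s6c63 : allBelow (fun k => fs6 (Nat.add (Nat.succ 34587) k)) 585 = true := by decide +kernel
theorem s6c64 : allBelow (fun k => fs6 (Nat.add (Nat.succ 35172) k)) 543 = true := by decide +kernel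
theorem s6c65 : allBelow (fun k => fs6 (Nat.add (Nat.succ 35715) k)) 561 = true := by decide +kernel
theorem s6c66 : allBelow (fun k => fs6 (Nat.add (Nat.succ 36276) k)) 588 = true := by decide +kernel
theorem s6c67 : allBelow (fun k => fs6 (Nat.add (Nat.succ 36864) k)) 609 = true := by decide +kernel
theorem s6c68 : allBelow (fun k => fs6 (Nat.add (Nat.succ 37473) k)) 566 = true := by decide +kernel
theorem s6c69 : allBelow (fun k => fs6 (Nat.add (Nat.succ 38039) k)) 574 = true := by decide +kernel
theorem s6c70 : allBelow (fun k => fs6 (Nat.add (Nat.succ 38613) k)) 606 = true := by decide +kernel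
theorem s6c71 : allBelow (fun k => fs6 (Nat.add (Nat.succ 39219) k)) 567 = true := by decide +kernel
theorem s6c72 : allBelow (fun k => fs6 (Nat.add (Nat.succ 39786) k)) 608 = true := by decide +kernel
theorem s6c73 : allBelow (fun k => fs6 (Nat.add (Nat.succ 40394) k)) 543 = true := by decide +kernel
theorem s6c74 : allBelow (fun k => fs6 (Nat.add (Nat.succ 40937) k)) 534 = true := by decide +kernel
theorem s6c75 : allBelow (fun k => fs6 (Nat.add (Nat.succ 41471) k)) 604 = true := by decide +kernel
theorem s6c76 : allBelow (fun k => fs6 (Nat.add (Nat.succ 42075) k)) 545 = true := by decide +kernel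
theorem s6c77 : allBelow (fun k => fs6 (Nat.add (Nat.succ 42620) k)) 598 = true := by decide +kernel
theorem s6c78 : allBelow (fun k => fs6 (Nat.add (Nat.succ 43218) k)) 576 = true := by decide +kernel
theorem s6c79 : allBelow (fun k => fs6 (Nat.add (Nat.succ 43794) k)) 534 = true := by decide +kernel
theorem s6c80 : allBelow (fun k => fs6 (Nat.add (Nat.succ 44328) k)) 568 = true := by decide +kernel
theorem s6c81 : allBelow (fun k => fs6 (Nat.add (Nat.succ 44896) k)) 554 = true := by decide +kernel
theorem s6c82 : allBelow (fun k => fs6 (Nat.add (Nat.succ 45450) k)) 571 = true := by decide +kernel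
theorem s6c83 : allBelow (fun k => fs6 (Nat.add (Nat.succ 46021) k)) 562 = true := by decide +kernel
theorem s6c84 : allBelow (fun k => fs6 (Nat.add (Nat.succ 46583) k)) 562 = true := by decide +kernel
theorem s6c85 : allBelow (fun k => fs6 (Nat.add (Nat.succ 47145) k)) 511 = true := by decide +kernel
theorem s6c86 : allBelow (fun k => fs6 (Nat.add (Nat.succ 47656) k)) 533 = true := by decide +kernel
theorem s6c87 : allBelow (fun k => fs6 (Nat.add (Nat.succ 48189) k)) 594 = true := by decide +kernel
theorem s6c88 : allBelow (fun k => fs6 (Nat.add (Nat.succ 48783) k)) 561 = true := by decide +kernel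
theorem s6c89 : allBelow (fun k => fs6 (Nat.add (Nat.succ 49344) k)) 506 = true := by decide +kernel
theorem s6c90 : allBelow (fun k => fs6 (Nat.add (Nat.succ 49850) k)) 589 = true := by decide +kernel
theorem s6c91 : allBelow (fun k => fs6 (Nat.add (Nat.succ 50439) k)) 542 = true := by decide +kernel
theorem s6c92 : allBelow (fun k => fs6 (Nat.add (Nat.succ 50981) k)) 557 = true := by decide +kernel
theorem s6c93 : allBelow (fun k => fs6 (Nat.add (Nat.succ 51538) k)) 583 = true := by decide +kernel
theorem s6c94 : allBelow (fun k => fs6 (Nat.add (Nat.succ 52121) k)) 519 = true := by decide +kernel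
theorem s6c95 : allBelow (fun k => fs6 (Nat.add (Nat.succ 52640) k)) 518 = true := by decide +kernel
theorem s6c96 : allBelow (fun k => fs6 (Nat.add (Nat.succ 53158) k)) 539 = true := by decide +kernel
theorem s6c97 : allBelow (fun k => fs6 (Nat.add (Nat.succ 53697) k)) 579 = true := by decide +kernel
theorem s6c98 : allBelow (fun k => fs6 (Nat.add (Nat.succ 54276) k)) 610 = true := by decide +kernel
theorem s6c99 : allBelow (fun k => fs6 (Nat.add (Nat.succ 54886) k)) 620 = true := by decide +kernel
theorem s6c100 : allBelow (fun k => fs6 (Nat.add (Nat.succ 55506) k)) 594 = true := by decide +kernel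
theorem s6c101 : allBelow (fun k => fs6 (Nat.add (Nat.succ 56100) k)) 591 = true := by decide +kernel
theorem s6c102 : allBelow (fun k => fs6 (Nat.add (Nat.succ 56691) k)) 572 = true := by decide +kernel
theorem s6c103 : allBelow (fun k => fs6 (Nat.add (Nat.succ 57263) k)) 575 = true := by decide +kernel
theorem s6c104 : allBelow (fun k => fs6 (Nat.add (Nat.succ 57838) k)) 546 = true := by decide +kernel
theorem s6c105 : allBelow (fun k => fs6 (Nat.add (Nat.succ 58384) k)) 583 = true := by decide +kernel
theorem s6c106 : allBelow (fun k => fs6 (Nat.add (Nat.succ 58967) k)) 526 = true := by decide +kernel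
theorem s6c107 : allBelow (fun k => fs6 (Nat.add (Nat.succ 59493) k)) 526 = true := by decide +kernel
theorem s6c108 : allBelow (fun k => fs6 (Nat.add (Nat.succ 60019) k)) 535 = true := by decide +kernel
theorem s6c109 : allBelow (fun k => fs6 (Nat.add (Nat.succ 60554) k)) 553 = true := by decide +kernel
theorem s6c110 : allBelow (fun k => fs6 (Nat.add (Nat.succ 61107) k)) 538 = true := by decide +kernel
theorem s6c111 : allBelow (fun k => fs6 (Nat.add (Nat.succ 61645) k)) 544 = true := by decide +kernel
theorem s6c112 : allBelow (fun k => fs6 (Nat.add (Nat.succ 62189) k)) 596 = true := by decide +kernel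
theorem s6c113 : allBelow (fun k => fs6 (Nat.add (Nat.succ 62785) k)) 586 = true := by decide +kernel
theorem s6c114 : allBelow (fun k => fs6 (Nat.add (Nat.succ 63371) k)) 638 = true := by decide +kernel
theorem s6c115 : allBelow (fun k => fs6 (Nat.add (Nat.succ 64009) k)) 662 = true := by decide +kernel
theorem s6c116 : allBelow (fun k => fs6 (Nat.add (Nat.succ 64671) k)) 619 = true := by decide +kernel
theorem s6c117 : allBelow (fun k => fs6 (Nat.add (Nat.succ 65290) k)) 568 = true := by decide +kernel
theorem s6c118 : allBelow (fun k => fs6 (Nat.add (Nat.succ 65858) k)) 563 = true := by decide +kernel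
theorem s6c119 : allBelow (fun k => fs6 (Nat.add (Nat.succ 66421) k)) 572 = true := by decide +kernel
theorem s6c120 : allBelow (fun k => fs6 (Nat.add (Nat.succ 66993) k)) 585 = true := by decide +kernel
theorem s6c121 : allBelow (fun k => fs6 (Nat.add (Nat.succ 67578) k)) 572 = true := by decide +kernel
theorem s6c122 : allBelow (fun k => fs6 (Nat.add (Nat.succ 68150) k)) 575 = true := by decide +kernel
theorem s6c123 : allBelow (fun k => fs6 (Nat.add (Nat.succ 68725) k)) 559 = true := by decide +kernel
theorem s6c124 : allBelow (fun k => fs6 (Nat.add (Nat.succ 69284) k)) 573 = true := by decide +kernel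
theorem s6c125 : allBelow (fun k => fs6 (Nat.add (Nat.succ 69857) k)) 617 = true := by decide +kernel
theorem s6c126 : allBelow (fun k => fs6 (Nat.add (Nat.succ 70474) k)) 619 = true := by decide +kernel
theorem s6c127 : allBelow (fun k => fs6 (Nat.add (Nat.succ 71093) k)) 531 = true := by decide +kernel
theorem s6c128 : allBelow (fun k => fs6 (Nat.add (Nat.succ 71624) k)) 588 = true := by decide +kernel
theorem s6c129 : allBelow (fun k => fs6 (Nat.add (Nat.succ 72212) k)) 570 = true := by decide +kernel
theorem s6c130 : allBelow (fun k => fs6 (Nat.add (Nat.succ 72782) k)) 597 = true := by decide +kernel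
theorem s6c131 : allBelow (fun k => fs6 (Nat.add (Nat.succ 73379) k)) 554 = true := by decide +kernel
theorem s6c132 : allBelow (fun k => fs6 (Nat.add (Nat.succ 73933) k)) 676 = true := by decide +kernel
theorem s6c133 : allBelow (fun k => fs6 (Nat.add (Nat.succ 74609) k)) 589 = true := by decide +kernel
theorem s6c134 : allBelow (fun k => fs6 (Nat.add (Nat.succ 75198) k)) 553 = true := by decide +kernel
theorem s6c135 : allBelow (fun k => fs6 (Nat.add (Nat.succ 75751) k)) 636 = true := by decide +kernel
theorem s6c136 : allBelow (fun k => fs6 (Nat.add (Nat.succ 76387) k)) 602 = true := by decide +kernel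
theorem s6c137 : allBelow (fun k => fs6 (Nat.add (Nat.succ 76989) k)) 648 = true := by decide +kernel
theorem s6c138 : allBelow (fun k => fs6 (Nat.add (Nat.succ 77637) k)) 617 = true := by decide +kernel
theorem s6c139 : allBelow (fun k => fs6 (Nat.add (Nat.succ 78254) k)) 602 = true := by decide +kernel
theorem s6c140 : allBelow (fun k => fs6 (Nat.add (Nat.succ 78856) k)) 586 = true := by decide +kernel
theorem s6c141 : allBelow (fun k => fs6 (Nat.add (Nat.succ 79442) k)) 586 = true := by decide +kernel
theorem s6c142 : allBelow (fun k => fs6 (Nat.add (Nat.succ 80028) k)) 603 = true := by decide +kernel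
theorem s6c143 : allBelow (fun k => fs6 (Nat.add (Nat.succ 80631) k)) 596 = true := by decide +kernel
theorem s6c144 : allBelow (fun k => fs6 (Nat.add (Nat.succ 81227) k)) 617 = true := by decide +kernel
theorem s6c145 : allBelow (fun k => fs6 (Nat.add (Nat.succ 81844) k)) 610 = true := by decide +kernel
theorem s6c146 : allBelow (fun k => fs6 (Nat.add (Nat.succ 82454) k)) 619 = true := by decide +kernel
theorem s6c147 : allBelow (fun k => fs6 (Nat.add (Nat.succ 83073) k)) 612 = true := by decide +kernel
theorem s6c148 : allBelow (fun k => fs6 (Nat.add (Nat.succ 83685) k)) 567 = true := by decide +kernel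
theorem s6c149 : allBelow (fun k => fs6 (Nat.add (Nat.succ 84252) k)) 550 = true := by decide +kernel
theorem s6c150 : allBelow (fun k => fs6 (Nat.add (Nat.succ 84802) k)) 534 = true := by decide +kernel
theorem s6c151 : allBelow (fun k => fs6 (Nat.add (Nat.succ 85336) k)) 525 = true := by decide +kernel
theorem s6c152 : allBelow (fun k => fs6 (Nat.add (Nat.succ 85861) k)) 516 = true := by decide +kernel
theorem s6c153 : allBelow (fun k => fs6 (Nat.add (Nat.succ 86377) k)) 559 = true := by decide +kernel
theorem s6c154 : allBelow (fun k => fs6 (Nat.add (Nat.succ 86936) k)) 544 = true := by decide +kernel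
theorem s6c155 : allBelow (fun k => fs6 (Nat.add (Nat.succ 87480) k)) 540 = true := by decide +kernel
theorem s6c156 : allBelow (fun k => fs6 (Nat.add (Nat.succ 88020) k)) 557 = true := by decide +kernel
theorem s6c157 : allBelow (fun k => fs6 (Nat.add (Nat.succ 88577) k)) 527 = true := by decide +kernel
theorem s6c158 : allBelow (fun k => fs6 (Nat.add (Nat.succ 89104) k)) 568 = true := by decide +kernel
theorem s6c159 : allBelow (fun k => fs6 (Nat.add (Nat.succ 89672) k)) 511 = true := by decide +kernel
theorem s6c160 : allBelow (fun k => fs6 (Nat.add (Nat.succ 90183) k)) 518 = true := by decide +kernel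
theorem s6c161 : allBelow (fun k => fs6 (Nat.add (Nat.succ 90701) k)) 542 = true := by decide +kernel
theorem s6c162 : allBelow (fun k => fs6 (Nat.add (Nat.succ 91243) k)) 536 = true := by decide +kernel
theorem s6c163 : allBelow (fun k => fs6 (Nat.add (Nat.succ 91779) k)) 530 = true := by decide +kernel
theorem s6c164 : allBelow (fun k => fs6 (Nat.add (Nat.succ 92309) k)) 532 = true := by decide +kernel
theorem s6c165 : allBelow (fun k => fs6 (Nat.add (Nat.succ 92841) k)) 570 = true := by decide +kernel
theorem s6c166 : allBelow (fun k => fs6 (Nat.add (Nat.succ 93411) k)) 583 = true := by decide +kernel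
theorem s6c167 : allBelow (fun k => fs6 (Nat.add (Nat.succ 93994) k)) 595 = true := by decide +kernel
theorem s6c168 : allBelow (fun k => fs6 (Nat.add (Nat.succ 94589) k)) 559 = true := by decide +kernel
theorem s6c169 : allBelow (fun k => fs6 (Nat.add (Nat.succ 95148) k)) 536 = true := by decide +kernel
theorem s6c170 : allBelow (fun k => fs6 (Nat.add (Nat.succ 95684) k)) 561 = true := by decide +kernel
theorem s6c171 : allBelow (fun k => fs6 (Nat.add (Nat.succ 96245) k)) 480 = true := by decide +kernel
theorem s6c172 : allBelow (fun k => fs6 (Nat.add (Nat.succ 96725) k)) 541 = true := by decide +kernel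
theorem s6c173 : allBelow (fun k => fs6 (Nat.add (Nat.succ 97266) k)) 492 = true := by decide +kernel
theorem s6c174 : allBelow (fun k => fs6 (Nat.add (Nat.succ 97758) k)) 503 = true := by decide +kernel
theorem s6c175 : allBelow (fun k => fs6 (Nat.add (Nat.succ 98261) k)) 505 = true := by decide +kernel
theorem s6c176 : allBelow (fun k => fs6 (Nat.add (Nat.succ 98766) k)) 553 = true := by decide +kernel
theorem s6c177 : allBelow (fun k => fs6 (Nat.add (Nat.succ 99319) k)) 504 = true := by decide +kernel
theorem s6c178 : allBelow (fun k => fs6 (Nat.add (Nat.succ 99823) k)) 564 = true := by decide +kernel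
theorem s6c179 : allBelow (fun k => fs6 (Nat.add (Nat.succ 100387) k)) 620 = true := by decide +kernel
theorem s6c180 : allBelow (fun k => fs6 (Nat.add (Nat.succ 101007) k)) 530 = true := by decide +kernel
theorem s6c181 : allBelow (fun k => fs6 (Nat.add (Nat.succ 101537) k)) 460 = true := by decide +kernel
theorem s6c182 : allBelow (fun k => fs6 (Nat.add (Nat.succ 101997) k)) 462 = true := by decide +kernel
theorem s6c183 : allBelow (fun k => fs6 (Nat.add (Nat.succ 102459) k)) 501 = true := by decide +kernel
theorem s6c184 : allBelow (fun k => fs6 (Nat.add (Nat.succ 102960) k)) 552 = true := by decide +kernel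
theorem s6c185 : allBelow (fun k => fs6 (Nat.add (Nat.succ 103512) k)) 473 = true := by decide +kernel
theorem s6c186 : allBelow (fun k => fs6 (Nat.add (Nat.succ 103985) k)) 514 = true := by decide +kernel
theorem s6c187 : allBelow (fun k => fs6 (Nat.add (Nat.succ 104499) k)) 491 = true := by decide +kernel
theorem s6c188 : allBelow (fun k => fs6 (Nat.add (Nat.succ 104990) k)) 524 = true := by decide +kernel
theorem s6c189 : allBelow (fun k => fs6 (Nat.add (Nat.succ 105514) k)) 486 = true := by decide +kernel

end Cfsg.Agent.Lib.Helper35.ON122760
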