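import Cfsg.Agent.Lib.Helper35.ON122760.Data

set_option Elab.async false

namespace Cfsg.Agent.Lib.Helper35.ON122760

open Cfsg.Agent.Lib.Helper35

theorem s6c190 : allBelow (fun k => fs6 (Nat.add (Nat.succ 106000) k)) 510 = true := by decide +kernel
theorem s6c191 : allBelow (fun k => fs6 (Nat.add (Nat.succ 106510) k)) 570 = true := by decide +kernel
theorem s6c192 : allBelow (fun k => fs6 (Nat.add (Nat.succ 107080) k)) 545 = true := by decide +kernel
theorem s6c193 : allBelow (fun k => fs6 (Nat.add (Nat.succ 107625) k)) 497 = true := by decide +kernel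
theorem s6c194 : allBelow (fun k => fs6 (Nat.add (Nat.succ 108122) k)) 556 = true := by decide +kernel
theorem s6c195 : allBelow (fun k => fs6 (Nat.add (Nat.succ 108678) k)) 512 = true := by decide +kernel
theorem s6c196 : allBelow (fun k => fs6 (Nat.add (Nat.succ 109190) k)) 513 = true := by decide +kernel
theorem s6c197 : allBelow (fun k => fs6 (Nat.add (Nat.succ 109703) k)) 520 = true := by decide +kernel
theorem s6c198 : allBelow (fun k => fs6 (Nat.add (Nat.succ 110223) k)) 532 = true := by decide +kernel
theorem s6c199 : allBelow (fun k => fs6 (Nat.add (Nat.succ 110755) k)) 552 = true := by decide +kernel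
theorem s6c200 : allBelow (fun k => fs6 (Nat.add (Nat.succ 111307) k)) 587 = true := by decide +kernel
theorem s6c201 : allBelow (fun k => fs6 (Nat.add (Nat.succ 111894) k)) 595 = true := by decide +kernel
theorem s6c202 : allBelow (fun k => fs6 (Nat.add (Nat.succ 112489) k)) 568 = true := by decide +kernel
theorem s6c203 : allBelow (fun k => fs6 (Nat.add (Nat.succ 113057) k)) 535 = true := by decide +kernel
theorem s6c204 : allBelow (fun k => fs6 (Nat.add (Nat.succ 113592) k)) 494 = true := by decide +kernel
theorem s6c205 : allBelow (fun k => fs6 (Nat.add (Nat.succ 114086) k)) 523 = true := by decide +kernel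
theorem s6c206 : allBelow (fun k => fs6 (Nat.add (Nat.succ 114609) k)) 542 = true := by decide +kernel
theorem s6c207 : allBelow (fun k => fs6 (Nat.add (Nat.succ 115151) k)) 456 = true := by decide +kernel
theorem s6c208 : allBelow (fun k => fs6 (Nat.add (Nat.succ 115607) k)) 483 = true := by decide +kernel
theorem s6c209 : allBelow (fun k => fs6 (Nat.add (Nat.succ 116090) k)) 526 = true := by decide +kernel
theorem s6c210 : allBelow (fun k => fs6 (Nat.add (Nat.succ 116616) k)) 509 = true := by decide +kernel
theorem s6c211 : allBelow (fun k => fs6 (Nat.add (Nat.succ 117125) k)) 501 = true := by decide +kernel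
theorem s6c212 : allBelow (fun k => fs6 (Nat.add (Nat.succ 117626) k)) 490 = true := by decide +kernel
theorem s6c213 : allBelow (fun k => fs6 (Nat.add (Nat.succ 118116) k)) 580 = true := by decide +kernel
theorem s6c214 : allBelow (fun k => fs6 (Nat.add (Nat.succ 118696) k)) 579 = true := by decide +kernel
theorem s6c215 : allBelow (fun k => fs6 (Nat.add (Nat.succ 119275) k)) 535 = true := by decide +kernel
theorem s6c216 : allBelow (fun k => fs6 (Nat.add (Nat.succ 119810) k)) 520 = true := by decide +kernel
theorem s6c217 : allBelow (fun k => fs6 (Nat.add (Nat.succ 120330) k)) 516 = true := by decide +kernel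
theorem s6c218 : allBelow (fun k => fs6 (Nat.add (Nat.succ 120846) k)) 505 = true := by decide +kernel
theorem s6c219 : allBelow (fun k => fs6 (Nat.add (Nat.succ 121351) k)) 573 = true := by decide +kernel
theorem s6c220 : allBelow (fun k => fs6 (Nat.add (Nat.succ 121924) k)) 476 = true := by decide +kernel
theorem s6c221 : allBelow (fun k => fs6 (Nat.add (Nat.succ 122400) k)) 524 = true := by decide +kernel
theorem s6c222 : allBelow (fun k => fs6 (Nat.add (Nat.succ 122924) k)) 513 = true := by decide +kernel
theorem s6c223 : allBelow (fun k => fs6 (Nat.add (Nat.succ 123437) k)) 508 = true := by decide +kernel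
theorem s6c224 : allBelow (fun k => fs6 (Nat.add (Nat.succ 123945) k)) 511 = true := by decide +kernel
theorem s6c225 : allBelow (fun k => fs6 (Nat.add (Nat.succ 124456) k)) 463 = true := by decide +kernel
theorem s6c226 : allBelow (fun k => fs6 (Nat.add (Nat.succ 124919) k)) 533 = true := by decide +kernel
theorem s6c227 : allBelow (fun k => fs6 (Nat.add (Nat.succ 125452) k)) 496 = true := by decide +kernel
theorem s6c228 : allBelow (fun k => fs6 (Nat.add (Nat.succ 125948) k)) 547 = true := by decide +kernel
theorem s6c229 : allBelow (fun k => fs6 (Nat.add (Nat.succ 126495) k)) 577 = true := by decide +kernel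
theorem s6c230 : allBelow (fun k => fs6 (Nat.add (Nat.succ 127072) k)) 642 = true := by decide +kernel
theorem s6c231 : allBelow (fun k => fs6 (Nat.add (Nat.succ 127714) k)) 500 = true := by decide +kernel
theorem s6c232 : allBelow (fun k => fs6 (Nat.add (Nat.succ 128214) k)) 598 = true := by decide +kernel
theorem s6c233 : allBelow (fun k => fs6 (Nat.add (Nat.succ 128812) k)) 518 = true := by decide +kernel
theorem s6c234 : allBelow (fun k => fs6 (Nat.add (Nat.succ 129330) k)) 559 = true := by decide +kernel
theorem s6c235 : allBelow (fun k => fs6 (Nat.add (Nat.succ 129889) k)) 600 = true := by decide +kernel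
theorem s6c236 : allBelow (fun k => fs6 (Nat.add (Nat.succ 130489) k)) 640 = true := by decide +kernel
theorem s6c237 : allBelow (fun k => fs6 (Nat.add (Nat.succ 131129) k)) 545 = true := by decide +kernel
theorem s6c238 : allBelow (fun k => fs6 (Nat.add (Nat.succ 131674) k)) 544 = true := by decide +kernel
theorem s6c239 : allBelow (fun k => fs6 (Nat.add (Nat.succ 132218) k)) 524 = true := by decide +kernel
theorem s6c240 : allBelow (fun k => fs6 (Nat.add (Nat.succ 132742) k)) 578 = true := by decide +kernel
theorem s6c241 : allBelow (fun k => fs6 (Nat.add (Nat.succ 133320) k)) 536 = true := by decide +kernel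
theorem s6c242 : allBelow (fun k => fs6 (Nat.add (Nat.succ 133856) k)) 523 = true := by decide +kernel
theorem s6c243 : allBelow (fun k => fs6 (Nat.add (Nat.succ 134379) k)) 543 = true := by decide +kernel
theorem s6c244 : allBelow (fun k => fs6 (Nat.add (Nat.succ 134922) k)) 565 = true := by decide +kernel
theorem s6c245 : allBelow (fun k => fs6 (Nat.add (Nat.succ 135487) k)) 552 = true := by decide +kernel
theorem s6c246 : allBelow (fun k => fs6 (Nat.add (Nat.succ 136039) k)) 556 = true := by decide +kernel
theorem s6c247 : allBelow (fun k => fs6 (Nat.add (Nat.succ 136595) k)) 551 = true := by decide +kernel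
theorem s6c248 : allBelow (fun k => fs6 (Nat.add (Nat.succ 137146) k)) 542 = true := by decide +kernel
theorem s6c249 : allBelow (fun k => fs6 (Nat.add (Nat.succ 137688) k)) 527 = true := by decide +kernel
theorem s6c250 : allBelow (fun k => fs6 (Nat.add (Nat.succ 138215) k)) 551 = true := by decide +kernel
theorem s6c251 : allBelow (fun k => fs6 (Nat.add (Nat.succ 138766) k)) 521 = true := by decide +kernel
theorem s6c252 : allBelow (fun k => fs6 (Nat.add (Nat.succ 139287) k)) 529 = true := by decide +kernel
theorem s6c253 : allBelow (fun k => fs6 (Nat.add (Nat.succ 139816) k)) 569 = true := by decide +kernel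
theorem s6c254 : allBelow (fun k => fs6 (Nat.add (Nat.succ 140385) k)) 584 = true := by decide +kernel
theorem s6c255 : allBelow (fun k => fs6 (Nat.add (Nat.succ 140969) k)) 507 = true := by decide +kernel
theorem s6c256 : allBelow (fun k => fs6 (Nat.add (Nat.succ 141476) k)) 596 = true := by decide +kernel
theorem s6c257 : allBelow (fun k => fs6 (Nat.add (Nat.succ 142072) k)) 511 = true := by decide +kernel
theorem s6c258 : allBelow (fun k => fs6 (Nat.add (Nat.succ 142583) k)) 560 = true := by decide +kernel
theorem s6c259 : allBelow (fun k => fs6 (Nat.add (Nat.succ 143143) k)) 564 = true := by decide +kernel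
theorem s6c260 : allBelow (fun k => fs6 (Nat.add (Nat.succ 143707) k)) 528 = true := by decide +kernel
theorem s6c261 : allBelow (fun k => fs6 (Nat.add (Nat.succ 144235) k)) 524 = true := by decide +kernel
theorem s6c262 : allBelow (fun k => fs6 (Nat.add (Nat.succ 144759) k)) 604 = true := by decide +kernel
theorem s6c263 : allBelow (fun k => fs6 (Nat.add (Nat.succ 145363) k)) 651 = true := by decide +kernel
theorem s6c264 : allBelow (fun k => fs6 (Nat.add (Nat.succ 146014) k)) 570 = true := by decide +kernel
theorem s6c265 : allBelow (fun k => fs6 (Nat.add (Nat.succ 146584) k)) 550 = true := by decide +kernel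
theorem s6c266 : allBelow (fun k => fs6 (Nat.add (Nat.succ 147134) k)) 526 = true := by decide +kernel
theorem s6c267 : allBelow (fun k => fs6 (Nat.add (Nat.succ 147660) k)) 664 = true := by decide +kernel
theorem s6c268 : allBelow (fun k => fs6 (Nat.add (Nat.succ 148324) k)) 573 = true := by decide +kernel
theorem s6c269 : allBelow (fun k => fs6 (Nat.add (Nat.succ 148897) k)) 640 = true := by decide +kernel
theorem s6c270 : allBelow (fun k => fs6 (Nat.add (Nat.succ 149537) k)) 600 = true := by decide +kernel
theorem s6c271 : allBelow (fun k => fs6 (Nat.add (Nat.succ 150137) k)) 658 = true := by decide +kernel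
theorem s6c272 : allBelow (fun k => fs6 (Nat.add (Nat.succ 150795) k)) 644 = true := by decide +kernel
theorem s6c273 : allBelow (fun k => fs6 (Nat.add (Nat.succ 151439) k)) 611 = true := by decide +kernel
theorem s6c274 : allBelow (fun k => fs6 (Nat.add (Nat.succ 152050) k)) 583 = true := by decide +kernel
theorem s6c275 : allBelow (fun k => fs6 (Nat.add (Nat.succ 152633) k)) 599 = true := by decide +kernel
theorem s6c276 : allBelow (fun k => fs6 (Nat.add (Nat.succ 153232) k)) 585 = true := by decide +kernel
theorem s6c277 : allBelow (fun k => fs6 (Nat.add (Nat.succ 153817) k)) 617 = true := by decide +kernel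
theorem s6c278 : allBelow (fun k => fs6 (Nat.add (Nat.succ 154434) k)) 612 = true := by decide +kernel
theorem s6c279 : allBelow (fun k => fs6 (Nat.add (Nat.succ 155046) k)) 582 = true := by decide +kernel
theorem s6c280 : allBelow (fun k => fs6 (Nat.add (Nat.succ 155628) k)) 563 = true := by decide +kernel
theorem s6c281 : allBelow (fun k => fs6 (Nat.add (Nat.succ 156191) k)) 613 = true := by decide +kernel
theorem s6c282 : allBelow (fun k => fs6 (Nat.add (Nat.succ 156804) k)) 572 = true := by decide +kernel
theorem s6c283 : allBelow (fun k => fs6 (Nat.add (Nat.succ 157376) k)) 575 = true := by decide +kernel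
theorem s6c284 : allBelow (fun k => fs6 (Nat.add (Nat.succ 157951) k)) 689 = true := by decide +kernel
theorem s6c285 : allBelow (fun k => fs6 (Nat.add (Nat.succ 158640) k)) 574 = true := by decide +kernel
theorem s6c286 : allBelow (fun k => fs6 (Nat.add (Nat.succ 159214) k)) 557 = true := by decide +kernel
theorem s6c287 : allBelow (fun k => fs6 (Nat.add (Nat.succ 159771) k)) 586 = true := by decide +kernel
theorem s6c288 : allBelow (fun k => fs6 (Nat.add (Nat.succ 160357) k)) 581 = true := by decide +kernel
theorem s6c289 : allBelow (fun k => fs6 (Nat.add (Nat.succ 160938) k)) 525 = true := by decide +kernel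
theorem s6c290 : allBelow (fun k => fs6 (Nat.add (Nat.succ 161463) k)) 520 = true := by decide +kernel
theorem s6c291 : allBelow (fun k => fs6 (Nat.add (Nat.succ 161983) k)) 419 = true := by decide +kernel
theorem s6c292 : allBelow (fun k => fs6 (Nat.add (Nat.succ 162402) k)) 405 = true := by decide +kernel
theorem s6c293 : allBelow (fun k => fs6 (Nat.add (Nat.succ 162807) k)) 417 = true := by decide +kernel
theorem s6c294 : allBelow (fun k => fs6 (Nat.add (Nat.succ 163224) k)) 419 = true := by decide +kernel
theorem s6c295 : allBelow (fun k => fs6 (Nat.add (Nat.succ 163643) k)) 413 = true := by decide +kernel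
theorem s6c296 : allBelow (fun k => fs6 (Nat.add (Nat.succ 164056) k)) 427 = true := by decide +kernel
theorem s6c297 : allBelow (fun k => fs6 (Nat.add (Nat.succ 164483) k)) 417 = true := by decide +kernel
theorem s6c298 : allBelow (fun k => fs6 (Nat.add (Nat.succ 164900) k)) 413 = true := by decide +kernel
theorem s6c299 : allBelow (fun k => fs6 (Nat.add (Nat.succ 165313) k)) 426 = true := by decide +kernel
theorem s6c300 : allBelow (fun k => fs6 (Nat.add (Nat.succ 165739) k)) 412 = true := by decide +kernel
theorem s6c301 : allBelow (fun k => fs6 (Nat.add (Nat.succ 166151) k)) 410 = true := by decide +kernel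
theorem s6c302 : allBelow (fun k => fs6 (Nat.add (Nat.succ 166561) k)) 403 = true := by decide +kernel
theorem s6c303 : allBelow (fun k => fs6 (Nat.add (Nat.succ 166964) k)) 412 = true := by decide +kernel
theorem s6c304 : allBelow (fun k => fs6 (Nat.add (Nat.succ 167376) k)) 424 = true := by decide +kernel
theorem s6c305 : allBelow (fun k => fs6 (Nat.add (Nat.succ 167800) k)) 426 = true := by decide +kernel
theorem s6c306 : allBelow (fun k => fs6 (Nat.add (Nat.succ 168226) k)) 424 = true := by decide +kernel
theorem s6c307 : allBelow (fun k => fs6 (Nat.add (Nat.succ 168650) k)) 403 = true := by decide +kernel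
theorem s6c308 : allBelow (fun k => fs6 (Nat.add (Nat.succ 169053) k)) 413 = true := by decide +kernel
theorem s6c309 : allBelow (fun k => fs6 (Nat.add (Nat.succ 169466) k)) 421 = true := by decide +kernel
theorem s6c310 : allBelow (fun k => fs6 (Nat.add (Nat.succ 169887) k)) 381 = true := by decide +kernel
theorem s6c311 : allBelow (fun k => fs6 (Nat.add (Nat.succ 170268) k)) 398 = true := by decide +kernel
theorem s6c312 : allBelow (fun k => fs6 (Nat.add (Nat.succ 170666) k)) 423 = true := by decide +kernel
theorem s6c313 : allBelow (fun k => fs6 (Nat.add (Nat.succ 171089) k)) 398 = true := by decide +kernel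
theorem s6c314 : allBelow (fun k => fs6 (Nat.add (Nat.succ 171487) k)) 420 = true := by decide +kernel
theorem s6c315 : allBelow (fun k => fs6 (Nat.add (Nat.succ 171907) k)) 413 = true := by decide +kernel
theorem s6c316 : allBelow (fun k => fs6 (Nat.add (Nat.succ 172320) k)) 414 = true := by decide +kernel
theorem s6c317 : allBelow (fun k => fs6 (Nat.add (Nat.succ 172734) k)) 403 = true := by decide +kernel
theorem s6c318 : allBelow (fun k => fs6 (Nat.add (Nat.succ 173137) k)) 411 = true := by decide +kernel
theorem s6c319 : allBelow (fun k => fs6 (Nat.add (Nat.succ 173548) k)) 371 = true := by decide +kernel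
theorem s6c320 : allBelow (fun k => fs6 (Nat.add (Nat.succ 173919) k)) 394 = true := by decide +kernel
theorem s6c321 : allBelow (fun k => fs6 (Nat.add (Nat.succ 174313) k)) 388 = true := by decide +kernel
theorem s6c322 : allBelow (fun k => fs6 (Nat.add (Nat.succ 174701) k)) 395 = true := by decide +kernel
theorem s6c323 : allBelow (fun k => fs6 (Nat.add (Nat.succ 175096) k)) 384 = true := by decide +kernel
theorem s6c324 : allBelow (fun k => fs6 (Nat.add (Nat.succ 175480) k)) 385 = true := by decide +kernel
theorem s6c325 : allBelow (fun k => fs6 (Nat.add (Nat.succ 175865) k)) 389 = true := by decide +kernel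
theorem s6c326 : allBelow (fun k => fs6 (Nat.add (Nat.succ 176254) k)) 379 = true := by decide +kernel
theorem s6c327 : allBelow (fun k => fs6 (Nat.add (Nat.succ 176633) k)) 364 = true := by decide +kernel
theorem s6c328 : allBelow (fun k => fs6 (Nat.add (Nat.succ 176997) k)) 392 = true := by decide +kernel
theorem s6c329 : allBelow (fun k => fs6 (Nat.add (Nat.succ 177389) k)) 418 = true := by decide +kernel
theorem s6c330 : allBelow (fun k => fs6 (Nat.add (Nat.succ 177807) k)) 387 = true := by decide +kernel
theorem s6c331 : allBelow (fun k => fs6 (Nat.add (Nat.succ 178194) k)) 364 = true := by decide +kernel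
theorem s6c332 : allBelow (fun k => fs6 (Nat.add (Nat.succ 178558) k)) 391 = true := by decide +kernel
theorem s6c333 : allBelow (fun k => fs6 (Nat.add (Nat.succ 178949) k)) 368 = true := by decide +kernel
theorem s6c334 : allBelow (fun k => fs6 (Nat.add (Nat.succ 179317) k)) 380 = true := by decide +kernel
theorem s6c335 : allBelow (fun k => fs6 (Nat.add (Nat.succ 179697) k)) 376 = true := by decide +kernel
theorem s6c336 : allBelow (fun k => fs6 (Nat.add (Nat.succ 180073) k)) 407 = true := by decide +kernel
theorem s6c337 : allBelow (fun k => fs6 (Nat.add (Nat.succ 180480) k)) 377 = true := by decide +kernel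
theorem s6c338 : allBelow (fun k => fs6 (Nat.add (Nat.succ 180857) k)) 390 = true := by decide +kernel
theorem s6c339 : allBelow (fun k => fs6 (Nat.add (Nat.succ 181247) k)) 400 = true := by decide +kernel
theorem s6c340 : allBelow (fun k => fs6 (Nat.add (Nat.succ 181647) k)) 362 = true := by decide +kernel
theorem s6c341 : allBelow (fun k => fs6 (Nat.add (Nat.succ 182009) k)) 394 = true := by decide +kernel
theorem s6c342 : allBelow (fun k => fs6 (Nat.add (Nat.succ 182403) k)) 382 = true := by decide +kernel
theorem s6c343 : allBelow (fun k => fs6 (Nat.add (Nat.succ 182785) k)) 372 = true := by decide +kernel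
theorem s6c344 : allBelow (fun k => fs6 (Nat.add (Nat.succ 183157) k)) 388 = true := by decide +kernel
theorem s6c345 : allBelow (fun k => fs6 (Nat.add (Nat.succ 183545) k)) 366 = true := by decide +kernel
theorem s6c346 : allBelow (fun k => fs6 (Nat.add (Nat.succ 183911) k)) 385 = true := by decide +kernel
theorem s6c347 : allBelow (fun k => fs6 (Nat.add (Nat.succ 184296) k)) 365 = true := by decide +kernel
theorem s6c348 : allBelow (fun k => fs6 (Nat.add (Nat.succ 184661) k)) 379 = true := by decide +kernel
theorem s6c349 : allBelow (fun k => fs6 (Nat.add (Nat.succ 185040) k)) 387 = true := by decide +kernel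
theorem s6c350 : allBelow (fun k => fs6 (Nat.add (Nat.succ 185427) k)) 404 = true := by decide +kernel
theorem s6c351 : allBelow (fun k => fs6 (Nat.add (Nat.succ 185831) k)) 379 = true := by decide +kernel
theorem s6c352 : allBelow (fun k => fs6 (Nat.add (Nat.succ 186210) k)) 387 = true := by decide +kernel
theorem s6c353 : allBelow (fun k => fs6 (Nat.add (Nat.succ 186597) k)) 378 = true := by decide +kernel
theorem s6c354 : allBelow (fun k => fs6 (Nat.add (Nat.succ 186975) k)) 385 = true := by decide +kernel
theorem s6c355 : allBelow (fun k => fs6 (Nat.add (Nat.succ 187360) k)) 364 = true := by decide +kernel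
theorem s6c356 : allBelow (fun k => fs6 (Nat.add (Nat.succ 187724) k)) 359 = true := by decide +kernel
theorem s6c357 : allBelow (fun k => fs6 (Nat.add (Nat.succ 188083) k)) 374 = true := by decide +kernel
theorem s6c358 : allBelow (fun k => fs6 (Nat.add (Nat.succ 188457) k)) 382 = true := by decide +kernel
theorem s6c359 : allBelow (fun k => fs6 (Nat.add (Nat.succ 188839) k)) 366 = true := by decide +kernel
theorem s6c360 : allBelow (fun k => fs6 (Nat.add (Nat.succ 189205) k)) 369 = true := by decide +kernel
theorem s6c361 : allBelow (fun k => fs6 (Nat.add (Nat.succ 189574) k)) 382 = true := by decide +kernel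
theorem s6c362 : allBelow (fun k => fs6 (Nat.add (Nat.succ 189956) k)) 356 = true := by decide +kernel
theorem s6c363 : allBelow (fun k => fs6 (Nat.add (Nat.succ 190312) k)) 364 = true := by decide +kernel
theorem s6c364 : allBelow (fun k => fs6 (Nat.add (Nat.succ 190676) k)) 375 = true := by decide +kernel
theorem s6c365 : allBelow (fun k => fs6 (Nat.add (Nat.succ 191051) k)) 365 = true := by decide +kernel
theorem s6c366 : allBelow (fun k => fs6 (Nat.add (Nat.succ 191416) k)) 374 = true := by decide +kernel
theorem s6c367 : allBelow (fun k => fs6 (Nat.add (Nat.succ 191790) k)) 363 = true := by decide +kernel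
theorem s6c368 : allBelow (fun k => fs6 (Nat.add (Nat.succ 192153) k)) 366 = true := by decide +kernel
theorem s6c369 : allBelow (fun k => fs6 (Nat.add (Nat.succ 192519) k)) 368 = true := by decide +kernel
theorem s6c370 : allBelow (fun k => fs6 (Nat.add (Nat.succ 192887) k)) 354 = true := by decide +kernel
theorem s6c371 : allBelow (fun k => fs6 (Nat.add (Nat.succ 193241) k)) 352 = true := by decide +kernel
theorem s6c372 : allBelow (fun k => fs6 (Nat.add (Nat.succ 193593) k)) 343 = true := by decide +kernel
theorem s6c373 : allBelow (fun k => fs6 (Nat.add (Nat.succ 193936) k)) 344 = true := by decide +kernel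
theorem s6c374 : allBelow (fun k => fs6 (Nat.add (Nat.succ 194280) k)) 364 = true := by decide +kernel
theorem s6c375 : allBelow (fun k => fs6 (Nat.add (Nat.succ 194644) k)) 347 = true := by decide +kernel
theorem s6c376 : allBelow (fun k => fs6 (Nat.add (Nat.succ 194991) k)) 360 = true := by decide +kernel
theorem s6c377 : allBelow (fun k => fs6 (Nat.add (Nat.succ 195351) k)) 374 = true := by decide +kernel
theorem s6c378 : allBelow (fun k => fs6 (Nat.add (Nat.succ 195725) k)) 359 = true := by decide +kernel
theorem s6c379 : allBelow (fun k => fs6 (Nat.add (Nat.succ 196084) k)) 351 = true := by decide +kernel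
theorem s6c380 : allBelow (fun k => fs6 (Nat.add (Nat.succ 196435) k)) 336 = true := by decide +kernel
theorem s6c381 : allBelow (fun k => fs6 (Nat.add (Nat.succ 196771) k)) 345 = true := by decide +kernel
theorem s6c382 : allBelow (fun k => fs6 (Nat.add (Nat.succ 197116) k)) 344 = true := by decide +kernel
theorem s6c383 : allBelow (fun k => fs6 (Nat.add (Nat.succ 197460) k)) 339 = true := by decide +kernel
theorem s6c384 : allBelow (fun k => fs6 (Nat.add (Nat.succ 197799) k)) 339 = true := by decide +kernel
theorem s6c385 : allBelow (fun k => fs6 (Nat.add (Nat.succ 198138) k)) 354 = true := by decide +kernel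
theorem s6c386 : allBelow (fun k => fs6 (Nat.add (Nat.succ 198492) k)) 340 = true := by decide +kernel
theorem s6c387 : allBelow (fun k => fs6 (Nat.add (Nat.succ 198832) k)) 326 = true := by decide +kernel
theorem s6c388 : allBelow (fun k => fs6 (Nat.add (Nat.succ 199158) k)) 348 = true := by decide +kernel
theorem s6c389 : allBelow (fun k => fs6 (Nat.add (Nat.succ 199506) k)) 342 = true := by decide +kernel
theorem s6c390 : allBelow (fun k => fs6 (Nat.add (Nat.succ 199848) k)) 324 = true := by decide +kernel
theorem s6c391 : allBelow (fun k => fs6 (Nat.add (Nat.succ 200172) k)) 332 = true := by decide +kernel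
theorem s6c392 : allBelow (fun k => fs6 (Nat.add (Nat.succ 200504) k)) 332 = true := by decide +kernel
theorem s6c393 : allBelow (fun k => fs6 (Nat.add (Nat.succ 200836) k)) 325 = true := by decide +kernel
theorem s6c394 : allBelow (fun k => fs6 (Nat.add (Nat.succ 201161) k)) 321 = true := by decide +kernel
theorem s6c395 : allBelow (fun k => fs6 (Nat.add (Nat.succ 201482) k)) 100 = true := by decide +kernel
theorem s7c0 : allBelow (fun k => fs7 (Nat.add (Nat.succ 0) k)) 559 = true := by decide +kernel
theorem s7c1 : allBelow (fun k => fs7 (Nat.add (Nat.succ 559) k)) 484 = true := by decide +kernel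
theorem s7c2 : allBelow (fun k => fs7 (Nat.add (Nat.succ 1043) k)) 511 = true := by decide +kernel
theorem s7c3 : allBelow (fun k => fs7 (Nat.add (Nat.succ 1554) k)) 516 = true := by decide +kernel
theorem s7c4 : allBelow (fun k => fs7 (Nat.add (Nat.succ 2070) k)) 508 = true := by decide +kernel
theorem s7c5 : allBelow (fun k => fs7 (Nat.add (Nat.succ 2578) k)) 552 = true := by decide +kernel
theorem s7c6 : allBelow (fun k => fs7 (Nat.add (Nat.succ 3130) k)) 518 = true := by decide +kernel
theorem s7c7 : allBelow (fun k => fs7 (Nat.add (Nat.succ 3648) k)) 531 = true := by decide +kernel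
theorem s7c8 : allBelow (fun k => fs7 (Nat.add (Nat.succ 4179) k)) 538 = true := by decide +kernel
theorem s7c9 : allBelow (fun k => fs7 (Nat.add (Nat.succ 4717) k)) 515 = true := by decide +kernel
theorem s7c10 : allBelow (fun k => fs7 (Nat.add (Nat.succ 5232) k)) 525 = true := by decide +kernel
theorem s7c11 : allBelow (fun k => fs7 (Nat.add (Nat.succ 5757) k)) 506 = true := by decide +kernel
theorem s7c12 : allBelow (fun k => fs7 (Nat.add (Nat.succ 6263) k)) 493 = true := by decide +kernel
theorem s7c13 : allBelow (fun k => fs7 (Nat.add (Nat.succ 6756) k)) 539 = true := by decide +kernel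
theorem s7c14 : allBelow (fun k => fs7 (Nat.add (Nat.succ 7295) k)) 524 = true := by decide +kernel
theorem s7c15 : allBelow (fun k => fs7 (Nat.add (Nat.succ 7819) k)) 523 = true := by decide +kernel
theorem s7c16 : allBelow (fun k => fs7 (Nat.add (Nat.succ 8342) k)) 526 = true := by decide +kernel
theorem s7c17 : allBelow (fun k => fs7 (Nat.add (Nat.succ 8868) k)) 525 = true := by decide +kernel
theorem s7c18 : allBelow (fun k => fs7 (Nat.add (Nat.succ 9393) k)) 543 = true := by decide +kernel
theorem s7c19 : allBelow (fun k => fs7 (Nat.add (Nat.succ 9936) k)) 546 = true := by decide +kernel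
theorem s7c20 : allBelow (fun k => fs7 (Nat.add (Nat.succ 10482) k)) 523 = true := by decide +kernel
theorem s7c21 : allBelow (fun k => fs7 (Nat.add (Nat.succ 11005) k)) 490 = true := by decide +kernel
theorem s7c22 : allBelow (fun k => fs7 (Nat.add (Nat.succ 11495) k)) 500 = true := by decide +kernel
theorem s7c23 : allBelow (fun k => fs7 (Nat.add (Nat.succ 11995) k)) 499 = true := by decide +kernel
theorem s7c24 : allBelow (fun k => fs7 (Nat.add (Nat.succ 12494) k)) 496 = true := by decide +kernel
theorem s7c25 : allBelow (fun k => fs7 (Nat.add (Nat.succ 12990) k)) 501 = true := by decide +kernel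
theorem s7c26 : allBelow (fun k => fs7 (Nat.add (Nat.succ 13491) k)) 499 = true := by decide +kernel
theorem s7c27 : allBelow (fun k => fs7 (Nat.add (Nat.succ 13990) k)) 493 = true := by decide +kernel
theorem s7c28 : allBelow (fun k => fs7 (Nat.add (Nat.succ 14483) k)) 533 = true := by decide +kernel
theorem s7c29 : allBelow (fun k => fs7 (Nat.add (Nat.succ 15016) k)) 560 = true := by decide +kernel
theorem s7c30 : allBelow (fun k => fs7 (Nat.add (Nat.succ 15576) k)) 554 = true := by decide +kernel
theorem s7c31 : allBelow (fun k => fs7 (Nat.add (Nat.succ 16130) k)) 502 = true := by decide +kernel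
theorem s7c32 : allBelow (fun k => fs7 (Nat.add (Nat.succ 16632) k)) 510 = true := by decide +kernel
theorem s7c33 : allBelow (fun k => fs7 (Nat.add (Nat.succ 17142) k)) 520 = true := by decide +kernel
theorem s7c34 : allBelow (fun k => fs7 (Nat.add (Nat.succ 17662) k)) 543 = true := by decide +kernel
theorem s7c35 : allBelow (fun k => fs7 (Nat.add (Nat.succ 18205) k)) 538 = true := by decide +kernel
theorem s7c36 : allBelow (fun k => fs7 (Nat.add (Nat.succ 18743) k)) 529 = true := by decide +kernel
theorem s7c37 : allBelow (fun k => fs7 (Nat.add (Nat.succ 19272) k)) 529 = true := by decide +kernel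
theorem s7c38 : allBelow (fun k => fs7 (Nat.add (Nat.succ 19801) k)) 532 = true := by decide +kernel
theorem s7c39 : allBelow (fun k => fs7 (Nat.add (Nat.succ 20333) k)) 546 = true := by decide +kernel
theorem s7c40 : allBelow (fun k => fs7 (Nat.add (Nat.succ 20879) k)) 563 = true := by decide +kernel
theorem s7c41 : allBelow (fun k => fs7 (Nat.add (Nat.succ 21442) k)) 555 = true := by decide +kernel
theorem s7c42 : allBelow (fun k => fs7 (Nat.add (Nat.succ 21997) k)) 527 = true := by decide +kernel
theorem s7c43 : allBelow (fun k => fs7 (Nat.add (Nat.succ 22524) k)) 569 = true := by decide +kernel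
theorem s7c44 : allBelow (fun k => fs7 (Nat.add (Nat.succ 23093) k)) 483 = true := by decide +kernel
theorem s7c45 : allBelow (fun k => fs7 (Nat.add (Nat.succ 23576) k)) 490 = true := by decide +kernel
theorem s7c46 : allBelow (fun k => fs7 (Nat.add (Nat.succ 24066) k)) 471 = true := by decide +kernel
theorem s7c47 : allBelow (fun k => fs7 (Nat.add (Nat.succ 24537) k)) 465 = true := by decide +kernel
theorem s7c48 : allBelow (fun k => fs7 (Nat.add (Nat.succ 25002) k)) 486 = true := by decide +kernel
theorem s7c49 : allBelow (fun k => fs7 (Nat.add (Nat.succ 25488) k)) 489 = true := by decide +kernel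
theorem s7c50 : allBelow (fun k => fs7 (Nat.add (Nat.succ 25977) k)) 487 = true := by decide +kernel
theorem s7c51 : allBelow (fun k => fs7 (Nat.add (Nat.succ 26464) k)) 514 = true := by decide +kernel
theorem s7c52 : allBelow (fun k => fs7 (Nat.add (Nat.succ 26978) k)) 510 = true := by decide +kernel
theorem s7c53 : allBelow (fun k => fs7 (Nat.add (Nat.succ 27488) k)) 499 = true := by decide +kernel
theorem s7c54 : allBelow (fun k => fs7 (Nat.add (Nat.succ 27987) k)) 524 = true := by decide +kernel
theorem s7c55 : allBelow (fun k => fs7 (Nat.add (Nat.succ 28511) k)) 491 = true := by decide +kernel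
theorem s7c56 : allBelow (fun k => fs7 (Nat.add (Nat.succ 29002) k)) 502 = true := by decide +kernel
theorem s7c57 : allBelow (fun k => fs7 (Nat.add (Nat.succ 29504) k)) 494 = true := by decide +kernel
theorem s7c58 : allBelow (fun k => fs7 (Nat.add (Nat.succ 29998) k)) 535 = true := by decide +kernel
theorem s7c59 : allBelow (fun k => fs7 (Nat.add (Nat.succ 30533) k)) 544 = true := by decide +kernel
theorem s7c60 : allBelow (fun k => fs7 (Nat.add (Nat.succ 31077) k)) 527 = true := by decide +kernel
theorem s7c61 : allBelow (fun k => fs7 (Nat.add (Nat.succ 31604) k)) 524 = true := by decide +kernel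
theorem s7c62 : allBelow (fun k => fs7 (Nat.add (Nat.succ 32128) k)) 543 = true := by decide +kernel
theorem s7c63 : allBelow (fun k => fs7 (Nat.add (Nat.succ 32671) k)) 552 = true := by decide +kernel
theorem s7c64 : allBelow (fun k => fs7 (Nat.add (Nat.succ 33223) k)) 513 = true := by decide +kernel
theorem s7c65 : allBelow (fun k => fs7 (Nat.add (Nat.succ 33736) k)) 510 = true := by decide +kernel
theorem s7c66 : allBelow (fun k => fs7 (Nat.add (Nat.succ 34246) k)) 507 = true := by decide +kernel
theorem s7c67 : allBelow (fun k => fs7 (Nat.add (Nat.succ 34753) k)) 553 = true := by decide +kernel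
theorem s7c68 : allBelow (fun k => fs7 (Nat.add (Nat.succ 35306) k)) 525 = true := by decide +kernel
theorem s7c69 : allBelow (fun k => fs7 (Nat.add (Nat.succ 35831) k)) 532 = true := by decide +kernel
theorem s7c70 : allBelow (fun k => fs7 (Nat.add (Nat.succ 36363) k)) 573 = true := by decide +kernel
theorem s7c71 : allBelow (fun k => fs7 (Nat.add (Nat.succ 36936) k)) 569 = true := by decide +kernel
theorem s7c72 : allBelow (fun k => fs7 (Nat.add (Nat.succ 37505) k)) 542 = true := by decide +kernel
theorem s7c73 : allBelow (fun k => fs7 (Nat.add (Nat.succ 38047) k)) 541 = true := by decide +kernel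
theorem s7c74 : allBelow (fun k => fs7 (Nat.add (Nat.succ 38588) k)) 547 = true := by decide +kernel
theorem s7c75 : allBelow (fun k => fs7 (Nat.add (Nat.succ 39135) k)) 540 = true := by decide +kernel
theorem s7c76 : allBelow (fun k => fs7 (Nat.add (Nat.succ 39675) k)) 568 = true := by decide +kernel
theorem s7c77 : allBelow (fun k => fs7 (Nat.add (Nat.succ 40243) k)) 513 = true := by decide +kernel
theorem s7c78 : allBelow (fun k => fs7 (Nat.add (Nat.succ 40756) k)) 495 = true := by decide +kernel
theorem s7c79 : allBelow (fun k => fs7 (Nat.add (Nat.succ 41251) k)) 517 = true := by decide +kernel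
theorem s7c80 : allBelow (fun k => fs7 (Nat.add (Nat.succ 41768) k)) 503 = true := by decide +kernel
theorem s7c81 : allBelow (fun k => fs7 (Nat.add (Nat.succ 42271) k)) 537 = true := by decide +kernel
theorem s7c82 : allBelow (fun k => fs7 (Nat.add (Nat.succ 42808) k)) 510 = true := by decide +kernel
theorem s7c83 : allBelow (fun k => fs7 (Nat.add (Nat.succ 43318) k)) 568 = true := by decide +kernel
theorem s7c84 : allBelow (fun k => fs7 (Nat.add (Nat.succ 43886) k)) 503 = true := by decide +kernel
theorem s7c85 : allBelow (fun k => fs7 (Nat.add (Nat.succ 44389) k)) 548 = true := by decide +kernel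
theorem s7c86 : allBelow (fun k => fs7 (Nat.add (Nat.succ 44937) k)) 521 = true := by decide +kernel
theorem s7c87 : allBelow (fun k => fs7 (Nat.add (Nat.succ 45458) k)) 528 = true := by decide +kernel
theorem s7c88 : allBelow (fun k => fs7 (Nat.add (Nat.succ 45986) k)) 523 = true := by decide +kernel
theorem s7c89 : allBelow (fun k => fs7 (Nat.add (Nat.succ 46509) k)) 517 = true := by decide +kernel
theorem s7c90 : allBelow (fun k => fs7 (Nat.add (Nat.succ 47026) k)) 491 = true := by decide +kernel
theorem s7c91 : allBelow (fun k => fs7 (Nat.add (Nat.succ 47517) k)) 499 = true := by decide +kernel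
theorem s7c92 : allBelow (fun k => fs7 (Nat.add (Nat.succ 48016) k)) 502 = true := by decide +kernel
theorem s7c93 : allBelow (fun k => fs7 (Nat.add (Nat.succ 48518) k)) 552 = true := by decide +kernel
theorem s7c94 : allBelow (fun k => fs7 (Nat.add (Nat.succ 49070) k)) 482 = true := by decide +kernel
theorem s7c95 : allBelow (fun k => fs7 (Nat.add (Nat.succ 49552) k)) 505 = true := by decide +kernel
theorem s7c96 : allBelow (fun k => fs7 (Nat.add (Nat.succ 50057) k)) 498 = true := by decide +kernel
theorem s7c97 : allBelow (fun k => fs7 (Nat.add (Nat.succ 50555) k)) 492 = true := by decide +kernel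
theorem s7c98 : allBelow (fun k => fs7 (Nat.add (Nat.succ 51047) k)) 497 = true := by decide +kernel
theorem s7c99 : allBelow (fun k => fs7 (Nat.add (Nat.succ 51544) k)) 513 = true := by decide +kernel
theorem s7c100 : allBelow (fun k => fs7 (Nat.add (Nat.succ 52057) k)) 494 = true := by decide +kernel
theorem s7c101 : allBelow (fun k => fs7 (Nat.add (Nat.succ 52551) k)) 511 = true := by decide +kernel
theorem s7c102 : allBelow (fun k => fs7 (Nat.add (Nat.succ 53062) k)) 501 = true := by decide +kernel
theorem s7c103 : allBelow (fun k => fs7 (Nat.add (Nat.succ 53563) k)) 539 = true := by decide +kernel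
theorem s7c104 : allBelow (fun k => fs7 (Nat.add (Nat.succ 54102) k)) 569 = true := by decide +kernel
theorem s7c105 : allBelow (fun k => fs7 (Nat.add (Nat.succ 54671) k)) 581 = true := by decide +kernel
theorem s7c106 : allBelow (fun k => fs7 (Nat.add (Nat.succ 55252) k)) 546 = true := by decide +kernel
theorem s7c107 : allBelow (fun k => fs7 (Nat.add (Nat.succ 55798) k)) 532 = true := by decide +kernel
theorem s7c108 : allBelow (fun k => fs7 (Nat.add (Nat.succ 56330) k)) 520 = true := by decide +kernel
theorem s7c109 : allBelow (fun k => fs7 (Nat.add (Nat.succ 56850) k)) 499 = true := by decide +kernel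
theorem s7c110 : allBelow (fun k => fs7 (Nat.add (Nat.succ 57349) k)) 535 = true := by decide +kernel
theorem s7c111 : allBelow (fun k => fs7 (Nat.add (Nat.succ 57884) k)) 529 = true := by decide +kernel
theorem s7c112 : allBelow (fun k => fs7 (Nat.add (Nat.succ 58413) k)) 531 = true := by decide +kernel
theorem s7c113 : allBelow (fun k => fs7 (Nat.add (Nat.succ 58944) k)) 506 = true := by decide +kernel
theorem s7c114 : allBelow (fun k => fs7 (Nat.add (Nat.succ 59450) k)) 491 = true := by decide +kernel
theorem s7c115 : allBelow (fun k => fs7 (Nat.add (Nat.succ 59941) k)) 491 = true := by decide +kernel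
theorem s7c116 : allBelow (fun k => fs7 (Nat.add (Nat.succ 60432) k)) 485 = true := by decide +kernel
theorem s7c117 : allBelow (fun k => fs7 (Nat.add (Nat.succ 60917) k)) 514 = true := by decide +kernel
theorem s7c118 : allBelow (fun k => fs7 (Nat.add (Nat.succ 61431) k)) 495 = true := by decide +kernel
theorem s7c119 : allBelow (fun k => fs7 (Nat.add (Nat.succ 61926) k)) 522 = true := by decide +kernel
theorem s7c120 : allBelow (fun k => fs7 (Nat.add (Nat.succ 62448) k)) 555 = true := by decide +kernel
theorem s7c121 : allBelow (fun k => fs7 (Nat.add (Nat.succ 63003) k)) 544 = true := by decide +kernel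
theorem s7c122 : allBelow (fun k => fs7 (Nat.add (Nat.succ 63547) k)) 575 = true := by decide +kernel
theorem s7c123 : allBelow (fun k => fs7 (Nat.add (Nat.succ 64122) k)) 591 = true := by decide +kernel
theorem s7c124 : allBelow (fun k => fs7 (Nat.add (Nat.succ 64713) k)) 562 = true := by decide +kernel
theorem s7c125 : allBelow (fun k => fs7 (Nat.add (Nat.succ 65275) k)) 534 = true := by decide +kernel
theorem s7c126 : allBelow (fun k => fs7 (Nat.add (Nat.succ 65809) k)) 519 = true := by decide +kernel
theorem s7c127 : allBelow (fun k => fs7 (Nat.add (Nat.succ 66328) k)) 533 = true := by decide +kernel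
theorem s7c128 : allBelow (fun k => fs7 (Nat.add (Nat.succ 66861) k)) 549 = true := by decide +kernel
theorem s7c129 : allBelow (fun k => fs7 (Nat.add (Nat.succ 67410) k)) 564 = true := by decide +kernel
theorem s7c130 : allBelow (fun k => fs7 (Nat.add (Nat.succ 67974) k)) 532 = true := by decide +kernel
theorem s7c131 : allBelow (fun k => fs7 (Nat.add (Nat.succ 68506) k)) 554 = true := by decide +kernel
theorem s7c132 : allBelow (fun k => fs7 (Nat.add (Nat.succ 69060) k)) 565 = true := by decide +kernel
theorem s7c133 : allBelow (fun k => fs7 (Nat.add (Nat.succ 69625) k)) 560 = true := by decide +kernel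
theorem s7c134 : allBelow (fun k => fs7 (Nat.add (Nat.succ 70185) k)) 557 = true := by decide +kernel
theorem s7c135 : allBelow (fun k => fs7 (Nat.add (Nat.succ 70742) k)) 573 = true := by decide +kernel
theorem s7c136 : allBelow (fun k => fs7 (Nat.add (Nat.succ 71315) k)) 517 = true := by decide +kernel
theorem s7c137 : allBelow (fun k => fs7 (Nat.add (Nat.succ 71832) k)) 550 = true := by decide +kernel
theorem s7c138 : allBelow (fun k => fs7 (Nat.add (Nat.succ 72382) k)) 565 = true := by decide +kernel
theorem s7c139 : allBelow (fun k => fs7 (Nat.add (Nat.succ 72947) k)) 554 = true := by decide +kernel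
theorem s7c140 : allBelow (fun k => fs7 (Nat.add (Nat.succ 73501) k)) 557 = true := by decide +kernel
theorem s7c141 : allBelow (fun k => fs7 (Nat.add (Nat.succ 74058) k)) 607 = true := by decide +kernel
theorem s7c142 : allBelow (fun k => fs7 (Nat.add (Nat.succ 74665) k)) 546 = true := by decide +kernel
theorem s7c143 : allBelow (fun k => fs7 (Nat.add (Nat.succ 75211) k)) 556 = true := by decide +kernel
theorem s7c144 : allBelow (fun k => fs7 (Nat.add (Nat.succ 75767) k)) 569 = true := by decide +kernel
theorem s7c145 : allBelow (fun k => fs7 (Nat.add (Nat.succ 76336) k)) 546 = true := by decide +kernel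
theorem s7c146 : allBelow (fun k => fs7 (Nat.add (Nat.succ 76882) k)) 577 = true := by decide +kernel
theorem s7c147 : allBelow (fun k => fs7 (Nat.add (Nat.succ 77459) k)) 525 = true := by decide +kernel
theorem s7c148 : allBelow (fun k => fs7 (Nat.add (Nat.succ 77984) k)) 584 = true := by decide +kernel
theorem s7c149 : allBelow (fun k => fs7 (Nat.add (Nat.succ 78568) k)) 572 = true := by decide +kernel
theorem s7c150 : allBelow (fun k => fs7 (Nat.add (Nat.succ 79140) k)) 539 = true := by decide +kernel
theorem s7c151 : allBelow (fun k => fs7 (Nat.add (Nat.succ 79679) k)) 565 = true := by decide +kernel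
theorem s7c152 : allBelow (fun k => fs7 (Nat.add (Nat.succ 80244) k)) 548 = true := by decide +kernel
theorem s7c153 : allBelow (fun k => fs7 (Nat.add (Nat.succ 80792) k)) 556 = true := by decide +kernel
theorem s7c154 : allBelow (fun k => fs7 (Nat.add (Nat.succ 81348) k)) 559 = true := by decide +kernel
theorem s7c155 : allBelow (fun k => fs7 (Nat.add (Nat.succ 81907) k)) 536 = true := by decide +kernel
theorem s7c156 : allBelow (fun k => fs7 (Nat.add (Nat.succ 82443) k)) 571 = true := by decide +kernel
theorem s7c157 : allBelow (fun k => fs7 (Nat.add (Nat.succ 83014) k)) 575 = true := by decide +kernel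
theorem s7c158 : allBelow (fun k => fs7 (Nat.add (Nat.succ 83589) k)) 560 = true := by decide +kernel
theorem s7c159 : allBelow (fun k => fs7 (Nat.add (Nat.succ 84149) k)) 519 = true := by decide +kernel
theorem s7c160 : allBelow (fun k => fs7 (Nat.add (Nat.succ 84668) k)) 514 = true := by decide +kernel
theorem s7c161 : allBelow (fun k => fs7 (Nat.add (Nat.succ 85182) k)) 509 = true := by decide +kernel
theorem s7c162 : allBelow (fun k => fs7 (Nat.add (Nat.succ 85691) k)) 507 = true := by decide +kernel
theorem s7c163 : allBelow (fun k => fs7 (Nat.add (Nat.succ 86198) k)) 552 = true := by decide +kernel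
theorem s7c164 : allBelow (fun k => fs7 (Nat.add (Nat.succ 86750) k)) 529 = true := by decide +kernel
theorem s7c165 : allBelow (fun k => fs7 (Nat.add (Nat.succ 87279) k)) 514 = true := by decide +kernel
theorem s7c166 : allBelow (fun k => fs7 (Nat.add (Nat.succ 87793) k)) 549 = true := by decide +kernel
theorem s7c167 : allBelow (fun k => fs7 (Nat.add (Nat.succ 88342) k)) 503 = true := by decide +kernel
theorem s7c168 : allBelow (fun k => fs7 (Nat.add (Nat.succ 88845) k)) 550 = true := by decide +kernel
theorem s7c169 : allBelow (fun k => fs7 (Nat.add (Nat.succ 89395) k)) 534 = true := by decide +kernel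
theorem s7c170 : allBelow (fun k => fs7 (Nat.add (Nat.succ 89929) k)) 517 = true := by decide +kernel
theorem s7c171 : allBelow (fun k => fs7 (Nat.add (Nat.succ 90446) k)) 508 = true := by decide +kernel
theorem s7c172 : allBelow (fun k => fs7 (Nat.add (Nat.succ 90954) k)) 564 = true := by decide +kernel
theorem s7c173 : allBelow (fun k => fs7 (Nat.add (Nat.succ 91518) k)) 528 = true := by decide +kernel
theorem s7c174 : allBelow (fun k => fs7 (Nat.add (Nat.succ 92046) k)) 527 = true := by decide +kernel
theorem s7c175 : allBelow (fun k => fs7 (Nat.add (Nat.succ 92573) k)) 556 = true := by decide +kernel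
theorem s7c176 : allBelow (fun k => fs7 (Nat.add (Nat.succ 93129) k)) 544 = true := by decide +kernel
theorem s7c177 : allBelow (fun k => fs7 (Nat.add (Nat.succ 93673) k)) 559 = true := by decide +kernel
theorem s7c178 : allBelow (fun k => fs7 (Nat.add (Nat.succ 94232) k)) 557 = true := by decide +kernel
theorem s7c179 : allBelow (fun k => fs7 (Nat.add (Nat.succ 94789) k)) 547 = true := by decide +kernel
theorem s7c180 : allBelow (fun k => fs7 (Nat.add (Nat.succ 95336) k)) 542 = true := by decide +kernel
theorem s7c181 : allBelow (fun k => fs7 (Nat.add (Nat.succ 95878) k)) 532 = true := by decide +kernel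
theorem s7c182 : allBelow (fun k => fs7 (Nat.add (Nat.succ 96410) k)) 494 = true := by decide +kernel
theorem s7c183 : allBelow (fun k => fs7 (Nat.add (Nat.succ 96904) k)) 531 = true := by decide +kernel
theorem s7c184 : allBelow (fun k => fs7 (Nat.add (Nat.succ 97435) k)) 478 = true := by decide +kernel
theorem s7c185 : allBelow (fun k => fs7 (Nat.add (Nat.succ 97913) k)) 500 = true := by decide +kernel
theorem s7c186 : allBelow (fun k => fs7 (Nat.add (Nat.succ 98413) k)) 487 = true := by decide +kernel
theorem s7c187 : allBelow (fun k => fs7 (Nat.add (Nat.succ 98900) k)) 503 = true := by decide +kernel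
theorem s7c188 : allBelow (fun k => fs7 (Nat.add (Nat.succ 99403) k)) 480 = true := by decide +kernel
theorem s7c189 : allBelow (fun k => fs7 (Nat.add (Nat.succ 99883) k)) 544 = true := by decide +kernel
theorem s7c190 : allBelow (fun k => fs7 (Nat.add (Nat.succ 100427) k)) 568 = true := by decide +kernel
theorem s7c191 : allBelow (fun k => fs7 (Nat.add (Nat.succ 100995) k)) 492 = true := by decide +kernel
theorem s7c192 : allBelow (fun k => fs7 (Nat.add (Nat.succ 101487) k)) 460 = true := by decide +kernel

end Cfsg.Agent.Lib.Helper35.ON122760
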