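import Cfsg.Agent.Lib.Helper35.ON122760.Data

set_option Elab.async false

namespace Cfsg.Agent.Lib.Helper35.ON122760

open Cfsg.Agent.Lib.Helper35

theorem s7c193 : allBelow (fun k => fs7 (Nat.add (Nat.succ 101947) k)) 463 = true := by decide +kernel
theorem s7c194 : allBelow (fun k => fs7 (Nat.add (Nat.succ 102410) k)) 473 = true := by decide +kernel
theorem s7c195 : allBelow (fun k => fs7 (Nat.add (Nat.succ 102883) k)) 506 = true := by decide +kernel
theorem s7c196 : allBelow (fun k => fs7 (Nat.add (Nat.succ 103389) k)) 473 = true := by decide +kernel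
theorem s7c197 : allBelow (fun k => fs7 (Nat.add (Nat.succ 103862) k)) 485 = true := by decide +kernel
theorem s7c198 : allBelow (fun k => fs7 (Nat.add (Nat.succ 104347) k)) 509 = true := by decide +kernel
theorem s7c199 : allBelow (fun k => fs7 (Nat.add (Nat.succ 104856) k)) 542 = true := by decide +kernel
theorem s7c200 : allBelow (fun k => fs7 (Nat.add (Nat.succ 105398) k)) 500 = true := by decide +kernel
theorem s7c201 : allBelow (fun k => fs7 (Nat.add (Nat.succ 105898) k)) 480 = true := by decide +kernel
theorem s7c202 : allBelow (fun k => fs7 (Nat.add (Nat.succ 106378) k)) 522 = true := by decide +kernel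
theorem s7c203 : allBelow (fun k => fs7 (Nat.add (Nat.succ 106900) k)) 544 = true := by decide +kernel
theorem s7c204 : allBelow (fun k => fs7 (Nat.add (Nat.succ 107444) k)) 505 = true := by decide +kernel
theorem s7c205 : allBelow (fun k => fs7 (Nat.add (Nat.succ 107949) k)) 547 = true := by decide +kernel
theorem s7c206 : allBelow (fun k => fs7 (Nat.add (Nat.succ 108496) k)) 538 = true := by decide +kernel
theorem s7c207 : allBelow (fun k => fs7 (Nat.add (Nat.succ 109034) k)) 545 = true := by decide +kernel
theorem s7c208 : allBelow (fun k => fs7 (Nat.add (Nat.succ 109579) k)) 525 = true := by decide +kernel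
theorem s7c209 : allBelow (fun k => fs7 (Nat.add (Nat.succ 110104) k)) 538 = true := by decide +kernel
theorem s7c210 : allBelow (fun k => fs7 (Nat.add (Nat.succ 110642) k)) 554 = true := by decide +kernel
theorem s7c211 : allBelow (fun k => fs7 (Nat.add (Nat.succ 111196) k)) 542 = true := by decide +kernel
theorem s7c212 : allBelow (fun k => fs7 (Nat.add (Nat.succ 111738) k)) 544 = true := by decide +kernel
theorem s7c213 : allBelow (fun k => fs7 (Nat.add (Nat.succ 112282) k)) 568 = true := by decide +kernel
theorem s7c214 : allBelow (fun k => fs7 (Nat.add (Nat.succ 112850) k)) 550 = true := by decide +kernel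
theorem s7c215 : allBelow (fun k => fs7 (Nat.add (Nat.succ 113400) k)) 521 = true := by decide +kernel
theorem s7c216 : allBelow (fun k => fs7 (Nat.add (Nat.succ 113921) k)) 503 = true := by decide +kernel
theorem s7c217 : allBelow (fun k => fs7 (Nat.add (Nat.succ 114424) k)) 516 = true := by decide +kernel
theorem s7c218 : allBelow (fun k => fs7 (Nat.add (Nat.succ 114940) k)) 498 = true := by decide +kernel
theorem s7c219 : allBelow (fun k => fs7 (Nat.add (Nat.succ 115438) k)) 476 = true := by decide +kernel
theorem s7c220 : allBelow (fun k => fs7 (Nat.add (Nat.succ 115914) k)) 530 = true := by decide +kernel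
theorem s7c221 : allBelow (fun k => fs7 (Nat.add (Nat.succ 116444) k)) 548 = true := by decide +kernel
theorem s7c222 : allBelow (fun k => fs7 (Nat.add (Nat.succ 116992) k)) 539 = true := by decide +kernel
theorem s7c223 : allBelow (fun k => fs7 (Nat.add (Nat.succ 117531) k)) 532 = true := by decide +kernel
theorem s7c224 : allBelow (fun k => fs7 (Nat.add (Nat.succ 118063) k)) 531 = true := by decide +kernel
theorem s7c225 : allBelow (fun k => fs7 (Nat.add (Nat.succ 118594) k)) 569 = true := by decide +kernel
theorem s7c226 : allBelow (fun k => fs7 (Nat.add (Nat.succ 119163) k)) 544 = true := by decide +kernel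
theorem s7c227 : allBelow (fun k => fs7 (Nat.add (Nat.succ 119707) k)) 531 = true := by decide +kernel
theorem s7c228 : allBelow (fun k => fs7 (Nat.add (Nat.succ 120238) k)) 520 = true := by decide +kernel
theorem s7c229 : allBelow (fun k => fs7 (Nat.add (Nat.succ 120758) k)) 472 = true := by decide +kernel
theorem s7c230 : allBelow (fun k => fs7 (Nat.add (Nat.succ 121230) k)) 534 = true := by decide +kernel
theorem s7c231 : allBelow (fun k => fs7 (Nat.add (Nat.succ 121764) k)) 507 = true := by decide +kernel
theorem s7c232 : allBelow (fun k => fs7 (Nat.add (Nat.succ 122271) k)) 513 = true := by decide +kernel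
theorem s7c233 : allBelow (fun k => fs7 (Nat.add (Nat.succ 122784) k)) 525 = true := by decide +kernel
theorem s7c234 : allBelow (fun k => fs7 (Nat.add (Nat.succ 123309) k)) 516 = true := by decide +kernel
theorem s7c235 : allBelow (fun k => fs7 (Nat.add (Nat.succ 123825) k)) 519 = true := by decide +kernel
theorem s7c236 : allBelow (fun k => fs7 (Nat.add (Nat.succ 124344) k)) 469 = true := by decide +kernel
theorem s7c237 : allBelow (fun k => fs7 (Nat.add (Nat.succ 124813) k)) 510 = true := by decide +kernel
theorem s7c238 : allBelow (fun k => fs7 (Nat.add (Nat.succ 125323) k)) 495 = true := by decide +kernel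
theorem s7c239 : allBelow (fun k => fs7 (Nat.add (Nat.succ 125818) k)) 519 = true := by decide +kernel
theorem s7c240 : allBelow (fun k => fs7 (Nat.add (Nat.succ 126337) k)) 593 = true := by decide +kernel
theorem s7c241 : allBelow (fun k => fs7 (Nat.add (Nat.succ 126930) k)) 610 = true := by decide +kernel
theorem s7c242 : allBelow (fun k => fs7 (Nat.add (Nat.succ 127540) k)) 548 = true := by decide +kernel
theorem s7c243 : allBelow (fun k => fs7 (Nat.add (Nat.succ 128088) k)) 570 = true := by decide +kernel
theorem s7c244 : allBelow (fun k => fs7 (Nat.add (Nat.succ 128658) k)) 572 = true := by decide +kernel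
theorem s7c245 : allBelow (fun k => fs7 (Nat.add (Nat.succ 129230) k)) 553 = true := by decide +kernel
theorem s7c246 : allBelow (fun k => fs7 (Nat.add (Nat.succ 129783) k)) 622 = true := by decide +kernel
theorem s7c247 : allBelow (fun k => fs7 (Nat.add (Nat.succ 130405) k)) 627 = true := by decide +kernel
theorem s7c248 : allBelow (fun k => fs7 (Nat.add (Nat.succ 131032) k)) 584 = true := by decide +kernel
theorem s7c249 : allBelow (fun k => fs7 (Nat.add (Nat.succ 131616) k)) 566 = true := by decide +kernel
theorem s7c250 : allBelow (fun k => fs7 (Nat.add (Nat.succ 132182) k)) 556 = true := by decide +kernel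
theorem s7c251 : allBelow (fun k => fs7 (Nat.add (Nat.succ 132738) k)) 594 = true := by decide +kernel
theorem s7c252 : allBelow (fun k => fs7 (Nat.add (Nat.succ 133332) k)) 557 = true := by decide +kernel
theorem s7c253 : allBelow (fun k => fs7 (Nat.add (Nat.succ 133889) k)) 548 = true := by decide +kernel
theorem s7c254 : allBelow (fun k => fs7 (Nat.add (Nat.succ 134437) k)) 565 = true := by decide +kernel
theorem s7c255 : allBelow (fun k => fs7 (Nat.add (Nat.succ 135002) k)) 596 = true := by decide +kernel
theorem s7c256 : allBelow (fun k => fs7 (Nat.add (Nat.succ 135598) k)) 574 = true := by decide +kernel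
theorem s7c257 : allBelow (fun k => fs7 (Nat.add (Nat.succ 136172) k)) 597 = true := by decide +kernel
theorem s7c258 : allBelow (fun k => fs7 (Nat.add (Nat.succ 136769) k)) 592 = true := by decide +kernel
theorem s7c259 : allBelow (fun k => fs7 (Nat.add (Nat.succ 137361) k)) 533 = true := by decide +kernel
theorem s7c260 : allBelow (fun k => fs7 (Nat.add (Nat.succ 137894) k)) 567 = true := by decide +kernel
theorem s7c261 : allBelow (fun k => fs7 (Nat.add (Nat.succ 138461) k)) 537 = true := by decide +kernel
theorem s7c262 : allBelow (fun k => fs7 (Nat.add (Nat.succ 138998) k)) 558 = true := by decide +kernel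
theorem s7c263 : allBelow (fun k => fs7 (Nat.add (Nat.succ 139556) k)) 577 = true := by decide +kernel
theorem s7c264 : allBelow (fun k => fs7 (Nat.add (Nat.succ 140133) k)) 638 = true := by decide +kernel
theorem s7c265 : allBelow (fun k => fs7 (Nat.add (Nat.succ 140771) k)) 518 = true := by decide +kernel
theorem s7c266 : allBelow (fun k => fs7 (Nat.add (Nat.succ 141289) k)) 535 = true := by decide +kernel
theorem s7c267 : allBelow (fun k => fs7 (Nat.add (Nat.succ 141824) k)) 594 = true := by decide +kernel
theorem s7c268 : allBelow (fun k => fs7 (Nat.add (Nat.succ 142418) k)) 577 = true := by decide +kernel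
theorem s7c269 : allBelow (fun k => fs7 (Nat.add (Nat.succ 142995) k)) 627 = true := by decide +kernel
theorem s7c270 : allBelow (fun k => fs7 (Nat.add (Nat.succ 143622) k)) 551 = true := by decide +kernel
theorem s7c271 : allBelow (fun k => fs7 (Nat.add (Nat.succ 144173) k)) 535 = true := by decide +kernel
theorem s7c272 : allBelow (fun k => fs7 (Nat.add (Nat.succ 144708) k)) 636 = true := by decide +kernel
theorem s7c273 : allBelow (fun k => fs7 (Nat.add (Nat.succ 145344) k)) 656 = true := by decide +kernel
theorem s7c274 : allBelow (fun k => fs7 (Nat.add (Nat.succ 146000) k)) 585 = true := by decide +kernel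
theorem s7c275 : allBelow (fun k => fs7 (Nat.add (Nat.succ 146585) k)) 578 = true := by decide +kernel
theorem s7c276 : allBelow (fun k => fs7 (Nat.add (Nat.succ 147163) k)) 606 = true := by decide +kernel
theorem s7c277 : allBelow (fun k => fs7 (Nat.add (Nat.succ 147769) k)) 726 = true := by decide +kernel
theorem s7c278 : allBelow (fun k => fs7 (Nat.add (Nat.succ 148495) k)) 587 = true := by decide +kernel
theorem s7c279 : allBelow (fun k => fs7 (Nat.add (Nat.succ 149082) k)) 699 = true := by decide +kernel
theorem s7c280 : allBelow (fun k => fs7 (Nat.add (Nat.succ 149781) k)) 615 = true := by decide +kernel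
theorem s7c281 : allBelow (fun k => fs7 (Nat.add (Nat.succ 150396) k)) 727 = true := by decide +kernel
theorem s7c282 : allBelow (fun k => fs7 (Nat.add (Nat.succ 151123) k)) 653 = true := by decide +kernel
theorem s7c283 : allBelow (fun k => fs7 (Nat.add (Nat.succ 151776) k)) 578 = true := by decide +kernel
theorem s7c284 : allBelow (fun k => fs7 (Nat.add (Nat.succ 152354) k)) 601 = true := by decide +kernel
theorem s7c285 : allBelow (fun k => fs7 (Nat.add (Nat.succ 152955) k)) 635 = true := by decide +kernel
theorem s7c286 : allBelow (fun k => fs7 (Nat.add (Nat.succ 153590) k)) 640 = true := by decide +kernel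
theorem s7c287 : allBelow (fun k => fs7 (Nat.add (Nat.succ 154230) k)) 665 = true := by decide +kernel
theorem s7c288 : allBelow (fun k => fs7 (Nat.add (Nat.succ 154895) k)) 564 = true := by decide +kernel
theorem s7c289 : allBelow (fun k => fs7 (Nat.add (Nat.succ 155459) k)) 631 = true := by decide +kernel
theorem s7c290 : allBelow (fun k => fs7 (Nat.add (Nat.succ 156090) k)) 628 = true := by decide +kernel
theorem s7c291 : allBelow (fun k => fs7 (Nat.add (Nat.succ 156718) k)) 605 = true := by decide +kernel
theorem s7c292 : allBelow (fun k => fs7 (Nat.add (Nat.succ 157323) k)) 620 = true := by decide +kernel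
theorem s7c293 : allBelow (fun k => fs7 (Nat.add (Nat.succ 157943) k)) 701 = true := by decide +kernel
theorem s7c294 : allBelow (fun k => fs7 (Nat.add (Nat.succ 158644) k)) 592 = true := by decide +kernel
theorem s7c295 : allBelow (fun k => fs7 (Nat.add (Nat.succ 159236) k)) 564 = true := by decide +kernel
theorem s7c296 : allBelow (fun k => fs7 (Nat.add (Nat.succ 159800) k)) 640 = true := by decide +kernel
theorem s7c297 : allBelow (fun k => fs7 (Nat.add (Nat.succ 160440) k)) 582 = true := by decide +kernel
theorem s7c298 : allBelow (fun k => fs7 (Nat.add (Nat.succ 161022) k)) 553 = true := by decide +kernel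
theorem s7c299 : allBelow (fun k => fs7 (Nat.add (Nat.succ 161575) k)) 535 = true := by decide +kernel
theorem s7c300 : allBelow (fun k => fs7 (Nat.add (Nat.succ 162110) k)) 446 = true := by decide +kernel
theorem s7c301 : allBelow (fun k => fs7 (Nat.add (Nat.succ 162556) k)) 423 = true := by decide +kernel
theorem s7c302 : allBelow (fun k => fs7 (Nat.add (Nat.succ 162979) k)) 450 = true := by decide +kernel
theorem s7c303 : allBelow (fun k => fs7 (Nat.add (Nat.succ 163429) k)) 432 = true := by decide +kernel
theorem s7c304 : allBelow (fun k => fs7 (Nat.add (Nat.succ 163861) k)) 439 = true := by decide +kernel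
theorem s7c305 : allBelow (fun k => fs7 (Nat.add (Nat.succ 164300) k)) 439 = true := by decide +kernel
theorem s7c306 : allBelow (fun k => fs7 (Nat.add (Nat.succ 164739) k)) 455 = true := by decide +kernel
theorem s7c307 : allBelow (fun k => fs7 (Nat.add (Nat.succ 165194) k)) 446 = true := by decide +kernel
theorem s7c308 : allBelow (fun k => fs7 (Nat.add (Nat.succ 165640) k)) 440 = true := by decide +kernel
theorem s7c309 : allBelow (fun k => fs7 (Nat.add (Nat.succ 166080) k)) 431 = true := by decide +kernel
theorem s7c310 : allBelow (fun k => fs7 (Nat.add (Nat.succ 166511) k)) 437 = true := by decide +kernel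
theorem s7c311 : allBelow (fun k => fs7 (Nat.add (Nat.succ 166948) k)) 451 = true := by decide +kernel
theorem s7c312 : allBelow (fun k => fs7 (Nat.add (Nat.succ 167399) k)) 432 = true := by decide +kernel
theorem s7c313 : allBelow (fun k => fs7 (Nat.add (Nat.succ 167831) k)) 447 = true := by decide +kernel
theorem s7c314 : allBelow (fun k => fs7 (Nat.add (Nat.succ 168278) k)) 440 = true := by decide +kernel
theorem s7c315 : allBelow (fun k => fs7 (Nat.add (Nat.succ 168718) k)) 438 = true := by decide +kernel
theorem s7c316 : allBelow (fun k => fs7 (Nat.add (Nat.succ 169156) k)) 438 = true := by decide +kernel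
theorem s7c317 : allBelow (fun k => fs7 (Nat.add (Nat.succ 169594) k)) 430 = true := by decide +kernel
theorem s7c318 : allBelow (fun k => fs7 (Nat.add (Nat.succ 170024) k)) 427 = true := by decide +kernel
theorem s7c319 : allBelow (fun k => fs7 (Nat.add (Nat.succ 170451) k)) 421 = true := by decide +kernel
theorem s7c320 : allBelow (fun k => fs7 (Nat.add (Nat.succ 170872) k)) 437 = true := by decide +kernel
theorem s7c321 : allBelow (fun k => fs7 (Nat.add (Nat.succ 171309) k)) 417 = true := by decide +kernel
theorem s7c322 : allBelow (fun k => fs7 (Nat.add (Nat.succ 171726) k)) 435 = true := by decide +kernel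
theorem s7c323 : allBelow (fun k => fs7 (Nat.add (Nat.succ 172161) k)) 422 = true := by decide +kernel
theorem s7c324 : allBelow (fun k => fs7 (Nat.add (Nat.succ 172583) k)) 424 = true := by decide +kernel
theorem s7c325 : allBelow (fun k => fs7 (Nat.add (Nat.succ 173007) k)) 444 = true := by decide +kernel
theorem s7c326 : allBelow (fun k => fs7 (Nat.add (Nat.succ 173451) k)) 412 = true := by decide +kernel
theorem s7c327 : allBelow (fun k => fs7 (Nat.add (Nat.succ 173863) k)) 424 = true := by decide +kernel
theorem s7c328 : allBelow (fun k => fs7 (Nat.add (Nat.succ 174287) k)) 426 = true := by decide +kernel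
theorem s7c329 : allBelow (fun k => fs7 (Nat.add (Nat.succ 174713) k)) 415 = true := by decide +kernel
theorem s7c330 : allBelow (fun k => fs7 (Nat.add (Nat.succ 175128) k)) 410 = true := by decide +kernel
theorem s7c331 : allBelow (fun k => fs7 (Nat.add (Nat.succ 175538) k)) 399 = true := by decide +kernel
theorem s7c332 : allBelow (fun k => fs7 (Nat.add (Nat.succ 175937) k)) 432 = true := by decide +kernel
theorem s7c333 : allBelow (fun k => fs7 (Nat.add (Nat.succ 176369) k)) 433 = true := by decide +kernel
theorem s7c334 : allBelow (fun k => fs7 (Nat.add (Nat.succ 176802) k)) 418 = true := by decide +kernel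
theorem s7c335 : allBelow (fun k => fs7 (Nat.add (Nat.succ 177220) k)) 430 = true := by decide +kernel
theorem s7c336 : allBelow (fun k => fs7 (Nat.add (Nat.succ 177650) k)) 428 = true := by decide +kernel
theorem s7c337 : allBelow (fun k => fs7 (Nat.add (Nat.succ 178078) k)) 408 = true := by decide +kernel
theorem s7c338 : allBelow (fun k => fs7 (Nat.add (Nat.succ 178486) k)) 424 = true := by decide +kernel
theorem s7c339 : allBelow (fun k => fs7 (Nat.add (Nat.succ 178910) k)) 411 = true := by decide +kernel
theorem s7c340 : allBelow (fun k => fs7 (Nat.add (Nat.succ 179321) k)) 413 = true := by decide +kernel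
theorem s7c341 : allBelow (fun k => fs7 (Nat.add (Nat.succ 179734) k)) 419 = true := by decide +kernel
theorem s7c342 : allBelow (fun k => fs7 (Nat.add (Nat.succ 180153) k)) 413 = true := by decide +kernel
theorem s7c343 : allBelow (fun k => fs7 (Nat.add (Nat.succ 180566) k)) 413 = true := by decide +kernel
theorem s7c344 : allBelow (fun k => fs7 (Nat.add (Nat.succ 180979) k)) 408 = true := by decide +kernel
theorem s7c345 : allBelow (fun k => fs7 (Nat.add (Nat.succ 181387) k)) 401 = true := by decide +kernel
theorem s7c346 : allBelow (fun k => fs7 (Nat.add (Nat.succ 181788) k)) 435 = true := by decide +kernel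
theorem s7c347 : allBelow (fun k => fs7 (Nat.add (Nat.succ 182223) k)) 426 = true := by decide +kernel
theorem s7c348 : allBelow (fun k => fs7 (Nat.add (Nat.succ 182649) k)) 407 = true := by decide +kernel
theorem s7c349 : allBelow (fun k => fs7 (Nat.add (Nat.succ 183056) k)) 393 = true := by decide +kernel
theorem s7c350 : allBelow (fun k => fs7 (Nat.add (Nat.succ 183449) k)) 399 = true := by decide +kernel
theorem s7c351 : allBelow (fun k => fs7 (Nat.add (Nat.succ 183848) k)) 417 = true := by decide +kernel
theorem s7c352 : allBelow (fun k => fs7 (Nat.add (Nat.succ 184265) k)) 405 = true := by decide +kernel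
theorem s7c353 : allBelow (fun k => fs7 (Nat.add (Nat.succ 184670) k)) 410 = true := by decide +kernel
theorem s7c354 : allBelow (fun k => fs7 (Nat.add (Nat.succ 185080) k)) 425 = true := by decide +kernel
theorem s7c355 : allBelow (fun k => fs7 (Nat.add (Nat.succ 185505) k)) 420 = true := by decide +kernel
theorem s7c356 : allBelow (fun k => fs7 (Nat.add (Nat.succ 185925) k)) 413 = true := by decide +kernel
theorem s7c357 : allBelow (fun k => fs7 (Nat.add (Nat.succ 186338) k)) 431 = true := by decide +kernel
theorem s7c358 : allBelow (fun k => fs7 (Nat.add (Nat.succ 186769) k)) 407 = true := by decide +kernel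
theorem s7c359 : allBelow (fun k => fs7 (Nat.add (Nat.succ 187176) k)) 421 = true := by decide +kernel
theorem s7c360 : allBelow (fun k => fs7 (Nat.add (Nat.succ 187597) k)) 419 = true := by decide +kernel
theorem s7c361 : allBelow (fun k => fs7 (Nat.add (Nat.succ 188016) k)) 400 = true := by decide +kernel
theorem s7c362 : allBelow (fun k => fs7 (Nat.add (Nat.succ 188416) k)) 409 = true := by decide +kernel
theorem s7c363 : allBelow (fun k => fs7 (Nat.add (Nat.succ 188825) k)) 410 = true := by decide +kernel
theorem s7c364 : allBelow (fun k => fs7 (Nat.add (Nat.succ 189235) k)) 413 = true := by decide +kernel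
theorem s7c365 : allBelow (fun k => fs7 (Nat.add (Nat.succ 189648) k)) 389 = true := by decide +kernel
theorem s7c366 : allBelow (fun k => fs7 (Nat.add (Nat.succ 190037) k)) 400 = true := by decide +kernel
theorem s7c367 : allBelow (fun k => fs7 (Nat.add (Nat.succ 190437) k)) 399 = true := by decide +kernel
theorem s7c368 : allBelow (fun k => fs7 (Nat.add (Nat.succ 190836) k)) 406 = true := by decide +kernel
theorem s7c369 : allBelow (fun k => fs7 (Nat.add (Nat.succ 191242) k)) 410 = true := by decide +kernel
theorem s7c370 : allBelow (fun k => fs7 (Nat.add (Nat.succ 191652) k)) 409 = true := by decide +kernel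
theorem s7c371 : allBelow (fun k => fs7 (Nat.add (Nat.succ 192061) k)) 400 = true := by decide +kernel
theorem s7c372 : allBelow (fun k => fs7 (Nat.add (Nat.succ 192461) k)) 414 = true := by decide +kernel
theorem s7c373 : allBelow (fun k => fs7 (Nat.add (Nat.succ 192875) k)) 396 = true := by decide +kernel
theorem s7c374 : allBelow (fun k => fs7 (Nat.add (Nat.succ 193271) k)) 398 = true := by decide +kernel
theorem s7c375 : allBelow (fun k => fs7 (Nat.add (Nat.succ 193669) k)) 393 = true := by decide +kernel
theorem s7c376 : allBelow (fun k => fs7 (Nat.add (Nat.succ 194062) k)) 410 = true := by decide +kernel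
theorem s7c377 : allBelow (fun k => fs7 (Nat.add (Nat.succ 194472) k)) 404 = true := by decide +kernel
theorem s7c378 : allBelow (fun k => fs7 (Nat.add (Nat.succ 194876) k)) 399 = true := by decide +kernel
theorem s7c379 : allBelow (fun k => fs7 (Nat.add (Nat.succ 195275) k)) 398 = true := by decide +kernel
theorem s7c380 : allBelow (fun k => fs7 (Nat.add (Nat.succ 195673) k)) 404 = true := by decide +kernel
theorem s7c381 : allBelow (fun k => fs7 (Nat.add (Nat.succ 196077) k)) 396 = true := by decide +kernel
theorem s7c382 : allBelow (fun k => fs7 (Nat.add (Nat.succ 196473) k)) 397 = true := by decide +kernel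
theorem s7c383 : allBelow (fun k => fs7 (Nat.add (Nat.succ 196870) k)) 395 = true := by decide +kernel
theorem s7c384 : allBelow (fun k => fs7 (Nat.add (Nat.succ 197265) k)) 398 = true := by decide +kernel
theorem s7c385 : allBelow (fun k => fs7 (Nat.add (Nat.succ 197663) k)) 387 = true := by decide +kernel
theorem s7c386 : allBelow (fun k => fs7 (Nat.add (Nat.succ 198050) k)) 389 = true := by decide +kernel
theorem s7c387 : allBelow (fun k => fs7 (Nat.add (Nat.succ 198439) k)) 408 = true := by decide +kernel
theorem s7c388 : allBelow (fun k => fs7 (Nat.add (Nat.succ 198847) k)) 403 = true := by decide +kernel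
theorem s7c389 : allBelow (fun k => fs7 (Nat.add (Nat.succ 199250) k)) 389 = true := by decide +kernel
theorem s7c390 : allBelow (fun k => fs7 (Nat.add (Nat.succ 199639) k)) 390 = true := by decide +kernel
theorem s7c391 : allBelow (fun k => fs7 (Nat.add (Nat.succ 200029) k)) 397 = true := by decide +kernel
theorem s7c392 : allBelow (fun k => fs7 (Nat.add (Nat.succ 200426) k)) 389 = true := by decide +kernel
theorem s7c393 : allBelow (fun k => fs7 (Nat.add (Nat.succ 200815) k)) 386 = true := by decide +kernel
theorem s7c394 : allBelow (fun k => fs7 (Nat.add (Nat.succ 201201) k)) 380 = true := by decide +kernel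
theorem s7c395 : allBelow (fun k => fs7 (Nat.add (Nat.succ 201581) k)) 1 = true := by decide +kernel
theorem s8c0 : allBelow (fun k => fs8 (Nat.add (Nat.succ 0) k)) 503 = true := by decide +kernel
theorem s8c1 : allBelow (fun k => fs8 (Nat.add (Nat.succ 503) k)) 934 = true := by decide +kernel
theorem s8c2 : allBelow (fun k => fs8 (Nat.add (Nat.succ 1437) k)) 779 = true := by decide +kernel
theorem s8c3 : allBelow (fun k => fs8 (Nat.add (Nat.succ 2216) k)) 644 = true := by decide +kernel
theorem s8c4 : allBelow (fun k => fs8 (Nat.add (Nat.succ 2860) k)) 710 = true := by decide +kernel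
theorem s8c5 : allBelow (fun k => fs8 (Nat.add (Nat.succ 3570) k)) 619 = true := by decide +kernel
theorem s8c6 : allBelow (fun k => fs8 (Nat.add (Nat.succ 4189) k)) 491 = true := by decide +kernel
theorem s8c7 : allBelow (fun k => fs8 (Nat.add (Nat.succ 4680) k)) 620 = true := by decide +kernel
theorem s8c8 : allBelow (fun k => fs8 (Nat.add (Nat.succ 5300) k)) 678 = true := by decide +kernel
theorem s8c9 : allBelow (fun k => fs8 (Nat.add (Nat.succ 5978) k)) 710 = true := by decide +kernel
theorem s8c10 : allBelow (fun k => fs8 (Nat.add (Nat.succ 6688) k)) 678 = true := by decide +kernel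
theorem s8c11 : allBelow (fun k => fs8 (Nat.add (Nat.succ 7366) k)) 698 = true := by decide +kernel
theorem s8c12 : allBelow (fun k => fs8 (Nat.add (Nat.succ 8064) k)) 533 = true := by decide +kernel
theorem s8c13 : allBelow (fun k => fs8 (Nat.add (Nat.succ 8597) k)) 640 = true := by decide +kernel
theorem s8c14 : allBelow (fun k => fs8 (Nat.add (Nat.succ 9237) k)) 501 = true := by decide +kernel
theorem s8c15 : allBelow (fun k => fs8 (Nat.add (Nat.succ 9738) k)) 450 = true := by decide +kernel
theorem s8c16 : allBelow (fun k => fs8 (Nat.add (Nat.succ 10188) k)) 630 = true := by decide +kernel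
theorem s8c17 : allBelow (fun k => fs8 (Nat.add (Nat.succ 10818) k)) 748 = true := by decide +kernel
theorem s8c18 : allBelow (fun k => fs8 (Nat.add (Nat.succ 11566) k)) 788 = true := by decide +kernel
theorem s8c19 : allBelow (fun k => fs8 (Nat.add (Nat.succ 12354) k)) 602 = true := by decide +kernel
theorem s8c20 : allBelow (fun k => fs8 (Nat.add (Nat.succ 12956) k)) 801 = true := by decide +kernel
theorem s8c21 : allBelow (fun k => fs8 (Nat.add (Nat.succ 13757) k)) 932 = true := by decide +kernel
theorem s8c22 : allBelow (fun k => fs8 (Nat.add (Nat.succ 14689) k)) 614 = true := by decide +kernel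
theorem s8c23 : allBelow (fun k => fs8 (Nat.add (Nat.succ 15303) k)) 519 = true := by decide +kernel
theorem s8c24 : allBelow (fun k => fs8 (Nat.add (Nat.succ 15822) k)) 663 = true := by decide +kernel
theorem s8c25 : allBelow (fun k => fs8 (Nat.add (Nat.succ 16485) k)) 709 = true := by decide +kernel
theorem s8c26 : allBelow (fun k => fs8 (Nat.add (Nat.succ 17194) k)) 505 = true := by decide +kernel
theorem s8c27 : allBelow (fun k => fs8 (Nat.add (Nat.succ 17699) k)) 586 = true := by decide +kernel
theorem s8c28 : allBelow (fun k => fs8 (Nat.add (Nat.succ 18285) k)) 610 = true := by decide +kernel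
theorem s8c29 : allBelow (fun k => fs8 (Nat.add (Nat.succ 18895) k)) 624 = true := by decide +kernel
theorem s8c30 : allBelow (fun k => fs8 (Nat.add (Nat.succ 19519) k)) 500 = true := by decide +kernel
theorem s8c31 : allBelow (fun k => fs8 (Nat.add (Nat.succ 20019) k)) 497 = true := by decide +kernel
theorem s8c32 : allBelow (fun k => fs8 (Nat.add (Nat.succ 20516) k)) 463 = true := by decide +kernel
theorem s8c33 : allBelow (fun k => fs8 (Nat.add (Nat.succ 20979) k)) 488 = true := by decide +kernel
theorem s8c34 : allBelow (fun k => fs8 (Nat.add (Nat.succ 21467) k)) 521 = true := by decide +kernel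
theorem s8c35 : allBelow (fun k => fs8 (Nat.add (Nat.succ 21988) k)) 576 = true := by decide +kernel
theorem s8c36 : allBelow (fun k => fs8 (Nat.add (Nat.succ 22564) k)) 423 = true := by decide +kernel
theorem s8c37 : allBelow (fun k => fs8 (Nat.add (Nat.succ 22987) k)) 827 = true := by decide +kernel
theorem s8c38 : allBelow (fun k => fs8 (Nat.add (Nat.succ 23814) k)) 952 = true := by decide +kernel
theorem s8c39 : allBelow (fun k => fs8 (Nat.add (Nat.succ 24766) k)) 928 = true := by decide +kernel
theorem s8c40 : allBelow (fun k => fs8 (Nat.add (Nat.succ 25694) k)) 707 = true := by decide +kernel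
theorem s8c41 : allBelow (fun k => fs8 (Nat.add (Nat.succ 26401) k)) 469 = true := by decide +kernel
theorem s8c42 : allBelow (fun k => fs8 (Nat.add (Nat.succ 26870) k)) 669 = true := by decide +kernel
theorem s8c43 : allBelow (fun k => fs8 (Nat.add (Nat.succ 27539) k)) 768 = true := by decide +kernel
theorem s8c44 : allBelow (fun k => fs8 (Nat.add (Nat.succ 28307) k)) 869 = true := by decide +kernel
theorem s8c45 : allBelow (fun k => fs8 (Nat.add (Nat.succ 29176) k)) 892 = true := by decide +kernel
theorem s8c46 : allBelow (fun k => fs8 (Nat.add (Nat.succ 30068) k)) 712 = true := by decide +kernel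
theorem s8c47 : allBelow (fun k => fs8 (Nat.add (Nat.succ 30780) k)) 617 = true := by decide +kernel
theorem s8c48 : allBelow (fun k => fs8 (Nat.add (Nat.succ 31397) k)) 742 = true := by decide +kernel
theorem s8c49 : allBelow (fun k => fs8 (Nat.add (Nat.succ 32139) k)) 638 = true := by decide +kernel
theorem s8c50 : allBelow (fun k => fs8 (Nat.add (Nat.succ 32777) k)) 619 = true := by decide +kernel
theorem s8c51 : allBelow (fun k => fs8 (Nat.add (Nat.succ 33396) k)) 716 = true := by decide +kernel
theorem s8c52 : allBelow (fun k => fs8 (Nat.add (Nat.succ 34112) k)) 646 = true := by decide +kernel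
theorem s8c53 : allBelow (fun k => fs8 (Nat.add (Nat.succ 34758) k)) 492 = true := by decide +kernel
theorem s8c54 : allBelow (fun k => fs8 (Nat.add (Nat.succ 35250) k)) 602 = true := by decide +kernel
theorem s8c55 : allBelow (fun k => fs8 (Nat.add (Nat.succ 35852) k)) 434 = true := by decide +kernel
theorem s8c56 : allBelow (fun k => fs8 (Nat.add (Nat.succ 36286) k)) 439 = true := by decide +kernel
theorem s8c57 : allBelow (fun k => fs8 (Nat.add (Nat.succ 36725) k)) 447 = true := by decide +kernel
theorem s8c58 : allBelow (fun k => fs8 (Nat.add (Nat.succ 37172) k)) 456 = true := by decide +kernel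
theorem s8c59 : allBelow (fun k => fs8 (Nat.add (Nat.succ 37628) k)) 553 = true := by decide +kernel
theorem s8c60 : allBelow (fun k => fs8 (Nat.add (Nat.succ 38181) k)) 523 = true := by decide +kernel
theorem s8c61 : allBelow (fun k => fs8 (Nat.add (Nat.succ 38704) k)) 496 = true := by decide +kernel
theorem s8c62 : allBelow (fun k => fs8 (Nat.add (Nat.succ 39200) k)) 490 = true := by decide +kernel
theorem s8c63 : allBelow (fun k => fs8 (Nat.add (Nat.succ 39690) k)) 453 = true := by decide +kernel
theorem s8c64 : allBelow (fun k => fs8 (Nat.add (Nat.succ 40143) k)) 603 = true := by decide +kernel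
theorem s8c65 : allBelow (fun k => fs8 (Nat.add (Nat.succ 40746) k)) 608 = true := by decide +kernel
theorem s8c66 : allBelow (fun k => fs8 (Nat.add (Nat.succ 41354) k)) 524 = true := by decide +kernel
theorem s8c67 : allBelow (fun k => fs8 (Nat.add (Nat.succ 41878) k)) 560 = true := by decide +kernel
theorem s8c68 : allBelow (fun k => fs8 (Nat.add (Nat.succ 42438) k)) 440 = true := by decide +kernel
theorem s8c69 : allBelow (fun k => fs8 (Nat.add (Nat.succ 42878) k)) 558 = true := by decide +kernel
theorem s8c70 : allBelow (fun k => fs8 (Nat.add (Nat.succ 43436) k)) 559 = true := by decide +kernel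
theorem s8c71 : allBelow (fun k => fs8 (Nat.add (Nat.succ 43995) k)) 576 = true := by decide +kernel
theorem s8c72 : allBelow (fun k => fs8 (Nat.add (Nat.succ 44571) k)) 650 = true := by decide +kernel
theorem s8c73 : allBelow (fun k => fs8 (Nat.add (Nat.succ 45221) k)) 712 = true := by decide +kernel
theorem s8c74 : allBelow (fun k => fs8 (Nat.add (Nat.succ 45933) k)) 598 = true := by decide +kernel
theorem s8c75 : allBelow (fun k => fs8 (Nat.add (Nat.succ 46531) k)) 676 = true := by decide +kernel
theorem s8c76 : allBelow (fun k => fs8 (Nat.add (Nat.succ 47207) k)) 864 = true := by decide +kernel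
theorem s8c77 : allBelow (fun k => fs8 (Nat.add (Nat.succ 48071) k)) 673 = true := by decide +kernel
theorem s8c78 : allBelow (fun k => fs8 (Nat.add (Nat.succ 48744) k)) 800 = true := by decide +kernel
theorem s8c79 : allBelow (fun k => fs8 (Nat.add (Nat.succ 49544) k)) 639 = true := by decide +kernel
theorem s8c80 : allBelow (fun k => fs8 (Nat.add (Nat.succ 50183) k)) 897 = true := by decide +kernel
theorem s8c81 : allBelow (fun k => fs8 (Nat.add (Nat.succ 51080) k)) 739 = true := by decide +kernel
theorem s8c82 : allBelow (fun k => fs8 (Nat.add (Nat.succ 51819) k)) 647 = true := by decide +kernel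
theorem s8c83 : allBelow (fun k => fs8 (Nat.add (Nat.succ 52466) k)) 650 = true := by decide +kernel
theorem s8c84 : allBelow (fun k => fs8 (Nat.add (Nat.succ 53116) k)) 582 = true := by decide +kernel
theorem s8c85 : allBelow (fun k => fs8 (Nat.add (Nat.succ 53698) k)) 426 = true := by decide +kernel
theorem s8c86 : allBelow (fun k => fs8 (Nat.add (Nat.succ 54124) k)) 381 = true := by decide +kernel
theorem s8c87 : allBelow (fun k => fs8 (Nat.add (Nat.succ 54505) k)) 382 = true := by decide +kernel
theorem s8c88 : allBelow (fun k => fs8 (Nat.add (Nat.succ 54887) k)) 425 = true := by decide +kernel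
theorem s8c89 : allBelow (fun k => fs8 (Nat.add (Nat.succ 55312) k)) 509 = true := by decide +kernel
theorem s8c90 : allBelow (fun k => fs8 (Nat.add (Nat.succ 55821) k)) 506 = true := by decide +kernel
theorem s8c91 : allBelow (fun k => fs8 (Nat.add (Nat.succ 56327) k)) 556 = true := by decide +kernel
theorem s8c92 : allBelow (fun k => fs8 (Nat.add (Nat.succ 56883) k)) 690 = true := by decide +kernel
theorem s8c93 : allBelow (fun k => fs8 (Nat.add (Nat.succ 57573) k)) 640 = true := by decide +kernel
theorem s8c94 : allBelow (fun k => fs8 (Nat.add (Nat.succ 58213) k)) 723 = true := by decide +kernel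
theorem s8c95 : allBelow (fun k => fs8 (Nat.add (Nat.succ 58936) k)) 669 = true := by decide +kernel
theorem s8c96 : allBelow (fun k => fs8 (Nat.add (Nat.succ 59605) k)) 665 = true := by decide +kernel
theorem s8c97 : allBelow (fun k => fs8 (Nat.add (Nat.succ 60270) k)) 668 = true := by decide +kernel
theorem s8c98 : allBelow (fun k => fs8 (Nat.add (Nat.succ 60938) k)) 690 = true := by decide +kernel
theorem s8c99 : allBelow (fun k => fs8 (Nat.add (Nat.succ 61628) k)) 738 = true := by decide +kernel
theorem s8c100 : allBelow (fun k => fs8 (Nat.add (Nat.succ 62366) k)) 567 = true := by decide +kernel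
theorem s8c101 : allBelow (fun k => fs8 (Nat.add (Nat.succ 62933) k)) 606 = true := by decide +kernel
theorem s8c102 : allBelow (fun k => fs8 (Nat.add (Nat.succ 63539) k)) 543 = true := by decide +kernel
theorem s8c103 : allBelow (fun k => fs8 (Nat.add (Nat.succ 64082) k)) 511 = true := by decide +kernel
theorem s8c104 : allBelow (fun k => fs8 (Nat.add (Nat.succ 64593) k)) 540 = true := by decide +kernel
theorem s8c105 : allBelow (fun k => fs8 (Nat.add (Nat.succ 65133) k)) 581 = true := by decide +kernel
theorem s8c106 : allBelow (fun k => fs8 (Nat.add (Nat.succ 65714) k)) 563 = true := by decide +kernel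
theorem s8c107 : allBelow (fun k => fs8 (Nat.add (Nat.succ 66277) k)) 643 = true := by decide +kernel
theorem s8c108 : allBelow (fun k => fs8 (Nat.add (Nat.succ 66920) k)) 518 = true := by decide +kernel
theorem s8c109 : allBelow (fun k => fs8 (Nat.add (Nat.succ 67438) k)) 478 = true := by decide +kernel
theorem s8c110 : allBelow (fun k => fs8 (Nat.add (Nat.succ 67916) k)) 430 = true := by decide +kernel
theorem s8c111 : allBelow (fun k => fs8 (Nat.add (Nat.succ 68346) k)) 517 = true := by decide +kernel
theorem s8c112 : allBelow (fun k => fs8 (Nat.add (Nat.succ 68863) k)) 511 = true := by decide +kernel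
theorem s8c113 : allBelow (fun k => fs8 (Nat.add (Nat.succ 69374) k)) 518 = true := by decide +kernel
theorem s8c114 : allBelow (fun k => fs8 (Nat.add (Nat.succ 69892) k)) 488 = true := by decide +kernel
theorem s8c115 : allBelow (fun k => fs8 (Nat.add (Nat.succ 70380) k)) 469 = true := by decide +kernel
theorem s8c116 : allBelow (fun k => fs8 (Nat.add (Nat.succ 70849) k)) 486 = true := by decide +kernel
theorem s8c117 : allBelow (fun k => fs8 (Nat.add (Nat.succ 71335) k)) 526 = true := by decide +kernel
theorem s8c118 : allBelow (fun k => fs8 (Nat.add (Nat.succ 71861) k)) 478 = true := by decide +kernel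
theorem s8c119 : allBelow (fun k => fs8 (Nat.add (Nat.succ 72339) k)) 440 = true := by decide +kernel
theorem s8c120 : allBelow (fun k => fs8 (Nat.add (Nat.succ 72779) k)) 408 = true := by decide +kernel
theorem s8c121 : allBelow (fun k => fs8 (Nat.add (Nat.succ 73187) k)) 594 = true := by decide +kernel
theorem s8c122 : allBelow (fun k => fs8 (Nat.add (Nat.succ 73781) k)) 415 = true := by decide +kernel
theorem s8c123 : allBelow (fun k => fs8 (Nat.add (Nat.succ 74196) k)) 368 = true := by decide +kernel
theorem s8c124 : allBelow (fun k => fs8 (Nat.add (Nat.succ 74564) k)) 433 = true := by decide +kernel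
theorem s8c125 : allBelow (fun k => fs8 (Nat.add (Nat.succ 74997) k)) 520 = true := by decide +kernel
theorem s8c126 : allBelow (fun k => fs8 (Nat.add (Nat.succ 75517) k)) 499 = true := by decide +kernel
theorem s8c127 : allBelow (fun k => fs8 (Nat.add (Nat.succ 76016) k)) 396 = true := by decide +kernel
theorem s8c128 : allBelow (fun k => fs8 (Nat.add (Nat.succ 76412) k)) 484 = true := by decide +kernel
theorem s8c129 : allBelow (fun k => fs8 (Nat.add (Nat.succ 76896) k)) 387 = true := by decide +kernel
theorem s8c130 : allBelow (fun k => fs8 (Nat.add (Nat.succ 77283) k)) 387 = true := by decide +kernel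
theorem s8c131 : allBelow (fun k => fs8 (Nat.add (Nat.succ 77670) k)) 443 = true := by decide +kernel
theorem s8c132 : allBelow (fun k => fs8 (Nat.add (Nat.succ 78113) k)) 431 = true := by decide +kernel
theorem s8c133 : allBelow (fun k => fs8 (Nat.add (Nat.succ 78544) k)) 423 = true := by decide +kernel
theorem s8c134 : allBelow (fun k => fs8 (Nat.add (Nat.succ 78967) k)) 576 = true := by decide +kernel
theorem s8c135 : allBelow (fun k => fs8 (Nat.add (Nat.succ 79543) k)) 585 = true := by decide +kernel
theorem s8c136 : allBelow (fun k => fs8 (Nat.add (Nat.succ 80128) k)) 492 = true := by decide +kernel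
theorem s8c137 : allBelow (fun k => fs8 (Nat.add (Nat.succ 80620) k)) 526 = true := by decide +kernel
theorem s8c138 : allBelow (fun k => fs8 (Nat.add (Nat.succ 81146) k)) 418 = true := by decide +kernel
theorem s8c139 : allBelow (fun k => fs8 (Nat.add (Nat.succ 81564) k)) 449 = true := by decide +kernel
theorem s8c140 : allBelow (fun k => fs8 (Nat.add (Nat.succ 82013) k)) 480 = true := by decide +kernel
theorem s8c141 : allBelow (fun k => fs8 (Nat.add (Nat.succ 82493) k)) 425 = true := by decide +kernel
theorem s8c142 : allBelow (fun k => fs8 (Nat.add (Nat.succ 82918) k)) 503 = true := by decide +kernel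
theorem s8c143 : allBelow (fun k => fs8 (Nat.add (Nat.succ 83421) k)) 553 = true := by decide +kernel
theorem s8c144 : allBelow (fun k => fs8 (Nat.add (Nat.succ 83974) k)) 556 = true := by decide +kernel
theorem s8c145 : allBelow (fun k => fs8 (Nat.add (Nat.succ 84530) k)) 587 = true := by decide +kernel
theorem s8c146 : allBelow (fun k => fs8 (Nat.add (Nat.succ 85117) k)) 592 = true := by decide +kernel
theorem s8c147 : allBelow (fun k => fs8 (Nat.add (Nat.succ 85709) k)) 623 = true := by decide +kernel
theorem s8c148 : allBelow (fun k => fs8 (Nat.add (Nat.succ 86332) k)) 502 = true := by decide +kernel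
theorem s8c149 : allBelow (fun k => fs8 (Nat.add (Nat.succ 86834) k)) 531 = true := by decide +kernel
theorem s8c150 : allBelow (fun k => fs8 (Nat.add (Nat.succ 87365) k)) 590 = true := by decide +kernel
theorem s8c151 : allBelow (fun k => fs8 (Nat.add (Nat.succ 87955) k)) 489 = true := by decide +kernel
theorem s8c152 : allBelow (fun k => fs8 (Nat.add (Nat.succ 88444) k)) 604 = true := by decide +kernel
theorem s8c153 : allBelow (fun k => fs8 (Nat.add (Nat.succ 89048) k)) 506 = true := by decide +kernel
theorem s8c154 : allBelow (fun k => fs8 (Nat.add (Nat.succ 89554) k)) 565 = true := by decide +kernel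
theorem s8c155 : allBelow (fun k => fs8 (Nat.add (Nat.succ 90119) k)) 641 = true := by decide +kernel
theorem s8c156 : allBelow (fun k => fs8 (Nat.add (Nat.succ 90760) k)) 484 = true := by decide +kernel
theorem s8c157 : allBelow (fun k => fs8 (Nat.add (Nat.succ 91244) k)) 509 = true := by decide +kernel
theorem s8c158 : allBelow (fun k => fs8 (Nat.add (Nat.succ 91753) k)) 543 = true := by decide +kernel
theorem s8c159 : allBelow (fun k => fs8 (Nat.add (Nat.succ 92296) k)) 557 = true := by decide +kernel
theorem s8c160 : allBelow (fun k => fs8 (Nat.add (Nat.succ 92853) k)) 509 = true := by decide +kernel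
theorem s8c161 : allBelow (fun k => fs8 (Nat.add (Nat.succ 93362) k)) 525 = true := by decide +kernel
theorem s8c162 : allBelow (fun k => fs8 (Nat.add (Nat.succ 93887) k)) 485 = true := by decide +kernel
theorem s8c163 : allBelow (fun k => fs8 (Nat.add (Nat.succ 94372) k)) 552 = true := by decide +kernel
theorem s8c164 : allBelow (fun k => fs8 (Nat.add (Nat.succ 94924) k)) 543 = true := by decide +kernel
theorem s8c165 : allBelow (fun k => fs8 (Nat.add (Nat.succ 95467) k)) 537 = true := by decide +kernel
theorem s8c166 : allBelow (fun k => fs8 (Nat.add (Nat.succ 96004) k)) 553 = true := by decide +kernel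
theorem s8c167 : allBelow (fun k => fs8 (Nat.add (Nat.succ 96557) k)) 640 = true := by decide +kernel
theorem s8c168 : allBelow (fun k => fs8 (Nat.add (Nat.succ 97197) k)) 573 = true := by decide +kernel
theorem s8c169 : allBelow (fun k => fs8 (Nat.add (Nat.succ 97770) k)) 682 = true := by decide +kernel
theorem s8c170 : allBelow (fun k => fs8 (Nat.add (Nat.succ 98452) k)) 604 = true := by decide +kernel
theorem s8c171 : allBelow (fun k => fs8 (Nat.add (Nat.succ 99056) k)) 623 = true := by decide +kernel
theorem s8c172 : allBelow (fun k => fs8 (Nat.add (Nat.succ 99679) k)) 555 = true := by decide +kernel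
theorem s8c173 : allBelow (fun k => fs8 (Nat.add (Nat.succ 100234) k)) 471 = true := by decide +kernel
theorem s8c174 : allBelow (fun k => fs8 (Nat.add (Nat.succ 100705) k)) 517 = true := by decide +kernel
theorem s8c175 : allBelow (fun k => fs8 (Nat.add (Nat.succ 101222) k)) 686 = true := by decide +kernel
theorem s8c176 : allBelow (fun k => fs8 (Nat.add (Nat.succ 101908) k)) 776 = true := by decide +kernel
theorem s8c177 : allBelow (fun k => fs8 (Nat.add (Nat.succ 102684) k)) 570 = true := by decide +kernel
theorem s8c178 : allBelow (fun k => fs8 (Nat.add (Nat.succ 103254) k)) 725 = true := by decide +kernel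
theorem s8c179 : allBelow (fun k => fs8 (Nat.add (Nat.succ 103979) k)) 622 = true := by decide +kernel
theorem s8c180 : allBelow (fun k => fs8 (Nat.add (Nat.succ 104601) k)) 604 = true := by decide +kernel
theorem s8c181 : allBelow (fun k => fs8 (Nat.add (Nat.succ 105205) k)) 600 = true := by decide +kernel
theorem s8c182 : allBelow (fun k => fs8 (Nat.add (Nat.succ 105805) k)) 709 = true := by decide +kernel
theorem s8c183 : allBelow (fun k => fs8 (Nat.add (Nat.succ 106514) k)) 480 = true := by decide +kernel
theorem s8c184 : allBelow (fun k => fs8 (Nat.add (Nat.succ 106994) k)) 468 = true := by decide +kernel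
theorem s8c185 : allBelow (fun k => fs8 (Nat.add (Nat.succ 107462) k)) 522 = true := by decide +kernel
theorem s8c186 : allBelow (fun k => fs8 (Nat.add (Nat.succ 107984) k)) 442 = true := by decide +kernel
theorem s8c187 : allBelow (fun k => fs8 (Nat.add (Nat.succ 108426) k)) 395 = true := by decide +kernel
theorem s8c188 : allBelow (fun k => fs8 (Nat.add (Nat.succ 108821) k)) 459 = true := by decide +kernel
theorem s8c189 : allBelow (fun k => fs8 (Nat.add (Nat.succ 109280) k)) 488 = true := by decide +kernel
theorem s8c190 : allBelow (fun k => fs8 (Nat.add (Nat.succ 109768) k)) 458 = true := by decide +kernel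
theorem s8c191 : allBelow (fun k => fs8 (Nat.add (Nat.succ 110226) k)) 447 = true := by decide +kernel
theorem s8c192 : allBelow (fun k => fs8 (Nat.add (Nat.succ 110673) k)) 466 = true := by decide +kernel
theorem s8c193 : allBelow (fun k => fs8 (Nat.add (Nat.succ 111139) k)) 403 = true := by decide +kernel
theorem s8c194 : allBelow (fun k => fs8 (Nat.add (Nat.succ 111542) k)) 400 = true := by decide +kernel
theorem s8c195 : allBelow (fun k => fs8 (Nat.add (Nat.succ 111942) k)) 426 = true := by decide +kernel

end Cfsg.Agent.Lib.Helper35.ON122760
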