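import Cfsg.Agent.Lib.Helper35.ON122760.Data

set_option Elab.async false

namespace Cfsg.Agent.Lib.Helper35.ON122760

open Cfsg.Agent.Lib.Helper35

theorem s8c196 : allBelow (fun k => fs8 (Nat.add (Nat.succ 112368) k)) 464 = true := by decide +kernel
theorem s8c197 : allBelow (fun k => fs8 (Nat.add (Nat.succ 112832) k)) 506 = true := by decide +kernel
theorem s8c198 : allBelow (fun k => fs8 (Nat.add (Nat.succ 113338) k)) 530 = true := by decide +kernel
theorem s8c199 : allBelow (fun k => fs8 (Nat.add (Nat.succ 113868) k)) 521 = true := by decide +kernel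
theorem s8c200 : allBelow (fun k => fs8 (Nat.add (Nat.succ 114389) k)) 416 = true := by decide +kernel
theorem s8c201 : allBelow (fun k => fs8 (Nat.add (Nat.succ 114805) k)) 620 = true := by decide +kernel
theorem s8c202 : allBelow (fun k => fs8 (Nat.add (Nat.succ 115425) k)) 743 = true := by decide +kernel
theorem s8c203 : allBelow (fun k => fs8 (Nat.add (Nat.succ 116168) k)) 501 = true := by decide +kernel
theorem s8c204 : allBelow (fun k => fs8 (Nat.add (Nat.succ 116669) k)) 460 = true := by decide +kernel
theorem s8c205 : allBelow (fun k => fs8 (Nat.add (Nat.succ 117129) k)) 505 = true := by decide +kernel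
theorem s8c206 : allBelow (fun k => fs8 (Nat.add (Nat.succ 117634) k)) 593 = true := by decide +kernel
theorem s8c207 : allBelow (fun k => fs8 (Nat.add (Nat.succ 118227) k)) 476 = true := by decide +kernel
theorem s8c208 : allBelow (fun k => fs8 (Nat.add (Nat.succ 118703) k)) 468 = true := by decide +kernel
theorem s8c209 : allBelow (fun k => fs8 (Nat.add (Nat.succ 119171) k)) 493 = true := by decide +kernel
theorem s8c210 : allBelow (fun k => fs8 (Nat.add (Nat.succ 119664) k)) 480 = true := by decide +kernel
theorem s8c211 : allBelow (fun k => fs8 (Nat.add (Nat.succ 120144) k)) 475 = true := by decide +kernel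
theorem s8c212 : allBelow (fun k => fs8 (Nat.add (Nat.succ 120619) k)) 606 = true := by decide +kernel
theorem s8c213 : allBelow (fun k => fs8 (Nat.add (Nat.succ 121225) k)) 463 = true := by decide +kernel
theorem s8c214 : allBelow (fun k => fs8 (Nat.add (Nat.succ 121688) k)) 531 = true := by decide +kernel
theorem s8c215 : allBelow (fun k => fs8 (Nat.add (Nat.succ 122219) k)) 477 = true := by decide +kernel
theorem s8c216 : allBelow (fun k => fs8 (Nat.add (Nat.succ 122696) k)) 548 = true := by decide +kernel
theorem s8c217 : allBelow (fun k => fs8 (Nat.add (Nat.succ 123244) k)) 540 = true := by decide +kernel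
theorem s8c218 : allBelow (fun k => fs8 (Nat.add (Nat.succ 123784) k)) 519 = true := by decide +kernel
theorem s8c219 : allBelow (fun k => fs8 (Nat.add (Nat.succ 124303) k)) 591 = true := by decide +kernel
theorem s8c220 : allBelow (fun k => fs8 (Nat.add (Nat.succ 124894) k)) 557 = true := by decide +kernel
theorem s8c221 : allBelow (fun k => fs8 (Nat.add (Nat.succ 125451) k)) 586 = true := by decide +kernel
theorem s8c222 : allBelow (fun k => fs8 (Nat.add (Nat.succ 126037) k)) 465 = true := by decide +kernel
theorem s8c223 : allBelow (fun k => fs8 (Nat.add (Nat.succ 126502) k)) 463 = true := by decide +kernel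
theorem s8c224 : allBelow (fun k => fs8 (Nat.add (Nat.succ 126965) k)) 456 = true := by decide +kernel
theorem s8c225 : allBelow (fun k => fs8 (Nat.add (Nat.succ 127421) k)) 489 = true := by decide +kernel
theorem s8c226 : allBelow (fun k => fs8 (Nat.add (Nat.succ 127910) k)) 505 = true := by decide +kernel
theorem s8c227 : allBelow (fun k => fs8 (Nat.add (Nat.succ 128415) k)) 467 = true := by decide +kernel
theorem s8c228 : allBelow (fun k => fs8 (Nat.add (Nat.succ 128882) k)) 527 = true := by decide +kernel
theorem s8c229 : allBelow (fun k => fs8 (Nat.add (Nat.succ 129409) k)) 469 = true := by decide +kernel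
theorem s8c230 : allBelow (fun k => fs8 (Nat.add (Nat.succ 129878) k)) 421 = true := by decide +kernel
theorem s8c231 : allBelow (fun k => fs8 (Nat.add (Nat.succ 130299) k)) 408 = true := by decide +kernel
theorem s8c232 : allBelow (fun k => fs8 (Nat.add (Nat.succ 130707) k)) 427 = true := by decide +kernel
theorem s8c233 : allBelow (fun k => fs8 (Nat.add (Nat.succ 131134) k)) 527 = true := by decide +kernel
theorem s8c234 : allBelow (fun k => fs8 (Nat.add (Nat.succ 131661) k)) 409 = true := by decide +kernel
theorem s8c235 : allBelow (fun k => fs8 (Nat.add (Nat.succ 132070) k)) 509 = true := by decide +kernel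
theorem s8c236 : allBelow (fun k => fs8 (Nat.add (Nat.succ 132579) k)) 402 = true := by decide +kernel
theorem s8c237 : allBelow (fun k => fs8 (Nat.add (Nat.succ 132981) k)) 466 = true := by decide +kernel
theorem s8c238 : allBelow (fun k => fs8 (Nat.add (Nat.succ 133447) k)) 434 = true := by decide +kernel
theorem s8c239 : allBelow (fun k => fs8 (Nat.add (Nat.succ 133881) k)) 436 = true := by decide +kernel
theorem s8c240 : allBelow (fun k => fs8 (Nat.add (Nat.succ 134317) k)) 448 = true := by decide +kernel
theorem s8c241 : allBelow (fun k => fs8 (Nat.add (Nat.succ 134765) k)) 405 = true := by decide +kernel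
theorem s8c242 : allBelow (fun k => fs8 (Nat.add (Nat.succ 135170) k)) 419 = true := by decide +kernel
theorem s8c243 : allBelow (fun k => fs8 (Nat.add (Nat.succ 135589) k)) 420 = true := by decide +kernel
theorem s8c244 : allBelow (fun k => fs8 (Nat.add (Nat.succ 136009) k)) 404 = true := by decide +kernel
theorem s8c245 : allBelow (fun k => fs8 (Nat.add (Nat.succ 136413) k)) 402 = true := by decide +kernel
theorem s8c246 : allBelow (fun k => fs8 (Nat.add (Nat.succ 136815) k)) 432 = true := by decide +kernel
theorem s8c247 : allBelow (fun k => fs8 (Nat.add (Nat.succ 137247) k)) 473 = true := by decide +kernel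
theorem s8c248 : allBelow (fun k => fs8 (Nat.add (Nat.succ 137720) k)) 462 = true := by decide +kernel
theorem s8c249 : allBelow (fun k => fs8 (Nat.add (Nat.succ 138182) k)) 477 = true := by decide +kernel
theorem s8c250 : allBelow (fun k => fs8 (Nat.add (Nat.succ 138659) k)) 493 = true := by decide +kernel
theorem s8c251 : allBelow (fun k => fs8 (Nat.add (Nat.succ 139152) k)) 441 = true := by decide +kernel
theorem s8c252 : allBelow (fun k => fs8 (Nat.add (Nat.succ 139593) k)) 432 = true := by decide +kernel
theorem s8c253 : allBelow (fun k => fs8 (Nat.add (Nat.succ 140025) k)) 449 = true := by decide +kernel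
theorem s8c254 : allBelow (fun k => fs8 (Nat.add (Nat.succ 140474) k)) 387 = true := by decide +kernel
theorem s8c255 : allBelow (fun k => fs8 (Nat.add (Nat.succ 140861) k)) 587 = true := by decide +kernel
theorem s8c256 : allBelow (fun k => fs8 (Nat.add (Nat.succ 141448) k)) 427 = true := by decide +kernel
theorem s8c257 : allBelow (fun k => fs8 (Nat.add (Nat.succ 141875) k)) 422 = true := by decide +kernel
theorem s8c258 : allBelow (fun k => fs8 (Nat.add (Nat.succ 142297) k)) 453 = true := by decide +kernel
theorem s8c259 : allBelow (fun k => fs8 (Nat.add (Nat.succ 142750) k)) 411 = true := by decide +kernel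
theorem s8c260 : allBelow (fun k => fs8 (Nat.add (Nat.succ 143161) k)) 417 = true := by decide +kernel
theorem s8c261 : allBelow (fun k => fs8 (Nat.add (Nat.succ 143578) k)) 440 = true := by decide +kernel
theorem s8c262 : allBelow (fun k => fs8 (Nat.add (Nat.succ 144018) k)) 442 = true := by decide +kernel
theorem s8c263 : allBelow (fun k => fs8 (Nat.add (Nat.succ 144460) k)) 433 = true := by decide +kernel
theorem s8c264 : allBelow (fun k => fs8 (Nat.add (Nat.succ 144893) k)) 403 = true := by decide +kernel
theorem s8c265 : allBelow (fun k => fs8 (Nat.add (Nat.succ 145296) k)) 363 = true := by decide +kernel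
theorem s8c266 : allBelow (fun k => fs8 (Nat.add (Nat.succ 145659) k)) 402 = true := by decide +kernel
theorem s8c267 : allBelow (fun k => fs8 (Nat.add (Nat.succ 146061) k)) 415 = true := by decide +kernel
theorem s8c268 : allBelow (fun k => fs8 (Nat.add (Nat.succ 146476) k)) 430 = true := by decide +kernel
theorem s8c269 : allBelow (fun k => fs8 (Nat.add (Nat.succ 146906) k)) 423 = true := by decide +kernel
theorem s8c270 : allBelow (fun k => fs8 (Nat.add (Nat.succ 147329) k)) 395 = true := by decide +kernel
theorem s8c271 : allBelow (fun k => fs8 (Nat.add (Nat.succ 147724) k)) 367 = true := by decide +kernel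
theorem s8c272 : allBelow (fun k => fs8 (Nat.add (Nat.succ 148091) k)) 364 = true := by decide +kernel
theorem s8c273 : allBelow (fun k => fs8 (Nat.add (Nat.succ 148455) k)) 406 = true := by decide +kernel
theorem s8c274 : allBelow (fun k => fs8 (Nat.add (Nat.succ 148861) k)) 392 = true := by decide +kernel
theorem s8c275 : allBelow (fun k => fs8 (Nat.add (Nat.succ 149253) k)) 368 = true := by decide +kernel
theorem s8c276 : allBelow (fun k => fs8 (Nat.add (Nat.succ 149621) k)) 368 = true := by decide +kernel
theorem s8c277 : allBelow (fun k => fs8 (Nat.add (Nat.succ 149989) k)) 419 = true := by decide +kernel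
theorem s8c278 : allBelow (fun k => fs8 (Nat.add (Nat.succ 150408) k)) 373 = true := by decide +kernel
theorem s8c279 : allBelow (fun k => fs8 (Nat.add (Nat.succ 150781) k)) 363 = true := by decide +kernel
theorem s8c280 : allBelow (fun k => fs8 (Nat.add (Nat.succ 151144) k)) 394 = true := by decide +kernel
theorem s8c281 : allBelow (fun k => fs8 (Nat.add (Nat.succ 151538) k)) 386 = true := by decide +kernel
theorem s8c282 : allBelow (fun k => fs8 (Nat.add (Nat.succ 151924) k)) 407 = true := by decide +kernel
theorem s8c283 : allBelow (fun k => fs8 (Nat.add (Nat.succ 152331) k)) 416 = true := by decide +kernel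
theorem s8c284 : allBelow (fun k => fs8 (Nat.add (Nat.succ 152747) k)) 420 = true := by decide +kernel
theorem s8c285 : allBelow (fun k => fs8 (Nat.add (Nat.succ 153167) k)) 384 = true := by decide +kernel
theorem s8c286 : allBelow (fun k => fs8 (Nat.add (Nat.succ 153551) k)) 374 = true := by decide +kernel
theorem s8c287 : allBelow (fun k => fs8 (Nat.add (Nat.succ 153925) k)) 367 = true := by decide +kernel
theorem s8c288 : allBelow (fun k => fs8 (Nat.add (Nat.succ 154292) k)) 379 = true := by decide +kernel
theorem s8c289 : allBelow (fun k => fs8 (Nat.add (Nat.succ 154671) k)) 454 = true := by decide +kernel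
theorem s8c290 : allBelow (fun k => fs8 (Nat.add (Nat.succ 155125) k)) 419 = true := by decide +kernel
theorem s8c291 : allBelow (fun k => fs8 (Nat.add (Nat.succ 155544) k)) 376 = true := by decide +kernel
theorem s8c292 : allBelow (fun k => fs8 (Nat.add (Nat.succ 155920) k)) 379 = true := by decide +kernel
theorem s8c293 : allBelow (fun k => fs8 (Nat.add (Nat.succ 156299) k)) 396 = true := by decide +kernel
theorem s8c294 : allBelow (fun k => fs8 (Nat.add (Nat.succ 156695) k)) 390 = true := by decide +kernel
theorem s8c295 : allBelow (fun k => fs8 (Nat.add (Nat.succ 157085) k)) 387 = true := by decide +kernel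
theorem s8c296 : allBelow (fun k => fs8 (Nat.add (Nat.succ 157472) k)) 404 = true := by decide +kernel
theorem s8c297 : allBelow (fun k => fs8 (Nat.add (Nat.succ 157876) k)) 376 = true := by decide +kernel
theorem s8c298 : allBelow (fun k => fs8 (Nat.add (Nat.succ 158252) k)) 373 = true := by decide +kernel
theorem s8c299 : allBelow (fun k => fs8 (Nat.add (Nat.succ 158625) k)) 444 = true := by decide +kernel
theorem s8c300 : allBelow (fun k => fs8 (Nat.add (Nat.succ 159069) k)) 431 = true := by decide +kernel
theorem s8c301 : allBelow (fun k => fs8 (Nat.add (Nat.succ 159500) k)) 461 = true := by decide +kernel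
theorem s8c302 : allBelow (fun k => fs8 (Nat.add (Nat.succ 159961) k)) 400 = true := by decide +kernel
theorem s8c303 : allBelow (fun k => fs8 (Nat.add (Nat.succ 160361) k)) 384 = true := by decide +kernel
theorem s8c304 : allBelow (fun k => fs8 (Nat.add (Nat.succ 160745) k)) 470 = true := by decide +kernel
theorem s8c305 : allBelow (fun k => fs8 (Nat.add (Nat.succ 161215) k)) 461 = true := by decide +kernel
theorem s8c306 : allBelow (fun k => fs8 (Nat.add (Nat.succ 161676) k)) 650 = true := by decide +kernel
theorem s8c307 : allBelow (fun k => fs8 (Nat.add (Nat.succ 162326) k)) 1065 = true := by decide +kernel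
theorem s8c308 : allBelow (fun k => fs8 (Nat.add (Nat.succ 163391) k)) 995 = true := by decide +kernel
theorem s8c309 : allBelow (fun k => fs8 (Nat.add (Nat.succ 164386) k)) 982 = true := by decide +kernel
theorem s8c310 : allBelow (fun k => fs8 (Nat.add (Nat.succ 165368) k)) 1132 = true := by decide +kernel
theorem s8c311 : allBelow (fun k => fs8 (Nat.add (Nat.succ 166500) k)) 1096 = true := by decide +kernel
theorem s8c312 : allBelow (fun k => fs8 (Nat.add (Nat.succ 167596) k)) 1085 = true := by decide +kernel
theorem s8c313 : allBelow (fun k => fs8 (Nat.add (Nat.succ 168681) k)) 1060 = true := by decide +kernel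
theorem s8c314 : allBelow (fun k => fs8 (Nat.add (Nat.succ 169741) k)) 1160 = true := by decide +kernel
theorem s8c315 : allBelow (fun k => fs8 (Nat.add (Nat.succ 170901) k)) 1129 = true := by decide +kernel
theorem s8c316 : allBelow (fun k => fs8 (Nat.add (Nat.succ 172030) k)) 1141 = true := by decide +kernel
theorem s8c317 : allBelow (fun k => fs8 (Nat.add (Nat.succ 173171) k)) 1135 = true := by decide +kernel
theorem s8c318 : allBelow (fun k => fs8 (Nat.add (Nat.succ 174306) k)) 1145 = true := by decide +kernel
theorem s8c319 : allBelow (fun k => fs8 (Nat.add (Nat.succ 175451) k)) 1177 = true := by decide +kernel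
theorem s8c320 : allBelow (fun k => fs8 (Nat.add (Nat.succ 176628) k)) 1150 = true := by decide +kernel
theorem s8c321 : allBelow (fun k => fs8 (Nat.add (Nat.succ 177778) k)) 1219 = true := by decide +kernel
theorem s8c322 : allBelow (fun k => fs8 (Nat.add (Nat.succ 178997) k)) 1167 = true := by decide +kernel
theorem s8c323 : allBelow (fun k => fs8 (Nat.add (Nat.succ 180164) k)) 1153 = true := by decide +kernel
theorem s8c324 : allBelow (fun k => fs8 (Nat.add (Nat.succ 181317) k)) 1215 = true := by decide +kernel
theorem s8c325 : allBelow (fun k => fs8 (Nat.add (Nat.succ 182532) k)) 1245 = true := by decide +kernel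
theorem s8c326 : allBelow (fun k => fs8 (Nat.add (Nat.succ 183777) k)) 1233 = true := by decide +kernel
theorem s8c327 : allBelow (fun k => fs8 (Nat.add (Nat.succ 185010) k)) 1199 = true := by decide +kernel
theorem s8c328 : allBelow (fun k => fs8 (Nat.add (Nat.succ 186209) k)) 1213 = true := by decide +kernel
theorem s8c329 : allBelow (fun k => fs8 (Nat.add (Nat.succ 187422) k)) 1244 = true := by decide +kernel
theorem s8c330 : allBelow (fun k => fs8 (Nat.add (Nat.succ 188666) k)) 1233 = true := by decide +kernel
theorem s8c331 : allBelow (fun k => fs8 (Nat.add (Nat.succ 189899) k)) 1249 = true := by decide +kernel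
theorem s8c332 : allBelow (fun k => fs8 (Nat.add (Nat.succ 191148) k)) 1231 = true := by decide +kernel
theorem s8c333 : allBelow (fun k => fs8 (Nat.add (Nat.succ 192379) k)) 1269 = true := by decide +kernel
theorem s8c334 : allBelow (fun k => fs8 (Nat.add (Nat.succ 193648) k)) 1272 = true := by decide +kernel
theorem s8c335 : allBelow (fun k => fs8 (Nat.add (Nat.succ 194920) k)) 1279 = true := by decide +kernel
theorem s8c336 : allBelow (fun k => fs8 (Nat.add (Nat.succ 196199) k)) 1279 = true := by decide +kernel
theorem s8c337 : allBelow (fun k => fs8 (Nat.add (Nat.succ 197478) k)) 1279 = true := by decide +kernel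
theorem s8c338 : allBelow (fun k => fs8 (Nat.add (Nat.succ 198757) k)) 1279 = true := by decide +kernel
theorem s8c339 : allBelow (fun k => fs8 (Nat.add (Nat.succ 200036) k)) 1279 = true := by decide +kernel
theorem s8c340 : allBelow (fun k => fs8 (Nat.add (Nat.succ 201315) k)) 267 = true := by decide +kernel
theorem gk0 : countBelow (fun k => gl (Nat.add 0 k)) 2558 = 1947 := by decide +kernel
theorem gk1 : countBelow (fun k => gl (Nat.add 2558 k)) 2558 = 1566 := by decide +kernel
theorem gk2 : countBelow (fun k => gl (Nat.add 5116 k)) 2558 = 1847 := by decide +kernel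
theorem gk3 : countBelow (fun k => gl (Nat.add 7674 k)) 2558 = 1382 := by decide +kernel
theorem gk4 : countBelow (fun k => gl (Nat.add 10232 k)) 2558 = 1876 := by decide +kernel
theorem gk5 : countBelow (fun k => gl (Nat.add 12790 k)) 2558 = 1964 := by decide +kernel
theorem gk6 : countBelow (fun k => gl (Nat.add 15348 k)) 2558 = 1540 := by decide +kernel
theorem gk7 : countBelow (fun k => gl (Nat.add 17906 k)) 2558 = 1411 := by decide +kernel
theorem gk8 : countBelow (fun k => gl (Nat.add 20464 k)) 2558 = 1127 := by decide +kernel
theorem gk9 : countBelow (fun k => gl (Nat.add 23022 k)) 2558 = 2220 := by decide +kernel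
theorem gk10 : countBelow (fun k => gl (Nat.add 25580 k)) 2558 = 1700 := by decide +kernel
theorem gk11 : countBelow (fun k => gl (Nat.add 28138 k)) 2558 = 2100 := by decide +kernel
theorem gk12 : countBelow (fun k => gl (Nat.add 30696 k)) 2558 = 1756 := by decide +kernel
theorem gk13 : countBelow (fun k => gl (Nat.add 33254 k)) 2558 = 1528 := by decide +kernel
theorem gk14 : countBelow (fun k => gl (Nat.add 35812 k)) 2558 = 1004 := by decide +kernel
theorem gk15 : countBelow (fun k => gl (Nat.add 38370 k)) 2558 = 1280 := by decide +kernel
theorem gk16 : countBelow (fun k => gl (Nat.add 40928 k)) 2558 = 1210 := by decide +kernel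
theorem gk17 : countBelow (fun k => gl (Nat.add 43486 k)) 2558 = 1610 := by decide +kernel
theorem gk18 : countBelow (fun k => gl (Nat.add 46044 k)) 2558 = 1884 := by decide +kernel
theorem gk19 : countBelow (fun k => gl (Nat.add 48602 k)) 2558 = 1959 := by decide +kernel
theorem gk20 : countBelow (fun k => gl (Nat.add 51160 k)) 2558 = 1663 := by decide +kernel
theorem gk21 : countBelow (fun k => gl (Nat.add 53718 k)) 2558 = 839 := by decide +kernel
theorem gk22 : countBelow (fun k => gl (Nat.add 56276 k)) 2558 = 1678 := by decide +kernel
theorem gk23 : countBelow (fun k => gl (Nat.add 58834 k)) 2558 = 1793 := by decide +kernel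
theorem gk24 : countBelow (fun k => gl (Nat.add 61392 k)) 2558 = 1680 := by decide +kernel
theorem gk25 : countBelow (fun k => gl (Nat.add 63950 k)) 2558 = 1444 := by decide +kernel
theorem gk26 : countBelow (fun k => gl (Nat.add 66508 k)) 2558 = 1188 := by decide +kernel
theorem gk27 : countBelow (fun k => gl (Nat.add 69066 k)) 2558 = 1196 := by decide +kernel
theorem gk28 : countBelow (fun k => gl (Nat.add 71624 k)) 2558 = 1019 := by decide +kernel
theorem gk29 : countBelow (fun k => gl (Nat.add 74182 k)) 2558 = 894 := by decide +kernel
theorem gk30 : countBelow (fun k => gl (Nat.add 76740 k)) 2558 = 737 := by decide +kernel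
theorem gk31 : countBelow (fun k => gl (Nat.add 79298 k)) 2558 = 1158 := by decide +kernel
theorem gk32 : countBelow (fun k => gl (Nat.add 81856 k)) 2558 = 1080 := by decide +kernel
theorem gk33 : countBelow (fun k => gl (Nat.add 84414 k)) 2558 = 1362 := by decide +kernel
theorem gk34 : countBelow (fun k => gl (Nat.add 86972 k)) 2558 = 1288 := by decide +kernel
theorem gk35 : countBelow (fun k => gl (Nat.add 89530 k)) 2558 = 1367 := by decide +kernel
theorem gk36 : countBelow (fun k => gl (Nat.add 92088 k)) 2558 = 1326 := by decide +kernel
theorem gk37 : countBelow (fun k => gl (Nat.add 94646 k)) 2558 = 1468 := by decide +kernel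
theorem gk38 : countBelow (fun k => gl (Nat.add 97204 k)) 2558 = 1703 := by decide +kernel
theorem gk39 : countBelow (fun k => gl (Nat.add 99762 k)) 2558 = 1583 := by decide +kernel
theorem gk40 : countBelow (fun k => gl (Nat.add 102320 k)) 2558 = 1769 := by decide +kernel
theorem gk41 : countBelow (fun k => gl (Nat.add 104878 k)) 2558 = 1527 := by decide +kernel
theorem gk42 : countBelow (fun k => gl (Nat.add 107436 k)) 2558 = 1025 := by decide +kernel
theorem gk43 : countBelow (fun k => gl (Nat.add 109994 k)) 2558 = 735 := by decide +kernel
theorem gk44 : countBelow (fun k => gl (Nat.add 112552 k)) 2558 = 1170 := by decide +kernel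
theorem gk45 : countBelow (fun k => gl (Nat.add 115110 k)) 2558 = 1521 := by decide +kernel
theorem gk46 : countBelow (fun k => gl (Nat.add 117668 k)) 2558 = 1260 := by decide +kernel
theorem gk47 : countBelow (fun k => gl (Nat.add 120226 k)) 2558 = 1295 := by decide +kernel
theorem gk48 : countBelow (fun k => gl (Nat.add 122784 k)) 2558 = 1545 := by decide +kernel
theorem gk49 : countBelow (fun k => gl (Nat.add 125342 k)) 2558 = 1291 := by decide +kernel
theorem gk50 : countBelow (fun k => gl (Nat.add 127900 k)) 2558 = 1228 := by decide +kernel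
theorem gk51 : countBelow (fun k => gl (Nat.add 130458 k)) 2558 = 1044 := by decide +kernel
theorem gk52 : countBelow (fun k => gl (Nat.add 133016 k)) 2558 = 1010 := by decide +kernel
theorem gk53 : countBelow (fun k => gl (Nat.add 135574 k)) 2558 = 848 := by decide +kernel
theorem gk54 : countBelow (fun k => gl (Nat.add 138132 k)) 2558 = 1025 := by decide +kernel
theorem gk55 : countBelow (fun k => gl (Nat.add 140690 k)) 2558 = 966 := by decide +kernel
theorem gk56 : countBelow (fun k => gl (Nat.add 143248 k)) 2558 = 765 := by decide +kernel
theorem gk57 : countBelow (fun k => gl (Nat.add 145806 k)) 2558 = 669 := by decide +kernel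
theorem gk58 : countBelow (fun k => gl (Nat.add 148364 k)) 2558 = 494 := by decide +kernel
theorem gk59 : countBelow (fun k => gl (Nat.add 150922 k)) 2558 = 697 := by decide +kernel
theorem gk60 : countBelow (fun k => gl (Nat.add 153480 k)) 2558 = 735 := by decide +kernel
theorem gk61 : countBelow (fun k => gl (Nat.add 156038 k)) 2558 = 608 := by decide +kernel
theorem gk62 : countBelow (fun k => gl (Nat.add 158596 k)) 2558 = 966 := by decide +kernel
theorem gk63 : countBelow (fun k => gl (Nat.add 161154 k)) 2558 = 1967 := by decide +kernel
theorem gk64 : countBelow (fun k => gl (Nat.add 163712 k)) 2558 = 2417 := by decide +kernel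
theorem gk65 : countBelow (fun k => gl (Nat.add 166270 k)) 2558 = 2460 := by decide +kernel
theorem gk66 : countBelow (fun k => gl (Nat.add 168828 k)) 2558 = 2470 := by decide +kernel
theorem gk67 : countBelow (fun k => gl (Nat.add 171386 k)) 2558 = 2483 := by decide +kernel
theorem gk68 : countBelow (fun k => gl (Nat.add 173944 k)) 2558 = 2497 := by decide +kernel
theorem gk69 : countBelow (fun k => gl (Nat.add 176502 k)) 2558 = 2517 := by decide +kernel
theorem gk70 : countBelow (fun k => gl (Nat.add 179060 k)) 2558 = 2507 := by decide +kernel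
theorem gk71 : countBelow (fun k => gl (Nat.add 181618 k)) 2558 = 2538 := by decide +kernel
theorem gk72 : countBelow (fun k => gl (Nat.add 184176 k)) 2558 = 2529 := by decide +kernel
theorem gk73 : countBelow (fun k => gl (Nat.add 186734 k)) 2558 = 2539 := by decide +kernel
theorem gk74 : countBelow (fun k => gl (Nat.add 189292 k)) 2558 = 2539 := by decide +kernel
theorem gk75 : countBelow (fun k => gl (Nat.add 191850 k)) 2558 = 2554 := by decide +kernel
theorem gk76 : countBelow (fun k => gl (Nat.add 194408 k)) 2558 = 2557 := by decide +kernel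
theorem gk77 : countBelow (fun k => gl (Nat.add 196966 k)) 2558 = 2558 := by decide +kernel
theorem gk78 : countBelow (fun k => gl (Nat.add 199524 k)) 2058 = 2058 := by decide +kernel

end Cfsg.Agent.Lib.Helper35.ON122760
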