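import Cfsg.Agent.Lib.Helper35.ON122760.Col0
import Cfsg.Agent.Lib.Helper35.ON122760.Col1
import Cfsg.Agent.Lib.Helper35.ON122760.Col2
import Cfsg.Agent.Lib.Helper35.ON122760.Col3
import Cfsg.Agent.Lib.Helper35.ON122760.Col4
import Cfsg.Agent.Lib.Helper35.ON122760.Col5
import Cfsg.Agent.Lib.Helper35.ON122760.Col6
import Cfsg.Agent.Lib.Helper35.ON122760.Col7
import Cfsg.Agent.Lib.Helper35.ON122760.Col8
import Cfsg.Agent.Lib.Helper35.ON122760.Col9

namespace Cfsg.Agent.Lib.Helper35.ON122760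

open Cfsg.Agent.Lib.Helper35

theorem s0u0 : ∀ v, 1 ≤ v → v ≤ 561 → fs0 v = true := slots_step fs0 0 561 561 (slots_zero fs0) s0c0 rfl
theorem s0u1 : ∀ v, 1 ≤ v → v ≤ 1023 → fs0 v = true := slots_step fs0 561 462 1023 s0u0 s0c1 rfl
theorem s0u2 : ∀ v, 1 ≤ v → v ≤ 1509 → fs0 v = true := slots_step fs0 1023 486 1509 s0u1 s0c2 rfl
theorem s0u3 : ∀ v, 1 ≤ v → v ≤ 2000 → fs0 v = true := slots_step fs0 1509 491 2000 s0u2 s0c3 rfl
theorem s0u4 : ∀ v, 1 ≤ v → v ≤ 2500 → fs0 v = true := slots_step fs0 2000 500 2500 s0u3 s0c4 rfl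
theorem s0u5 : ∀ v, 1 ≤ v → v ≤ 3028 → fs0 v = true := slots_step fs0 2500 528 3028 s0u4 s0c5 rfl
theorem s0u6 : ∀ v, 1 ≤ v → v ≤ 3531 → fs0 v = true := slots_step fs0 3028 503 3531 s0u5 s0c6 rfl
theorem s0u7 : ∀ v, 1 ≤ v → v ≤ 4034 → fs0 v = true := slots_step fs0 3531 503 4034 s0u6 s0c7 rfl
theorem s0u8 : ∀ v, 1 ≤ v → v ≤ 4562 → fs0 v = true := slots_step fs0 4034 528 4562 s0u7 s0c8 rfl
theorem s0u9 : ∀ v, 1 ≤ v → v ≤ 5068 → fs0 v = true := slots_step fs0 4562 506 5068 s0u8 s0c9 rfl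
theorem s0u10 : ∀ v, 1 ≤ v → v ≤ 5559 → fs0 v = true := slots_step fs0 5068 491 5559 s0u9 s0c10 rfl
theorem s0u11 : ∀ v, 1 ≤ v → v ≤ 6043 → fs0 v = true := slots_step fs0 5559 484 6043 s0u10 s0c11 rfl
theorem s0u12 : ∀ v, 1 ≤ v → v ≤ 6518 → fs0 v = true := slots_step fs0 6043 475 6518 s0u11 s0c12 rfl
theorem s0u13 : ∀ v, 1 ≤ v → v ≤ 6987 → fs0 v = true := slots_step fs0 6518 469 6987 s0u12 s0c13 rfl
theorem s0u14 : ∀ v, 1 ≤ v → v ≤ 7511 → fs0 v = true := slots_step fs0 6987 524 7511 s0u13 s0c14 rfl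
theorem s0u15 : ∀ v, 1 ≤ v → v ≤ 7962 → fs0 v = true := slots_step fs0 7511 451 7962 s0u14 s0c15 rfl
theorem s0u16 : ∀ v, 1 ≤ v → v ≤ 8476 → fs0 v = true := slots_step fs0 7962 514 8476 s0u15 s0c16 rfl
theorem s0u17 : ∀ v, 1 ≤ v → v ≤ 8963 → fs0 v = true := slots_step fs0 8476 487 8963 s0u16 s0c17 rfl
theorem s0u18 : ∀ v, 1 ≤ v → v ≤ 9463 → fs0 v = true := slots_step fs0 8963 500 9463 s0u17 s0c18 rfl
theorem s0u19 : ∀ v, 1 ≤ v → v ≤ 9997 → fs0 v = true := slots_step fs0 9463 534 9997 s0u18 s0c19 rfl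
theorem s0u20 : ∀ v, 1 ≤ v → v ≤ 10520 → fs0 v = true := slots_step fs0 9997 523 10520 s0u19 s0c20 rfl
theorem s0u21 : ∀ v, 1 ≤ v → v ≤ 11035 → fs0 v = true := slots_step fs0 10520 515 11035 s0u20 s0c21 rfl
theorem s0u22 : ∀ v, 1 ≤ v → v ≤ 11489 → fs0 v = true := slots_step fs0 11035 454 11489 s0u21 s0c22 rfl
theorem s0u23 : ∀ v, 1 ≤ v → v ≤ 11957 → fs0 v = true := slots_step fs0 11489 468 11957 s0u22 s0c23 rfl
theorem s0u24 : ∀ v, 1 ≤ v → v ≤ 12438 → fs0 v = true := slots_step fs0 11957 481 12438 s0u23 s0c24 rfl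
theorem s0u25 : ∀ v, 1 ≤ v → v ≤ 12910 → fs0 v = true := slots_step fs0 12438 472 12910 s0u24 s0c25 rfl
theorem s0u26 : ∀ v, 1 ≤ v → v ≤ 13373 → fs0 v = true := slots_step fs0 12910 463 13373 s0u25 s0c26 rfl
theorem s0u27 : ∀ v, 1 ≤ v → v ≤ 13825 → fs0 v = true := slots_step fs0 13373 452 13825 s0u26 s0c27 rfl
theorem s0u28 : ∀ v, 1 ≤ v → v ≤ 14288 → fs0 v = true := slots_step fs0 13825 463 14288 s0u27 s0c28 rfl
theorem s0u29 : ∀ v, 1 ≤ v → v ≤ 14779 → fs0 v = true := slots_step fs0 14288 491 14779 s0u28 s0c29 rfl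
theorem s0u30 : ∀ v, 1 ≤ v → v ≤ 15298 → fs0 v = true := slots_step fs0 14779 519 15298 s0u29 s0c30 rfl
theorem s0u31 : ∀ v, 1 ≤ v → v ≤ 15824 → fs0 v = true := slots_step fs0 15298 526 15824 s0u30 s0c31 rfl
theorem s0u32 : ∀ v, 1 ≤ v → v ≤ 16304 → fs0 v = true := slots_step fs0 15824 480 16304 s0u31 s0c32 rfl
theorem s0u33 : ∀ v, 1 ≤ v → v ≤ 16748 → fs0 v = true := slots_step fs0 16304 444 16748 s0u32 s0c33 rfl
theorem s0u34 : ∀ v, 1 ≤ v → v ≤ 17228 → fs0 v = true := slots_step fs0 16748 480 17228 s0u33 s0c34 rfl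
theorem s0u35 : ∀ v, 1 ≤ v → v ≤ 17723 → fs0 v = true := slots_step fs0 17228 495 17723 s0u34 s0c35 rfl
theorem s0u36 : ∀ v, 1 ≤ v → v ≤ 18225 → fs0 v = true := slots_step fs0 17723 502 18225 s0u35 s0c36 rfl
theorem s0u37 : ∀ v, 1 ≤ v → v ≤ 18738 → fs0 v = true := slots_step fs0 18225 513 18738 s0u36 s0c37 rfl
theorem s0u38 : ∀ v, 1 ≤ v → v ≤ 19228 → fs0 v = true := slots_step fs0 18738 490 19228 s0u37 s0c38 rfl
theorem s0u39 : ∀ v, 1 ≤ v → v ≤ 19715 → fs0 v = true := slots_step fs0 19228 487 19715 s0u38 s0c39 rfl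
theorem s0u40 : ∀ v, 1 ≤ v → v ≤ 20234 → fs0 v = true := slots_step fs0 19715 519 20234 s0u39 s0c40 rfl
theorem s0u41 : ∀ v, 1 ≤ v → v ≤ 20757 → fs0 v = true := slots_step fs0 20234 523 20757 s0u40 s0c41 rfl
theorem s0u42 : ∀ v, 1 ≤ v → v ≤ 21276 → fs0 v = true := slots_step fs0 20757 519 21276 s0u41 s0c42 rfl
theorem s0u43 : ∀ v, 1 ≤ v → v ≤ 21806 → fs0 v = true := slots_step fs0 21276 530 21806 s0u42 s0c43 rfl
theorem s0u44 : ∀ v, 1 ≤ v → v ≤ 22319 → fs0 v = true := slots_step fs0 21806 513 22319 s0u43 s0c44 rfl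
theorem s0u45 : ∀ v, 1 ≤ v → v ≤ 22844 → fs0 v = true := slots_step fs0 22319 525 22844 s0u44 s0c45 rfl
theorem s0u46 : ∀ v, 1 ≤ v → v ≤ 23355 → fs0 v = true := slots_step fs0 22844 511 23355 s0u45 s0c46 rfl
theorem s0u47 : ∀ v, 1 ≤ v → v ≤ 23798 → fs0 v = true := slots_step fs0 23355 443 23798 s0u46 s0c47 rfl
theorem s0u48 : ∀ v, 1 ≤ v → v ≤ 24272 → fs0 v = true := slots_step fs0 23798 474 24272 s0u47 s0c48 rfl
theorem s0u49 : ∀ v, 1 ≤ v → v ≤ 24718 → fs0 v = true := slots_step fs0 24272 446 24718 s0u48 s0c49 rfl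
theorem s0u50 : ∀ v, 1 ≤ v → v ≤ 25142 → fs0 v = true := slots_step fs0 24718 424 25142 s0u49 s0c50 rfl
theorem s0u51 : ∀ v, 1 ≤ v → v ≤ 25618 → fs0 v = true := slots_step fs0 25142 476 25618 s0u50 s0c51 rfl
theorem s0u52 : ∀ v, 1 ≤ v → v ≤ 26082 → fs0 v = true := slots_step fs0 25618 464 26082 s0u51 s0c52 rfl
theorem s0u53 : ∀ v, 1 ≤ v → v ≤ 26546 → fs0 v = true := slots_step fs0 26082 464 26546 s0u52 s0c53 rfl
theorem s0u54 : ∀ v, 1 ≤ v → v ≤ 27049 → fs0 v = true := slots_step fs0 26546 503 27049 s0u53 s0c54 rfl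
theorem s0u55 : ∀ v, 1 ≤ v → v ≤ 27538 → fs0 v = true := slots_step fs0 27049 489 27538 s0u54 s0c55 rfl
theorem s0u56 : ∀ v, 1 ≤ v → v ≤ 27993 → fs0 v = true := slots_step fs0 27538 455 27993 s0u55 s0c56 rfl
theorem s0u57 : ∀ v, 1 ≤ v → v ≤ 28456 → fs0 v = true := slots_step fs0 27993 463 28456 s0u56 s0c57 rfl
theorem s0u58 : ∀ v, 1 ≤ v → v ≤ 28881 → fs0 v = true := slots_step fs0 28456 425 28881 s0u57 s0c58 rfl
theorem s0u59 : ∀ v, 1 ≤ v → v ≤ 29335 → fs0 v = true := slots_step fs0 28881 454 29335 s0u58 s0c59 rfl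
theorem s0u60 : ∀ v, 1 ≤ v → v ≤ 29782 → fs0 v = true := slots_step fs0 29335 447 29782 s0u59 s0c60 rfl
theorem s0u61 : ∀ v, 1 ≤ v → v ≤ 30248 → fs0 v = true := slots_step fs0 29782 466 30248 s0u60 s0c61 rfl
theorem s0u62 : ∀ v, 1 ≤ v → v ≤ 30783 → fs0 v = true := slots_step fs0 30248 535 30783 s0u61 s0c62 rfl
theorem s0u63 : ∀ v, 1 ≤ v → v ≤ 31270 → fs0 v = true := slots_step fs0 30783 487 31270 s0u62 s0c63 rfl
theorem s0u64 : ∀ v, 1 ≤ v → v ≤ 31748 → fs0 v = true := slots_step fs0 31270 478 31748 s0u63 s0c64 rfl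
theorem s0u65 : ∀ v, 1 ≤ v → v ≤ 32211 → fs0 v = true := slots_step fs0 31748 463 32211 s0u64 s0c65 rfl
theorem s0u66 : ∀ v, 1 ≤ v → v ≤ 32692 → fs0 v = true := slots_step fs0 32211 481 32692 s0u65 s0c66 rfl
theorem s0u67 : ∀ v, 1 ≤ v → v ≤ 33185 → fs0 v = true := slots_step fs0 32692 493 33185 s0u66 s0c67 rfl
theorem s0u68 : ∀ v, 1 ≤ v → v ≤ 33674 → fs0 v = true := slots_step fs0 33185 489 33674 s0u67 s0c68 rfl
theorem s0u69 : ∀ v, 1 ≤ v → v ≤ 34130 → fs0 v = true := slots_step fs0 33674 456 34130 s0u68 s0c69 rfl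
theorem s0u70 : ∀ v, 1 ≤ v → v ≤ 34571 → fs0 v = true := slots_step fs0 34130 441 34571 s0u69 s0c70 rfl
theorem s0u71 : ∀ v, 1 ≤ v → v ≤ 35094 → fs0 v = true := slots_step fs0 34571 523 35094 s0u70 s0c71 rfl
theorem s0u72 : ∀ v, 1 ≤ v → v ≤ 35541 → fs0 v = true := slots_step fs0 35094 447 35541 s0u71 s0c72 rfl
theorem s0u73 : ∀ v, 1 ≤ v → v ≤ 36036 → fs0 v = true := slots_step fs0 35541 495 36036 s0u72 s0c73 rfl
theorem s0u74 : ∀ v, 1 ≤ v → v ≤ 36573 → fs0 v = true := slots_step fs0 36036 537 36573 s0u73 s0c74 rfl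
theorem s0u75 : ∀ v, 1 ≤ v → v ≤ 37098 → fs0 v = true := slots_step fs0 36573 525 37098 s0u74 s0c75 rfl
theorem s0u76 : ∀ v, 1 ≤ v → v ≤ 37637 → fs0 v = true := slots_step fs0 37098 539 37637 s0u75 s0c76 rfl
theorem s0u77 : ∀ v, 1 ≤ v → v ≤ 38168 → fs0 v = true := slots_step fs0 37637 531 38168 s0u76 s0c77 rfl
theorem s0u78 : ∀ v, 1 ≤ v → v ≤ 38698 → fs0 v = true := slots_step fs0 38168 530 38698 s0u77 s0c78 rfl
theorem s0u79 : ∀ v, 1 ≤ v → v ≤ 39213 → fs0 v = true := slots_step fs0 38698 515 39213 s0u78 s0c79 rfl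
theorem s0u80 : ∀ v, 1 ≤ v → v ≤ 39719 → fs0 v = true := slots_step fs0 39213 506 39719 s0u79 s0c80 rfl
theorem s0u81 : ∀ v, 1 ≤ v → v ≤ 40277 → fs0 v = true := slots_step fs0 39719 558 40277 s0u80 s0c81 rfl
theorem s0u82 : ∀ v, 1 ≤ v → v ≤ 40747 → fs0 v = true := slots_step fs0 40277 470 40747 s0u81 s0c82 rfl
theorem s0u83 : ∀ v, 1 ≤ v → v ≤ 41218 → fs0 v = true := slots_step fs0 40747 471 41218 s0u82 s0c83 rfl
theorem s0u84 : ∀ v, 1 ≤ v → v ≤ 41699 → fs0 v = true := slots_step fs0 41218 481 41699 s0u83 s0c84 rfl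
theorem s0u85 : ∀ v, 1 ≤ v → v ≤ 42192 → fs0 v = true := slots_step fs0 41699 493 42192 s0u84 s0c85 rfl
theorem s0u86 : ∀ v, 1 ≤ v → v ≤ 42684 → fs0 v = true := slots_step fs0 42192 492 42684 s0u85 s0c86 rfl
theorem s0u87 : ∀ v, 1 ≤ v → v ≤ 43155 → fs0 v = true := slots_step fs0 42684 471 43155 s0u86 s0c87 rfl
theorem s0u88 : ∀ v, 1 ≤ v → v ≤ 43661 → fs0 v = true := slots_step fs0 43155 506 43661 s0u87 s0c88 rfl
theorem s0u89 : ∀ v, 1 ≤ v → v ≤ 44148 → fs0 v = true := slots_step fs0 43661 487 44148 s0u88 s0c89 rfl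
theorem s0u90 : ∀ v, 1 ≤ v → v ≤ 44628 → fs0 v = true := slots_step fs0 44148 480 44628 s0u89 s0c90 rfl
theorem s0u91 : ∀ v, 1 ≤ v → v ≤ 45136 → fs0 v = true := slots_step fs0 44628 508 45136 s0u90 s0c91 rfl
theorem s0u92 : ∀ v, 1 ≤ v → v ≤ 45646 → fs0 v = true := slots_step fs0 45136 510 45646 s0u91 s0c92 rfl
theorem s0u93 : ∀ v, 1 ≤ v → v ≤ 46128 → fs0 v = true := slots_step fs0 45646 482 46128 s0u92 s0c93 rfl
theorem s0u94 : ∀ v, 1 ≤ v → v ≤ 46631 → fs0 v = true := slots_step fs0 46128 503 46631 s0u93 s0c94 rfl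
theorem s0u95 : ∀ v, 1 ≤ v → v ≤ 47094 → fs0 v = true := slots_step fs0 46631 463 47094 s0u94 s0c95 rfl
theorem s0u96 : ∀ v, 1 ≤ v → v ≤ 47528 → fs0 v = true := slots_step fs0 47094 434 47528 s0u95 s0c96 rfl
theorem s0u97 : ∀ v, 1 ≤ v → v ≤ 47973 → fs0 v = true := slots_step fs0 47528 445 47973 s0u96 s0c97 rfl
theorem s0u98 : ∀ v, 1 ≤ v → v ≤ 48441 → fs0 v = true := slots_step fs0 47973 468 48441 s0u97 s0c98 rfl
theorem s0u99 : ∀ v, 1 ≤ v → v ≤ 48970 → fs0 v = true := slots_step fs0 48441 529 48970 s0u98 s0c99 rfl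
theorem s0u100 : ∀ v, 1 ≤ v → v ≤ 49417 → fs0 v = true := slots_step fs0 48970 447 49417 s0u99 s0c100 rfl
theorem s0u101 : ∀ v, 1 ≤ v → v ≤ 49898 → fs0 v = true := slots_step fs0 49417 481 49898 s0u100 s0c101 rfl
theorem s0u102 : ∀ v, 1 ≤ v → v ≤ 50396 → fs0 v = true := slots_step fs0 49898 498 50396 s0u101 s0c102 rfl
theorem s0u103 : ∀ v, 1 ≤ v → v ≤ 50851 → fs0 v = true := slots_step fs0 50396 455 50851 s0u102 s0c103 rfl
theorem s0u104 : ∀ v, 1 ≤ v → v ≤ 51323 → fs0 v = true := slots_step fs0 50851 472 51323 s0u103 s0c104 rfl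
theorem s0u105 : ∀ v, 1 ≤ v → v ≤ 51842 → fs0 v = true := slots_step fs0 51323 519 51842 s0u104 s0c105 rfl
theorem s0u106 : ∀ v, 1 ≤ v → v ≤ 52333 → fs0 v = true := slots_step fs0 51842 491 52333 s0u105 s0c106 rfl
theorem s0u107 : ∀ v, 1 ≤ v → v ≤ 52811 → fs0 v = true := slots_step fs0 52333 478 52811 s0u106 s0c107 rfl
theorem s0u108 : ∀ v, 1 ≤ v → v ≤ 53299 → fs0 v = true := slots_step fs0 52811 488 53299 s0u107 s0c108 rfl
theorem s0u109 : ∀ v, 1 ≤ v → v ≤ 53772 → fs0 v = true := slots_step fs0 53299 473 53772 s0u108 s0c109 rfl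
theorem s0u110 : ∀ v, 1 ≤ v → v ≤ 54311 → fs0 v = true := slots_step fs0 53772 539 54311 s0u109 s0c110 rfl
theorem s0u111 : ∀ v, 1 ≤ v → v ≤ 54871 → fs0 v = true := slots_step fs0 54311 560 54871 s0u110 s0c111 rfl
theorem s0u112 : ∀ v, 1 ≤ v → v ≤ 55417 → fs0 v = true := slots_step fs0 54871 546 55417 s0u111 s0c112 rfl
theorem s0u113 : ∀ v, 1 ≤ v → v ≤ 55947 → fs0 v = true := slots_step fs0 55417 530 55947 s0u112 s0c113 rfl
theorem s0u114 : ∀ v, 1 ≤ v → v ≤ 56486 → fs0 v = true := slots_step fs0 55947 539 56486 s0u113 s0c114 rfl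
theorem s0u115 : ∀ v, 1 ≤ v → v ≤ 56967 → fs0 v = true := slots_step fs0 56486 481 56967 s0u114 s0c115 rfl
theorem s0u116 : ∀ v, 1 ≤ v → v ≤ 57427 → fs0 v = true := slots_step fs0 56967 460 57427 s0u115 s0c116 rfl
theorem s0u117 : ∀ v, 1 ≤ v → v ≤ 57920 → fs0 v = true := slots_step fs0 57427 493 57920 s0u116 s0c117 rfl
theorem s0u118 : ∀ v, 1 ≤ v → v ≤ 58409 → fs0 v = true := slots_step fs0 57920 489 58409 s0u117 s0c118 rfl
theorem s0u119 : ∀ v, 1 ≤ v → v ≤ 58905 → fs0 v = true := slots_step fs0 58409 496 58905 s0u118 s0c119 rfl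
theorem s0u120 : ∀ v, 1 ≤ v → v ≤ 59359 → fs0 v = true := slots_step fs0 58905 454 59359 s0u119 s0c120 rfl
theorem s0u121 : ∀ v, 1 ≤ v → v ≤ 59834 → fs0 v = true := slots_step fs0 59359 475 59834 s0u120 s0c121 rfl
theorem s0u122 : ∀ v, 1 ≤ v → v ≤ 60316 → fs0 v = true := slots_step fs0 59834 482 60316 s0u121 s0c122 rfl
theorem s0u123 : ∀ v, 1 ≤ v → v ≤ 60772 → fs0 v = true := slots_step fs0 60316 456 60772 s0u122 s0c123 rfl
theorem s0u124 : ∀ v, 1 ≤ v → v ≤ 61247 → fs0 v = true := slots_step fs0 60772 475 61247 s0u123 s0c124 rfl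
theorem s0u125 : ∀ v, 1 ≤ v → v ≤ 61737 → fs0 v = true := slots_step fs0 61247 490 61737 s0u124 s0c125 rfl
theorem s0u126 : ∀ v, 1 ≤ v → v ≤ 62222 → fs0 v = true := slots_step fs0 61737 485 62222 s0u125 s0c126 rfl
theorem s0u127 : ∀ v, 1 ≤ v → v ≤ 62761 → fs0 v = true := slots_step fs0 62222 539 62761 s0u126 s0c127 rfl
theorem s0u128 : ∀ v, 1 ≤ v → v ≤ 63291 → fs0 v = true := slots_step fs0 62761 530 63291 s0u127 s0c128 rfl
theorem s0u129 : ∀ v, 1 ≤ v → v ≤ 63800 → fs0 v = true := slots_step fs0 63291 509 63800 s0u128 s0c129 rfl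
theorem s0u130 : ∀ v, 1 ≤ v → v ≤ 64378 → fs0 v = true := slots_step fs0 63800 578 64378 s0u129 s0c130 rfl
theorem s0u131 : ∀ v, 1 ≤ v → v ≤ 64921 → fs0 v = true := slots_step fs0 64378 543 64921 s0u130 s0c131 rfl
theorem s0u132 : ∀ v, 1 ≤ v → v ≤ 65420 → fs0 v = true := slots_step fs0 64921 499 65420 s0u131 s0c132 rfl
theorem s0u133 : ∀ v, 1 ≤ v → v ≤ 65907 → fs0 v = true := slots_step fs0 65420 487 65907 s0u132 s0c133 rfl
theorem s0u134 : ∀ v, 1 ≤ v → v ≤ 66393 → fs0 v = true := slots_step fs0 65907 486 66393 s0u133 s0c134 rfl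
theorem s0u135 : ∀ v, 1 ≤ v → v ≤ 66875 → fs0 v = true := slots_step fs0 66393 482 66875 s0u134 s0c135 rfl
theorem s0u136 : ∀ v, 1 ≤ v → v ≤ 67378 → fs0 v = true := slots_step fs0 66875 503 67378 s0u135 s0c136 rfl
theorem s0u137 : ∀ v, 1 ≤ v → v ≤ 67866 → fs0 v = true := slots_step fs0 67378 488 67866 s0u136 s0c137 rfl
theorem s0u138 : ∀ v, 1 ≤ v → v ≤ 68379 → fs0 v = true := slots_step fs0 67866 513 68379 s0u137 s0c138 rfl
theorem s0u139 : ∀ v, 1 ≤ v → v ≤ 68889 → fs0 v = true := slots_step fs0 68379 510 68889 s0u138 s0c139 rfl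
theorem s0u140 : ∀ v, 1 ≤ v → v ≤ 69405 → fs0 v = true := slots_step fs0 68889 516 69405 s0u139 s0c140 rfl
theorem s0u141 : ∀ v, 1 ≤ v → v ≤ 69906 → fs0 v = true := slots_step fs0 69405 501 69906 s0u140 s0c141 rfl
theorem s0u142 : ∀ v, 1 ≤ v → v ≤ 70457 → fs0 v = true := slots_step fs0 69906 551 70457 s0u141 s0c142 rfl
theorem s0u143 : ∀ v, 1 ≤ v → v ≤ 70993 → fs0 v = true := slots_step fs0 70457 536 70993 s0u142 s0c143 rfl
theorem s0u144 : ∀ v, 1 ≤ v → v ≤ 71495 → fs0 v = true := slots_step fs0 70993 502 71495 s0u143 s0c144 rfl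
theorem s0u145 : ∀ v, 1 ≤ v → v ≤ 71997 → fs0 v = true := slots_step fs0 71495 502 71997 s0u144 s0c145 rfl
theorem s0u146 : ∀ v, 1 ≤ v → v ≤ 72519 → fs0 v = true := slots_step fs0 71997 522 72519 s0u145 s0c146 rfl
theorem s0u147 : ∀ v, 1 ≤ v → v ≤ 73052 → fs0 v = true := slots_step fs0 72519 533 73052 s0u146 s0c147 rfl
theorem s0u148 : ∀ v, 1 ≤ v → v ≤ 73550 → fs0 v = true := slots_step fs0 73052 498 73550 s0u147 s0c148 rfl
theorem s0u149 : ∀ v, 1 ≤ v → v ≤ 74070 → fs0 v = true := slots_step fs0 73550 520 74070 s0u148 s0c149 rfl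
theorem s0u150 : ∀ v, 1 ≤ v → v ≤ 74635 → fs0 v = true := slots_step fs0 74070 565 74635 s0u149 s0c150 rfl
theorem s0u151 : ∀ v, 1 ≤ v → v ≤ 75138 → fs0 v = true := slots_step fs0 74635 503 75138 s0u150 s0c151 rfl
theorem s0u152 : ∀ v, 1 ≤ v → v ≤ 75644 → fs0 v = true := slots_step fs0 75138 506 75644 s0u151 s0c152 rfl
theorem s0u153 : ∀ v, 1 ≤ v → v ≤ 76154 → fs0 v = true := slots_step fs0 75644 510 76154 s0u152 s0c153 rfl
theorem s0u154 : ∀ v, 1 ≤ v → v ≤ 76689 → fs0 v = true := slots_step fs0 76154 535 76689 s0u153 s0c154 rfl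
theorem s0u155 : ∀ v, 1 ≤ v → v ≤ 77208 → fs0 v = true := slots_step fs0 76689 519 77208 s0u154 s0c155 rfl
theorem s0u156 : ∀ v, 1 ≤ v → v ≤ 77714 → fs0 v = true := slots_step fs0 77208 506 77714 s0u155 s0c156 rfl
theorem s0u157 : ∀ v, 1 ≤ v → v ≤ 78234 → fs0 v = true := slots_step fs0 77714 520 78234 s0u156 s0c157 rfl
theorem s0u158 : ∀ v, 1 ≤ v → v ≤ 78751 → fs0 v = true := slots_step fs0 78234 517 78751 s0u157 s0c158 rfl
theorem s0u159 : ∀ v, 1 ≤ v → v ≤ 79272 → fs0 v = true := slots_step fs0 78751 521 79272 s0u158 s0c159 rfl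
theorem s0u160 : ∀ v, 1 ≤ v → v ≤ 79796 → fs0 v = true := slots_step fs0 79272 524 79796 s0u159 s0c160 rfl
theorem s0u161 : ∀ v, 1 ≤ v → v ≤ 80343 → fs0 v = true := slots_step fs0 79796 547 80343 s0u160 s0c161 rfl
theorem s0u162 : ∀ v, 1 ≤ v → v ≤ 80849 → fs0 v = true := slots_step fs0 80343 506 80849 s0u161 s0c162 rfl
theorem s0u163 : ∀ v, 1 ≤ v → v ≤ 81357 → fs0 v = true := slots_step fs0 80849 508 81357 s0u162 s0c163 rfl
theorem s0u164 : ∀ v, 1 ≤ v → v ≤ 81902 → fs0 v = true := slots_step fs0 81357 545 81902 s0u163 s0c164 rfl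
theorem s0u165 : ∀ v, 1 ≤ v → v ≤ 82445 → fs0 v = true := slots_step fs0 81902 543 82445 s0u164 s0c165 rfl
theorem s0u166 : ∀ v, 1 ≤ v → v ≤ 82989 → fs0 v = true := slots_step fs0 82445 544 82989 s0u165 s0c166 rfl
theorem s0u167 : ∀ v, 1 ≤ v → v ≤ 83508 → fs0 v = true := slots_step fs0 82989 519 83508 s0u166 s0c167 rfl
theorem s0u168 : ∀ v, 1 ≤ v → v ≤ 84040 → fs0 v = true := slots_step fs0 83508 532 84040 s0u167 s0c168 rfl
theorem s0u169 : ∀ v, 1 ≤ v → v ≤ 84515 → fs0 v = true := slots_step fs0 84040 475 84515 s0u168 s0c169 rfl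
theorem s0u170 : ∀ v, 1 ≤ v → v ≤ 84984 → fs0 v = true := slots_step fs0 84515 469 84984 s0u169 s0c170 rfl
theorem s0u171 : ∀ v, 1 ≤ v → v ≤ 85457 → fs0 v = true := slots_step fs0 84984 473 85457 s0u170 s0c171 rfl
theorem s0u172 : ∀ v, 1 ≤ v → v ≤ 85911 → fs0 v = true := slots_step fs0 85457 454 85911 s0u171 s0c172 rfl
theorem s0u173 : ∀ v, 1 ≤ v → v ≤ 86355 → fs0 v = true := slots_step fs0 85911 444 86355 s0u172 s0c173 rfl
theorem s0u174 : ∀ v, 1 ≤ v → v ≤ 86870 → fs0 v = true := slots_step fs0 86355 515 86870 s0u173 s0c174 rfl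
theorem s0u175 : ∀ v, 1 ≤ v → v ≤ 87354 → fs0 v = true := slots_step fs0 86870 484 87354 s0u174 s0c175 rfl
theorem s0u176 : ∀ v, 1 ≤ v → v ≤ 87828 → fs0 v = true := slots_step fs0 87354 474 87828 s0u175 s0c176 rfl
theorem s0u177 : ∀ v, 1 ≤ v → v ≤ 88313 → fs0 v = true := slots_step fs0 87828 485 88313 s0u176 s0c177 rfl
theorem s0u178 : ∀ v, 1 ≤ v → v ≤ 88765 → fs0 v = true := slots_step fs0 88313 452 88765 s0u177 s0c178 rfl
theorem s0u179 : ∀ v, 1 ≤ v → v ≤ 89233 → fs0 v = true := slots_step fs0 88765 468 89233 s0u178 s0c179 rfl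
theorem s0u180 : ∀ v, 1 ≤ v → v ≤ 89729 → fs0 v = true := slots_step fs0 89233 496 89729 s0u179 s0c180 rfl
theorem s0u181 : ∀ v, 1 ≤ v → v ≤ 90211 → fs0 v = true := slots_step fs0 89729 482 90211 s0u180 s0c181 rfl
theorem s0u182 : ∀ v, 1 ≤ v → v ≤ 90688 → fs0 v = true := slots_step fs0 90211 477 90688 s0u181 s0c182 rfl
theorem s0u183 : ∀ v, 1 ≤ v → v ≤ 91173 → fs0 v = true := slots_step fs0 90688 485 91173 s0u182 s0c183 rfl
theorem s0u184 : ∀ v, 1 ≤ v → v ≤ 91679 → fs0 v = true := slots_step fs0 91173 506 91679 s0u183 s0c184 rfl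
theorem s0u185 : ∀ v, 1 ≤ v → v ≤ 92163 → fs0 v = true := slots_step fs0 91679 484 92163 s0u184 s0c185 rfl
theorem s0u186 : ∀ v, 1 ≤ v → v ≤ 92655 → fs0 v = true := slots_step fs0 92163 492 92655 s0u185 s0c186 rfl
theorem s0u187 : ∀ v, 1 ≤ v → v ≤ 93165 → fs0 v = true := slots_step fs0 92655 510 93165 s0u186 s0c187 rfl
theorem s0u188 : ∀ v, 1 ≤ v → v ≤ 93688 → fs0 v = true := slots_step fs0 93165 523 93688 s0u187 s0c188 rfl
theorem s0u189 : ∀ v, 1 ≤ v → v ≤ 94217 → fs0 v = true := slots_step fs0 93688 529 94217 s0u188 s0c189 rfl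
theorem s0u190 : ∀ v, 1 ≤ v → v ≤ 94734 → fs0 v = true := slots_step fs0 94217 517 94734 s0u189 s0c190 rfl
theorem s0u191 : ∀ v, 1 ≤ v → v ≤ 95261 → fs0 v = true := slots_step fs0 94734 527 95261 s0u190 s0c191 rfl
theorem s0u192 : ∀ v, 1 ≤ v → v ≤ 95727 → fs0 v = true := slots_step fs0 95261 466 95727 s0u191 s0c192 rfl
theorem s0u193 : ∀ v, 1 ≤ v → v ≤ 96180 → fs0 v = true := slots_step fs0 95727 453 96180 s0u192 s0c193 rfl
theorem s0u194 : ∀ v, 1 ≤ v → v ≤ 96616 → fs0 v = true := slots_step fs0 96180 436 96616 s0u193 s0c194 rfl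
theorem s0u195 : ∀ v, 1 ≤ v → v ≤ 97057 → fs0 v = true := slots_step fs0 96616 441 97057 s0u194 s0c195 rfl
theorem s0u196 : ∀ v, 1 ≤ v → v ≤ 97537 → fs0 v = true := slots_step fs0 97057 480 97537 s0u195 s0c196 rfl
theorem s0u197 : ∀ v, 1 ≤ v → v ≤ 97982 → fs0 v = true := slots_step fs0 97537 445 97982 s0u196 s0c197 rfl
theorem s0u198 : ∀ v, 1 ≤ v → v ≤ 98429 → fs0 v = true := slots_step fs0 97982 447 98429 s0u197 s0c198 rfl
theorem s0u199 : ∀ v, 1 ≤ v → v ≤ 98878 → fs0 v = true := slots_step fs0 98429 449 98878 s0u198 s0c199 rfl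
theorem s0u200 : ∀ v, 1 ≤ v → v ≤ 99338 → fs0 v = true := slots_step fs0 98878 460 99338 s0u199 s0c200 rfl
theorem s0u201 : ∀ v, 1 ≤ v → v ≤ 99797 → fs0 v = true := slots_step fs0 99338 459 99797 s0u200 s0c201 rfl
theorem s0u202 : ∀ v, 1 ≤ v → v ≤ 100294 → fs0 v = true := slots_step fs0 99797 497 100294 s0u201 s0c202 rfl
theorem s0u203 : ∀ v, 1 ≤ v → v ≤ 100798 → fs0 v = true := slots_step fs0 100294 504 100798 s0u202 s0c203 rfl
theorem s0u204 : ∀ v, 1 ≤ v → v ≤ 101260 → fs0 v = true := slots_step fs0 100798 462 101260 s0u203 s0c204 rfl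
theorem s0u205 : ∀ v, 1 ≤ v → v ≤ 101694 → fs0 v = true := slots_step fs0 101260 434 101694 s0u204 s0c205 rfl
theorem s0u206 : ∀ v, 1 ≤ v → v ≤ 102108 → fs0 v = true := slots_step fs0 101694 414 102108 s0u205 s0c206 rfl
theorem s0u207 : ∀ v, 1 ≤ v → v ≤ 102548 → fs0 v = true := slots_step fs0 102108 440 102548 s0u206 s0c207 rfl
theorem s0u208 : ∀ v, 1 ≤ v → v ≤ 102980 → fs0 v = true := slots_step fs0 102548 432 102980 s0u207 s0c208 rfl
theorem s0u209 : ∀ v, 1 ≤ v → v ≤ 103454 → fs0 v = true := slots_step fs0 102980 474 103454 s0u208 s0c209 rfl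
theorem s0u210 : ∀ v, 1 ≤ v → v ≤ 103882 → fs0 v = true := slots_step fs0 103454 428 103882 s0u209 s0c210 rfl
theorem s0u211 : ∀ v, 1 ≤ v → v ≤ 104309 → fs0 v = true := slots_step fs0 103882 427 104309 s0u210 s0c211 rfl
theorem s0u212 : ∀ v, 1 ≤ v → v ≤ 104779 → fs0 v = true := slots_step fs0 104309 470 104779 s0u211 s0c212 rfl
theorem s0u213 : ∀ v, 1 ≤ v → v ≤ 105239 → fs0 v = true := slots_step fs0 104779 460 105239 s0u212 s0c213 rfl
theorem s0u214 : ∀ v, 1 ≤ v → v ≤ 105721 → fs0 v = true := slots_step fs0 105239 482 105721 s0u213 s0c214 rfl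
theorem s0u215 : ∀ v, 1 ≤ v → v ≤ 106152 → fs0 v = true := slots_step fs0 105721 431 106152 s0u214 s0c215 rfl
theorem s0u216 : ∀ v, 1 ≤ v → v ≤ 106616 → fs0 v = true := slots_step fs0 106152 464 106616 s0u215 s0c216 rfl
theorem s0u217 : ∀ v, 1 ≤ v → v ≤ 107133 → fs0 v = true := slots_step fs0 106616 517 107133 s0u216 s0c217 rfl
theorem s0u218 : ∀ v, 1 ≤ v → v ≤ 107605 → fs0 v = true := slots_step fs0 107133 472 107605 s0u217 s0c218 rfl
theorem s0u219 : ∀ v, 1 ≤ v → v ≤ 108082 → fs0 v = true := slots_step fs0 107605 477 108082 s0u218 s0c219 rfl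
theorem s0u220 : ∀ v, 1 ≤ v → v ≤ 108589 → fs0 v = true := slots_step fs0 108082 507 108589 s0u219 s0c220 rfl
theorem s0u221 : ∀ v, 1 ≤ v → v ≤ 109099 → fs0 v = true := slots_step fs0 108589 510 109099 s0u220 s0c221 rfl
theorem s0u222 : ∀ v, 1 ≤ v → v ≤ 109590 → fs0 v = true := slots_step fs0 109099 491 109590 s0u221 s0c222 rfl
theorem s0u223 : ∀ v, 1 ≤ v → v ≤ 110084 → fs0 v = true := slots_step fs0 109590 494 110084 s0u222 s0c223 rfl
theorem s0u224 : ∀ v, 1 ≤ v → v ≤ 110568 → fs0 v = true := slots_step fs0 110084 484 110568 s0u223 s0c224 rfl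
theorem s0u225 : ∀ v, 1 ≤ v → v ≤ 111016 → fs0 v = true := slots_step fs0 110568 448 111016 s0u224 s0c225 rfl
theorem s0u226 : ∀ v, 1 ≤ v → v ≤ 111585 → fs0 v = true := slots_step fs0 111016 569 111585 s0u225 s0c226 rfl
theorem s0u227 : ∀ v, 1 ≤ v → v ≤ 112109 → fs0 v = true := slots_step fs0 111585 524 112109 s0u226 s0c227 rfl
theorem s0u228 : ∀ v, 1 ≤ v → v ≤ 112597 → fs0 v = true := slots_step fs0 112109 488 112597 s0u227 s0c228 rfl
theorem s0u229 : ∀ v, 1 ≤ v → v ≤ 113096 → fs0 v = true := slots_step fs0 112597 499 113096 s0u228 s0c229 rfl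
theorem s0u230 : ∀ v, 1 ≤ v → v ≤ 113604 → fs0 v = true := slots_step fs0 113096 508 113604 s0u229 s0c230 rfl
theorem s0u231 : ∀ v, 1 ≤ v → v ≤ 114079 → fs0 v = true := slots_step fs0 113604 475 114079 s0u230 s0c231 rfl
theorem s0u232 : ∀ v, 1 ≤ v → v ≤ 114568 → fs0 v = true := slots_step fs0 114079 489 114568 s0u231 s0c232 rfl
theorem s0u233 : ∀ v, 1 ≤ v → v ≤ 115050 → fs0 v = true := slots_step fs0 114568 482 115050 s0u232 s0c233 rfl
theorem s0u234 : ∀ v, 1 ≤ v → v ≤ 115486 → fs0 v = true := slots_step fs0 115050 436 115486 s0u233 s0c234 rfl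
theorem s0u235 : ∀ v, 1 ≤ v → v ≤ 115903 → fs0 v = true := slots_step fs0 115486 417 115903 s0u234 s0c235 rfl
theorem s0u236 : ∀ v, 1 ≤ v → v ≤ 116356 → fs0 v = true := slots_step fs0 115903 453 116356 s0u235 s0c236 rfl
theorem s0u237 : ∀ v, 1 ≤ v → v ≤ 116864 → fs0 v = true := slots_step fs0 116356 508 116864 s0u236 s0c237 rfl
theorem s0u238 : ∀ v, 1 ≤ v → v ≤ 117315 → fs0 v = true := slots_step fs0 116864 451 117315 s0u237 s0c238 rfl
theorem s0u239 : ∀ v, 1 ≤ v → v ≤ 117784 → fs0 v = true := slots_step fs0 117315 469 117784 s0u238 s0c239 rfl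
theorem s0u240 : ∀ v, 1 ≤ v → v ≤ 118226 → fs0 v = true := slots_step fs0 117784 442 118226 s0u239 s0c240 rfl
theorem s0u241 : ∀ v, 1 ≤ v → v ≤ 118747 → fs0 v = true := slots_step fs0 118226 521 118747 s0u240 s0c241 rfl
theorem s0u242 : ∀ v, 1 ≤ v → v ≤ 119238 → fs0 v = true := slots_step fs0 118747 491 119238 s0u241 s0c242 rfl
theorem s0u243 : ∀ v, 1 ≤ v → v ≤ 119740 → fs0 v = true := slots_step fs0 119238 502 119740 s0u242 s0c243 rfl
theorem s0u244 : ∀ v, 1 ≤ v → v ≤ 120202 → fs0 v = true := slots_step fs0 119740 462 120202 s0u243 s0c244 rfl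
theorem s0u245 : ∀ v, 1 ≤ v → v ≤ 120678 → fs0 v = true := slots_step fs0 120202 476 120678 s0u244 s0c245 rfl
theorem s0u246 : ∀ v, 1 ≤ v → v ≤ 121105 → fs0 v = true := slots_step fs0 120678 427 121105 s0u245 s0c246 rfl
theorem s0u247 : ∀ v, 1 ≤ v → v ≤ 121616 → fs0 v = true := slots_step fs0 121105 511 121616 s0u246 s0c247 rfl
theorem s0u248 : ∀ v, 1 ≤ v → v ≤ 122112 → fs0 v = true := slots_step fs0 121616 496 122112 s0u247 s0c248 rfl
theorem s0u249 : ∀ v, 1 ≤ v → v ≤ 122536 → fs0 v = true := slots_step fs0 122112 424 122536 s0u248 s0c249 rfl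
theorem s0u250 : ∀ v, 1 ≤ v → v ≤ 123012 → fs0 v = true := slots_step fs0 122536 476 123012 s0u249 s0c250 rfl
theorem s0u251 : ∀ v, 1 ≤ v → v ≤ 123493 → fs0 v = true := slots_step fs0 123012 481 123493 s0u250 s0c251 rfl
theorem s0u252 : ∀ v, 1 ≤ v → v ≤ 123935 → fs0 v = true := slots_step fs0 123493 442 123935 s0u251 s0c252 rfl
theorem s0u253 : ∀ v, 1 ≤ v → v ≤ 124416 → fs0 v = true := slots_step fs0 123935 481 124416 s0u252 s0c253 rfl
theorem s0u254 : ∀ v, 1 ≤ v → v ≤ 124852 → fs0 v = true := slots_step fs0 124416 436 124852 s0u253 s0c254 rfl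
theorem s0u255 : ∀ v, 1 ≤ v → v ≤ 125333 → fs0 v = true := slots_step fs0 124852 481 125333 s0u254 s0c255 rfl
theorem s0u256 : ∀ v, 1 ≤ v → v ≤ 125795 → fs0 v = true := slots_step fs0 125333 462 125795 s0u255 s0c256 rfl
theorem s0u257 : ∀ v, 1 ≤ v → v ≤ 126257 → fs0 v = true := slots_step fs0 125795 462 126257 s0u256 s0c257 rfl
theorem s0u258 : ∀ v, 1 ≤ v → v ≤ 126748 → fs0 v = true := slots_step fs0 126257 491 126748 s0u257 s0c258 rfl
theorem s0u259 : ∀ v, 1 ≤ v → v ≤ 127258 → fs0 v = true := slots_step fs0 126748 510 127258 s0u258 s0c259 rfl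
theorem s0u260 : ∀ v, 1 ≤ v → v ≤ 127810 → fs0 v = true := slots_step fs0 127258 552 127810 s0u259 s0c260 rfl
theorem s0u261 : ∀ v, 1 ≤ v → v ≤ 128259 → fs0 v = true := slots_step fs0 127810 449 128259 s0u260 s0c261 rfl
theorem s0u262 : ∀ v, 1 ≤ v → v ≤ 128808 → fs0 v = true := slots_step fs0 128259 549 128808 s0u261 s0c262 rfl
theorem s0u263 : ∀ v, 1 ≤ v → v ≤ 129265 → fs0 v = true := slots_step fs0 128808 457 129265 s0u262 s0c263 rfl
theorem s0u264 : ∀ v, 1 ≤ v → v ≤ 129766 → fs0 v = true := slots_step fs0 129265 501 129766 s0u263 s0c264 rfl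
theorem s0u265 : ∀ v, 1 ≤ v → v ≤ 130301 → fs0 v = true := slots_step fs0 129766 535 130301 s0u264 s0c265 rfl
theorem s0u266 : ∀ v, 1 ≤ v → v ≤ 130863 → fs0 v = true := slots_step fs0 130301 562 130863 s0u265 s0c266 rfl
theorem s0u267 : ∀ v, 1 ≤ v → v ≤ 131411 → fs0 v = true := slots_step fs0 130863 548 131411 s0u266 s0c267 rfl
theorem s0u268 : ∀ v, 1 ≤ v → v ≤ 131910 → fs0 v = true := slots_step fs0 131411 499 131910 s0u267 s0c268 rfl
theorem s0u269 : ∀ v, 1 ≤ v → v ≤ 132395 → fs0 v = true := slots_step fs0 131910 485 132395 s0u268 s0c269 rfl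
theorem s0u270 : ∀ v, 1 ≤ v → v ≤ 132911 → fs0 v = true := slots_step fs0 132395 516 132911 s0u269 s0c270 rfl
theorem s0u271 : ∀ v, 1 ≤ v → v ≤ 133400 → fs0 v = true := slots_step fs0 132911 489 133400 s0u270 s0c271 rfl
theorem s0u272 : ∀ v, 1 ≤ v → v ≤ 133908 → fs0 v = true := slots_step fs0 133400 508 133908 s0u271 s0c272 rfl
theorem s0u273 : ∀ v, 1 ≤ v → v ≤ 134401 → fs0 v = true := slots_step fs0 133908 493 134401 s0u272 s0c273 rfl
theorem s0u274 : ∀ v, 1 ≤ v → v ≤ 134903 → fs0 v = true := slots_step fs0 134401 502 134903 s0u273 s0c274 rfl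
theorem s0u275 : ∀ v, 1 ≤ v → v ≤ 135442 → fs0 v = true := slots_step fs0 134903 539 135442 s0u274 s0c275 rfl
theorem s0u276 : ∀ v, 1 ≤ v → v ≤ 135939 → fs0 v = true := slots_step fs0 135442 497 135939 s0u275 s0c276 rfl
theorem s0u277 : ∀ v, 1 ≤ v → v ≤ 136432 → fs0 v = true := slots_step fs0 135939 493 136432 s0u276 s0c277 rfl
theorem s0u278 : ∀ v, 1 ≤ v → v ≤ 136968 → fs0 v = true := slots_step fs0 136432 536 136968 s0u277 s0c278 rfl
theorem s0u279 : ∀ v, 1 ≤ v → v ≤ 137462 → fs0 v = true := slots_step fs0 136968 494 137462 s0u278 s0c279 rfl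
theorem s0u280 : ∀ v, 1 ≤ v → v ≤ 137939 → fs0 v = true := slots_step fs0 137462 477 137939 s0u279 s0c280 rfl
theorem s0u281 : ∀ v, 1 ≤ v → v ≤ 138442 → fs0 v = true := slots_step fs0 137939 503 138442 s0u280 s0c281 rfl
theorem s0u282 : ∀ v, 1 ≤ v → v ≤ 138920 → fs0 v = true := slots_step fs0 138442 478 138920 s0u281 s0c282 rfl
theorem s0u283 : ∀ v, 1 ≤ v → v ≤ 139411 → fs0 v = true := slots_step fs0 138920 491 139411 s0u282 s0c283 rfl
theorem s0u284 : ∀ v, 1 ≤ v → v ≤ 139931 → fs0 v = true := slots_step fs0 139411 520 139931 s0u283 s0c284 rfl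
theorem s0u285 : ∀ v, 1 ≤ v → v ≤ 140411 → fs0 v = true := slots_step fs0 139931 480 140411 s0u284 s0c285 rfl
theorem s0u286 : ∀ v, 1 ≤ v → v ≤ 140944 → fs0 v = true := slots_step fs0 140411 533 140944 s0u285 s0c286 rfl
theorem s0u287 : ∀ v, 1 ≤ v → v ≤ 141374 → fs0 v = true := slots_step fs0 140944 430 141374 s0u286 s0c287 rfl
theorem s0u288 : ∀ v, 1 ≤ v → v ≤ 141889 → fs0 v = true := slots_step fs0 141374 515 141889 s0u287 s0c288 rfl
theorem s0u289 : ∀ v, 1 ≤ v → v ≤ 142387 → fs0 v = true := slots_step fs0 141889 498 142387 s0u288 s0c289 rfl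
theorem s0u290 : ∀ v, 1 ≤ v → v ≤ 142896 → fs0 v = true := slots_step fs0 142387 509 142896 s0u289 s0c290 rfl
theorem s0u291 : ∀ v, 1 ≤ v → v ≤ 143432 → fs0 v = true := slots_step fs0 142896 536 143432 s0u290 s0c291 rfl
theorem s0u292 : ∀ v, 1 ≤ v → v ≤ 143909 → fs0 v = true := slots_step fs0 143432 477 143909 s0u291 s0c292 rfl
theorem s0u293 : ∀ v, 1 ≤ v → v ≤ 144422 → fs0 v = true := slots_step fs0 143909 513 144422 s0u292 s0c293 rfl
theorem s0u294 : ∀ v, 1 ≤ v → v ≤ 144935 → fs0 v = true := slots_step fs0 144422 513 144935 s0u293 s0c294 rfl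
theorem s0u295 : ∀ v, 1 ≤ v → v ≤ 145509 → fs0 v = true := slots_step fs0 144935 574 145509 s0u294 s0c295 rfl
theorem s0u296 : ∀ v, 1 ≤ v → v ≤ 146084 → fs0 v = true := slots_step fs0 145509 575 146084 s0u295 s0c296 rfl
theorem s0u297 : ∀ v, 1 ≤ v → v ≤ 146610 → fs0 v = true := slots_step fs0 146084 526 146610 s0u296 s0c297 rfl
theorem s0u298 : ∀ v, 1 ≤ v → v ≤ 147135 → fs0 v = true := slots_step fs0 146610 525 147135 s0u297 s0c298 rfl
theorem s0u299 : ∀ v, 1 ≤ v → v ≤ 147639 → fs0 v = true := slots_step fs0 147135 504 147639 s0u298 s0c299 rfl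
theorem s0u300 : ∀ v, 1 ≤ v → v ≤ 148260 → fs0 v = true := slots_step fs0 147639 621 148260 s0u299 s0c300 rfl
theorem s0u301 : ∀ v, 1 ≤ v → v ≤ 148816 → fs0 v = true := slots_step fs0 148260 556 148816 s0u300 s0c301 rfl
theorem s0u302 : ∀ v, 1 ≤ v → v ≤ 149373 → fs0 v = true := slots_step fs0 148816 557 149373 s0u301 s0c302 rfl
theorem s0u303 : ∀ v, 1 ≤ v → v ≤ 149969 → fs0 v = true := slots_step fs0 149373 596 149969 s0u302 s0c303 rfl
theorem s0u304 : ∀ v, 1 ≤ v → v ≤ 150481 → fs0 v = true := slots_step fs0 149969 512 150481 s0u303 s0c304 rfl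
theorem s0u305 : ∀ v, 1 ≤ v → v ≤ 151067 → fs0 v = true := slots_step fs0 150481 586 151067 s0u304 s0c305 rfl
theorem s0u306 : ∀ v, 1 ≤ v → v ≤ 151646 → fs0 v = true := slots_step fs0 151067 579 151646 s0u305 s0c306 rfl
theorem s0u307 : ∀ v, 1 ≤ v → v ≤ 152201 → fs0 v = true := slots_step fs0 151646 555 152201 s0u306 s0c307 rfl
theorem s0u308 : ∀ v, 1 ≤ v → v ≤ 152724 → fs0 v = true := slots_step fs0 152201 523 152724 s0u307 s0c308 rfl
theorem s0u309 : ∀ v, 1 ≤ v → v ≤ 153260 → fs0 v = true := slots_step fs0 152724 536 153260 s0u308 s0c309 rfl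
theorem s0u310 : ∀ v, 1 ≤ v → v ≤ 153822 → fs0 v = true := slots_step fs0 153260 562 153822 s0u309 s0c310 rfl
theorem s0u311 : ∀ v, 1 ≤ v → v ≤ 154424 → fs0 v = true := slots_step fs0 153822 602 154424 s0u310 s0c311 rfl
theorem s0u312 : ∀ v, 1 ≤ v → v ≤ 154997 → fs0 v = true := slots_step fs0 154424 573 154997 s0u311 s0c312 rfl
theorem s0u313 : ∀ v, 1 ≤ v → v ≤ 155504 → fs0 v = true := slots_step fs0 154997 507 155504 s0u312 s0c313 rfl
theorem s0u314 : ∀ v, 1 ≤ v → v ≤ 156038 → fs0 v = true := slots_step fs0 155504 534 156038 s0u313 s0c314 rfl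
theorem s0u315 : ∀ v, 1 ≤ v → v ≤ 156566 → fs0 v = true := slots_step fs0 156038 528 156566 s0u314 s0c315 rfl
theorem s0u316 : ∀ v, 1 ≤ v → v ≤ 157085 → fs0 v = true := slots_step fs0 156566 519 157085 s0u315 s0c316 rfl
theorem s0u317 : ∀ v, 1 ≤ v → v ≤ 157622 → fs0 v = true := slots_step fs0 157085 537 157622 s0u316 s0c317 rfl
theorem s0u318 : ∀ v, 1 ≤ v → v ≤ 158185 → fs0 v = true := slots_step fs0 157622 563 158185 s0u317 s0c318 rfl
theorem s0u319 : ∀ v, 1 ≤ v → v ≤ 158788 → fs0 v = true := slots_step fs0 158185 603 158788 s0u318 s0c319 rfl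
theorem s0u320 : ∀ v, 1 ≤ v → v ≤ 159330 → fs0 v = true := slots_step fs0 158788 542 159330 s0u319 s0c320 rfl
theorem s0u321 : ∀ v, 1 ≤ v → v ≤ 159831 → fs0 v = true := slots_step fs0 159330 501 159831 s0u320 s0c321 rfl
theorem s0u322 : ∀ v, 1 ≤ v → v ≤ 160371 → fs0 v = true := slots_step fs0 159831 540 160371 s0u321 s0c322 rfl
theorem s0u323 : ∀ v, 1 ≤ v → v ≤ 160917 → fs0 v = true := slots_step fs0 160371 546 160917 s0u322 s0c323 rfl
theorem s0u324 : ∀ v, 1 ≤ v → v ≤ 161414 → fs0 v = true := slots_step fs0 160917 497 161414 s0u323 s0c324 rfl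
theorem s0u325 : ∀ v, 1 ≤ v → v ≤ 161930 → fs0 v = true := slots_step fs0 161414 516 161930 s0u324 s0c325 rfl
theorem s0u326 : ∀ v, 1 ≤ v → v ≤ 162296 → fs0 v = true := slots_step fs0 161930 366 162296 s0u325 s0c326 rfl
theorem s0u327 : ∀ v, 1 ≤ v → v ≤ 162664 → fs0 v = true := slots_step fs0 162296 368 162664 s0u326 s0c327 rfl
theorem s0u328 : ∀ v, 1 ≤ v → v ≤ 163022 → fs0 v = true := slots_step fs0 162664 358 163022 s0u327 s0c328 rfl
theorem s0u329 : ∀ v, 1 ≤ v → v ≤ 163393 → fs0 v = true := slots_step fs0 163022 371 163393 s0u328 s0c329 rfl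
theorem s0u330 : ∀ v, 1 ≤ v → v ≤ 163766 → fs0 v = true := slots_step fs0 163393 373 163766 s0u329 s0c330 rfl
theorem s0u331 : ∀ v, 1 ≤ v → v ≤ 164104 → fs0 v = true := slots_step fs0 163766 338 164104 s0u330 s0c331 rfl
theorem s0u332 : ∀ v, 1 ≤ v → v ≤ 164480 → fs0 v = true := slots_step fs0 164104 376 164480 s0u331 s0c332 rfl
theorem s0u333 : ∀ v, 1 ≤ v → v ≤ 164861 → fs0 v = true := slots_step fs0 164480 381 164861 s0u332 s0c333 rfl
theorem s0u334 : ∀ v, 1 ≤ v → v ≤ 165235 → fs0 v = true := slots_step fs0 164861 374 165235 s0u333 s0c334 rfl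
theorem s0u335 : ∀ v, 1 ≤ v → v ≤ 165595 → fs0 v = true := slots_step fs0 165235 360 165595 s0u334 s0c335 rfl
theorem s0u336 : ∀ v, 1 ≤ v → v ≤ 165977 → fs0 v = true := slots_step fs0 165595 382 165977 s0u335 s0c336 rfl
theorem s0u337 : ∀ v, 1 ≤ v → v ≤ 166325 → fs0 v = true := slots_step fs0 165977 348 166325 s0u336 s0c337 rfl
theorem s0u338 : ∀ v, 1 ≤ v → v ≤ 166704 → fs0 v = true := slots_step fs0 166325 379 166704 s0u337 s0c338 rfl
theorem s0u339 : ∀ v, 1 ≤ v → v ≤ 167068 → fs0 v = true := slots_step fs0 166704 364 167068 s0u338 s0c339 rfl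
theorem s0u340 : ∀ v, 1 ≤ v → v ≤ 167410 → fs0 v = true := slots_step fs0 167068 342 167410 s0u339 s0c340 rfl
theorem s0u341 : ∀ v, 1 ≤ v → v ≤ 167756 → fs0 v = true := slots_step fs0 167410 346 167756 s0u340 s0c341 rfl
theorem s0u342 : ∀ v, 1 ≤ v → v ≤ 168113 → fs0 v = true := slots_step fs0 167756 357 168113 s0u341 s0c342 rfl
theorem s0u343 : ∀ v, 1 ≤ v → v ≤ 168473 → fs0 v = true := slots_step fs0 168113 360 168473 s0u342 s0c343 rfl
theorem s0u344 : ∀ v, 1 ≤ v → v ≤ 168840 → fs0 v = true := slots_step fs0 168473 367 168840 s0u343 s0c344 rfl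
theorem s0u345 : ∀ v, 1 ≤ v → v ≤ 169185 → fs0 v = true := slots_step fs0 168840 345 169185 s0u344 s0c345 rfl
theorem s0u346 : ∀ v, 1 ≤ v → v ≤ 169547 → fs0 v = true := slots_step fs0 169185 362 169547 s0u345 s0c346 rfl
theorem s0u347 : ∀ v, 1 ≤ v → v ≤ 169908 → fs0 v = true := slots_step fs0 169547 361 169908 s0u346 s0c347 rfl
theorem s0u348 : ∀ v, 1 ≤ v → v ≤ 170236 → fs0 v = true := slots_step fs0 169908 328 170236 s0u347 s0c348 rfl
theorem s0u349 : ∀ v, 1 ≤ v → v ≤ 170610 → fs0 v = true := slots_step fs0 170236 374 170610 s0u348 s0c349 rfl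
theorem s0u350 : ∀ v, 1 ≤ v → v ≤ 170974 → fs0 v = true := slots_step fs0 170610 364 170974 s0u349 s0c350 rfl
theorem s0u351 : ∀ v, 1 ≤ v → v ≤ 171322 → fs0 v = true := slots_step fs0 170974 348 171322 s0u350 s0c351 rfl
theorem s0u352 : ∀ v, 1 ≤ v → v ≤ 171650 → fs0 v = true := slots_step fs0 171322 328 171650 s0u351 s0c352 rfl
theorem s0u353 : ∀ v, 1 ≤ v → v ≤ 172020 → fs0 v = true := slots_step fs0 171650 370 172020 s0u352 s0c353 rfl
theorem s0u354 : ∀ v, 1 ≤ v → v ≤ 172362 → fs0 v = true := slots_step fs0 172020 342 172362 s0u353 s0c354 rfl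
theorem s0u355 : ∀ v, 1 ≤ v → v ≤ 172734 → fs0 v = true := slots_step fs0 172362 372 172734 s0u354 s0c355 rfl
theorem s0u356 : ∀ v, 1 ≤ v → v ≤ 173097 → fs0 v = true := slots_step fs0 172734 363 173097 s0u355 s0c356 rfl
theorem s0u357 : ∀ v, 1 ≤ v → v ≤ 173455 → fs0 v = true := slots_step fs0 173097 358 173455 s0u356 s0c357 rfl
theorem s0u358 : ∀ v, 1 ≤ v → v ≤ 173775 → fs0 v = true := slots_step fs0 173455 320 173775 s0u357 s0c358 rfl
theorem s0u359 : ∀ v, 1 ≤ v → v ≤ 174130 → fs0 v = true := slots_step fs0 173775 355 174130 s0u358 s0c359 rfl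
theorem s0u360 : ∀ v, 1 ≤ v → v ≤ 174484 → fs0 v = true := slots_step fs0 174130 354 174484 s0u359 s0c360 rfl
theorem s0u361 : ∀ v, 1 ≤ v → v ≤ 174832 → fs0 v = true := slots_step fs0 174484 348 174832 s0u360 s0c361 rfl
theorem s0u362 : ∀ v, 1 ≤ v → v ≤ 175167 → fs0 v = true := slots_step fs0 174832 335 175167 s0u361 s0c362 rfl
theorem s0u363 : ∀ v, 1 ≤ v → v ≤ 175511 → fs0 v = true := slots_step fs0 175167 344 175511 s0u362 s0c363 rfl
theorem s0u364 : ∀ v, 1 ≤ v → v ≤ 175833 → fs0 v = true := slots_step fs0 175511 322 175833 s0u363 s0c364 rfl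
theorem s0u365 : ∀ v, 1 ≤ v → v ≤ 176159 → fs0 v = true := slots_step fs0 175833 326 176159 s0u364 s0c365 rfl
theorem s0u366 : ∀ v, 1 ≤ v → v ≤ 176499 → fs0 v = true := slots_step fs0 176159 340 176499 s0u365 s0c366 rfl
theorem s0u367 : ∀ v, 1 ≤ v → v ≤ 176849 → fs0 v = true := slots_step fs0 176499 350 176849 s0u366 s0c367 rfl
theorem s0u368 : ∀ v, 1 ≤ v → v ≤ 177185 → fs0 v = true := slots_step fs0 176849 336 177185 s0u367 s0c368 rfl
theorem s0u369 : ∀ v, 1 ≤ v → v ≤ 177533 → fs0 v = true := slots_step fs0 177185 348 177533 s0u368 s0c369 rfl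
theorem s0u370 : ∀ v, 1 ≤ v → v ≤ 177898 → fs0 v = true := slots_step fs0 177533 365 177898 s0u369 s0c370 rfl
theorem s0u371 : ∀ v, 1 ≤ v → v ≤ 178214 → fs0 v = true := slots_step fs0 177898 316 178214 s0u370 s0c371 rfl
theorem s0u372 : ∀ v, 1 ≤ v → v ≤ 178531 → fs0 v = true := slots_step fs0 178214 317 178531 s0u371 s0c372 rfl
theorem s0u373 : ∀ v, 1 ≤ v → v ≤ 178873 → fs0 v = true := slots_step fs0 178531 342 178873 s0u372 s0c373 rfl
theorem s0u374 : ∀ v, 1 ≤ v → v ≤ 179191 → fs0 v = true := slots_step fs0 178873 318 179191 s0u373 s0c374 rfl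
theorem s0u375 : ∀ v, 1 ≤ v → v ≤ 179526 → fs0 v = true := slots_step fs0 179191 335 179526 s0u374 s0c375 rfl
theorem s0u376 : ∀ v, 1 ≤ v → v ≤ 179860 → fs0 v = true := slots_step fs0 179526 334 179860 s0u375 s0c376 rfl
theorem s0u377 : ∀ v, 1 ≤ v → v ≤ 180213 → fs0 v = true := slots_step fs0 179860 353 180213 s0u376 s0c377 rfl
theorem s0u378 : ∀ v, 1 ≤ v → v ≤ 180533 → fs0 v = true := slots_step fs0 180213 320 180533 s0u377 s0c378 rfl
theorem s0u379 : ∀ v, 1 ≤ v → v ≤ 180852 → fs0 v = true := slots_step fs0 180533 319 180852 s0u378 s0c379 rfl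
theorem s0u380 : ∀ v, 1 ≤ v → v ≤ 181174 → fs0 v = true := slots_step fs0 180852 322 181174 s0u379 s0c380 rfl
theorem s0u381 : ∀ v, 1 ≤ v → v ≤ 181500 → fs0 v = true := slots_step fs0 181174 326 181500 s0u380 s0c381 rfl
theorem s0u382 : ∀ v, 1 ≤ v → v ≤ 181806 → fs0 v = true := slots_step fs0 181500 306 181806 s0u381 s0c382 rfl
theorem s0u383 : ∀ v, 1 ≤ v → v ≤ 182153 → fs0 v = true := slots_step fs0 181806 347 182153 s0u382 s0c383 rfl
theorem s0u384 : ∀ v, 1 ≤ v → v ≤ 182478 → fs0 v = true := slots_step fs0 182153 325 182478 s0u383 s0c384 rfl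
theorem s0u385 : ∀ v, 1 ≤ v → v ≤ 182794 → fs0 v = true := slots_step fs0 182478 316 182794 s0u384 s0c385 rfl
theorem s0u386 : ∀ v, 1 ≤ v → v ≤ 183101 → fs0 v = true := slots_step fs0 182794 307 183101 s0u385 s0c386 rfl
theorem s0u387 : ∀ v, 1 ≤ v → v ≤ 183410 → fs0 v = true := slots_step fs0 183101 309 183410 s0u386 s0c387 rfl
theorem s0u388 : ∀ v, 1 ≤ v → v ≤ 183714 → fs0 v = true := slots_step fs0 183410 304 183714 s0u387 s0c388 rfl
theorem s0u389 : ∀ v, 1 ≤ v → v ≤ 184024 → fs0 v = true := slots_step fs0 183714 310 184024 s0u388 s0c389 rfl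
theorem s0u390 : ∀ v, 1 ≤ v → v ≤ 184345 → fs0 v = true := slots_step fs0 184024 321 184345 s0u389 s0c390 rfl
theorem s0u391 : ∀ v, 1 ≤ v → v ≤ 184670 → fs0 v = true := slots_step fs0 184345 325 184670 s0u390 s0c391 rfl
theorem s0u392 : ∀ v, 1 ≤ v → v ≤ 184984 → fs0 v = true := slots_step fs0 184670 314 184984 s0u391 s0c392 rfl
theorem s0u393 : ∀ v, 1 ≤ v → v ≤ 185318 → fs0 v = true := slots_step fs0 184984 334 185318 s0u392 s0c393 rfl
theorem s0u394 : ∀ v, 1 ≤ v → v ≤ 185670 → fs0 v = true := slots_step fs0 185318 352 185670 s0u393 s0c394 rfl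
theorem s0u395 : ∀ v, 1 ≤ v → v ≤ 185981 → fs0 v = true := slots_step fs0 185670 311 185981 s0u394 s0c395 rfl
theorem s0u396 : ∀ v, 1 ≤ v → v ≤ 186306 → fs0 v = true := slots_step fs0 185981 325 186306 s0u395 s0c396 rfl
theorem s0u397 : ∀ v, 1 ≤ v → v ≤ 186633 → fs0 v = true := slots_step fs0 186306 327 186633 s0u396 s0c397 rfl
theorem s0u398 : ∀ v, 1 ≤ v → v ≤ 186958 → fs0 v = true := slots_step fs0 186633 325 186958 s0u397 s0c398 rfl
theorem s0u399 : ∀ v, 1 ≤ v → v ≤ 187266 → fs0 v = true := slots_step fs0 186958 308 187266 s0u398 s0c399 rfl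
theorem s0u400 : ∀ v, 1 ≤ v → v ≤ 187624 → fs0 v = true := slots_step fs0 187266 358 187624 s0u399 s0c400 rfl
theorem s0u401 : ∀ v, 1 ≤ v → v ≤ 187959 → fs0 v = true := slots_step fs0 187624 335 187959 s0u400 s0c401 rfl
theorem s0u402 : ∀ v, 1 ≤ v → v ≤ 188255 → fs0 v = true := slots_step fs0 187959 296 188255 s0u401 s0c402 rfl
theorem s0u403 : ∀ v, 1 ≤ v → v ≤ 188564 → fs0 v = true := slots_step fs0 188255 309 188564 s0u402 s0c403 rfl
theorem s0u404 : ∀ v, 1 ≤ v → v ≤ 188896 → fs0 v = true := slots_step fs0 188564 332 188896 s0u403 s0c404 rfl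
theorem s0u405 : ∀ v, 1 ≤ v → v ≤ 189215 → fs0 v = true := slots_step fs0 188896 319 189215 s0u404 s0c405 rfl
theorem s0u406 : ∀ v, 1 ≤ v → v ≤ 189537 → fs0 v = true := slots_step fs0 189215 322 189537 s0u405 s0c406 rfl
theorem s0u407 : ∀ v, 1 ≤ v → v ≤ 189847 → fs0 v = true := slots_step fs0 189537 310 189847 s0u406 s0c407 rfl
theorem s0u408 : ∀ v, 1 ≤ v → v ≤ 190143 → fs0 v = true := slots_step fs0 189847 296 190143 s0u407 s0c408 rfl
theorem s0u409 : ∀ v, 1 ≤ v → v ≤ 190431 → fs0 v = true := slots_step fs0 190143 288 190431 s0u408 s0c409 rfl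
theorem s0u410 : ∀ v, 1 ≤ v → v ≤ 190732 → fs0 v = true := slots_step fs0 190431 301 190732 s0u409 s0c410 rfl
theorem s0u411 : ∀ v, 1 ≤ v → v ≤ 191040 → fs0 v = true := slots_step fs0 190732 308 191040 s0u410 s0c411 rfl
theorem s0u412 : ∀ v, 1 ≤ v → v ≤ 191347 → fs0 v = true := slots_step fs0 191040 307 191347 s0u411 s0c412 rfl
theorem s0u413 : ∀ v, 1 ≤ v → v ≤ 191648 → fs0 v = true := slots_step fs0 191347 301 191648 s0u412 s0c413 rfl
theorem s0u414 : ∀ v, 1 ≤ v → v ≤ 191962 → fs0 v = true := slots_step fs0 191648 314 191962 s0u413 s0c414 rfl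
theorem s0u415 : ∀ v, 1 ≤ v → v ≤ 192293 → fs0 v = true := slots_step fs0 191962 331 192293 s0u414 s0c415 rfl
theorem s0u416 : ∀ v, 1 ≤ v → v ≤ 192618 → fs0 v = true := slots_step fs0 192293 325 192618 s0u415 s0c416 rfl
theorem s0u417 : ∀ v, 1 ≤ v → v ≤ 192942 → fs0 v = true := slots_step fs0 192618 324 192942 s0u416 s0c417 rfl
theorem s0u418 : ∀ v, 1 ≤ v → v ≤ 193273 → fs0 v = true := slots_step fs0 192942 331 193273 s0u417 s0c418 rfl
theorem s0u419 : ∀ v, 1 ≤ v → v ≤ 193581 → fs0 v = true := slots_step fs0 193273 308 193581 s0u418 s0c419 rfl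
theorem s0u420 : ∀ v, 1 ≤ v → v ≤ 193881 → fs0 v = true := slots_step fs0 193581 300 193881 s0u419 s0c420 rfl
theorem s0u421 : ∀ v, 1 ≤ v → v ≤ 194194 → fs0 v = true := slots_step fs0 193881 313 194194 s0u420 s0c421 rfl
theorem s0u422 : ∀ v, 1 ≤ v → v ≤ 194505 → fs0 v = true := slots_step fs0 194194 311 194505 s0u421 s0c422 rfl
theorem s0u423 : ∀ v, 1 ≤ v → v ≤ 194812 → fs0 v = true := slots_step fs0 194505 307 194812 s0u422 s0c423 rfl
theorem s0u424 : ∀ v, 1 ≤ v → v ≤ 195121 → fs0 v = true := slots_step fs0 194812 309 195121 s0u423 s0c424 rfl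
theorem s0u425 : ∀ v, 1 ≤ v → v ≤ 195409 → fs0 v = true := slots_step fs0 195121 288 195409 s0u424 s0c425 rfl
theorem s0u426 : ∀ v, 1 ≤ v → v ≤ 195717 → fs0 v = true := slots_step fs0 195409 308 195717 s0u425 s0c426 rfl
theorem s0u427 : ∀ v, 1 ≤ v → v ≤ 196001 → fs0 v = true := slots_step fs0 195717 284 196001 s0u426 s0c427 rfl
theorem s0u428 : ∀ v, 1 ≤ v → v ≤ 196292 → fs0 v = true := slots_step fs0 196001 291 196292 s0u427 s0c428 rfl
theorem s0u429 : ∀ v, 1 ≤ v → v ≤ 196566 → fs0 v = true := slots_step fs0 196292 274 196566 s0u428 s0c429 rfl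
theorem s0u430 : ∀ v, 1 ≤ v → v ≤ 196862 → fs0 v = true := slots_step fs0 196566 296 196862 s0u429 s0c430 rfl
theorem s0u431 : ∀ v, 1 ≤ v → v ≤ 197154 → fs0 v = true := slots_step fs0 196862 292 197154 s0u430 s0c431 rfl
theorem s0u432 : ∀ v, 1 ≤ v → v ≤ 197462 → fs0 v = true := slots_step fs0 197154 308 197462 s0u431 s0c432 rfl
theorem s0u433 : ∀ v, 1 ≤ v → v ≤ 197729 → fs0 v = true := slots_step fs0 197462 267 197729 s0u432 s0c433 rfl
theorem s0u434 : ∀ v, 1 ≤ v → v ≤ 198014 → fs0 v = true := slots_step fs0 197729 285 198014 s0u433 s0c434 rfl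
theorem s0u435 : ∀ v, 1 ≤ v → v ≤ 198291 → fs0 v = true := slots_step fs0 198014 277 198291 s0u434 s0c435 rfl
theorem s0u436 : ∀ v, 1 ≤ v → v ≤ 198563 → fs0 v = true := slots_step fs0 198291 272 198563 s0u435 s0c436 rfl
theorem s0u437 : ∀ v, 1 ≤ v → v ≤ 198863 → fs0 v = true := slots_step fs0 198563 300 198863 s0u436 s0c437 rfl
theorem s0u438 : ∀ v, 1 ≤ v → v ≤ 199155 → fs0 v = true := slots_step fs0 198863 292 199155 s0u437 s0c438 rfl
theorem s0u439 : ∀ v, 1 ≤ v → v ≤ 199427 → fs0 v = true := slots_step fs0 199155 272 199427 s0u438 s0c439 rfl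
theorem s0u440 : ∀ v, 1 ≤ v → v ≤ 199703 → fs0 v = true := slots_step fs0 199427 276 199703 s0u439 s0c440 rfl
theorem s0u441 : ∀ v, 1 ≤ v → v ≤ 199957 → fs0 v = true := slots_step fs0 199703 254 199957 s0u440 s0c441 rfl
theorem s0u442 : ∀ v, 1 ≤ v → v ≤ 200240 → fs0 v = true := slots_step fs0 199957 283 200240 s0u441 s0c442 rfl
theorem s0u443 : ∀ v, 1 ≤ v → v ≤ 200516 → fs0 v = true := slots_step fs0 200240 276 200516 s0u442 s0c443 rfl
theorem s0u444 : ∀ v, 1 ≤ v → v ≤ 200798 → fs0 v = true := slots_step fs0 200516 282 200798 s0u443 s0c444 rfl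
theorem s0u445 : ∀ v, 1 ≤ v → v ≤ 201068 → fs0 v = true := slots_step fs0 200798 270 201068 s0u444 s0c445 rfl
theorem s0u446 : ∀ v, 1 ≤ v → v ≤ 201323 → fs0 v = true := slots_step fs0 201068 255 201323 s0u445 s0c446 rfl
theorem s0u447 : ∀ v, 1 ≤ v → v ≤ 201576 → fs0 v = true := slots_step fs0 201323 253 201576 s0u446 s0c447 rfl
theorem s0u448 : ∀ v, 1 ≤ v → v ≤ 201582 → fs0 v = true := slots_step fs0 201576 6 201582 s0u447 s0c448 rfl
theorem s1u0 : ∀ v, 1 ≤ v → v ≤ 536 → fs1 v = true := slots_step fs1 0 536 536 (slots_zero fs1) s1c0 rfl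
theorem s1u1 : ∀ v, 1 ≤ v → v ≤ 1015 → fs1 v = true := slots_step fs1 536 479 1015 s1u0 s1c1 rfl
theorem s1u2 : ∀ v, 1 ≤ v → v ≤ 1511 → fs1 v = true := slots_step fs1 1015 496 1511 s1u1 s1c2 rfl
theorem s1u3 : ∀ v, 1 ≤ v → v ≤ 2006 → fs1 v = true := slots_step fs1 1511 495 2006 s1u2 s1c3 rfl
theorem s1u4 : ∀ v, 1 ≤ v → v ≤ 2508 → fs1 v = true := slots_step fs1 2006 502 2508 s1u3 s1c4 rfl
theorem s1u5 : ∀ v, 1 ≤ v → v ≤ 3039 → fs1 v = true := slots_step fs1 2508 531 3039 s1u4 s1c5 rfl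
theorem s1u6 : ∀ v, 1 ≤ v → v ≤ 3536 → fs1 v = true := slots_step fs1 3039 497 3536 s1u5 s1c6 rfl
theorem s1u7 : ∀ v, 1 ≤ v → v ≤ 4029 → fs1 v = true := slots_step fs1 3536 493 4029 s1u6 s1c7 rfl
theorem s1u8 : ∀ v, 1 ≤ v → v ≤ 4559 → fs1 v = true := slots_step fs1 4029 530 4559 s1u7 s1c8 rfl
theorem s1u9 : ∀ v, 1 ≤ v → v ≤ 5055 → fs1 v = true := slots_step fs1 4559 496 5055 s1u8 s1c9 rfl
theorem s1u10 : ∀ v, 1 ≤ v → v ≤ 5533 → fs1 v = true := slots_step fs1 5055 478 5533 s1u9 s1c10 rfl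
theorem s1u11 : ∀ v, 1 ≤ v → v ≤ 6006 → fs1 v = true := slots_step fs1 5533 473 6006 s1u10 s1c11 rfl
theorem s1u12 : ∀ v, 1 ≤ v → v ≤ 6470 → fs1 v = true := slots_step fs1 6006 464 6470 s1u11 s1c12 rfl
theorem s1u13 : ∀ v, 1 ≤ v → v ≤ 6944 → fs1 v = true := slots_step fs1 6470 474 6944 s1u12 s1c13 rfl
theorem s1u14 : ∀ v, 1 ≤ v → v ≤ 7446 → fs1 v = true := slots_step fs1 6944 502 7446 s1u13 s1c14 rfl
theorem s1u15 : ∀ v, 1 ≤ v → v ≤ 7933 → fs1 v = true := slots_step fs1 7446 487 7933 s1u14 s1c15 rfl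
theorem s1u16 : ∀ v, 1 ≤ v → v ≤ 8442 → fs1 v = true := slots_step fs1 7933 509 8442 s1u15 s1c16 rfl
theorem s1u17 : ∀ v, 1 ≤ v → v ≤ 8925 → fs1 v = true := slots_step fs1 8442 483 8925 s1u16 s1c17 rfl
theorem s1u18 : ∀ v, 1 ≤ v → v ≤ 9409 → fs1 v = true := slots_step fs1 8925 484 9409 s1u17 s1c18 rfl
theorem s1u19 : ∀ v, 1 ≤ v → v ≤ 9937 → fs1 v = true := slots_step fs1 9409 528 9937 s1u18 s1c19 rfl
theorem s1u20 : ∀ v, 1 ≤ v → v ≤ 10448 → fs1 v = true := slots_step fs1 9937 511 10448 s1u19 s1c20 rfl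
theorem s1u21 : ∀ v, 1 ≤ v → v ≤ 10955 → fs1 v = true := slots_step fs1 10448 507 10955 s1u20 s1c21 rfl
theorem s1u22 : ∀ v, 1 ≤ v → v ≤ 11393 → fs1 v = true := slots_step fs1 10955 438 11393 s1u21 s1c22 rfl
theorem s1u23 : ∀ v, 1 ≤ v → v ≤ 11832 → fs1 v = true := slots_step fs1 11393 439 11832 s1u22 s1c23 rfl
theorem s1u24 : ∀ v, 1 ≤ v → v ≤ 12274 → fs1 v = true := slots_step fs1 11832 442 12274 s1u23 s1c24 rfl
theorem s1u25 : ∀ v, 1 ≤ v → v ≤ 12772 → fs1 v = true := slots_step fs1 12274 498 12772 s1u24 s1c25 rfl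
theorem s1u26 : ∀ v, 1 ≤ v → v ≤ 13236 → fs1 v = true := slots_step fs1 12772 464 13236 s1u25 s1c26 rfl
theorem s1u27 : ∀ v, 1 ≤ v → v ≤ 13679 → fs1 v = true := slots_step fs1 13236 443 13679 s1u26 s1c27 rfl
theorem s1u28 : ∀ v, 1 ≤ v → v ≤ 14129 → fs1 v = true := slots_step fs1 13679 450 14129 s1u27 s1c28 rfl
theorem s1u29 : ∀ v, 1 ≤ v → v ≤ 14585 → fs1 v = true := slots_step fs1 14129 456 14585 s1u28 s1c29 rfl
theorem s1u30 : ∀ v, 1 ≤ v → v ≤ 15090 → fs1 v = true := slots_step fs1 14585 505 15090 s1u29 s1c30 rfl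
theorem s1u31 : ∀ v, 1 ≤ v → v ≤ 15637 → fs1 v = true := slots_step fs1 15090 547 15637 s1u30 s1c31 rfl
theorem s1u32 : ∀ v, 1 ≤ v → v ≤ 16173 → fs1 v = true := slots_step fs1 15637 536 16173 s1u31 s1c32 rfl
theorem s1u33 : ∀ v, 1 ≤ v → v ≤ 16610 → fs1 v = true := slots_step fs1 16173 437 16610 s1u32 s1c33 rfl
theorem s1u34 : ∀ v, 1 ≤ v → v ≤ 17067 → fs1 v = true := slots_step fs1 16610 457 17067 s1u33 s1c34 rfl
theorem s1u35 : ∀ v, 1 ≤ v → v ≤ 17545 → fs1 v = true := slots_step fs1 17067 478 17545 s1u34 s1c35 rfl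
theorem s1u36 : ∀ v, 1 ≤ v → v ≤ 18048 → fs1 v = true := slots_step fs1 17545 503 18048 s1u35 s1c36 rfl
theorem s1u37 : ∀ v, 1 ≤ v → v ≤ 18583 → fs1 v = true := slots_step fs1 18048 535 18583 s1u36 s1c37 rfl
theorem s1u38 : ∀ v, 1 ≤ v → v ≤ 19071 → fs1 v = true := slots_step fs1 18583 488 19071 s1u37 s1c38 rfl
theorem s1u39 : ∀ v, 1 ≤ v → v ≤ 19553 → fs1 v = true := slots_step fs1 19071 482 19553 s1u38 s1c39 rfl
theorem s1u40 : ∀ v, 1 ≤ v → v ≤ 20062 → fs1 v = true := slots_step fs1 19553 509 20062 s1u39 s1c40 rfl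
theorem s1u41 : ∀ v, 1 ≤ v → v ≤ 20544 → fs1 v = true := slots_step fs1 20062 482 20544 s1u40 s1c41 rfl
theorem s1u42 : ∀ v, 1 ≤ v → v ≤ 21060 → fs1 v = true := slots_step fs1 20544 516 21060 s1u41 s1c42 rfl
theorem s1u43 : ∀ v, 1 ≤ v → v ≤ 21563 → fs1 v = true := slots_step fs1 21060 503 21563 s1u42 s1c43 rfl
theorem s1u44 : ∀ v, 1 ≤ v → v ≤ 22073 → fs1 v = true := slots_step fs1 21563 510 22073 s1u43 s1c44 rfl
theorem s1u45 : ∀ v, 1 ≤ v → v ≤ 22567 → fs1 v = true := slots_step fs1 22073 494 22567 s1u44 s1c45 rfl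
theorem s1u46 : ∀ v, 1 ≤ v → v ≤ 23091 → fs1 v = true := slots_step fs1 22567 524 23091 s1u45 s1c46 rfl
theorem s1u47 : ∀ v, 1 ≤ v → v ≤ 23538 → fs1 v = true := slots_step fs1 23091 447 23538 s1u46 s1c47 rfl
theorem s1u48 : ∀ v, 1 ≤ v → v ≤ 23982 → fs1 v = true := slots_step fs1 23538 444 23982 s1u47 s1c48 rfl
theorem s1u49 : ∀ v, 1 ≤ v → v ≤ 24417 → fs1 v = true := slots_step fs1 23982 435 24417 s1u48 s1c49 rfl
theorem s1u50 : ∀ v, 1 ≤ v → v ≤ 24850 → fs1 v = true := slots_step fs1 24417 433 24850 s1u49 s1c50 rfl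
theorem s1u51 : ∀ v, 1 ≤ v → v ≤ 25300 → fs1 v = true := slots_step fs1 24850 450 25300 s1u50 s1c51 rfl
theorem s1u52 : ∀ v, 1 ≤ v → v ≤ 25769 → fs1 v = true := slots_step fs1 25300 469 25769 s1u51 s1c52 rfl
theorem s1u53 : ∀ v, 1 ≤ v → v ≤ 26229 → fs1 v = true := slots_step fs1 25769 460 26229 s1u52 s1c53 rfl
theorem s1u54 : ∀ v, 1 ≤ v → v ≤ 26710 → fs1 v = true := slots_step fs1 26229 481 26710 s1u53 s1c54 rfl
theorem s1u55 : ∀ v, 1 ≤ v → v ≤ 27211 → fs1 v = true := slots_step fs1 26710 501 27211 s1u54 s1c55 rfl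
theorem s1u56 : ∀ v, 1 ≤ v → v ≤ 27676 → fs1 v = true := slots_step fs1 27211 465 27676 s1u55 s1c56 rfl
theorem s1u57 : ∀ v, 1 ≤ v → v ≤ 28141 → fs1 v = true := slots_step fs1 27676 465 28141 s1u56 s1c57 rfl
theorem s1u58 : ∀ v, 1 ≤ v → v ≤ 28596 → fs1 v = true := slots_step fs1 28141 455 28596 s1u57 s1c58 rfl
theorem s1u59 : ∀ v, 1 ≤ v → v ≤ 29054 → fs1 v = true := slots_step fs1 28596 458 29054 s1u58 s1c59 rfl
theorem s1u60 : ∀ v, 1 ≤ v → v ≤ 29512 → fs1 v = true := slots_step fs1 29054 458 29512 s1u59 s1c60 rfl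
theorem s1u61 : ∀ v, 1 ≤ v → v ≤ 29968 → fs1 v = true := slots_step fs1 29512 456 29968 s1u60 s1c61 rfl
theorem s1u62 : ∀ v, 1 ≤ v → v ≤ 30457 → fs1 v = true := slots_step fs1 29968 489 30457 s1u61 s1c62 rfl
theorem s1u63 : ∀ v, 1 ≤ v → v ≤ 30982 → fs1 v = true := slots_step fs1 30457 525 30982 s1u62 s1c63 rfl
theorem s1u64 : ∀ v, 1 ≤ v → v ≤ 31461 → fs1 v = true := slots_step fs1 30982 479 31461 s1u63 s1c64 rfl
theorem s1u65 : ∀ v, 1 ≤ v → v ≤ 31927 → fs1 v = true := slots_step fs1 31461 466 31927 s1u64 s1c65 rfl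
theorem s1u66 : ∀ v, 1 ≤ v → v ≤ 32411 → fs1 v = true := slots_step fs1 31927 484 32411 s1u65 s1c66 rfl
theorem s1u67 : ∀ v, 1 ≤ v → v ≤ 32898 → fs1 v = true := slots_step fs1 32411 487 32898 s1u66 s1c67 rfl
theorem s1u68 : ∀ v, 1 ≤ v → v ≤ 33413 → fs1 v = true := slots_step fs1 32898 515 33413 s1u67 s1c68 rfl
theorem s1u69 : ∀ v, 1 ≤ v → v ≤ 33864 → fs1 v = true := slots_step fs1 33413 451 33864 s1u68 s1c69 rfl
theorem s1u70 : ∀ v, 1 ≤ v → v ≤ 34346 → fs1 v = true := slots_step fs1 33864 482 34346 s1u69 s1c70 rfl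
theorem s1u71 : ∀ v, 1 ≤ v → v ≤ 34806 → fs1 v = true := slots_step fs1 34346 460 34806 s1u70 s1c71 rfl
theorem s1u72 : ∀ v, 1 ≤ v → v ≤ 35307 → fs1 v = true := slots_step fs1 34806 501 35307 s1u71 s1c72 rfl
theorem s1u73 : ∀ v, 1 ≤ v → v ≤ 35762 → fs1 v = true := slots_step fs1 35307 455 35762 s1u72 s1c73 rfl
theorem s1u74 : ∀ v, 1 ≤ v → v ≤ 36260 → fs1 v = true := slots_step fs1 35762 498 36260 s1u73 s1c74 rfl
theorem s1u75 : ∀ v, 1 ≤ v → v ≤ 36758 → fs1 v = true := slots_step fs1 36260 498 36758 s1u74 s1c75 rfl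
theorem s1u76 : ∀ v, 1 ≤ v → v ≤ 37271 → fs1 v = true := slots_step fs1 36758 513 37271 s1u75 s1c76 rfl
theorem s1u77 : ∀ v, 1 ≤ v → v ≤ 37791 → fs1 v = true := slots_step fs1 37271 520 37791 s1u76 s1c77 rfl
theorem s1u78 : ∀ v, 1 ≤ v → v ≤ 38317 → fs1 v = true := slots_step fs1 37791 526 38317 s1u77 s1c78 rfl
theorem s1u79 : ∀ v, 1 ≤ v → v ≤ 38842 → fs1 v = true := slots_step fs1 38317 525 38842 s1u78 s1c79 rfl
theorem s1u80 : ∀ v, 1 ≤ v → v ≤ 39357 → fs1 v = true := slots_step fs1 38842 515 39357 s1u79 s1c80 rfl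
theorem s1u81 : ∀ v, 1 ≤ v → v ≤ 39844 → fs1 v = true := slots_step fs1 39357 487 39844 s1u80 s1c81 rfl
theorem s1u82 : ∀ v, 1 ≤ v → v ≤ 40378 → fs1 v = true := slots_step fs1 39844 534 40378 s1u81 s1c82 rfl
theorem s1u83 : ∀ v, 1 ≤ v → v ≤ 40831 → fs1 v = true := slots_step fs1 40378 453 40831 s1u82 s1c83 rfl
theorem s1u84 : ∀ v, 1 ≤ v → v ≤ 41277 → fs1 v = true := slots_step fs1 40831 446 41277 s1u83 s1c84 rfl
theorem s1u85 : ∀ v, 1 ≤ v → v ≤ 41754 → fs1 v = true := slots_step fs1 41277 477 41754 s1u84 s1c85 rfl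
theorem s1u86 : ∀ v, 1 ≤ v → v ≤ 42247 → fs1 v = true := slots_step fs1 41754 493 42247 s1u85 s1c86 rfl
theorem s1u87 : ∀ v, 1 ≤ v → v ≤ 42725 → fs1 v = true := slots_step fs1 42247 478 42725 s1u86 s1c87 rfl
theorem s1u88 : ∀ v, 1 ≤ v → v ≤ 43190 → fs1 v = true := slots_step fs1 42725 465 43190 s1u87 s1c88 rfl
theorem s1u89 : ∀ v, 1 ≤ v → v ≤ 43694 → fs1 v = true := slots_step fs1 43190 504 43694 s1u88 s1c89 rfl
theorem s1u90 : ∀ v, 1 ≤ v → v ≤ 44160 → fs1 v = true := slots_step fs1 43694 466 44160 s1u89 s1c90 rfl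
theorem s1u91 : ∀ v, 1 ≤ v → v ≤ 44633 → fs1 v = true := slots_step fs1 44160 473 44633 s1u90 s1c91 rfl
theorem s1u92 : ∀ v, 1 ≤ v → v ≤ 45120 → fs1 v = true := slots_step fs1 44633 487 45120 s1u91 s1c92 rfl
theorem s1u93 : ∀ v, 1 ≤ v → v ≤ 45623 → fs1 v = true := slots_step fs1 45120 503 45623 s1u92 s1c93 rfl
theorem s1u94 : ∀ v, 1 ≤ v → v ≤ 46094 → fs1 v = true := slots_step fs1 45623 471 46094 s1u93 s1c94 rfl
theorem s1u95 : ∀ v, 1 ≤ v → v ≤ 46597 → fs1 v = true := slots_step fs1 46094 503 46597 s1u94 s1c95 rfl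
theorem s1u96 : ∀ v, 1 ≤ v → v ≤ 47075 → fs1 v = true := slots_step fs1 46597 478 47075 s1u95 s1c96 rfl
theorem s1u97 : ∀ v, 1 ≤ v → v ≤ 47505 → fs1 v = true := slots_step fs1 47075 430 47505 s1u96 s1c97 rfl
theorem s1u98 : ∀ v, 1 ≤ v → v ≤ 47955 → fs1 v = true := slots_step fs1 47505 450 47955 s1u97 s1c98 rfl
theorem s1u99 : ∀ v, 1 ≤ v → v ≤ 48414 → fs1 v = true := slots_step fs1 47955 459 48414 s1u98 s1c99 rfl
theorem s1u100 : ∀ v, 1 ≤ v → v ≤ 48931 → fs1 v = true := slots_step fs1 48414 517 48931 s1u99 s1c100 rfl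
theorem s1u101 : ∀ v, 1 ≤ v → v ≤ 49386 → fs1 v = true := slots_step fs1 48931 455 49386 s1u100 s1c101 rfl
theorem s1u102 : ∀ v, 1 ≤ v → v ≤ 49842 → fs1 v = true := slots_step fs1 49386 456 49842 s1u101 s1c102 rfl
theorem s1u103 : ∀ v, 1 ≤ v → v ≤ 50342 → fs1 v = true := slots_step fs1 49842 500 50342 s1u102 s1c103 rfl
theorem s1u104 : ∀ v, 1 ≤ v → v ≤ 50781 → fs1 v = true := slots_step fs1 50342 439 50781 s1u103 s1c104 rfl
theorem s1u105 : ∀ v, 1 ≤ v → v ≤ 51256 → fs1 v = true := slots_step fs1 50781 475 51256 s1u104 s1c105 rfl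
theorem s1u106 : ∀ v, 1 ≤ v → v ≤ 51755 → fs1 v = true := slots_step fs1 51256 499 51755 s1u105 s1c106 rfl
theorem s1u107 : ∀ v, 1 ≤ v → v ≤ 52246 → fs1 v = true := slots_step fs1 51755 491 52246 s1u106 s1c107 rfl
theorem s1u108 : ∀ v, 1 ≤ v → v ≤ 52719 → fs1 v = true := slots_step fs1 52246 473 52719 s1u107 s1c108 rfl
theorem s1u109 : ∀ v, 1 ≤ v → v ≤ 53208 → fs1 v = true := slots_step fs1 52719 489 53208 s1u108 s1c109 rfl
theorem s1u110 : ∀ v, 1 ≤ v → v ≤ 53691 → fs1 v = true := slots_step fs1 53208 483 53691 s1u109 s1c110 rfl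
theorem s1u111 : ∀ v, 1 ≤ v → v ≤ 54189 → fs1 v = true := slots_step fs1 53691 498 54189 s1u110 s1c111 rfl
theorem s1u112 : ∀ v, 1 ≤ v → v ≤ 54719 → fs1 v = true := slots_step fs1 54189 530 54719 s1u111 s1c112 rfl
theorem s1u113 : ∀ v, 1 ≤ v → v ≤ 55239 → fs1 v = true := slots_step fs1 54719 520 55239 s1u112 s1c113 rfl
theorem s1u114 : ∀ v, 1 ≤ v → v ≤ 55779 → fs1 v = true := slots_step fs1 55239 540 55779 s1u113 s1c114 rfl
theorem s1u115 : ∀ v, 1 ≤ v → v ≤ 56286 → fs1 v = true := slots_step fs1 55779 507 56286 s1u114 s1c115 rfl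
theorem s1u116 : ∀ v, 1 ≤ v → v ≤ 56799 → fs1 v = true := slots_step fs1 56286 513 56799 s1u115 s1c116 rfl
theorem s1u117 : ∀ v, 1 ≤ v → v ≤ 57265 → fs1 v = true := slots_step fs1 56799 466 57265 s1u116 s1c117 rfl
theorem s1u118 : ∀ v, 1 ≤ v → v ≤ 57744 → fs1 v = true := slots_step fs1 57265 479 57744 s1u117 s1c118 rfl
theorem s1u119 : ∀ v, 1 ≤ v → v ≤ 58220 → fs1 v = true := slots_step fs1 57744 476 58220 s1u118 s1c119 rfl
theorem s1u120 : ∀ v, 1 ≤ v → v ≤ 58670 → fs1 v = true := slots_step fs1 58220 450 58670 s1u119 s1c120 rfl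
theorem s1u121 : ∀ v, 1 ≤ v → v ≤ 59149 → fs1 v = true := slots_step fs1 58670 479 59149 s1u120 s1c121 rfl
theorem s1u122 : ∀ v, 1 ≤ v → v ≤ 59605 → fs1 v = true := slots_step fs1 59149 456 59605 s1u121 s1c122 rfl
theorem s1u123 : ∀ v, 1 ≤ v → v ≤ 60096 → fs1 v = true := slots_step fs1 59605 491 60096 s1u122 s1c123 rfl
theorem s1u124 : ∀ v, 1 ≤ v → v ≤ 60543 → fs1 v = true := slots_step fs1 60096 447 60543 s1u123 s1c124 rfl
theorem s1u125 : ∀ v, 1 ≤ v → v ≤ 61000 → fs1 v = true := slots_step fs1 60543 457 61000 s1u124 s1c125 rfl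
theorem s1u126 : ∀ v, 1 ≤ v → v ≤ 61476 → fs1 v = true := slots_step fs1 61000 476 61476 s1u125 s1c126 rfl
theorem s1u127 : ∀ v, 1 ≤ v → v ≤ 61944 → fs1 v = true := slots_step fs1 61476 468 61944 s1u126 s1c127 rfl
theorem s1u128 : ∀ v, 1 ≤ v → v ≤ 62434 → fs1 v = true := slots_step fs1 61944 490 62434 s1u127 s1c128 rfl
theorem s1u129 : ∀ v, 1 ≤ v → v ≤ 62966 → fs1 v = true := slots_step fs1 62434 532 62966 s1u128 s1c129 rfl
theorem s1u130 : ∀ v, 1 ≤ v → v ≤ 63483 → fs1 v = true := slots_step fs1 62966 517 63483 s1u129 s1c130 rfl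
theorem s1u131 : ∀ v, 1 ≤ v → v ≤ 64032 → fs1 v = true := slots_step fs1 63483 549 64032 s1u130 s1c131 rfl
theorem s1u132 : ∀ v, 1 ≤ v → v ≤ 64628 → fs1 v = true := slots_step fs1 64032 596 64628 s1u131 s1c132 rfl
theorem s1u133 : ∀ v, 1 ≤ v → v ≤ 65161 → fs1 v = true := slots_step fs1 64628 533 65161 s1u132 s1c133 rfl
theorem s1u134 : ∀ v, 1 ≤ v → v ≤ 65669 → fs1 v = true := slots_step fs1 65161 508 65669 s1u133 s1c134 rfl
theorem s1u135 : ∀ v, 1 ≤ v → v ≤ 66152 → fs1 v = true := slots_step fs1 65669 483 66152 s1u134 s1c135 rfl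
theorem s1u136 : ∀ v, 1 ≤ v → v ≤ 66621 → fs1 v = true := slots_step fs1 66152 469 66621 s1u135 s1c136 rfl
theorem s1u137 : ∀ v, 1 ≤ v → v ≤ 67129 → fs1 v = true := slots_step fs1 66621 508 67129 s1u136 s1c137 rfl
theorem s1u138 : ∀ v, 1 ≤ v → v ≤ 67585 → fs1 v = true := slots_step fs1 67129 456 67585 s1u137 s1c138 rfl
theorem s1u139 : ∀ v, 1 ≤ v → v ≤ 68076 → fs1 v = true := slots_step fs1 67585 491 68076 s1u138 s1c139 rfl
theorem s1u140 : ∀ v, 1 ≤ v → v ≤ 68561 → fs1 v = true := slots_step fs1 68076 485 68561 s1u139 s1c140 rfl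
theorem s1u141 : ∀ v, 1 ≤ v → v ≤ 69048 → fs1 v = true := slots_step fs1 68561 487 69048 s1u140 s1c141 rfl
theorem s1u142 : ∀ v, 1 ≤ v → v ≤ 69580 → fs1 v = true := slots_step fs1 69048 532 69580 s1u141 s1c142 rfl
theorem s1u143 : ∀ v, 1 ≤ v → v ≤ 70104 → fs1 v = true := slots_step fs1 69580 524 70104 s1u142 s1c143 rfl
theorem s1u144 : ∀ v, 1 ≤ v → v ≤ 70638 → fs1 v = true := slots_step fs1 70104 534 70638 s1u143 s1c144 rfl
theorem s1u145 : ∀ v, 1 ≤ v → v ≤ 71193 → fs1 v = true := slots_step fs1 70638 555 71193 s1u144 s1c145 rfl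
theorem s1u146 : ∀ v, 1 ≤ v → v ≤ 71652 → fs1 v = true := slots_step fs1 71193 459 71652 s1u145 s1c146 rfl
theorem s1u147 : ∀ v, 1 ≤ v → v ≤ 72167 → fs1 v = true := slots_step fs1 71652 515 72167 s1u146 s1c147 rfl
theorem s1u148 : ∀ v, 1 ≤ v → v ≤ 72686 → fs1 v = true := slots_step fs1 72167 519 72686 s1u147 s1c148 rfl
theorem s1u149 : ∀ v, 1 ≤ v → v ≤ 73203 → fs1 v = true := slots_step fs1 72686 517 73203 s1u148 s1c149 rfl
theorem s1u150 : ∀ v, 1 ≤ v → v ≤ 73663 → fs1 v = true := slots_step fs1 73203 460 73663 s1u149 s1c150 rfl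
theorem s1u151 : ∀ v, 1 ≤ v → v ≤ 74185 → fs1 v = true := slots_step fs1 73663 522 74185 s1u150 s1c151 rfl
theorem s1u152 : ∀ v, 1 ≤ v → v ≤ 74725 → fs1 v = true := slots_step fs1 74185 540 74725 s1u151 s1c152 rfl
theorem s1u153 : ∀ v, 1 ≤ v → v ≤ 75249 → fs1 v = true := slots_step fs1 74725 524 75249 s1u152 s1c153 rfl
theorem s1u154 : ∀ v, 1 ≤ v → v ≤ 75743 → fs1 v = true := slots_step fs1 75249 494 75743 s1u153 s1c154 rfl
theorem s1u155 : ∀ v, 1 ≤ v → v ≤ 76225 → fs1 v = true := slots_step fs1 75743 482 76225 s1u154 s1c155 rfl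
theorem s1u156 : ∀ v, 1 ≤ v → v ≤ 76740 → fs1 v = true := slots_step fs1 76225 515 76740 s1u155 s1c156 rfl
theorem s1u157 : ∀ v, 1 ≤ v → v ≤ 77241 → fs1 v = true := slots_step fs1 76740 501 77241 s1u156 s1c157 rfl
theorem s1u158 : ∀ v, 1 ≤ v → v ≤ 77728 → fs1 v = true := slots_step fs1 77241 487 77728 s1u157 s1c158 rfl
theorem s1u159 : ∀ v, 1 ≤ v → v ≤ 78230 → fs1 v = true := slots_step fs1 77728 502 78230 s1u158 s1c159 rfl
theorem s1u160 : ∀ v, 1 ≤ v → v ≤ 78747 → fs1 v = true := slots_step fs1 78230 517 78747 s1u159 s1c160 rfl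
theorem s1u161 : ∀ v, 1 ≤ v → v ≤ 79261 → fs1 v = true := slots_step fs1 78747 514 79261 s1u160 s1c161 rfl
theorem s1u162 : ∀ v, 1 ≤ v → v ≤ 79776 → fs1 v = true := slots_step fs1 79261 515 79776 s1u161 s1c162 rfl
theorem s1u163 : ∀ v, 1 ≤ v → v ≤ 80302 → fs1 v = true := slots_step fs1 79776 526 80302 s1u162 s1c163 rfl
theorem s1u164 : ∀ v, 1 ≤ v → v ≤ 80818 → fs1 v = true := slots_step fs1 80302 516 80818 s1u163 s1c164 rfl
theorem s1u165 : ∀ v, 1 ≤ v → v ≤ 81331 → fs1 v = true := slots_step fs1 80818 513 81331 s1u164 s1c165 rfl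
theorem s1u166 : ∀ v, 1 ≤ v → v ≤ 81878 → fs1 v = true := slots_step fs1 81331 547 81878 s1u165 s1c166 rfl
theorem s1u167 : ∀ v, 1 ≤ v → v ≤ 82403 → fs1 v = true := slots_step fs1 81878 525 82403 s1u166 s1c167 rfl
theorem s1u168 : ∀ v, 1 ≤ v → v ≤ 82924 → fs1 v = true := slots_step fs1 82403 521 82924 s1u167 s1c168 rfl
theorem s1u169 : ∀ v, 1 ≤ v → v ≤ 83426 → fs1 v = true := slots_step fs1 82924 502 83426 s1u168 s1c169 rfl
theorem s1u170 : ∀ v, 1 ≤ v → v ≤ 83931 → fs1 v = true := slots_step fs1 83426 505 83931 s1u169 s1c170 rfl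
theorem s1u171 : ∀ v, 1 ≤ v → v ≤ 84428 → fs1 v = true := slots_step fs1 83931 497 84428 s1u170 s1c171 rfl
theorem s1u172 : ∀ v, 1 ≤ v → v ≤ 84887 → fs1 v = true := slots_step fs1 84428 459 84887 s1u171 s1c172 rfl
theorem s1u173 : ∀ v, 1 ≤ v → v ≤ 85347 → fs1 v = true := slots_step fs1 84887 460 85347 s1u172 s1c173 rfl
theorem s1u174 : ∀ v, 1 ≤ v → v ≤ 85774 → fs1 v = true := slots_step fs1 85347 427 85774 s1u173 s1c174 rfl
theorem s1u175 : ∀ v, 1 ≤ v → v ≤ 86222 → fs1 v = true := slots_step fs1 85774 448 86222 s1u174 s1c175 rfl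
theorem s1u176 : ∀ v, 1 ≤ v → v ≤ 86723 → fs1 v = true := slots_step fs1 86222 501 86723 s1u175 s1c176 rfl
theorem s1u177 : ∀ v, 1 ≤ v → v ≤ 87205 → fs1 v = true := slots_step fs1 86723 482 87205 s1u176 s1c177 rfl
theorem s1u178 : ∀ v, 1 ≤ v → v ≤ 87639 → fs1 v = true := slots_step fs1 87205 434 87639 s1u177 s1c178 rfl
theorem s1u179 : ∀ v, 1 ≤ v → v ≤ 88130 → fs1 v = true := slots_step fs1 87639 491 88130 s1u178 s1c179 rfl
theorem s1u180 : ∀ v, 1 ≤ v → v ≤ 88580 → fs1 v = true := slots_step fs1 88130 450 88580 s1u179 s1c180 rfl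
theorem s1u181 : ∀ v, 1 ≤ v → v ≤ 89033 → fs1 v = true := slots_step fs1 88580 453 89033 s1u180 s1c181 rfl
theorem s1u182 : ∀ v, 1 ≤ v → v ≤ 89513 → fs1 v = true := slots_step fs1 89033 480 89513 s1u181 s1c182 rfl
theorem s1u183 : ∀ v, 1 ≤ v → v ≤ 89999 → fs1 v = true := slots_step fs1 89513 486 89999 s1u182 s1c183 rfl
theorem s1u184 : ∀ v, 1 ≤ v → v ≤ 90464 → fs1 v = true := slots_step fs1 89999 465 90464 s1u183 s1c184 rfl
theorem s1u185 : ∀ v, 1 ≤ v → v ≤ 90911 → fs1 v = true := slots_step fs1 90464 447 90911 s1u184 s1c185 rfl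
theorem s1u186 : ∀ v, 1 ≤ v → v ≤ 91386 → fs1 v = true := slots_step fs1 90911 475 91386 s1u185 s1c186 rfl
theorem s1u187 : ∀ v, 1 ≤ v → v ≤ 91884 → fs1 v = true := slots_step fs1 91386 498 91884 s1u186 s1c187 rfl
theorem s1u188 : ∀ v, 1 ≤ v → v ≤ 92387 → fs1 v = true := slots_step fs1 91884 503 92387 s1u187 s1c188 rfl
theorem s1u189 : ∀ v, 1 ≤ v → v ≤ 92861 → fs1 v = true := slots_step fs1 92387 474 92861 s1u188 s1c189 rfl
theorem s1u190 : ∀ v, 1 ≤ v → v ≤ 93366 → fs1 v = true := slots_step fs1 92861 505 93366 s1u189 s1c190 rfl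
theorem s1u191 : ∀ v, 1 ≤ v → v ≤ 93857 → fs1 v = true := slots_step fs1 93366 491 93857 s1u190 s1c191 rfl
theorem s1u192 : ∀ v, 1 ≤ v → v ≤ 94402 → fs1 v = true := slots_step fs1 93857 545 94402 s1u191 s1c192 rfl
theorem s1u193 : ∀ v, 1 ≤ v → v ≤ 94866 → fs1 v = true := slots_step fs1 94402 464 94866 s1u192 s1c193 rfl
theorem s1u194 : ∀ v, 1 ≤ v → v ≤ 95381 → fs1 v = true := slots_step fs1 94866 515 95381 s1u193 s1c194 rfl
theorem s1u195 : ∀ v, 1 ≤ v → v ≤ 95845 → fs1 v = true := slots_step fs1 95381 464 95845 s1u194 s1c195 rfl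
theorem s1u196 : ∀ v, 1 ≤ v → v ≤ 96299 → fs1 v = true := slots_step fs1 95845 454 96299 s1u195 s1c196 rfl
theorem s1u197 : ∀ v, 1 ≤ v → v ≤ 96737 → fs1 v = true := slots_step fs1 96299 438 96737 s1u196 s1c197 rfl
theorem s1u198 : ∀ v, 1 ≤ v → v ≤ 97195 → fs1 v = true := slots_step fs1 96737 458 97195 s1u197 s1c198 rfl
theorem s1u199 : ∀ v, 1 ≤ v → v ≤ 97661 → fs1 v = true := slots_step fs1 97195 466 97661 s1u198 s1c199 rfl
theorem s1u200 : ∀ v, 1 ≤ v → v ≤ 98102 → fs1 v = true := slots_step fs1 97661 441 98102 s1u199 s1c200 rfl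
theorem s1u201 : ∀ v, 1 ≤ v → v ≤ 98536 → fs1 v = true := slots_step fs1 98102 434 98536 s1u200 s1c201 rfl
theorem s1u202 : ∀ v, 1 ≤ v → v ≤ 98959 → fs1 v = true := slots_step fs1 98536 423 98959 s1u201 s1c202 rfl
theorem s1u203 : ∀ v, 1 ≤ v → v ≤ 99408 → fs1 v = true := slots_step fs1 98959 449 99408 s1u202 s1c203 rfl
theorem s1u204 : ∀ v, 1 ≤ v → v ≤ 99867 → fs1 v = true := slots_step fs1 99408 459 99867 s1u203 s1c204 rfl
theorem s1u205 : ∀ v, 1 ≤ v → v ≤ 100368 → fs1 v = true := slots_step fs1 99867 501 100368 s1u204 s1c205 rfl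
theorem s1u206 : ∀ v, 1 ≤ v → v ≤ 100909 → fs1 v = true := slots_step fs1 100368 541 100909 s1u205 s1c206 rfl
theorem s1u207 : ∀ v, 1 ≤ v → v ≤ 101337 → fs1 v = true := slots_step fs1 100909 428 101337 s1u206 s1c207 rfl
theorem s1u208 : ∀ v, 1 ≤ v → v ≤ 101756 → fs1 v = true := slots_step fs1 101337 419 101756 s1u207 s1c208 rfl
theorem s1u209 : ∀ v, 1 ≤ v → v ≤ 102176 → fs1 v = true := slots_step fs1 101756 420 102176 s1u208 s1c209 rfl
theorem s1u210 : ∀ v, 1 ≤ v → v ≤ 102596 → fs1 v = true := slots_step fs1 102176 420 102596 s1u209 s1c210 rfl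
theorem s1u211 : ∀ v, 1 ≤ v → v ≤ 103037 → fs1 v = true := slots_step fs1 102596 441 103037 s1u210 s1c211 rfl
theorem s1u212 : ∀ v, 1 ≤ v → v ≤ 103510 → fs1 v = true := slots_step fs1 103037 473 103510 s1u211 s1c212 rfl
theorem s1u213 : ∀ v, 1 ≤ v → v ≤ 103928 → fs1 v = true := slots_step fs1 103510 418 103928 s1u212 s1c213 rfl
theorem s1u214 : ∀ v, 1 ≤ v → v ≤ 104346 → fs1 v = true := slots_step fs1 103928 418 104346 s1u213 s1c214 rfl
theorem s1u215 : ∀ v, 1 ≤ v → v ≤ 104805 → fs1 v = true := slots_step fs1 104346 459 104805 s1u214 s1c215 rfl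
theorem s1u216 : ∀ v, 1 ≤ v → v ≤ 105252 → fs1 v = true := slots_step fs1 104805 447 105252 s1u215 s1c216 rfl
theorem s1u217 : ∀ v, 1 ≤ v → v ≤ 105727 → fs1 v = true := slots_step fs1 105252 475 105727 s1u216 s1c217 rfl
theorem s1u218 : ∀ v, 1 ≤ v → v ≤ 106157 → fs1 v = true := slots_step fs1 105727 430 106157 s1u217 s1c218 rfl
theorem s1u219 : ∀ v, 1 ≤ v → v ≤ 106629 → fs1 v = true := slots_step fs1 106157 472 106629 s1u218 s1c219 rfl
theorem s1u220 : ∀ v, 1 ≤ v → v ≤ 107141 → fs1 v = true := slots_step fs1 106629 512 107141 s1u219 s1c220 rfl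
theorem s1u221 : ∀ v, 1 ≤ v → v ≤ 107603 → fs1 v = true := slots_step fs1 107141 462 107603 s1u220 s1c221 rfl
theorem s1u222 : ∀ v, 1 ≤ v → v ≤ 108069 → fs1 v = true := slots_step fs1 107603 466 108069 s1u221 s1c222 rfl
theorem s1u223 : ∀ v, 1 ≤ v → v ≤ 108556 → fs1 v = true := slots_step fs1 108069 487 108556 s1u222 s1c223 rfl
theorem s1u224 : ∀ v, 1 ≤ v → v ≤ 109047 → fs1 v = true := slots_step fs1 108556 491 109047 s1u223 s1c224 rfl
theorem s1u225 : ∀ v, 1 ≤ v → v ≤ 109519 → fs1 v = true := slots_step fs1 109047 472 109519 s1u224 s1c225 rfl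
theorem s1u226 : ∀ v, 1 ≤ v → v ≤ 110003 → fs1 v = true := slots_step fs1 109519 484 110003 s1u225 s1c226 rfl
theorem s1u227 : ∀ v, 1 ≤ v → v ≤ 110482 → fs1 v = true := slots_step fs1 110003 479 110482 s1u226 s1c227 rfl
theorem s1u228 : ∀ v, 1 ≤ v → v ≤ 110951 → fs1 v = true := slots_step fs1 110482 469 110951 s1u227 s1c228 rfl
theorem s1u229 : ∀ v, 1 ≤ v → v ≤ 111472 → fs1 v = true := slots_step fs1 110951 521 111472 s1u228 s1c229 rfl
theorem s1u230 : ∀ v, 1 ≤ v → v ≤ 111988 → fs1 v = true := slots_step fs1 111472 516 111988 s1u229 s1c230 rfl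
theorem s1u231 : ∀ v, 1 ≤ v → v ≤ 112442 → fs1 v = true := slots_step fs1 111988 454 112442 s1u230 s1c231 rfl
theorem s1u232 : ∀ v, 1 ≤ v → v ≤ 112921 → fs1 v = true := slots_step fs1 112442 479 112921 s1u231 s1c232 rfl
theorem s1u233 : ∀ v, 1 ≤ v → v ≤ 113424 → fs1 v = true := slots_step fs1 112921 503 113424 s1u232 s1c233 rfl
theorem s1u234 : ∀ v, 1 ≤ v → v ≤ 113892 → fs1 v = true := slots_step fs1 113424 468 113892 s1u233 s1c234 rfl
theorem s1u235 : ∀ v, 1 ≤ v → v ≤ 114354 → fs1 v = true := slots_step fs1 113892 462 114354 s1u234 s1c235 rfl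
theorem s1u236 : ∀ v, 1 ≤ v → v ≤ 114858 → fs1 v = true := slots_step fs1 114354 504 114858 s1u235 s1c236 rfl
theorem s1u237 : ∀ v, 1 ≤ v → v ≤ 115297 → fs1 v = true := slots_step fs1 114858 439 115297 s1u236 s1c237 rfl
theorem s1u238 : ∀ v, 1 ≤ v → v ≤ 115717 → fs1 v = true := slots_step fs1 115297 420 115717 s1u237 s1c238 rfl
theorem s1u239 : ∀ v, 1 ≤ v → v ≤ 116120 → fs1 v = true := slots_step fs1 115717 403 116120 s1u238 s1c239 rfl
theorem s1u240 : ∀ v, 1 ≤ v → v ≤ 116598 → fs1 v = true := slots_step fs1 116120 478 116598 s1u239 s1c240 rfl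
theorem s1u241 : ∀ v, 1 ≤ v → v ≤ 117060 → fs1 v = true := slots_step fs1 116598 462 117060 s1u240 s1c241 rfl
theorem s1u242 : ∀ v, 1 ≤ v → v ≤ 117498 → fs1 v = true := slots_step fs1 117060 438 117498 s1u241 s1c242 rfl
theorem s1u243 : ∀ v, 1 ≤ v → v ≤ 117949 → fs1 v = true := slots_step fs1 117498 451 117949 s1u242 s1c243 rfl
theorem s1u244 : ∀ v, 1 ≤ v → v ≤ 118414 → fs1 v = true := slots_step fs1 117949 465 118414 s1u243 s1c244 rfl
theorem s1u245 : ∀ v, 1 ≤ v → v ≤ 118926 → fs1 v = true := slots_step fs1 118414 512 118926 s1u244 s1c245 rfl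
theorem s1u246 : ∀ v, 1 ≤ v → v ≤ 119445 → fs1 v = true := slots_step fs1 118926 519 119445 s1u245 s1c246 rfl
theorem s1u247 : ∀ v, 1 ≤ v → v ≤ 119888 → fs1 v = true := slots_step fs1 119445 443 119888 s1u246 s1c247 rfl
theorem s1u248 : ∀ v, 1 ≤ v → v ≤ 120347 → fs1 v = true := slots_step fs1 119888 459 120347 s1u247 s1c248 rfl
theorem s1u249 : ∀ v, 1 ≤ v → v ≤ 120805 → fs1 v = true := slots_step fs1 120347 458 120805 s1u248 s1c249 rfl
theorem s1u250 : ∀ v, 1 ≤ v → v ≤ 121252 → fs1 v = true := slots_step fs1 120805 447 121252 s1u249 s1c250 rfl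
theorem s1u251 : ∀ v, 1 ≤ v → v ≤ 121761 → fs1 v = true := slots_step fs1 121252 509 121761 s1u250 s1c251 rfl
theorem s1u252 : ∀ v, 1 ≤ v → v ≤ 122197 → fs1 v = true := slots_step fs1 121761 436 122197 s1u251 s1c252 rfl
theorem s1u253 : ∀ v, 1 ≤ v → v ≤ 122623 → fs1 v = true := slots_step fs1 122197 426 122623 s1u252 s1c253 rfl
theorem s1u254 : ∀ v, 1 ≤ v → v ≤ 123086 → fs1 v = true := slots_step fs1 122623 463 123086 s1u253 s1c254 rfl
theorem s1u255 : ∀ v, 1 ≤ v → v ≤ 123564 → fs1 v = true := slots_step fs1 123086 478 123564 s1u254 s1c255 rfl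
theorem s1u256 : ∀ v, 1 ≤ v → v ≤ 124004 → fs1 v = true := slots_step fs1 123564 440 124004 s1u255 s1c256 rfl
theorem s1u257 : ∀ v, 1 ≤ v → v ≤ 124460 → fs1 v = true := slots_step fs1 124004 456 124460 s1u256 s1c257 rfl
theorem s1u258 : ∀ v, 1 ≤ v → v ≤ 124908 → fs1 v = true := slots_step fs1 124460 448 124908 s1u257 s1c258 rfl
theorem s1u259 : ∀ v, 1 ≤ v → v ≤ 125372 → fs1 v = true := slots_step fs1 124908 464 125372 s1u258 s1c259 rfl
theorem s1u260 : ∀ v, 1 ≤ v → v ≤ 125827 → fs1 v = true := slots_step fs1 125372 455 125827 s1u259 s1c260 rfl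
theorem s1u261 : ∀ v, 1 ≤ v → v ≤ 126266 → fs1 v = true := slots_step fs1 125827 439 126266 s1u260 s1c261 rfl
theorem s1u262 : ∀ v, 1 ≤ v → v ≤ 126755 → fs1 v = true := slots_step fs1 126266 489 126755 s1u261 s1c262 rfl
theorem s1u263 : ∀ v, 1 ≤ v → v ≤ 127289 → fs1 v = true := slots_step fs1 126755 534 127289 s1u262 s1c263 rfl
theorem s1u264 : ∀ v, 1 ≤ v → v ≤ 127834 → fs1 v = true := slots_step fs1 127289 545 127834 s1u263 s1c264 rfl
theorem s1u265 : ∀ v, 1 ≤ v → v ≤ 128295 → fs1 v = true := slots_step fs1 127834 461 128295 s1u264 s1c265 rfl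
theorem s1u266 : ∀ v, 1 ≤ v → v ≤ 128829 → fs1 v = true := slots_step fs1 128295 534 128829 s1u265 s1c266 rfl
theorem s1u267 : ∀ v, 1 ≤ v → v ≤ 129301 → fs1 v = true := slots_step fs1 128829 472 129301 s1u266 s1c267 rfl
theorem s1u268 : ∀ v, 1 ≤ v → v ≤ 129793 → fs1 v = true := slots_step fs1 129301 492 129793 s1u267 s1c268 rfl
theorem s1u269 : ∀ v, 1 ≤ v → v ≤ 130317 → fs1 v = true := slots_step fs1 129793 524 130317 s1u268 s1c269 rfl
theorem s1u270 : ∀ v, 1 ≤ v → v ≤ 130906 → fs1 v = true := slots_step fs1 130317 589 130906 s1u269 s1c270 rfl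
theorem s1u271 : ∀ v, 1 ≤ v → v ≤ 131441 → fs1 v = true := slots_step fs1 130906 535 131441 s1u270 s1c271 rfl
theorem s1u272 : ∀ v, 1 ≤ v → v ≤ 131913 → fs1 v = true := slots_step fs1 131441 472 131913 s1u271 s1c272 rfl
theorem s1u273 : ∀ v, 1 ≤ v → v ≤ 132391 → fs1 v = true := slots_step fs1 131913 478 132391 s1u272 s1c273 rfl
theorem s1u274 : ∀ v, 1 ≤ v → v ≤ 132869 → fs1 v = true := slots_step fs1 132391 478 132869 s1u273 s1c274 rfl
theorem s1u275 : ∀ v, 1 ≤ v → v ≤ 133356 → fs1 v = true := slots_step fs1 132869 487 133356 s1u274 s1c275 rfl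
theorem s1u276 : ∀ v, 1 ≤ v → v ≤ 133838 → fs1 v = true := slots_step fs1 133356 482 133838 s1u275 s1c276 rfl
theorem s1u277 : ∀ v, 1 ≤ v → v ≤ 134328 → fs1 v = true := slots_step fs1 133838 490 134328 s1u276 s1c277 rfl
theorem s1u278 : ∀ v, 1 ≤ v → v ≤ 134812 → fs1 v = true := slots_step fs1 134328 484 134812 s1u277 s1c278 rfl
theorem s1u279 : ∀ v, 1 ≤ v → v ≤ 135346 → fs1 v = true := slots_step fs1 134812 534 135346 s1u278 s1c279 rfl
theorem s1u280 : ∀ v, 1 ≤ v → v ≤ 135819 → fs1 v = true := slots_step fs1 135346 473 135819 s1u279 s1c280 rfl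
theorem s1u281 : ∀ v, 1 ≤ v → v ≤ 136295 → fs1 v = true := slots_step fs1 135819 476 136295 s1u280 s1c281 rfl
theorem s1u282 : ∀ v, 1 ≤ v → v ≤ 136794 → fs1 v = true := slots_step fs1 136295 499 136794 s1u281 s1c282 rfl
theorem s1u283 : ∀ v, 1 ≤ v → v ≤ 137302 → fs1 v = true := slots_step fs1 136794 508 137302 s1u282 s1c283 rfl
theorem s1u284 : ∀ v, 1 ≤ v → v ≤ 137751 → fs1 v = true := slots_step fs1 137302 449 137751 s1u283 s1c284 rfl
theorem s1u285 : ∀ v, 1 ≤ v → v ≤ 138227 → fs1 v = true := slots_step fs1 137751 476 138227 s1u284 s1c285 rfl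
theorem s1u286 : ∀ v, 1 ≤ v → v ≤ 138727 → fs1 v = true := slots_step fs1 138227 500 138727 s1u285 s1c286 rfl
theorem s1u287 : ∀ v, 1 ≤ v → v ≤ 139182 → fs1 v = true := slots_step fs1 138727 455 139182 s1u286 s1c287 rfl
theorem s1u288 : ∀ v, 1 ≤ v → v ≤ 139669 → fs1 v = true := slots_step fs1 139182 487 139669 s1u287 s1c288 rfl
theorem s1u289 : ∀ v, 1 ≤ v → v ≤ 140127 → fs1 v = true := slots_step fs1 139669 458 140127 s1u288 s1c289 rfl
theorem s1u290 : ∀ v, 1 ≤ v → v ≤ 140665 → fs1 v = true := slots_step fs1 140127 538 140665 s1u289 s1c290 rfl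
theorem s1u291 : ∀ v, 1 ≤ v → v ≤ 141167 → fs1 v = true := slots_step fs1 140665 502 141167 s1u290 s1c291 rfl
theorem s1u292 : ∀ v, 1 ≤ v → v ≤ 141625 → fs1 v = true := slots_step fs1 141167 458 141625 s1u291 s1c292 rfl
theorem s1u293 : ∀ v, 1 ≤ v → v ≤ 142125 → fs1 v = true := slots_step fs1 141625 500 142125 s1u292 s1c293 rfl
theorem s1u294 : ∀ v, 1 ≤ v → v ≤ 142624 → fs1 v = true := slots_step fs1 142125 499 142624 s1u293 s1c294 rfl
theorem s1u295 : ∀ v, 1 ≤ v → v ≤ 143153 → fs1 v = true := slots_step fs1 142624 529 143153 s1u294 s1c295 rfl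
theorem s1u296 : ∀ v, 1 ≤ v → v ≤ 143640 → fs1 v = true := slots_step fs1 143153 487 143640 s1u295 s1c296 rfl
theorem s1u297 : ∀ v, 1 ≤ v → v ≤ 144131 → fs1 v = true := slots_step fs1 143640 491 144131 s1u296 s1c297 rfl
theorem s1u298 : ∀ v, 1 ≤ v → v ≤ 144604 → fs1 v = true := slots_step fs1 144131 473 144604 s1u297 s1c298 rfl
theorem s1u299 : ∀ v, 1 ≤ v → v ≤ 145141 → fs1 v = true := slots_step fs1 144604 537 145141 s1u298 s1c299 rfl
theorem s1u300 : ∀ v, 1 ≤ v → v ≤ 145719 → fs1 v = true := slots_step fs1 145141 578 145719 s1u299 s1c300 rfl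
theorem s1u301 : ∀ v, 1 ≤ v → v ≤ 146252 → fs1 v = true := slots_step fs1 145719 533 146252 s1u300 s1c301 rfl
theorem s1u302 : ∀ v, 1 ≤ v → v ≤ 146759 → fs1 v = true := slots_step fs1 146252 507 146759 s1u301 s1c302 rfl
theorem s1u303 : ∀ v, 1 ≤ v → v ≤ 147291 → fs1 v = true := slots_step fs1 146759 532 147291 s1u302 s1c303 rfl
theorem s1u304 : ∀ v, 1 ≤ v → v ≤ 147770 → fs1 v = true := slots_step fs1 147291 479 147770 s1u303 s1c304 rfl
theorem s1u305 : ∀ v, 1 ≤ v → v ≤ 148402 → fs1 v = true := slots_step fs1 147770 632 148402 s1u304 s1c305 rfl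
theorem s1u306 : ∀ v, 1 ≤ v → v ≤ 148906 → fs1 v = true := slots_step fs1 148402 504 148906 s1u305 s1c306 rfl
theorem s1u307 : ∀ v, 1 ≤ v → v ≤ 149443 → fs1 v = true := slots_step fs1 148906 537 149443 s1u306 s1c307 rfl
theorem s1u308 : ∀ v, 1 ≤ v → v ≤ 150010 → fs1 v = true := slots_step fs1 149443 567 150010 s1u307 s1c308 rfl
theorem s1u309 : ∀ v, 1 ≤ v → v ≤ 150493 → fs1 v = true := slots_step fs1 150010 483 150493 s1u308 s1c309 rfl
theorem s1u310 : ∀ v, 1 ≤ v → v ≤ 151062 → fs1 v = true := slots_step fs1 150493 569 151062 s1u309 s1c310 rfl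
theorem s1u311 : ∀ v, 1 ≤ v → v ≤ 151622 → fs1 v = true := slots_step fs1 151062 560 151622 s1u310 s1c311 rfl
theorem s1u312 : ∀ v, 1 ≤ v → v ≤ 152155 → fs1 v = true := slots_step fs1 151622 533 152155 s1u311 s1c312 rfl
theorem s1u313 : ∀ v, 1 ≤ v → v ≤ 152678 → fs1 v = true := slots_step fs1 152155 523 152678 s1u312 s1c313 rfl
theorem s1u314 : ∀ v, 1 ≤ v → v ≤ 153186 → fs1 v = true := slots_step fs1 152678 508 153186 s1u313 s1c314 rfl
theorem s1u315 : ∀ v, 1 ≤ v → v ≤ 153743 → fs1 v = true := slots_step fs1 153186 557 153743 s1u314 s1c315 rfl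
theorem s1u316 : ∀ v, 1 ≤ v → v ≤ 154316 → fs1 v = true := slots_step fs1 153743 573 154316 s1u315 s1c316 rfl
theorem s1u317 : ∀ v, 1 ≤ v → v ≤ 154885 → fs1 v = true := slots_step fs1 154316 569 154885 s1u316 s1c317 rfl
theorem s1u318 : ∀ v, 1 ≤ v → v ≤ 155359 → fs1 v = true := slots_step fs1 154885 474 155359 s1u317 s1c318 rfl
theorem s1u319 : ∀ v, 1 ≤ v → v ≤ 155889 → fs1 v = true := slots_step fs1 155359 530 155889 s1u318 s1c319 rfl
theorem s1u320 : ∀ v, 1 ≤ v → v ≤ 156369 → fs1 v = true := slots_step fs1 155889 480 156369 s1u319 s1c320 rfl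
theorem s1u321 : ∀ v, 1 ≤ v → v ≤ 156904 → fs1 v = true := slots_step fs1 156369 535 156904 s1u320 s1c321 rfl
theorem s1u322 : ∀ v, 1 ≤ v → v ≤ 157398 → fs1 v = true := slots_step fs1 156904 494 157398 s1u321 s1c322 rfl
theorem s1u323 : ∀ v, 1 ≤ v → v ≤ 157958 → fs1 v = true := slots_step fs1 157398 560 157958 s1u322 s1c323 rfl
theorem s1u324 : ∀ v, 1 ≤ v → v ≤ 158583 → fs1 v = true := slots_step fs1 157958 625 158583 s1u323 s1c324 rfl
theorem s1u325 : ∀ v, 1 ≤ v → v ≤ 159083 → fs1 v = true := slots_step fs1 158583 500 159083 s1u324 s1c325 rfl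
theorem s1u326 : ∀ v, 1 ≤ v → v ≤ 159589 → fs1 v = true := slots_step fs1 159083 506 159589 s1u325 s1c326 rfl
theorem s1u327 : ∀ v, 1 ≤ v → v ≤ 160088 → fs1 v = true := slots_step fs1 159589 499 160088 s1u326 s1c327 rfl
theorem s1u328 : ∀ v, 1 ≤ v → v ≤ 160648 → fs1 v = true := slots_step fs1 160088 560 160648 s1u327 s1c328 rfl
theorem s1u329 : ∀ v, 1 ≤ v → v ≤ 161101 → fs1 v = true := slots_step fs1 160648 453 161101 s1u328 s1c329 rfl
theorem s1u330 : ∀ v, 1 ≤ v → v ≤ 161626 → fs1 v = true := slots_step fs1 161101 525 161626 s1u329 s1c330 rfl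
theorem s1u331 : ∀ v, 1 ≤ v → v ≤ 162074 → fs1 v = true := slots_step fs1 161626 448 162074 s1u330 s1c331 rfl
theorem s1u332 : ∀ v, 1 ≤ v → v ≤ 162443 → fs1 v = true := slots_step fs1 162074 369 162443 s1u331 s1c332 rfl
theorem s1u333 : ∀ v, 1 ≤ v → v ≤ 162801 → fs1 v = true := slots_step fs1 162443 358 162801 s1u332 s1c333 rfl
theorem s1u334 : ∀ v, 1 ≤ v → v ≤ 163163 → fs1 v = true := slots_step fs1 162801 362 163163 s1u333 s1c334 rfl
theorem s1u335 : ∀ v, 1 ≤ v → v ≤ 163531 → fs1 v = true := slots_step fs1 163163 368 163531 s1u334 s1c335 rfl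
theorem s1u336 : ∀ v, 1 ≤ v → v ≤ 163888 → fs1 v = true := slots_step fs1 163531 357 163888 s1u335 s1c336 rfl
theorem s1u337 : ∀ v, 1 ≤ v → v ≤ 164243 → fs1 v = true := slots_step fs1 163888 355 164243 s1u336 s1c337 rfl
theorem s1u338 : ∀ v, 1 ≤ v → v ≤ 164587 → fs1 v = true := slots_step fs1 164243 344 164587 s1u337 s1c338 rfl
theorem s1u339 : ∀ v, 1 ≤ v → v ≤ 164959 → fs1 v = true := slots_step fs1 164587 372 164959 s1u338 s1c339 rfl
theorem s1u340 : ∀ v, 1 ≤ v → v ≤ 165334 → fs1 v = true := slots_step fs1 164959 375 165334 s1u339 s1c340 rfl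
theorem s1u341 : ∀ v, 1 ≤ v → v ≤ 165712 → fs1 v = true := slots_step fs1 165334 378 165712 s1u340 s1c341 rfl
theorem s1u342 : ∀ v, 1 ≤ v → v ≤ 166076 → fs1 v = true := slots_step fs1 165712 364 166076 s1u341 s1c342 rfl
theorem s1u343 : ∀ v, 1 ≤ v → v ≤ 166447 → fs1 v = true := slots_step fs1 166076 371 166447 s1u342 s1c343 rfl
theorem s1u344 : ∀ v, 1 ≤ v → v ≤ 166779 → fs1 v = true := slots_step fs1 166447 332 166779 s1u343 s1c344 rfl
theorem s1u345 : ∀ v, 1 ≤ v → v ≤ 167122 → fs1 v = true := slots_step fs1 166779 343 167122 s1u344 s1c345 rfl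
theorem s1u346 : ∀ v, 1 ≤ v → v ≤ 167465 → fs1 v = true := slots_step fs1 167122 343 167465 s1u345 s1c346 rfl
theorem s1u347 : ∀ v, 1 ≤ v → v ≤ 167813 → fs1 v = true := slots_step fs1 167465 348 167813 s1u346 s1c347 rfl
theorem s1u348 : ∀ v, 1 ≤ v → v ≤ 168143 → fs1 v = true := slots_step fs1 167813 330 168143 s1u347 s1c348 rfl
theorem s1u349 : ∀ v, 1 ≤ v → v ≤ 168503 → fs1 v = true := slots_step fs1 168143 360 168503 s1u348 s1c349 rfl
theorem s1u350 : ∀ v, 1 ≤ v → v ≤ 168848 → fs1 v = true := slots_step fs1 168503 345 168848 s1u349 s1c350 rfl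
theorem s1u351 : ∀ v, 1 ≤ v → v ≤ 169188 → fs1 v = true := slots_step fs1 168848 340 169188 s1u350 s1c351 rfl
theorem s1u352 : ∀ v, 1 ≤ v → v ≤ 169529 → fs1 v = true := slots_step fs1 169188 341 169529 s1u351 s1c352 rfl
theorem s1u353 : ∀ v, 1 ≤ v → v ≤ 169888 → fs1 v = true := slots_step fs1 169529 359 169888 s1u352 s1c353 rfl
theorem s1u354 : ∀ v, 1 ≤ v → v ≤ 170202 → fs1 v = true := slots_step fs1 169888 314 170202 s1u353 s1c354 rfl
theorem s1u355 : ∀ v, 1 ≤ v → v ≤ 170539 → fs1 v = true := slots_step fs1 170202 337 170539 s1u354 s1c355 rfl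
theorem s1u356 : ∀ v, 1 ≤ v → v ≤ 170889 → fs1 v = true := slots_step fs1 170539 350 170889 s1u355 s1c356 rfl
theorem s1u357 : ∀ v, 1 ≤ v → v ≤ 171227 → fs1 v = true := slots_step fs1 170889 338 171227 s1u356 s1c357 rfl
theorem s1u358 : ∀ v, 1 ≤ v → v ≤ 171562 → fs1 v = true := slots_step fs1 171227 335 171562 s1u357 s1c358 rfl
theorem s1u359 : ∀ v, 1 ≤ v → v ≤ 171919 → fs1 v = true := slots_step fs1 171562 357 171919 s1u358 s1c359 rfl
theorem s1u360 : ∀ v, 1 ≤ v → v ≤ 172265 → fs1 v = true := slots_step fs1 171919 346 172265 s1u359 s1c360 rfl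
theorem s1u361 : ∀ v, 1 ≤ v → v ≤ 172618 → fs1 v = true := slots_step fs1 172265 353 172618 s1u360 s1c361 rfl
theorem s1u362 : ∀ v, 1 ≤ v → v ≤ 172951 → fs1 v = true := slots_step fs1 172618 333 172951 s1u361 s1c362 rfl
theorem s1u363 : ∀ v, 1 ≤ v → v ≤ 173314 → fs1 v = true := slots_step fs1 172951 363 173314 s1u362 s1c363 rfl
theorem s1u364 : ∀ v, 1 ≤ v → v ≤ 173639 → fs1 v = true := slots_step fs1 173314 325 173639 s1u363 s1c364 rfl
theorem s1u365 : ∀ v, 1 ≤ v → v ≤ 173958 → fs1 v = true := slots_step fs1 173639 319 173958 s1u364 s1c365 rfl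
theorem s1u366 : ∀ v, 1 ≤ v → v ≤ 174291 → fs1 v = true := slots_step fs1 173958 333 174291 s1u365 s1c366 rfl
theorem s1u367 : ∀ v, 1 ≤ v → v ≤ 174622 → fs1 v = true := slots_step fs1 174291 331 174622 s1u366 s1c367 rfl
theorem s1u368 : ∀ v, 1 ≤ v → v ≤ 174940 → fs1 v = true := slots_step fs1 174622 318 174940 s1u367 s1c368 rfl
theorem s1u369 : ∀ v, 1 ≤ v → v ≤ 175291 → fs1 v = true := slots_step fs1 174940 351 175291 s1u368 s1c369 rfl
theorem s1u370 : ∀ v, 1 ≤ v → v ≤ 175612 → fs1 v = true := slots_step fs1 175291 321 175612 s1u369 s1c370 rfl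
theorem s1u371 : ∀ v, 1 ≤ v → v ≤ 175927 → fs1 v = true := slots_step fs1 175612 315 175927 s1u370 s1c371 rfl
theorem s1u372 : ∀ v, 1 ≤ v → v ≤ 176235 → fs1 v = true := slots_step fs1 175927 308 176235 s1u371 s1c372 rfl
theorem s1u373 : ∀ v, 1 ≤ v → v ≤ 176559 → fs1 v = true := slots_step fs1 176235 324 176559 s1u372 s1c373 rfl
theorem s1u374 : ∀ v, 1 ≤ v → v ≤ 176887 → fs1 v = true := slots_step fs1 176559 328 176887 s1u373 s1c374 rfl
theorem s1u375 : ∀ v, 1 ≤ v → v ≤ 177214 → fs1 v = true := slots_step fs1 176887 327 177214 s1u374 s1c375 rfl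
theorem s1u376 : ∀ v, 1 ≤ v → v ≤ 177532 → fs1 v = true := slots_step fs1 177214 318 177532 s1u375 s1c376 rfl
theorem s1u377 : ∀ v, 1 ≤ v → v ≤ 177898 → fs1 v = true := slots_step fs1 177532 366 177898 s1u376 s1c377 rfl
theorem s1u378 : ∀ v, 1 ≤ v → v ≤ 178209 → fs1 v = true := slots_step fs1 177898 311 178209 s1u377 s1c378 rfl
theorem s1u379 : ∀ v, 1 ≤ v → v ≤ 178519 → fs1 v = true := slots_step fs1 178209 310 178519 s1u378 s1c379 rfl
theorem s1u380 : ∀ v, 1 ≤ v → v ≤ 178840 → fs1 v = true := slots_step fs1 178519 321 178840 s1u379 s1c380 rfl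
theorem s1u381 : ∀ v, 1 ≤ v → v ≤ 179170 → fs1 v = true := slots_step fs1 178840 330 179170 s1u380 s1c381 rfl
theorem s1u382 : ∀ v, 1 ≤ v → v ≤ 179492 → fs1 v = true := slots_step fs1 179170 322 179492 s1u381 s1c382 rfl
theorem s1u383 : ∀ v, 1 ≤ v → v ≤ 179827 → fs1 v = true := slots_step fs1 179492 335 179827 s1u382 s1c383 rfl
theorem s1u384 : ∀ v, 1 ≤ v → v ≤ 180162 → fs1 v = true := slots_step fs1 179827 335 180162 s1u383 s1c384 rfl
theorem s1u385 : ∀ v, 1 ≤ v → v ≤ 180478 → fs1 v = true := slots_step fs1 180162 316 180478 s1u384 s1c385 rfl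
theorem s1u386 : ∀ v, 1 ≤ v → v ≤ 180787 → fs1 v = true := slots_step fs1 180478 309 180787 s1u385 s1c386 rfl
theorem s1u387 : ∀ v, 1 ≤ v → v ≤ 181096 → fs1 v = true := slots_step fs1 180787 309 181096 s1u386 s1c387 rfl
theorem s1u388 : ∀ v, 1 ≤ v → v ≤ 181417 → fs1 v = true := slots_step fs1 181096 321 181417 s1u387 s1c388 rfl
theorem s1u389 : ∀ v, 1 ≤ v → v ≤ 181712 → fs1 v = true := slots_step fs1 181417 295 181712 s1u388 s1c389 rfl
theorem s1u390 : ∀ v, 1 ≤ v → v ≤ 182028 → fs1 v = true := slots_step fs1 181712 316 182028 s1u389 s1c390 rfl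
theorem s1u391 : ∀ v, 1 ≤ v → v ≤ 182359 → fs1 v = true := slots_step fs1 182028 331 182359 s1u390 s1c391 rfl
theorem s1u392 : ∀ v, 1 ≤ v → v ≤ 182679 → fs1 v = true := slots_step fs1 182359 320 182679 s1u391 s1c392 rfl
theorem s1u393 : ∀ v, 1 ≤ v → v ≤ 182968 → fs1 v = true := slots_step fs1 182679 289 182968 s1u392 s1c393 rfl
theorem s1u394 : ∀ v, 1 ≤ v → v ≤ 183264 → fs1 v = true := slots_step fs1 182968 296 183264 s1u393 s1c394 rfl
theorem s1u395 : ∀ v, 1 ≤ v → v ≤ 183559 → fs1 v = true := slots_step fs1 183264 295 183559 s1u394 s1c395 rfl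
theorem s1u396 : ∀ v, 1 ≤ v → v ≤ 183856 → fs1 v = true := slots_step fs1 183559 297 183856 s1u395 s1c396 rfl
theorem s1u397 : ∀ v, 1 ≤ v → v ≤ 184162 → fs1 v = true := slots_step fs1 183856 306 184162 s1u396 s1c397 rfl
theorem s1u398 : ∀ v, 1 ≤ v → v ≤ 184467 → fs1 v = true := slots_step fs1 184162 305 184467 s1u397 s1c398 rfl
theorem s1u399 : ∀ v, 1 ≤ v → v ≤ 184772 → fs1 v = true := slots_step fs1 184467 305 184772 s1u398 s1c399 rfl
theorem s1u400 : ∀ v, 1 ≤ v → v ≤ 185096 → fs1 v = true := slots_step fs1 184772 324 185096 s1u399 s1c400 rfl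
theorem s1u401 : ∀ v, 1 ≤ v → v ≤ 185408 → fs1 v = true := slots_step fs1 185096 312 185408 s1u400 s1c401 rfl
theorem s1u402 : ∀ v, 1 ≤ v → v ≤ 185738 → fs1 v = true := slots_step fs1 185408 330 185738 s1u401 s1c402 rfl
theorem s1u403 : ∀ v, 1 ≤ v → v ≤ 186024 → fs1 v = true := slots_step fs1 185738 286 186024 s1u402 s1c403 rfl
theorem s1u404 : ∀ v, 1 ≤ v → v ≤ 186339 → fs1 v = true := slots_step fs1 186024 315 186339 s1u403 s1c404 rfl
theorem s1u405 : ∀ v, 1 ≤ v → v ≤ 186656 → fs1 v = true := slots_step fs1 186339 317 186656 s1u404 s1c405 rfl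
theorem s1u406 : ∀ v, 1 ≤ v → v ≤ 186959 → fs1 v = true := slots_step fs1 186656 303 186959 s1u405 s1c406 rfl
theorem s1u407 : ∀ v, 1 ≤ v → v ≤ 187254 → fs1 v = true := slots_step fs1 186959 295 187254 s1u406 s1c407 rfl
theorem s1u408 : ∀ v, 1 ≤ v → v ≤ 187583 → fs1 v = true := slots_step fs1 187254 329 187583 s1u407 s1c408 rfl
theorem s1u409 : ∀ v, 1 ≤ v → v ≤ 187897 → fs1 v = true := slots_step fs1 187583 314 187897 s1u408 s1c409 rfl
theorem s1u410 : ∀ v, 1 ≤ v → v ≤ 188180 → fs1 v = true := slots_step fs1 187897 283 188180 s1u409 s1c410 rfl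
theorem s1u411 : ∀ v, 1 ≤ v → v ≤ 188456 → fs1 v = true := slots_step fs1 188180 276 188456 s1u410 s1c411 rfl
theorem s1u412 : ∀ v, 1 ≤ v → v ≤ 188774 → fs1 v = true := slots_step fs1 188456 318 188774 s1u411 s1c412 rfl
theorem s1u413 : ∀ v, 1 ≤ v → v ≤ 189081 → fs1 v = true := slots_step fs1 188774 307 189081 s1u412 s1c413 rfl
theorem s1u414 : ∀ v, 1 ≤ v → v ≤ 189376 → fs1 v = true := slots_step fs1 189081 295 189376 s1u413 s1c414 rfl
theorem s1u415 : ∀ v, 1 ≤ v → v ≤ 189684 → fs1 v = true := slots_step fs1 189376 308 189684 s1u414 s1c415 rfl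
theorem s1u416 : ∀ v, 1 ≤ v → v ≤ 189961 → fs1 v = true := slots_step fs1 189684 277 189961 s1u415 s1c416 rfl
theorem s1u417 : ∀ v, 1 ≤ v → v ≤ 190256 → fs1 v = true := slots_step fs1 189961 295 190256 s1u416 s1c417 rfl
theorem s1u418 : ∀ v, 1 ≤ v → v ≤ 190537 → fs1 v = true := slots_step fs1 190256 281 190537 s1u417 s1c418 rfl
theorem s1u419 : ∀ v, 1 ≤ v → v ≤ 190838 → fs1 v = true := slots_step fs1 190537 301 190838 s1u418 s1c419 rfl
theorem s1u420 : ∀ v, 1 ≤ v → v ≤ 191135 → fs1 v = true := slots_step fs1 190838 297 191135 s1u419 s1c420 rfl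
theorem s1u421 : ∀ v, 1 ≤ v → v ≤ 191444 → fs1 v = true := slots_step fs1 191135 309 191444 s1u420 s1c421 rfl
theorem s1u422 : ∀ v, 1 ≤ v → v ≤ 191711 → fs1 v = true := slots_step fs1 191444 267 191711 s1u421 s1c422 rfl
theorem s1u423 : ∀ v, 1 ≤ v → v ≤ 192007 → fs1 v = true := slots_step fs1 191711 296 192007 s1u422 s1c423 rfl
theorem s1u424 : ∀ v, 1 ≤ v → v ≤ 192334 → fs1 v = true := slots_step fs1 192007 327 192334 s1u423 s1c424 rfl
theorem s1u425 : ∀ v, 1 ≤ v → v ≤ 192623 → fs1 v = true := slots_step fs1 192334 289 192623 s1u424 s1c425 rfl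
theorem s1u426 : ∀ v, 1 ≤ v → v ≤ 192935 → fs1 v = true := slots_step fs1 192623 312 192935 s1u425 s1c426 rfl
theorem s1u427 : ∀ v, 1 ≤ v → v ≤ 193231 → fs1 v = true := slots_step fs1 192935 296 193231 s1u426 s1c427 rfl
theorem s1u428 : ∀ v, 1 ≤ v → v ≤ 193536 → fs1 v = true := slots_step fs1 193231 305 193536 s1u427 s1c428 rfl
theorem s1u429 : ∀ v, 1 ≤ v → v ≤ 193803 → fs1 v = true := slots_step fs1 193536 267 193803 s1u428 s1c429 rfl
theorem s1u430 : ∀ v, 1 ≤ v → v ≤ 194098 → fs1 v = true := slots_step fs1 193803 295 194098 s1u429 s1c430 rfl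
theorem s1u431 : ∀ v, 1 ≤ v → v ≤ 194392 → fs1 v = true := slots_step fs1 194098 294 194392 s1u430 s1c431 rfl
theorem s1u432 : ∀ v, 1 ≤ v → v ≤ 194696 → fs1 v = true := slots_step fs1 194392 304 194696 s1u431 s1c432 rfl
theorem s1u433 : ∀ v, 1 ≤ v → v ≤ 194981 → fs1 v = true := slots_step fs1 194696 285 194981 s1u432 s1c433 rfl
theorem s1u434 : ∀ v, 1 ≤ v → v ≤ 195268 → fs1 v = true := slots_step fs1 194981 287 195268 s1u433 s1c434 rfl
theorem s1u435 : ∀ v, 1 ≤ v → v ≤ 195548 → fs1 v = true := slots_step fs1 195268 280 195548 s1u434 s1c435 rfl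
theorem s1u436 : ∀ v, 1 ≤ v → v ≤ 195841 → fs1 v = true := slots_step fs1 195548 293 195841 s1u435 s1c436 rfl
theorem s1u437 : ∀ v, 1 ≤ v → v ≤ 196118 → fs1 v = true := slots_step fs1 195841 277 196118 s1u436 s1c437 rfl
theorem s1u438 : ∀ v, 1 ≤ v → v ≤ 196392 → fs1 v = true := slots_step fs1 196118 274 196392 s1u437 s1c438 rfl
theorem s1u439 : ∀ v, 1 ≤ v → v ≤ 196675 → fs1 v = true := slots_step fs1 196392 283 196675 s1u438 s1c439 rfl
theorem s1u440 : ∀ v, 1 ≤ v → v ≤ 196964 → fs1 v = true := slots_step fs1 196675 289 196964 s1u439 s1c440 rfl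
theorem s1u441 : ∀ v, 1 ≤ v → v ≤ 197242 → fs1 v = true := slots_step fs1 196964 278 197242 s1u440 s1c441 rfl
theorem s1u442 : ∀ v, 1 ≤ v → v ≤ 197531 → fs1 v = true := slots_step fs1 197242 289 197531 s1u441 s1c442 rfl
theorem s1u443 : ∀ v, 1 ≤ v → v ≤ 197805 → fs1 v = true := slots_step fs1 197531 274 197805 s1u442 s1c443 rfl
theorem s1u444 : ∀ v, 1 ≤ v → v ≤ 198073 → fs1 v = true := slots_step fs1 197805 268 198073 s1u443 s1c444 rfl
theorem s1u445 : ∀ v, 1 ≤ v → v ≤ 198347 → fs1 v = true := slots_step fs1 198073 274 198347 s1u444 s1c445 rfl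
theorem s1u446 : ∀ v, 1 ≤ v → v ≤ 198635 → fs1 v = true := slots_step fs1 198347 288 198635 s1u445 s1c446 rfl
theorem s1u447 : ∀ v, 1 ≤ v → v ≤ 198913 → fs1 v = true := slots_step fs1 198635 278 198913 s1u446 s1c447 rfl
theorem s1u448 : ∀ v, 1 ≤ v → v ≤ 199199 → fs1 v = true := slots_step fs1 198913 286 199199 s1u447 s1c448 rfl
theorem s1u449 : ∀ v, 1 ≤ v → v ≤ 199477 → fs1 v = true := slots_step fs1 199199 278 199477 s1u448 s1c449 rfl
theorem s1u450 : ∀ v, 1 ≤ v → v ≤ 199740 → fs1 v = true := slots_step fs1 199477 263 199740 s1u449 s1c450 rfl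
theorem s1u451 : ∀ v, 1 ≤ v → v ≤ 199989 → fs1 v = true := slots_step fs1 199740 249 199989 s1u450 s1c451 rfl
theorem s1u452 : ∀ v, 1 ≤ v → v ≤ 200261 → fs1 v = true := slots_step fs1 199989 272 200261 s1u451 s1c452 rfl
theorem s1u453 : ∀ v, 1 ≤ v → v ≤ 200527 → fs1 v = true := slots_step fs1 200261 266 200527 s1u452 s1c453 rfl
theorem s1u454 : ∀ v, 1 ≤ v → v ≤ 200789 → fs1 v = true := slots_step fs1 200527 262 200789 s1u453 s1c454 rfl
theorem s1u455 : ∀ v, 1 ≤ v → v ≤ 201038 → fs1 v = true := slots_step fs1 200789 249 201038 s1u454 s1c455 rfl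
theorem s1u456 : ∀ v, 1 ≤ v → v ≤ 201290 → fs1 v = true := slots_step fs1 201038 252 201290 s1u455 s1c456 rfl
theorem s1u457 : ∀ v, 1 ≤ v → v ≤ 201539 → fs1 v = true := slots_step fs1 201290 249 201539 s1u456 s1c457 rfl
theorem s1u458 : ∀ v, 1 ≤ v → v ≤ 201582 → fs1 v = true := slots_step fs1 201539 43 201582 s1u457 s1c458 rfl
theorem s2u0 : ∀ v, 1 ≤ v → v ≤ 539 → fs2 v = true := slots_step fs2 0 539 539 (slots_zero fs2) s2c0 rfl
theorem s2u1 : ∀ v, 1 ≤ v → v ≤ 996 → fs2 v = true := slots_step fs2 539 457 996 s2u0 s2c1 rfl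
theorem s2u2 : ∀ v, 1 ≤ v → v ≤ 1482 → fs2 v = true := slots_step fs2 996 486 1482 s2u1 s2c2 rfl
theorem s2u3 : ∀ v, 1 ≤ v → v ≤ 1982 → fs2 v = true := slots_step fs2 1482 500 1982 s2u2 s2c3 rfl
theorem s2u4 : ∀ v, 1 ≤ v → v ≤ 2460 → fs2 v = true := slots_step fs2 1982 478 2460 s2u3 s2c4 rfl
theorem s2u5 : ∀ v, 1 ≤ v → v ≤ 2978 → fs2 v = true := slots_step fs2 2460 518 2978 s2u4 s2c5 rfl
theorem s2u6 : ∀ v, 1 ≤ v → v ≤ 3504 → fs2 v = true := slots_step fs2 2978 526 3504 s2u5 s2c6 rfl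
theorem s2u7 : ∀ v, 1 ≤ v → v ≤ 4033 → fs2 v = true := slots_step fs2 3504 529 4033 s2u6 s2c7 rfl
theorem s2u8 : ∀ v, 1 ≤ v → v ≤ 4547 → fs2 v = true := slots_step fs2 4033 514 4547 s2u7 s2c8 rfl
theorem s2u9 : ∀ v, 1 ≤ v → v ≤ 5040 → fs2 v = true := slots_step fs2 4547 493 5040 s2u8 s2c9 rfl
theorem s2u10 : ∀ v, 1 ≤ v → v ≤ 5539 → fs2 v = true := slots_step fs2 5040 499 5539 s2u9 s2c10 rfl
theorem s2u11 : ∀ v, 1 ≤ v → v ≤ 6018 → fs2 v = true := slots_step fs2 5539 479 6018 s2u10 s2c11 rfl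
theorem s2u12 : ∀ v, 1 ≤ v → v ≤ 6521 → fs2 v = true := slots_step fs2 6018 503 6521 s2u11 s2c12 rfl
theorem s2u13 : ∀ v, 1 ≤ v → v ≤ 7009 → fs2 v = true := slots_step fs2 6521 488 7009 s2u12 s2c13 rfl
theorem s2u14 : ∀ v, 1 ≤ v → v ≤ 7552 → fs2 v = true := slots_step fs2 7009 543 7552 s2u13 s2c14 rfl
theorem s2u15 : ∀ v, 1 ≤ v → v ≤ 8057 → fs2 v = true := slots_step fs2 7552 505 8057 s2u14 s2c15 rfl
theorem s2u16 : ∀ v, 1 ≤ v → v ≤ 8593 → fs2 v = true := slots_step fs2 8057 536 8593 s2u15 s2c16 rfl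
theorem s2u17 : ∀ v, 1 ≤ v → v ≤ 9103 → fs2 v = true := slots_step fs2 8593 510 9103 s2u16 s2c17 rfl
theorem s2u18 : ∀ v, 1 ≤ v → v ≤ 9595 → fs2 v = true := slots_step fs2 9103 492 9595 s2u17 s2c18 rfl
theorem s2u19 : ∀ v, 1 ≤ v → v ≤ 10160 → fs2 v = true := slots_step fs2 9595 565 10160 s2u18 s2c19 rfl
theorem s2u20 : ∀ v, 1 ≤ v → v ≤ 10682 → fs2 v = true := slots_step fs2 10160 522 10682 s2u19 s2c20 rfl
theorem s2u21 : ∀ v, 1 ≤ v → v ≤ 11180 → fs2 v = true := slots_step fs2 10682 498 11180 s2u20 s2c21 rfl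
theorem s2u22 : ∀ v, 1 ≤ v → v ≤ 11648 → fs2 v = true := slots_step fs2 11180 468 11648 s2u21 s2c22 rfl
theorem s2u23 : ∀ v, 1 ≤ v → v ≤ 12129 → fs2 v = true := slots_step fs2 11648 481 12129 s2u22 s2c23 rfl
theorem s2u24 : ∀ v, 1 ≤ v → v ≤ 12628 → fs2 v = true := slots_step fs2 12129 499 12628 s2u23 s2c24 rfl
theorem s2u25 : ∀ v, 1 ≤ v → v ≤ 13101 → fs2 v = true := slots_step fs2 12628 473 13101 s2u24 s2c25 rfl
theorem s2u26 : ∀ v, 1 ≤ v → v ≤ 13604 → fs2 v = true := slots_step fs2 13101 503 13604 s2u25 s2c26 rfl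
theorem s2u27 : ∀ v, 1 ≤ v → v ≤ 14086 → fs2 v = true := slots_step fs2 13604 482 14086 s2u26 s2c27 rfl
theorem s2u28 : ∀ v, 1 ≤ v → v ≤ 14559 → fs2 v = true := slots_step fs2 14086 473 14559 s2u27 s2c28 rfl
theorem s2u29 : ∀ v, 1 ≤ v → v ≤ 15091 → fs2 v = true := slots_step fs2 14559 532 15091 s2u28 s2c29 rfl
theorem s2u30 : ∀ v, 1 ≤ v → v ≤ 15666 → fs2 v = true := slots_step fs2 15091 575 15666 s2u29 s2c30 rfl
theorem s2u31 : ∀ v, 1 ≤ v → v ≤ 16192 → fs2 v = true := slots_step fs2 15666 526 16192 s2u30 s2c31 rfl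
theorem s2u32 : ∀ v, 1 ≤ v → v ≤ 16667 → fs2 v = true := slots_step fs2 16192 475 16667 s2u31 s2c32 rfl
theorem s2u33 : ∀ v, 1 ≤ v → v ≤ 17160 → fs2 v = true := slots_step fs2 16667 493 17160 s2u32 s2c33 rfl
theorem s2u34 : ∀ v, 1 ≤ v → v ≤ 17677 → fs2 v = true := slots_step fs2 17160 517 17677 s2u33 s2c34 rfl
theorem s2u35 : ∀ v, 1 ≤ v → v ≤ 18206 → fs2 v = true := slots_step fs2 17677 529 18206 s2u34 s2c35 rfl
theorem s2u36 : ∀ v, 1 ≤ v → v ≤ 18735 → fs2 v = true := slots_step fs2 18206 529 18735 s2u35 s2c36 rfl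
theorem s2u37 : ∀ v, 1 ≤ v → v ≤ 19243 → fs2 v = true := slots_step fs2 18735 508 19243 s2u36 s2c37 rfl
theorem s2u38 : ∀ v, 1 ≤ v → v ≤ 19753 → fs2 v = true := slots_step fs2 19243 510 19753 s2u37 s2c38 rfl
theorem s2u39 : ∀ v, 1 ≤ v → v ≤ 20293 → fs2 v = true := slots_step fs2 19753 540 20293 s2u38 s2c39 rfl
theorem s2u40 : ∀ v, 1 ≤ v → v ≤ 20860 → fs2 v = true := slots_step fs2 20293 567 20860 s2u39 s2c40 rfl
theorem s2u41 : ∀ v, 1 ≤ v → v ≤ 21386 → fs2 v = true := slots_step fs2 20860 526 21386 s2u40 s2c41 rfl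
theorem s2u42 : ∀ v, 1 ≤ v → v ≤ 21922 → fs2 v = true := slots_step fs2 21386 536 21922 s2u41 s2c42 rfl
theorem s2u43 : ∀ v, 1 ≤ v → v ≤ 22447 → fs2 v = true := slots_step fs2 21922 525 22447 s2u42 s2c43 rfl
theorem s2u44 : ∀ v, 1 ≤ v → v ≤ 23011 → fs2 v = true := slots_step fs2 22447 564 23011 s2u43 s2c44 rfl
theorem s2u45 : ∀ v, 1 ≤ v → v ≤ 23491 → fs2 v = true := slots_step fs2 23011 480 23491 s2u44 s2c45 rfl
theorem s2u46 : ∀ v, 1 ≤ v → v ≤ 23943 → fs2 v = true := slots_step fs2 23491 452 23943 s2u45 s2c46 rfl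
theorem s2u47 : ∀ v, 1 ≤ v → v ≤ 24413 → fs2 v = true := slots_step fs2 23943 470 24413 s2u46 s2c47 rfl
theorem s2u48 : ∀ v, 1 ≤ v → v ≤ 24874 → fs2 v = true := slots_step fs2 24413 461 24874 s2u47 s2c48 rfl
theorem s2u49 : ∀ v, 1 ≤ v → v ≤ 25333 → fs2 v = true := slots_step fs2 24874 459 25333 s2u48 s2c49 rfl
theorem s2u50 : ∀ v, 1 ≤ v → v ≤ 25806 → fs2 v = true := slots_step fs2 25333 473 25806 s2u49 s2c50 rfl
theorem s2u51 : ∀ v, 1 ≤ v → v ≤ 26258 → fs2 v = true := slots_step fs2 25806 452 26258 s2u50 s2c51 rfl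
theorem s2u52 : ∀ v, 1 ≤ v → v ≤ 26740 → fs2 v = true := slots_step fs2 26258 482 26740 s2u51 s2c52 rfl
theorem s2u53 : ∀ v, 1 ≤ v → v ≤ 27248 → fs2 v = true := slots_step fs2 26740 508 27248 s2u52 s2c53 rfl
theorem s2u54 : ∀ v, 1 ≤ v → v ≤ 27717 → fs2 v = true := slots_step fs2 27248 469 27717 s2u53 s2c54 rfl
theorem s2u55 : ∀ v, 1 ≤ v → v ≤ 28225 → fs2 v = true := slots_step fs2 27717 508 28225 s2u54 s2c55 rfl
theorem s2u56 : ∀ v, 1 ≤ v → v ≤ 28734 → fs2 v = true := slots_step fs2 28225 509 28734 s2u55 s2c56 rfl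
theorem s2u57 : ∀ v, 1 ≤ v → v ≤ 29220 → fs2 v = true := slots_step fs2 28734 486 29220 s2u56 s2c57 rfl
theorem s2u58 : ∀ v, 1 ≤ v → v ≤ 29696 → fs2 v = true := slots_step fs2 29220 476 29696 s2u57 s2c58 rfl
theorem s2u59 : ∀ v, 1 ≤ v → v ≤ 30207 → fs2 v = true := slots_step fs2 29696 511 30207 s2u58 s2c59 rfl
theorem s2u60 : ∀ v, 1 ≤ v → v ≤ 30758 → fs2 v = true := slots_step fs2 30207 551 30758 s2u59 s2c60 rfl
theorem s2u61 : ∀ v, 1 ≤ v → v ≤ 31298 → fs2 v = true := slots_step fs2 30758 540 31298 s2u60 s2c61 rfl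
theorem s2u62 : ∀ v, 1 ≤ v → v ≤ 31806 → fs2 v = true := slots_step fs2 31298 508 31806 s2u61 s2c62 rfl
theorem s2u63 : ∀ v, 1 ≤ v → v ≤ 32326 → fs2 v = true := slots_step fs2 31806 520 32326 s2u62 s2c63 rfl
theorem s2u64 : ∀ v, 1 ≤ v → v ≤ 32846 → fs2 v = true := slots_step fs2 32326 520 32846 s2u63 s2c64 rfl
theorem s2u65 : ∀ v, 1 ≤ v → v ≤ 33360 → fs2 v = true := slots_step fs2 32846 514 33360 s2u64 s2c65 rfl
theorem s2u66 : ∀ v, 1 ≤ v → v ≤ 33859 → fs2 v = true := slots_step fs2 33360 499 33859 s2u65 s2c66 rfl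
theorem s2u67 : ∀ v, 1 ≤ v → v ≤ 34363 → fs2 v = true := slots_step fs2 33859 504 34363 s2u66 s2c67 rfl
theorem s2u68 : ∀ v, 1 ≤ v → v ≤ 34876 → fs2 v = true := slots_step fs2 34363 513 34876 s2u67 s2c68 rfl
theorem s2u69 : ∀ v, 1 ≤ v → v ≤ 35400 → fs2 v = true := slots_step fs2 34876 524 35400 s2u68 s2c69 rfl
theorem s2u70 : ∀ v, 1 ≤ v → v ≤ 35907 → fs2 v = true := slots_step fs2 35400 507 35907 s2u69 s2c70 rfl
theorem s2u71 : ∀ v, 1 ≤ v → v ≤ 36466 → fs2 v = true := slots_step fs2 35907 559 36466 s2u70 s2c71 rfl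
theorem s2u72 : ∀ v, 1 ≤ v → v ≤ 37033 → fs2 v = true := slots_step fs2 36466 567 37033 s2u71 s2c72 rfl
theorem s2u73 : ∀ v, 1 ≤ v → v ≤ 37584 → fs2 v = true := slots_step fs2 37033 551 37584 s2u72 s2c73 rfl
theorem s2u74 : ∀ v, 1 ≤ v → v ≤ 38107 → fs2 v = true := slots_step fs2 37584 523 38107 s2u73 s2c74 rfl
theorem s2u75 : ∀ v, 1 ≤ v → v ≤ 38641 → fs2 v = true := slots_step fs2 38107 534 38641 s2u74 s2c75 rfl
theorem s2u76 : ∀ v, 1 ≤ v → v ≤ 39194 → fs2 v = true := slots_step fs2 38641 553 39194 s2u75 s2c76 rfl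
theorem s2u77 : ∀ v, 1 ≤ v → v ≤ 39726 → fs2 v = true := slots_step fs2 39194 532 39726 s2u76 s2c77 rfl
theorem s2u78 : ∀ v, 1 ≤ v → v ≤ 40270 → fs2 v = true := slots_step fs2 39726 544 40270 s2u77 s2c78 rfl
theorem s2u79 : ∀ v, 1 ≤ v → v ≤ 40771 → fs2 v = true := slots_step fs2 40270 501 40771 s2u78 s2c79 rfl
theorem s2u80 : ∀ v, 1 ≤ v → v ≤ 41285 → fs2 v = true := slots_step fs2 40771 514 41285 s2u79 s2c80 rfl
theorem s2u81 : ∀ v, 1 ≤ v → v ≤ 41804 → fs2 v = true := slots_step fs2 41285 519 41804 s2u80 s2c81 rfl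
theorem s2u82 : ∀ v, 1 ≤ v → v ≤ 42298 → fs2 v = true := slots_step fs2 41804 494 42298 s2u81 s2c82 rfl
theorem s2u83 : ∀ v, 1 ≤ v → v ≤ 42862 → fs2 v = true := slots_step fs2 42298 564 42862 s2u82 s2c83 rfl
theorem s2u84 : ∀ v, 1 ≤ v → v ≤ 43362 → fs2 v = true := slots_step fs2 42862 500 43362 s2u83 s2c84 rfl
theorem s2u85 : ∀ v, 1 ≤ v → v ≤ 43897 → fs2 v = true := slots_step fs2 43362 535 43897 s2u84 s2c85 rfl
theorem s2u86 : ∀ v, 1 ≤ v → v ≤ 44375 → fs2 v = true := slots_step fs2 43897 478 44375 s2u85 s2c86 rfl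
theorem s2u87 : ∀ v, 1 ≤ v → v ≤ 44893 → fs2 v = true := slots_step fs2 44375 518 44893 s2u86 s2c87 rfl
theorem s2u88 : ∀ v, 1 ≤ v → v ≤ 45404 → fs2 v = true := slots_step fs2 44893 511 45404 s2u87 s2c88 rfl
theorem s2u89 : ∀ v, 1 ≤ v → v ≤ 45918 → fs2 v = true := slots_step fs2 45404 514 45918 s2u88 s2c89 rfl
theorem s2u90 : ∀ v, 1 ≤ v → v ≤ 46443 → fs2 v = true := slots_step fs2 45918 525 46443 s2u89 s2c90 rfl
theorem s2u91 : ∀ v, 1 ≤ v → v ≤ 46955 → fs2 v = true := slots_step fs2 46443 512 46955 s2u90 s2c91 rfl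
theorem s2u92 : ∀ v, 1 ≤ v → v ≤ 47417 → fs2 v = true := slots_step fs2 46955 462 47417 s2u91 s2c92 rfl
theorem s2u93 : ∀ v, 1 ≤ v → v ≤ 47892 → fs2 v = true := slots_step fs2 47417 475 47892 s2u92 s2c93 rfl
theorem s2u94 : ∀ v, 1 ≤ v → v ≤ 48378 → fs2 v = true := slots_step fs2 47892 486 48378 s2u93 s2c94 rfl
theorem s2u95 : ∀ v, 1 ≤ v → v ≤ 48926 → fs2 v = true := slots_step fs2 48378 548 48926 s2u94 s2c95 rfl
theorem s2u96 : ∀ v, 1 ≤ v → v ≤ 49400 → fs2 v = true := slots_step fs2 48926 474 49400 s2u95 s2c96 rfl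
theorem s2u97 : ∀ v, 1 ≤ v → v ≤ 49873 → fs2 v = true := slots_step fs2 49400 473 49873 s2u96 s2c97 rfl
theorem s2u98 : ∀ v, 1 ≤ v → v ≤ 50379 → fs2 v = true := slots_step fs2 49873 506 50379 s2u97 s2c98 rfl
theorem s2u99 : ∀ v, 1 ≤ v → v ≤ 50860 → fs2 v = true := slots_step fs2 50379 481 50860 s2u98 s2c99 rfl
theorem s2u100 : ∀ v, 1 ≤ v → v ≤ 51335 → fs2 v = true := slots_step fs2 50860 475 51335 s2u99 s2c100 rfl
theorem s2u101 : ∀ v, 1 ≤ v → v ≤ 51838 → fs2 v = true := slots_step fs2 51335 503 51838 s2u100 s2c101 rfl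
theorem s2u102 : ∀ v, 1 ≤ v → v ≤ 52316 → fs2 v = true := slots_step fs2 51838 478 52316 s2u101 s2c102 rfl
theorem s2u103 : ∀ v, 1 ≤ v → v ≤ 52794 → fs2 v = true := slots_step fs2 52316 478 52794 s2u102 s2c103 rfl
theorem s2u104 : ∀ v, 1 ≤ v → v ≤ 53253 → fs2 v = true := slots_step fs2 52794 459 53253 s2u103 s2c104 rfl
theorem s2u105 : ∀ v, 1 ≤ v → v ≤ 53758 → fs2 v = true := slots_step fs2 53253 505 53758 s2u104 s2c105 rfl
theorem s2u106 : ∀ v, 1 ≤ v → v ≤ 54324 → fs2 v = true := slots_step fs2 53758 566 54324 s2u105 s2c106 rfl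
theorem s2u107 : ∀ v, 1 ≤ v → v ≤ 54918 → fs2 v = true := slots_step fs2 54324 594 54918 s2u106 s2c107 rfl
theorem s2u108 : ∀ v, 1 ≤ v → v ≤ 55475 → fs2 v = true := slots_step fs2 54918 557 55475 s2u107 s2c108 rfl
theorem s2u109 : ∀ v, 1 ≤ v → v ≤ 56025 → fs2 v = true := slots_step fs2 55475 550 56025 s2u108 s2c109 rfl
theorem s2u110 : ∀ v, 1 ≤ v → v ≤ 56557 → fs2 v = true := slots_step fs2 56025 532 56557 s2u109 s2c110 rfl
theorem s2u111 : ∀ v, 1 ≤ v → v ≤ 57067 → fs2 v = true := slots_step fs2 56557 510 57067 s2u110 s2c111 rfl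
theorem s2u112 : ∀ v, 1 ≤ v → v ≤ 57579 → fs2 v = true := slots_step fs2 57067 512 57579 s2u111 s2c112 rfl
theorem s2u113 : ∀ v, 1 ≤ v → v ≤ 58077 → fs2 v = true := slots_step fs2 57579 498 58077 s2u112 s2c113 rfl
theorem s2u114 : ∀ v, 1 ≤ v → v ≤ 58592 → fs2 v = true := slots_step fs2 58077 515 58592 s2u113 s2c114 rfl
theorem s2u115 : ∀ v, 1 ≤ v → v ≤ 59121 → fs2 v = true := slots_step fs2 58592 529 59121 s2u114 s2c115 rfl
theorem s2u116 : ∀ v, 1 ≤ v → v ≤ 59612 → fs2 v = true := slots_step fs2 59121 491 59612 s2u115 s2c116 rfl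
theorem s2u117 : ∀ v, 1 ≤ v → v ≤ 60110 → fs2 v = true := slots_step fs2 59612 498 60110 s2u116 s2c117 rfl
theorem s2u118 : ∀ v, 1 ≤ v → v ≤ 60593 → fs2 v = true := slots_step fs2 60110 483 60593 s2u117 s2c118 rfl
theorem s2u119 : ∀ v, 1 ≤ v → v ≤ 61110 → fs2 v = true := slots_step fs2 60593 517 61110 s2u118 s2c119 rfl
theorem s2u120 : ∀ v, 1 ≤ v → v ≤ 61609 → fs2 v = true := slots_step fs2 61110 499 61609 s2u119 s2c120 rfl
theorem s2u121 : ∀ v, 1 ≤ v → v ≤ 62092 → fs2 v = true := slots_step fs2 61609 483 62092 s2u120 s2c121 rfl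
theorem s2u122 : ∀ v, 1 ≤ v → v ≤ 62613 → fs2 v = true := slots_step fs2 62092 521 62613 s2u121 s2c122 rfl
theorem s2u123 : ∀ v, 1 ≤ v → v ≤ 63173 → fs2 v = true := slots_step fs2 62613 560 63173 s2u122 s2c123 rfl
theorem s2u124 : ∀ v, 1 ≤ v → v ≤ 63705 → fs2 v = true := slots_step fs2 63173 532 63705 s2u123 s2c124 rfl
theorem s2u125 : ∀ v, 1 ≤ v → v ≤ 64260 → fs2 v = true := slots_step fs2 63705 555 64260 s2u124 s2c125 rfl
theorem s2u126 : ∀ v, 1 ≤ v → v ≤ 64829 → fs2 v = true := slots_step fs2 64260 569 64829 s2u125 s2c126 rfl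
theorem s2u127 : ∀ v, 1 ≤ v → v ≤ 65370 → fs2 v = true := slots_step fs2 64829 541 65370 s2u126 s2c127 rfl
theorem s2u128 : ∀ v, 1 ≤ v → v ≤ 65907 → fs2 v = true := slots_step fs2 65370 537 65907 s2u127 s2c128 rfl
theorem s2u129 : ∀ v, 1 ≤ v → v ≤ 66429 → fs2 v = true := slots_step fs2 65907 522 66429 s2u128 s2c129 rfl
theorem s2u130 : ∀ v, 1 ≤ v → v ≤ 66940 → fs2 v = true := slots_step fs2 66429 511 66940 s2u129 s2c130 rfl
theorem s2u131 : ∀ v, 1 ≤ v → v ≤ 67492 → fs2 v = true := slots_step fs2 66940 552 67492 s2u130 s2c131 rfl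
theorem s2u132 : ∀ v, 1 ≤ v → v ≤ 68046 → fs2 v = true := slots_step fs2 67492 554 68046 s2u131 s2c132 rfl
theorem s2u133 : ∀ v, 1 ≤ v → v ≤ 68608 → fs2 v = true := slots_step fs2 68046 562 68608 s2u132 s2c133 rfl
theorem s2u134 : ∀ v, 1 ≤ v → v ≤ 69152 → fs2 v = true := slots_step fs2 68608 544 69152 s2u133 s2c134 rfl
theorem s2u135 : ∀ v, 1 ≤ v → v ≤ 69676 → fs2 v = true := slots_step fs2 69152 524 69676 s2u134 s2c135 rfl
theorem s2u136 : ∀ v, 1 ≤ v → v ≤ 70227 → fs2 v = true := slots_step fs2 69676 551 70227 s2u135 s2c136 rfl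
theorem s2u137 : ∀ v, 1 ≤ v → v ≤ 70765 → fs2 v = true := slots_step fs2 70227 538 70765 s2u136 s2c137 rfl
theorem s2u138 : ∀ v, 1 ≤ v → v ≤ 71339 → fs2 v = true := slots_step fs2 70765 574 71339 s2u137 s2c138 rfl
theorem s2u139 : ∀ v, 1 ≤ v → v ≤ 71875 → fs2 v = true := slots_step fs2 71339 536 71875 s2u138 s2c139 rfl
theorem s2u140 : ∀ v, 1 ≤ v → v ≤ 72414 → fs2 v = true := slots_step fs2 71875 539 72414 s2u139 s2c140 rfl
theorem s2u141 : ∀ v, 1 ≤ v → v ≤ 72996 → fs2 v = true := slots_step fs2 72414 582 72996 s2u140 s2c141 rfl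
theorem s2u142 : ∀ v, 1 ≤ v → v ≤ 73526 → fs2 v = true := slots_step fs2 72996 530 73526 s2u141 s2c142 rfl
theorem s2u143 : ∀ v, 1 ≤ v → v ≤ 74069 → fs2 v = true := slots_step fs2 73526 543 74069 s2u142 s2c143 rfl
theorem s2u144 : ∀ v, 1 ≤ v → v ≤ 74697 → fs2 v = true := slots_step fs2 74069 628 74697 s2u143 s2c144 rfl
theorem s2u145 : ∀ v, 1 ≤ v → v ≤ 75249 → fs2 v = true := slots_step fs2 74697 552 75249 s2u144 s2c145 rfl
theorem s2u146 : ∀ v, 1 ≤ v → v ≤ 75764 → fs2 v = true := slots_step fs2 75249 515 75764 s2u145 s2c146 rfl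
theorem s2u147 : ∀ v, 1 ≤ v → v ≤ 76339 → fs2 v = true := slots_step fs2 75764 575 76339 s2u146 s2c147 rfl
theorem s2u148 : ∀ v, 1 ≤ v → v ≤ 76906 → fs2 v = true := slots_step fs2 76339 567 76906 s2u147 s2c148 rfl
theorem s2u149 : ∀ v, 1 ≤ v → v ≤ 77516 → fs2 v = true := slots_step fs2 76906 610 77516 s2u148 s2c149 rfl
theorem s2u150 : ∀ v, 1 ≤ v → v ≤ 78037 → fs2 v = true := slots_step fs2 77516 521 78037 s2u149 s2c150 rfl
theorem s2u151 : ∀ v, 1 ≤ v → v ≤ 78631 → fs2 v = true := slots_step fs2 78037 594 78631 s2u150 s2c151 rfl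
theorem s2u152 : ∀ v, 1 ≤ v → v ≤ 79198 → fs2 v = true := slots_step fs2 78631 567 79198 s2u151 s2c152 rfl
theorem s2u153 : ∀ v, 1 ≤ v → v ≤ 79736 → fs2 v = true := slots_step fs2 79198 538 79736 s2u152 s2c153 rfl
theorem s2u154 : ∀ v, 1 ≤ v → v ≤ 80267 → fs2 v = true := slots_step fs2 79736 531 80267 s2u153 s2c154 rfl
theorem s2u155 : ∀ v, 1 ≤ v → v ≤ 80827 → fs2 v = true := slots_step fs2 80267 560 80827 s2u154 s2c155 rfl
theorem s2u156 : ∀ v, 1 ≤ v → v ≤ 81385 → fs2 v = true := slots_step fs2 80827 558 81385 s2u155 s2c156 rfl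
theorem s2u157 : ∀ v, 1 ≤ v → v ≤ 81957 → fs2 v = true := slots_step fs2 81385 572 81957 s2u156 s2c157 rfl
theorem s2u158 : ∀ v, 1 ≤ v → v ≤ 82531 → fs2 v = true := slots_step fs2 81957 574 82531 s2u157 s2c158 rfl
theorem s2u159 : ∀ v, 1 ≤ v → v ≤ 83084 → fs2 v = true := slots_step fs2 82531 553 83084 s2u158 s2c159 rfl
theorem s2u160 : ∀ v, 1 ≤ v → v ≤ 83649 → fs2 v = true := slots_step fs2 83084 565 83649 s2u159 s2c160 rfl
theorem s2u161 : ∀ v, 1 ≤ v → v ≤ 84183 → fs2 v = true := slots_step fs2 83649 534 84183 s2u160 s2c161 rfl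
theorem s2u162 : ∀ v, 1 ≤ v → v ≤ 84707 → fs2 v = true := slots_step fs2 84183 524 84707 s2u161 s2c162 rfl
theorem s2u163 : ∀ v, 1 ≤ v → v ≤ 85220 → fs2 v = true := slots_step fs2 84707 513 85220 s2u162 s2c163 rfl
theorem s2u164 : ∀ v, 1 ≤ v → v ≤ 85749 → fs2 v = true := slots_step fs2 85220 529 85749 s2u163 s2c164 rfl
theorem s2u165 : ∀ v, 1 ≤ v → v ≤ 86247 → fs2 v = true := slots_step fs2 85749 498 86247 s2u164 s2c165 rfl
theorem s2u166 : ∀ v, 1 ≤ v → v ≤ 86835 → fs2 v = true := slots_step fs2 86247 588 86835 s2u165 s2c166 rfl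
theorem s2u167 : ∀ v, 1 ≤ v → v ≤ 87348 → fs2 v = true := slots_step fs2 86835 513 87348 s2u166 s2c167 rfl
theorem s2u168 : ∀ v, 1 ≤ v → v ≤ 87874 → fs2 v = true := slots_step fs2 87348 526 87874 s2u167 s2c168 rfl
theorem s2u169 : ∀ v, 1 ≤ v → v ≤ 88471 → fs2 v = true := slots_step fs2 87874 597 88471 s2u168 s2c169 rfl
theorem s2u170 : ∀ v, 1 ≤ v → v ≤ 88962 → fs2 v = true := slots_step fs2 88471 491 88962 s2u169 s2c170 rfl
theorem s2u171 : ∀ v, 1 ≤ v → v ≤ 89519 → fs2 v = true := slots_step fs2 88962 557 89519 s2u170 s2c171 rfl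
theorem s2u172 : ∀ v, 1 ≤ v → v ≤ 90053 → fs2 v = true := slots_step fs2 89519 534 90053 s2u171 s2c172 rfl
theorem s2u173 : ∀ v, 1 ≤ v → v ≤ 90516 → fs2 v = true := slots_step fs2 90053 463 90516 s2u172 s2c173 rfl
theorem s2u174 : ∀ v, 1 ≤ v → v ≤ 91033 → fs2 v = true := slots_step fs2 90516 517 91033 s2u173 s2c174 rfl
theorem s2u175 : ∀ v, 1 ≤ v → v ≤ 91577 → fs2 v = true := slots_step fs2 91033 544 91577 s2u174 s2c175 rfl
theorem s2u176 : ∀ v, 1 ≤ v → v ≤ 92073 → fs2 v = true := slots_step fs2 91577 496 92073 s2u175 s2c176 rfl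
theorem s2u177 : ∀ v, 1 ≤ v → v ≤ 92585 → fs2 v = true := slots_step fs2 92073 512 92585 s2u176 s2c177 rfl
theorem s2u178 : ∀ v, 1 ≤ v → v ≤ 93147 → fs2 v = true := slots_step fs2 92585 562 93147 s2u177 s2c178 rfl
theorem s2u179 : ∀ v, 1 ≤ v → v ≤ 93673 → fs2 v = true := slots_step fs2 93147 526 93673 s2u178 s2c179 rfl
theorem s2u180 : ∀ v, 1 ≤ v → v ≤ 94225 → fs2 v = true := slots_step fs2 93673 552 94225 s2u179 s2c180 rfl
theorem s2u181 : ∀ v, 1 ≤ v → v ≤ 94758 → fs2 v = true := slots_step fs2 94225 533 94758 s2u180 s2c181 rfl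
theorem s2u182 : ∀ v, 1 ≤ v → v ≤ 95305 → fs2 v = true := slots_step fs2 94758 547 95305 s2u181 s2c182 rfl
theorem s2u183 : ∀ v, 1 ≤ v → v ≤ 95829 → fs2 v = true := slots_step fs2 95305 524 95829 s2u182 s2c183 rfl
theorem s2u184 : ∀ v, 1 ≤ v → v ≤ 96380 → fs2 v = true := slots_step fs2 95829 551 96380 s2u183 s2c184 rfl
theorem s2u185 : ∀ v, 1 ≤ v → v ≤ 96869 → fs2 v = true := slots_step fs2 96380 489 96869 s2u184 s2c185 rfl
theorem s2u186 : ∀ v, 1 ≤ v → v ≤ 97402 → fs2 v = true := slots_step fs2 96869 533 97402 s2u185 s2c186 rfl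
theorem s2u187 : ∀ v, 1 ≤ v → v ≤ 97861 → fs2 v = true := slots_step fs2 97402 459 97861 s2u186 s2c187 rfl
theorem s2u188 : ∀ v, 1 ≤ v → v ≤ 98358 → fs2 v = true := slots_step fs2 97861 497 98358 s2u187 s2c188 rfl
theorem s2u189 : ∀ v, 1 ≤ v → v ≤ 98857 → fs2 v = true := slots_step fs2 98358 499 98857 s2u188 s2c189 rfl
theorem s2u190 : ∀ v, 1 ≤ v → v ≤ 99370 → fs2 v = true := slots_step fs2 98857 513 99370 s2u189 s2c190 rfl
theorem s2u191 : ∀ v, 1 ≤ v → v ≤ 99840 → fs2 v = true := slots_step fs2 99370 470 99840 s2u190 s2c191 rfl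
theorem s2u192 : ∀ v, 1 ≤ v → v ≤ 100371 → fs2 v = true := slots_step fs2 99840 531 100371 s2u191 s2c192 rfl
theorem s2u193 : ∀ v, 1 ≤ v → v ≤ 100950 → fs2 v = true := slots_step fs2 100371 579 100950 s2u192 s2c193 rfl
theorem s2u194 : ∀ v, 1 ≤ v → v ≤ 101446 → fs2 v = true := slots_step fs2 100950 496 101446 s2u193 s2c194 rfl
theorem s2u195 : ∀ v, 1 ≤ v → v ≤ 101908 → fs2 v = true := slots_step fs2 101446 462 101908 s2u194 s2c195 rfl
theorem s2u196 : ∀ v, 1 ≤ v → v ≤ 102366 → fs2 v = true := slots_step fs2 101908 458 102366 s2u195 s2c196 rfl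
theorem s2u197 : ∀ v, 1 ≤ v → v ≤ 102851 → fs2 v = true := slots_step fs2 102366 485 102851 s2u196 s2c197 rfl
theorem s2u198 : ∀ v, 1 ≤ v → v ≤ 103382 → fs2 v = true := slots_step fs2 102851 531 103382 s2u197 s2c198 rfl
theorem s2u199 : ∀ v, 1 ≤ v → v ≤ 103857 → fs2 v = true := slots_step fs2 103382 475 103857 s2u198 s2c199 rfl
theorem s2u200 : ∀ v, 1 ≤ v → v ≤ 104330 → fs2 v = true := slots_step fs2 103857 473 104330 s2u199 s2c200 rfl
theorem s2u201 : ∀ v, 1 ≤ v → v ≤ 104822 → fs2 v = true := slots_step fs2 104330 492 104822 s2u200 s2c201 rfl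
theorem s2u202 : ∀ v, 1 ≤ v → v ≤ 105335 → fs2 v = true := slots_step fs2 104822 513 105335 s2u201 s2c202 rfl
theorem s2u203 : ∀ v, 1 ≤ v → v ≤ 105835 → fs2 v = true := slots_step fs2 105335 500 105835 s2u202 s2c203 rfl
theorem s2u204 : ∀ v, 1 ≤ v → v ≤ 106309 → fs2 v = true := slots_step fs2 105835 474 106309 s2u203 s2c204 rfl
theorem s2u205 : ∀ v, 1 ≤ v → v ≤ 106833 → fs2 v = true := slots_step fs2 106309 524 106833 s2u204 s2c205 rfl
theorem s2u206 : ∀ v, 1 ≤ v → v ≤ 107376 → fs2 v = true := slots_step fs2 106833 543 107376 s2u205 s2c206 rfl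
theorem s2u207 : ∀ v, 1 ≤ v → v ≤ 107878 → fs2 v = true := slots_step fs2 107376 502 107878 s2u206 s2c207 rfl
theorem s2u208 : ∀ v, 1 ≤ v → v ≤ 108435 → fs2 v = true := slots_step fs2 107878 557 108435 s2u207 s2c208 rfl
theorem s2u209 : ∀ v, 1 ≤ v → v ≤ 108973 → fs2 v = true := slots_step fs2 108435 538 108973 s2u208 s2c209 rfl
theorem s2u210 : ∀ v, 1 ≤ v → v ≤ 109520 → fs2 v = true := slots_step fs2 108973 547 109520 s2u209 s2c210 rfl
theorem s2u211 : ∀ v, 1 ≤ v → v ≤ 110041 → fs2 v = true := slots_step fs2 109520 521 110041 s2u210 s2c211 rfl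
theorem s2u212 : ∀ v, 1 ≤ v → v ≤ 110589 → fs2 v = true := slots_step fs2 110041 548 110589 s2u211 s2c212 rfl
theorem s2u213 : ∀ v, 1 ≤ v → v ≤ 111123 → fs2 v = true := slots_step fs2 110589 534 111123 s2u212 s2c213 rfl
theorem s2u214 : ∀ v, 1 ≤ v → v ≤ 111759 → fs2 v = true := slots_step fs2 111123 636 111759 s2u213 s2c214 rfl
theorem s2u215 : ∀ v, 1 ≤ v → v ≤ 112347 → fs2 v = true := slots_step fs2 111759 588 112347 s2u214 s2c215 rfl
theorem s2u216 : ∀ v, 1 ≤ v → v ≤ 112895 → fs2 v = true := slots_step fs2 112347 548 112895 s2u215 s2c216 rfl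
theorem s2u217 : ∀ v, 1 ≤ v → v ≤ 113441 → fs2 v = true := slots_step fs2 112895 546 113441 s2u216 s2c217 rfl
theorem s2u218 : ∀ v, 1 ≤ v → v ≤ 114006 → fs2 v = true := slots_step fs2 113441 565 114006 s2u217 s2c218 rfl
theorem s2u219 : ∀ v, 1 ≤ v → v ≤ 114516 → fs2 v = true := slots_step fs2 114006 510 114516 s2u218 s2c219 rfl
theorem s2u220 : ∀ v, 1 ≤ v → v ≤ 115055 → fs2 v = true := slots_step fs2 114516 539 115055 s2u219 s2c220 rfl
theorem s2u221 : ∀ v, 1 ≤ v → v ≤ 115534 → fs2 v = true := slots_step fs2 115055 479 115534 s2u220 s2c221 rfl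
theorem s2u222 : ∀ v, 1 ≤ v → v ≤ 115999 → fs2 v = true := slots_step fs2 115534 465 115999 s2u221 s2c222 rfl
theorem s2u223 : ∀ v, 1 ≤ v → v ≤ 116551 → fs2 v = true := slots_step fs2 115999 552 116551 s2u222 s2c223 rfl
theorem s2u224 : ∀ v, 1 ≤ v → v ≤ 117064 → fs2 v = true := slots_step fs2 116551 513 117064 s2u223 s2c224 rfl
theorem s2u225 : ∀ v, 1 ≤ v → v ≤ 117595 → fs2 v = true := slots_step fs2 117064 531 117595 s2u224 s2c225 rfl
theorem s2u226 : ∀ v, 1 ≤ v → v ≤ 118119 → fs2 v = true := slots_step fs2 117595 524 118119 s2u225 s2c226 rfl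
theorem s2u227 : ∀ v, 1 ≤ v → v ≤ 118666 → fs2 v = true := slots_step fs2 118119 547 118666 s2u226 s2c227 rfl
theorem s2u228 : ∀ v, 1 ≤ v → v ≤ 119235 → fs2 v = true := slots_step fs2 118666 569 119235 s2u227 s2c228 rfl
theorem s2u229 : ∀ v, 1 ≤ v → v ≤ 119787 → fs2 v = true := slots_step fs2 119235 552 119787 s2u228 s2c229 rfl
theorem s2u230 : ∀ v, 1 ≤ v → v ≤ 120353 → fs2 v = true := slots_step fs2 119787 566 120353 s2u229 s2c230 rfl
theorem s2u231 : ∀ v, 1 ≤ v → v ≤ 120860 → fs2 v = true := slots_step fs2 120353 507 120860 s2u230 s2c231 rfl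
theorem s2u232 : ∀ v, 1 ≤ v → v ≤ 121357 → fs2 v = true := slots_step fs2 120860 497 121357 s2u231 s2c232 rfl
theorem s2u233 : ∀ v, 1 ≤ v → v ≤ 121917 → fs2 v = true := slots_step fs2 121357 560 121917 s2u232 s2c233 rfl
theorem s2u234 : ∀ v, 1 ≤ v → v ≤ 122413 → fs2 v = true := slots_step fs2 121917 496 122413 s2u233 s2c234 rfl
theorem s2u235 : ∀ v, 1 ≤ v → v ≤ 122948 → fs2 v = true := slots_step fs2 122413 535 122948 s2u234 s2c235 rfl
theorem s2u236 : ∀ v, 1 ≤ v → v ≤ 123490 → fs2 v = true := slots_step fs2 122948 542 123490 s2u235 s2c236 rfl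
theorem s2u237 : ∀ v, 1 ≤ v → v ≤ 123988 → fs2 v = true := slots_step fs2 123490 498 123988 s2u236 s2c237 rfl
theorem s2u238 : ∀ v, 1 ≤ v → v ≤ 124492 → fs2 v = true := slots_step fs2 123988 504 124492 s2u237 s2c238 rfl
theorem s2u239 : ∀ v, 1 ≤ v → v ≤ 124969 → fs2 v = true := slots_step fs2 124492 477 124969 s2u238 s2c239 rfl
theorem s2u240 : ∀ v, 1 ≤ v → v ≤ 125479 → fs2 v = true := slots_step fs2 124969 510 125479 s2u239 s2c240 rfl
theorem s2u241 : ∀ v, 1 ≤ v → v ≤ 125985 → fs2 v = true := slots_step fs2 125479 506 125985 s2u240 s2c241 rfl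
theorem s2u242 : ∀ v, 1 ≤ v → v ≤ 126559 → fs2 v = true := slots_step fs2 125985 574 126559 s2u241 s2c242 rfl
theorem s2u243 : ∀ v, 1 ≤ v → v ≤ 127135 → fs2 v = true := slots_step fs2 126559 576 127135 s2u242 s2c243 rfl
theorem s2u244 : ∀ v, 1 ≤ v → v ≤ 127731 → fs2 v = true := slots_step fs2 127135 596 127731 s2u243 s2c244 rfl
theorem s2u245 : ∀ v, 1 ≤ v → v ≤ 128262 → fs2 v = true := slots_step fs2 127731 531 128262 s2u244 s2c245 rfl
theorem s2u246 : ∀ v, 1 ≤ v → v ≤ 128867 → fs2 v = true := slots_step fs2 128262 605 128867 s2u245 s2c246 rfl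
theorem s2u247 : ∀ v, 1 ≤ v → v ≤ 129403 → fs2 v = true := slots_step fs2 128867 536 129403 s2u246 s2c247 rfl
theorem s2u248 : ∀ v, 1 ≤ v → v ≤ 129967 → fs2 v = true := slots_step fs2 129403 564 129967 s2u247 s2c248 rfl
theorem s2u249 : ∀ v, 1 ≤ v → v ≤ 130576 → fs2 v = true := slots_step fs2 129967 609 130576 s2u248 s2c249 rfl
theorem s2u250 : ∀ v, 1 ≤ v → v ≤ 131214 → fs2 v = true := slots_step fs2 130576 638 131214 s2u249 s2c250 rfl
theorem s2u251 : ∀ v, 1 ≤ v → v ≤ 131784 → fs2 v = true := slots_step fs2 131214 570 131784 s2u250 s2c251 rfl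
theorem s2u252 : ∀ v, 1 ≤ v → v ≤ 132337 → fs2 v = true := slots_step fs2 131784 553 132337 s2u251 s2c252 rfl
theorem s2u253 : ∀ v, 1 ≤ v → v ≤ 132918 → fs2 v = true := slots_step fs2 132337 581 132918 s2u252 s2c253 rfl
theorem s2u254 : ∀ v, 1 ≤ v → v ≤ 133504 → fs2 v = true := slots_step fs2 132918 586 133504 s2u253 s2c254 rfl
theorem s2u255 : ∀ v, 1 ≤ v → v ≤ 134085 → fs2 v = true := slots_step fs2 133504 581 134085 s2u254 s2c255 rfl
theorem s2u256 : ∀ v, 1 ≤ v → v ≤ 134643 → fs2 v = true := slots_step fs2 134085 558 134643 s2u255 s2c256 rfl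
theorem s2u257 : ∀ v, 1 ≤ v → v ≤ 135233 → fs2 v = true := slots_step fs2 134643 590 135233 s2u256 s2c257 rfl
theorem s2u258 : ∀ v, 1 ≤ v → v ≤ 135811 → fs2 v = true := slots_step fs2 135233 578 135811 s2u257 s2c258 rfl
theorem s2u259 : ∀ v, 1 ≤ v → v ≤ 136387 → fs2 v = true := slots_step fs2 135811 576 136387 s2u258 s2c259 rfl
theorem s2u260 : ∀ v, 1 ≤ v → v ≤ 137015 → fs2 v = true := slots_step fs2 136387 628 137015 s2u259 s2c260 rfl
theorem s2u261 : ∀ v, 1 ≤ v → v ≤ 137564 → fs2 v = true := slots_step fs2 137015 549 137564 s2u260 s2c261 rfl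
theorem s2u262 : ∀ v, 1 ≤ v → v ≤ 138118 → fs2 v = true := slots_step fs2 137564 554 138118 s2u261 s2c262 rfl
theorem s2u263 : ∀ v, 1 ≤ v → v ≤ 138669 → fs2 v = true := slots_step fs2 138118 551 138669 s2u262 s2c263 rfl
theorem s2u264 : ∀ v, 1 ≤ v → v ≤ 139190 → fs2 v = true := slots_step fs2 138669 521 139190 s2u263 s2c264 rfl
theorem s2u265 : ∀ v, 1 ≤ v → v ≤ 139759 → fs2 v = true := slots_step fs2 139190 569 139759 s2u264 s2c265 rfl
theorem s2u266 : ∀ v, 1 ≤ v → v ≤ 140339 → fs2 v = true := slots_step fs2 139759 580 140339 s2u265 s2c266 rfl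
theorem s2u267 : ∀ v, 1 ≤ v → v ≤ 140988 → fs2 v = true := slots_step fs2 140339 649 140988 s2u266 s2c267 rfl
theorem s2u268 : ∀ v, 1 ≤ v → v ≤ 141466 → fs2 v = true := slots_step fs2 140988 478 141466 s2u267 s2c268 rfl
theorem s2u269 : ∀ v, 1 ≤ v → v ≤ 142053 → fs2 v = true := slots_step fs2 141466 587 142053 s2u268 s2c269 rfl
theorem s2u270 : ∀ v, 1 ≤ v → v ≤ 142642 → fs2 v = true := slots_step fs2 142053 589 142642 s2u269 s2c270 rfl
theorem s2u271 : ∀ v, 1 ≤ v → v ≤ 143276 → fs2 v = true := slots_step fs2 142642 634 143276 s2u270 s2c271 rfl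
theorem s2u272 : ∀ v, 1 ≤ v → v ≤ 143877 → fs2 v = true := slots_step fs2 143276 601 143877 s2u271 s2c272 rfl
theorem s2u273 : ∀ v, 1 ≤ v → v ≤ 144418 → fs2 v = true := slots_step fs2 143877 541 144418 s2u272 s2c273 rfl
theorem s2u274 : ∀ v, 1 ≤ v → v ≤ 145003 → fs2 v = true := slots_step fs2 144418 585 145003 s2u273 s2c274 rfl
theorem s2u275 : ∀ v, 1 ≤ v → v ≤ 145722 → fs2 v = true := slots_step fs2 145003 719 145722 s2u274 s2c275 rfl
theorem s2u276 : ∀ v, 1 ≤ v → v ≤ 146337 → fs2 v = true := slots_step fs2 145722 615 146337 s2u275 s2c276 rfl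
theorem s2u277 : ∀ v, 1 ≤ v → v ≤ 146926 → fs2 v = true := slots_step fs2 146337 589 146926 s2u276 s2c277 rfl
theorem s2u278 : ∀ v, 1 ≤ v → v ≤ 147486 → fs2 v = true := slots_step fs2 146926 560 147486 s2u277 s2c278 rfl
theorem s2u279 : ∀ v, 1 ≤ v → v ≤ 148170 → fs2 v = true := slots_step fs2 147486 684 148170 s2u278 s2c279 rfl
theorem s2u280 : ∀ v, 1 ≤ v → v ≤ 148830 → fs2 v = true := slots_step fs2 148170 660 148830 s2u279 s2c280 rfl
theorem s2u281 : ∀ v, 1 ≤ v → v ≤ 149506 → fs2 v = true := slots_step fs2 148830 676 149506 s2u280 s2c281 rfl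
theorem s2u282 : ∀ v, 1 ≤ v → v ≤ 150173 → fs2 v = true := slots_step fs2 149506 667 150173 s2u281 s2c282 rfl
theorem s2u283 : ∀ v, 1 ≤ v → v ≤ 150841 → fs2 v = true := slots_step fs2 150173 668 150841 s2u282 s2c283 rfl
theorem s2u284 : ∀ v, 1 ≤ v → v ≤ 151505 → fs2 v = true := slots_step fs2 150841 664 151505 s2u283 s2c284 rfl
theorem s2u285 : ∀ v, 1 ≤ v → v ≤ 152119 → fs2 v = true := slots_step fs2 151505 614 152119 s2u284 s2c285 rfl
theorem s2u286 : ∀ v, 1 ≤ v → v ≤ 152717 → fs2 v = true := slots_step fs2 152119 598 152717 s2u285 s2c286 rfl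
theorem s2u287 : ∀ v, 1 ≤ v → v ≤ 153343 → fs2 v = true := slots_step fs2 152717 626 153343 s2u286 s2c287 rfl
theorem s2u288 : ∀ v, 1 ≤ v → v ≤ 153946 → fs2 v = true := slots_step fs2 153343 603 153946 s2u287 s2c288 rfl
theorem s2u289 : ∀ v, 1 ≤ v → v ≤ 154610 → fs2 v = true := slots_step fs2 153946 664 154610 s2u288 s2c289 rfl
theorem s2u290 : ∀ v, 1 ≤ v → v ≤ 155193 → fs2 v = true := slots_step fs2 154610 583 155193 s2u289 s2c290 rfl
theorem s2u291 : ∀ v, 1 ≤ v → v ≤ 155825 → fs2 v = true := slots_step fs2 155193 632 155825 s2u290 s2c291 rfl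
theorem s2u292 : ∀ v, 1 ≤ v → v ≤ 156462 → fs2 v = true := slots_step fs2 155825 637 156462 s2u291 s2c292 rfl
theorem s2u293 : ∀ v, 1 ≤ v → v ≤ 157081 → fs2 v = true := slots_step fs2 156462 619 157081 s2u292 s2c293 rfl
theorem s2u294 : ∀ v, 1 ≤ v → v ≤ 157726 → fs2 v = true := slots_step fs2 157081 645 157726 s2u293 s2c294 rfl
theorem s2u295 : ∀ v, 1 ≤ v → v ≤ 158417 → fs2 v = true := slots_step fs2 157726 691 158417 s2u294 s2c295 rfl
theorem s2u296 : ∀ v, 1 ≤ v → v ≤ 158995 → fs2 v = true := slots_step fs2 158417 578 158995 s2u295 s2c296 rfl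
theorem s2u297 : ∀ v, 1 ≤ v → v ≤ 159597 → fs2 v = true := slots_step fs2 158995 602 159597 s2u296 s2c297 rfl
theorem s2u298 : ∀ v, 1 ≤ v → v ≤ 160178 → fs2 v = true := slots_step fs2 159597 581 160178 s2u297 s2c298 rfl
theorem s2u299 : ∀ v, 1 ≤ v → v ≤ 160849 → fs2 v = true := slots_step fs2 160178 671 160849 s2u298 s2c299 rfl
theorem s2u300 : ∀ v, 1 ≤ v → v ≤ 161402 → fs2 v = true := slots_step fs2 160849 553 161402 s2u299 s2c300 rfl
theorem s2u301 : ∀ v, 1 ≤ v → v ≤ 161951 → fs2 v = true := slots_step fs2 161402 549 161951 s2u300 s2c301 rfl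
theorem s2u302 : ∀ v, 1 ≤ v → v ≤ 162378 → fs2 v = true := slots_step fs2 161951 427 162378 s2u301 s2c302 rfl
theorem s2u303 : ∀ v, 1 ≤ v → v ≤ 162816 → fs2 v = true := slots_step fs2 162378 438 162816 s2u302 s2c303 rfl
theorem s2u304 : ∀ v, 1 ≤ v → v ≤ 163241 → fs2 v = true := slots_step fs2 162816 425 163241 s2u303 s2c304 rfl
theorem s2u305 : ∀ v, 1 ≤ v → v ≤ 163685 → fs2 v = true := slots_step fs2 163241 444 163685 s2u304 s2c305 rfl
theorem s2u306 : ∀ v, 1 ≤ v → v ≤ 164094 → fs2 v = true := slots_step fs2 163685 409 164094 s2u305 s2c306 rfl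
theorem s2u307 : ∀ v, 1 ≤ v → v ≤ 164533 → fs2 v = true := slots_step fs2 164094 439 164533 s2u306 s2c307 rfl
theorem s2u308 : ∀ v, 1 ≤ v → v ≤ 164971 → fs2 v = true := slots_step fs2 164533 438 164971 s2u307 s2c308 rfl
theorem s2u309 : ∀ v, 1 ≤ v → v ≤ 165410 → fs2 v = true := slots_step fs2 164971 439 165410 s2u308 s2c309 rfl
theorem s2u310 : ∀ v, 1 ≤ v → v ≤ 165851 → fs2 v = true := slots_step fs2 165410 441 165851 s2u309 s2c310 rfl
theorem s2u311 : ∀ v, 1 ≤ v → v ≤ 166267 → fs2 v = true := slots_step fs2 165851 416 166267 s2u310 s2c311 rfl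
theorem s2u312 : ∀ v, 1 ≤ v → v ≤ 166694 → fs2 v = true := slots_step fs2 166267 427 166694 s2u311 s2c312 rfl
theorem s2u313 : ∀ v, 1 ≤ v → v ≤ 167128 → fs2 v = true := slots_step fs2 166694 434 167128 s2u312 s2c313 rfl
theorem s2u314 : ∀ v, 1 ≤ v → v ≤ 167552 → fs2 v = true := slots_step fs2 167128 424 167552 s2u313 s2c314 rfl
theorem s2u315 : ∀ v, 1 ≤ v → v ≤ 167973 → fs2 v = true := slots_step fs2 167552 421 167973 s2u314 s2c315 rfl
theorem s2u316 : ∀ v, 1 ≤ v → v ≤ 168411 → fs2 v = true := slots_step fs2 167973 438 168411 s2u315 s2c316 rfl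
theorem s2u317 : ∀ v, 1 ≤ v → v ≤ 168847 → fs2 v = true := slots_step fs2 168411 436 168847 s2u316 s2c317 rfl
theorem s2u318 : ∀ v, 1 ≤ v → v ≤ 169281 → fs2 v = true := slots_step fs2 168847 434 169281 s2u317 s2c318 rfl
theorem s2u319 : ∀ v, 1 ≤ v → v ≤ 169705 → fs2 v = true := slots_step fs2 169281 424 169705 s2u318 s2c319 rfl
theorem s2u320 : ∀ v, 1 ≤ v → v ≤ 170131 → fs2 v = true := slots_step fs2 169705 426 170131 s2u319 s2c320 rfl
theorem s2u321 : ∀ v, 1 ≤ v → v ≤ 170544 → fs2 v = true := slots_step fs2 170131 413 170544 s2u320 s2c321 rfl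
theorem s2u322 : ∀ v, 1 ≤ v → v ≤ 170969 → fs2 v = true := slots_step fs2 170544 425 170969 s2u321 s2c322 rfl
theorem s2u323 : ∀ v, 1 ≤ v → v ≤ 171390 → fs2 v = true := slots_step fs2 170969 421 171390 s2u322 s2c323 rfl
theorem s2u324 : ∀ v, 1 ≤ v → v ≤ 171811 → fs2 v = true := slots_step fs2 171390 421 171811 s2u323 s2c324 rfl
theorem s2u325 : ∀ v, 1 ≤ v → v ≤ 172242 → fs2 v = true := slots_step fs2 171811 431 172242 s2u324 s2c325 rfl
theorem s2u326 : ∀ v, 1 ≤ v → v ≤ 172660 → fs2 v = true := slots_step fs2 172242 418 172660 s2u325 s2c326 rfl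
theorem s2u327 : ∀ v, 1 ≤ v → v ≤ 173080 → fs2 v = true := slots_step fs2 172660 420 173080 s2u326 s2c327 rfl
theorem s2u328 : ∀ v, 1 ≤ v → v ≤ 173514 → fs2 v = true := slots_step fs2 173080 434 173514 s2u327 s2c328 rfl
theorem s2u329 : ∀ v, 1 ≤ v → v ≤ 173930 → fs2 v = true := slots_step fs2 173514 416 173930 s2u328 s2c329 rfl
theorem s2u330 : ∀ v, 1 ≤ v → v ≤ 174346 → fs2 v = true := slots_step fs2 173930 416 174346 s2u329 s2c330 rfl
theorem s2u331 : ∀ v, 1 ≤ v → v ≤ 174766 → fs2 v = true := slots_step fs2 174346 420 174766 s2u330 s2c331 rfl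
theorem s2u332 : ∀ v, 1 ≤ v → v ≤ 175188 → fs2 v = true := slots_step fs2 174766 422 175188 s2u331 s2c332 rfl
theorem s2u333 : ∀ v, 1 ≤ v → v ≤ 175609 → fs2 v = true := slots_step fs2 175188 421 175609 s2u332 s2c333 rfl
theorem s2u334 : ∀ v, 1 ≤ v → v ≤ 176012 → fs2 v = true := slots_step fs2 175609 403 176012 s2u333 s2c334 rfl
theorem s2u335 : ∀ v, 1 ≤ v → v ≤ 176436 → fs2 v = true := slots_step fs2 176012 424 176436 s2u334 s2c335 rfl
theorem s2u336 : ∀ v, 1 ≤ v → v ≤ 176865 → fs2 v = true := slots_step fs2 176436 429 176865 s2u335 s2c336 rfl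
theorem s2u337 : ∀ v, 1 ≤ v → v ≤ 177291 → fs2 v = true := slots_step fs2 176865 426 177291 s2u336 s2c337 rfl
theorem s2u338 : ∀ v, 1 ≤ v → v ≤ 177718 → fs2 v = true := slots_step fs2 177291 427 177718 s2u337 s2c338 rfl
theorem s2u339 : ∀ v, 1 ≤ v → v ≤ 178138 → fs2 v = true := slots_step fs2 177718 420 178138 s2u338 s2c339 rfl
theorem s2u340 : ∀ v, 1 ≤ v → v ≤ 178542 → fs2 v = true := slots_step fs2 178138 404 178542 s2u339 s2c340 rfl
theorem s2u341 : ∀ v, 1 ≤ v → v ≤ 178961 → fs2 v = true := slots_step fs2 178542 419 178961 s2u340 s2c341 rfl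
theorem s2u342 : ∀ v, 1 ≤ v → v ≤ 179372 → fs2 v = true := slots_step fs2 178961 411 179372 s2u341 s2c342 rfl
theorem s2u343 : ∀ v, 1 ≤ v → v ≤ 179793 → fs2 v = true := slots_step fs2 179372 421 179793 s2u342 s2c343 rfl
theorem s2u344 : ∀ v, 1 ≤ v → v ≤ 180216 → fs2 v = true := slots_step fs2 179793 423 180216 s2u343 s2c344 rfl
theorem s2u345 : ∀ v, 1 ≤ v → v ≤ 180634 → fs2 v = true := slots_step fs2 180216 418 180634 s2u344 s2c345 rfl
theorem s2u346 : ∀ v, 1 ≤ v → v ≤ 181041 → fs2 v = true := slots_step fs2 180634 407 181041 s2u345 s2c346 rfl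
theorem s2u347 : ∀ v, 1 ≤ v → v ≤ 181445 → fs2 v = true := slots_step fs2 181041 404 181445 s2u346 s2c347 rfl
theorem s2u348 : ∀ v, 1 ≤ v → v ≤ 181852 → fs2 v = true := slots_step fs2 181445 407 181852 s2u347 s2c348 rfl
theorem s2u349 : ∀ v, 1 ≤ v → v ≤ 182282 → fs2 v = true := slots_step fs2 181852 430 182282 s2u348 s2c349 rfl
theorem s2u350 : ∀ v, 1 ≤ v → v ≤ 182711 → fs2 v = true := slots_step fs2 182282 429 182711 s2u349 s2c350 rfl
theorem s2u351 : ∀ v, 1 ≤ v → v ≤ 183112 → fs2 v = true := slots_step fs2 182711 401 183112 s2u350 s2c351 rfl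
theorem s2u352 : ∀ v, 1 ≤ v → v ≤ 183515 → fs2 v = true := slots_step fs2 183112 403 183515 s2u351 s2c352 rfl
theorem s2u353 : ∀ v, 1 ≤ v → v ≤ 183911 → fs2 v = true := slots_step fs2 183515 396 183911 s2u352 s2c353 rfl
theorem s2u354 : ∀ v, 1 ≤ v → v ≤ 184327 → fs2 v = true := slots_step fs2 183911 416 184327 s2u353 s2c354 rfl
theorem s2u355 : ∀ v, 1 ≤ v → v ≤ 184736 → fs2 v = true := slots_step fs2 184327 409 184736 s2u354 s2c355 rfl
theorem s2u356 : ∀ v, 1 ≤ v → v ≤ 185157 → fs2 v = true := slots_step fs2 184736 421 185157 s2u355 s2c356 rfl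
theorem s2u357 : ∀ v, 1 ≤ v → v ≤ 185581 → fs2 v = true := slots_step fs2 185157 424 185581 s2u356 s2c357 rfl
theorem s2u358 : ∀ v, 1 ≤ v → v ≤ 185992 → fs2 v = true := slots_step fs2 185581 411 185992 s2u357 s2c358 rfl
theorem s2u359 : ∀ v, 1 ≤ v → v ≤ 186405 → fs2 v = true := slots_step fs2 185992 413 186405 s2u358 s2c359 rfl
theorem s2u360 : ∀ v, 1 ≤ v → v ≤ 186830 → fs2 v = true := slots_step fs2 186405 425 186830 s2u359 s2c360 rfl
theorem s2u361 : ∀ v, 1 ≤ v → v ≤ 187238 → fs2 v = true := slots_step fs2 186830 408 187238 s2u360 s2c361 rfl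
theorem s2u362 : ∀ v, 1 ≤ v → v ≤ 187662 → fs2 v = true := slots_step fs2 187238 424 187662 s2u361 s2c362 rfl
theorem s2u363 : ∀ v, 1 ≤ v → v ≤ 188068 → fs2 v = true := slots_step fs2 187662 406 188068 s2u362 s2c363 rfl
theorem s2u364 : ∀ v, 1 ≤ v → v ≤ 188474 → fs2 v = true := slots_step fs2 188068 406 188474 s2u363 s2c364 rfl
theorem s2u365 : ∀ v, 1 ≤ v → v ≤ 188877 → fs2 v = true := slots_step fs2 188474 403 188877 s2u364 s2c365 rfl
theorem s2u366 : ∀ v, 1 ≤ v → v ≤ 189288 → fs2 v = true := slots_step fs2 188877 411 189288 s2u365 s2c366 rfl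
theorem s2u367 : ∀ v, 1 ≤ v → v ≤ 189698 → fs2 v = true := slots_step fs2 189288 410 189698 s2u366 s2c367 rfl
theorem s2u368 : ∀ v, 1 ≤ v → v ≤ 190093 → fs2 v = true := slots_step fs2 189698 395 190093 s2u367 s2c368 rfl
theorem s2u369 : ∀ v, 1 ≤ v → v ≤ 190492 → fs2 v = true := slots_step fs2 190093 399 190492 s2u368 s2c369 rfl
theorem s2u370 : ∀ v, 1 ≤ v → v ≤ 190895 → fs2 v = true := slots_step fs2 190492 403 190895 s2u369 s2c370 rfl
theorem s2u371 : ∀ v, 1 ≤ v → v ≤ 191298 → fs2 v = true := slots_step fs2 190895 403 191298 s2u370 s2c371 rfl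
theorem s2u372 : ∀ v, 1 ≤ v → v ≤ 191704 → fs2 v = true := slots_step fs2 191298 406 191704 s2u371 s2c372 rfl
theorem s2u373 : ∀ v, 1 ≤ v → v ≤ 192119 → fs2 v = true := slots_step fs2 191704 415 192119 s2u372 s2c373 rfl
theorem s2u374 : ∀ v, 1 ≤ v → v ≤ 192526 → fs2 v = true := slots_step fs2 192119 407 192526 s2u373 s2c374 rfl
theorem s2u375 : ∀ v, 1 ≤ v → v ≤ 192939 → fs2 v = true := slots_step fs2 192526 413 192939 s2u374 s2c375 rfl
theorem s2u376 : ∀ v, 1 ≤ v → v ≤ 193336 → fs2 v = true := slots_step fs2 192939 397 193336 s2u375 s2c376 rfl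
theorem s2u377 : ∀ v, 1 ≤ v → v ≤ 193736 → fs2 v = true := slots_step fs2 193336 400 193736 s2u376 s2c377 rfl
theorem s2u378 : ∀ v, 1 ≤ v → v ≤ 194140 → fs2 v = true := slots_step fs2 193736 404 194140 s2u377 s2c378 rfl
theorem s2u379 : ∀ v, 1 ≤ v → v ≤ 194548 → fs2 v = true := slots_step fs2 194140 408 194548 s2u378 s2c379 rfl
theorem s2u380 : ∀ v, 1 ≤ v → v ≤ 194934 → fs2 v = true := slots_step fs2 194548 386 194934 s2u379 s2c380 rfl
theorem s2u381 : ∀ v, 1 ≤ v → v ≤ 195329 → fs2 v = true := slots_step fs2 194934 395 195329 s2u380 s2c381 rfl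
theorem s2u382 : ∀ v, 1 ≤ v → v ≤ 195729 → fs2 v = true := slots_step fs2 195329 400 195729 s2u381 s2c382 rfl
theorem s2u383 : ∀ v, 1 ≤ v → v ≤ 196129 → fs2 v = true := slots_step fs2 195729 400 196129 s2u382 s2c383 rfl
theorem s2u384 : ∀ v, 1 ≤ v → v ≤ 196521 → fs2 v = true := slots_step fs2 196129 392 196521 s2u383 s2c384 rfl
theorem s2u385 : ∀ v, 1 ≤ v → v ≤ 196915 → fs2 v = true := slots_step fs2 196521 394 196915 s2u384 s2c385 rfl
theorem s2u386 : ∀ v, 1 ≤ v → v ≤ 197317 → fs2 v = true := slots_step fs2 196915 402 197317 s2u385 s2c386 rfl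
theorem s2u387 : ∀ v, 1 ≤ v → v ≤ 197714 → fs2 v = true := slots_step fs2 197317 397 197714 s2u386 s2c387 rfl
theorem s2u388 : ∀ v, 1 ≤ v → v ≤ 198106 → fs2 v = true := slots_step fs2 197714 392 198106 s2u387 s2c388 rfl
theorem s2u389 : ∀ v, 1 ≤ v → v ≤ 198502 → fs2 v = true := slots_step fs2 198106 396 198502 s2u388 s2c389 rfl
theorem s2u390 : ∀ v, 1 ≤ v → v ≤ 198897 → fs2 v = true := slots_step fs2 198502 395 198897 s2u389 s2c390 rfl
theorem s2u391 : ∀ v, 1 ≤ v → v ≤ 199298 → fs2 v = true := slots_step fs2 198897 401 199298 s2u390 s2c391 rfl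
theorem s2u392 : ∀ v, 1 ≤ v → v ≤ 199692 → fs2 v = true := slots_step fs2 199298 394 199692 s2u391 s2c392 rfl
theorem s2u393 : ∀ v, 1 ≤ v → v ≤ 200077 → fs2 v = true := slots_step fs2 199692 385 200077 s2u392 s2c393 rfl
theorem s2u394 : ∀ v, 1 ≤ v → v ≤ 200472 → fs2 v = true := slots_step fs2 200077 395 200472 s2u393 s2c394 rfl
theorem s2u395 : ∀ v, 1 ≤ v → v ≤ 200853 → fs2 v = true := slots_step fs2 200472 381 200853 s2u394 s2c395 rfl
theorem s2u396 : ∀ v, 1 ≤ v → v ≤ 201242 → fs2 v = true := slots_step fs2 200853 389 201242 s2u395 s2c396 rfl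
theorem s2u397 : ∀ v, 1 ≤ v → v ≤ 201582 → fs2 v = true := slots_step fs2 201242 340 201582 s2u396 s2c397 rfl
theorem s3u0 : ∀ v, 1 ≤ v → v ≤ 548 → fs3 v = true := slots_step fs3 0 548 548 (slots_zero fs3) s3c0 rfl
theorem s3u1 : ∀ v, 1 ≤ v → v ≤ 1029 → fs3 v = true := slots_step fs3 548 481 1029 s3u0 s3c1 rfl
theorem s3u2 : ∀ v, 1 ≤ v → v ≤ 1539 → fs3 v = true := slots_step fs3 1029 510 1539 s3u1 s3c2 rfl
theorem s3u3 : ∀ v, 1 ≤ v → v ≤ 2032 → fs3 v = true := slots_step fs3 1539 493 2032 s3u2 s3c3 rfl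
theorem s3u4 : ∀ v, 1 ≤ v → v ≤ 2535 → fs3 v = true := slots_step fs3 2032 503 2535 s3u3 s3c4 rfl
theorem s3u5 : ∀ v, 1 ≤ v → v ≤ 3097 → fs3 v = true := slots_step fs3 2535 562 3097 s3u4 s3c5 rfl
theorem s3u6 : ∀ v, 1 ≤ v → v ≤ 3612 → fs3 v = true := slots_step fs3 3097 515 3612 s3u5 s3c6 rfl
theorem s3u7 : ∀ v, 1 ≤ v → v ≤ 4150 → fs3 v = true := slots_step fs3 3612 538 4150 s3u6 s3c7 rfl
theorem s3u8 : ∀ v, 1 ≤ v → v ≤ 4703 → fs3 v = true := slots_step fs3 4150 553 4703 s3u7 s3c8 rfl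
theorem s3u9 : ∀ v, 1 ≤ v → v ≤ 5207 → fs3 v = true := slots_step fs3 4703 504 5207 s3u8 s3c9 rfl
theorem s3u10 : ∀ v, 1 ≤ v → v ≤ 5718 → fs3 v = true := slots_step fs3 5207 511 5718 s3u9 s3c10 rfl
theorem s3u11 : ∀ v, 1 ≤ v → v ≤ 6219 → fs3 v = true := slots_step fs3 5718 501 6219 s3u10 s3c11 rfl
theorem s3u12 : ∀ v, 1 ≤ v → v ≤ 6715 → fs3 v = true := slots_step fs3 6219 496 6715 s3u11 s3c12 rfl
theorem s3u13 : ∀ v, 1 ≤ v → v ≤ 7228 → fs3 v = true := slots_step fs3 6715 513 7228 s3u12 s3c13 rfl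
theorem s3u14 : ∀ v, 1 ≤ v → v ≤ 7752 → fs3 v = true := slots_step fs3 7228 524 7752 s3u13 s3c14 rfl
theorem s3u15 : ∀ v, 1 ≤ v → v ≤ 8260 → fs3 v = true := slots_step fs3 7752 508 8260 s3u14 s3c15 rfl
theorem s3u16 : ∀ v, 1 ≤ v → v ≤ 8806 → fs3 v = true := slots_step fs3 8260 546 8806 s3u15 s3c16 rfl
theorem s3u17 : ∀ v, 1 ≤ v → v ≤ 9340 → fs3 v = true := slots_step fs3 8806 534 9340 s3u16 s3c17 rfl
theorem s3u18 : ∀ v, 1 ≤ v → v ≤ 9910 → fs3 v = true := slots_step fs3 9340 570 9910 s3u17 s3c18 rfl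
theorem s3u19 : ∀ v, 1 ≤ v → v ≤ 10464 → fs3 v = true := slots_step fs3 9910 554 10464 s3u18 s3c19 rfl
theorem s3u20 : ∀ v, 1 ≤ v → v ≤ 10990 → fs3 v = true := slots_step fs3 10464 526 10990 s3u19 s3c20 rfl
theorem s3u21 : ∀ v, 1 ≤ v → v ≤ 11475 → fs3 v = true := slots_step fs3 10990 485 11475 s3u20 s3c21 rfl
theorem s3u22 : ∀ v, 1 ≤ v → v ≤ 11970 → fs3 v = true := slots_step fs3 11475 495 11970 s3u21 s3c22 rfl
theorem s3u23 : ∀ v, 1 ≤ v → v ≤ 12456 → fs3 v = true := slots_step fs3 11970 486 12456 s3u22 s3c23 rfl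
theorem s3u24 : ∀ v, 1 ≤ v → v ≤ 12954 → fs3 v = true := slots_step fs3 12456 498 12954 s3u23 s3c24 rfl
theorem s3u25 : ∀ v, 1 ≤ v → v ≤ 13441 → fs3 v = true := slots_step fs3 12954 487 13441 s3u24 s3c25 rfl
theorem s3u26 : ∀ v, 1 ≤ v → v ≤ 13957 → fs3 v = true := slots_step fs3 13441 516 13957 s3u25 s3c26 rfl
theorem s3u27 : ∀ v, 1 ≤ v → v ≤ 14442 → fs3 v = true := slots_step fs3 13957 485 14442 s3u26 s3c27 rfl
theorem s3u28 : ∀ v, 1 ≤ v → v ≤ 14976 → fs3 v = true := slots_step fs3 14442 534 14976 s3u27 s3c28 rfl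
theorem s3u29 : ∀ v, 1 ≤ v → v ≤ 15539 → fs3 v = true := slots_step fs3 14976 563 15539 s3u28 s3c29 rfl
theorem s3u30 : ∀ v, 1 ≤ v → v ≤ 16068 → fs3 v = true := slots_step fs3 15539 529 16068 s3u29 s3c30 rfl
theorem s3u31 : ∀ v, 1 ≤ v → v ≤ 16581 → fs3 v = true := slots_step fs3 16068 513 16581 s3u30 s3c31 rfl
theorem s3u32 : ∀ v, 1 ≤ v → v ≤ 17066 → fs3 v = true := slots_step fs3 16581 485 17066 s3u31 s3c32 rfl
theorem s3u33 : ∀ v, 1 ≤ v → v ≤ 17585 → fs3 v = true := slots_step fs3 17066 519 17585 s3u32 s3c33 rfl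
theorem s3u34 : ∀ v, 1 ≤ v → v ≤ 18135 → fs3 v = true := slots_step fs3 17585 550 18135 s3u33 s3c34 rfl
theorem s3u35 : ∀ v, 1 ≤ v → v ≤ 18712 → fs3 v = true := slots_step fs3 18135 577 18712 s3u34 s3c35 rfl
theorem s3u36 : ∀ v, 1 ≤ v → v ≤ 19232 → fs3 v = true := slots_step fs3 18712 520 19232 s3u35 s3c36 rfl
theorem s3u37 : ∀ v, 1 ≤ v → v ≤ 19763 → fs3 v = true := slots_step fs3 19232 531 19763 s3u36 s3c37 rfl
theorem s3u38 : ∀ v, 1 ≤ v → v ≤ 20315 → fs3 v = true := slots_step fs3 19763 552 20315 s3u37 s3c38 rfl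
theorem s3u39 : ∀ v, 1 ≤ v → v ≤ 20875 → fs3 v = true := slots_step fs3 20315 560 20875 s3u38 s3c39 rfl
theorem s3u40 : ∀ v, 1 ≤ v → v ≤ 21424 → fs3 v = true := slots_step fs3 20875 549 21424 s3u39 s3c40 rfl
theorem s3u41 : ∀ v, 1 ≤ v → v ≤ 21957 → fs3 v = true := slots_step fs3 21424 533 21957 s3u40 s3c41 rfl
theorem s3u42 : ∀ v, 1 ≤ v → v ≤ 22495 → fs3 v = true := slots_step fs3 21957 538 22495 s3u41 s3c42 rfl
theorem s3u43 : ∀ v, 1 ≤ v → v ≤ 23058 → fs3 v = true := slots_step fs3 22495 563 23058 s3u42 s3c43 rfl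
theorem s3u44 : ∀ v, 1 ≤ v → v ≤ 23540 → fs3 v = true := slots_step fs3 23058 482 23540 s3u43 s3c44 rfl
theorem s3u45 : ∀ v, 1 ≤ v → v ≤ 24036 → fs3 v = true := slots_step fs3 23540 496 24036 s3u44 s3c45 rfl
theorem s3u46 : ∀ v, 1 ≤ v → v ≤ 24514 → fs3 v = true := slots_step fs3 24036 478 24514 s3u45 s3c46 rfl
theorem s3u47 : ∀ v, 1 ≤ v → v ≤ 24993 → fs3 v = true := slots_step fs3 24514 479 24993 s3u46 s3c47 rfl
theorem s3u48 : ∀ v, 1 ≤ v → v ≤ 25472 → fs3 v = true := slots_step fs3 24993 479 25472 s3u47 s3c48 rfl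
theorem s3u49 : ∀ v, 1 ≤ v → v ≤ 25945 → fs3 v = true := slots_step fs3 25472 473 25945 s3u48 s3c49 rfl
theorem s3u50 : ∀ v, 1 ≤ v → v ≤ 26425 → fs3 v = true := slots_step fs3 25945 480 26425 s3u49 s3c50 rfl
theorem s3u51 : ∀ v, 1 ≤ v → v ≤ 26963 → fs3 v = true := slots_step fs3 26425 538 26963 s3u50 s3c51 rfl
theorem s3u52 : ∀ v, 1 ≤ v → v ≤ 27490 → fs3 v = true := slots_step fs3 26963 527 27490 s3u51 s3c52 rfl
theorem s3u53 : ∀ v, 1 ≤ v → v ≤ 28003 → fs3 v = true := slots_step fs3 27490 513 28003 s3u52 s3c53 rfl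
theorem s3u54 : ∀ v, 1 ≤ v → v ≤ 28538 → fs3 v = true := slots_step fs3 28003 535 28538 s3u53 s3c54 rfl
theorem s3u55 : ∀ v, 1 ≤ v → v ≤ 29049 → fs3 v = true := slots_step fs3 28538 511 29049 s3u54 s3c55 rfl
theorem s3u56 : ∀ v, 1 ≤ v → v ≤ 29563 → fs3 v = true := slots_step fs3 29049 514 29563 s3u55 s3c56 rfl
theorem s3u57 : ∀ v, 1 ≤ v → v ≤ 30076 → fs3 v = true := slots_step fs3 29563 513 30076 s3u56 s3c57 rfl
theorem s3u58 : ∀ v, 1 ≤ v → v ≤ 30617 → fs3 v = true := slots_step fs3 30076 541 30617 s3u57 s3c58 rfl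
theorem s3u59 : ∀ v, 1 ≤ v → v ≤ 31160 → fs3 v = true := slots_step fs3 30617 543 31160 s3u58 s3c59 rfl
theorem s3u60 : ∀ v, 1 ≤ v → v ≤ 31692 → fs3 v = true := slots_step fs3 31160 532 31692 s3u59 s3c60 rfl
theorem s3u61 : ∀ v, 1 ≤ v → v ≤ 32219 → fs3 v = true := slots_step fs3 31692 527 32219 s3u60 s3c61 rfl
theorem s3u62 : ∀ v, 1 ≤ v → v ≤ 32738 → fs3 v = true := slots_step fs3 32219 519 32738 s3u61 s3c62 rfl
theorem s3u63 : ∀ v, 1 ≤ v → v ≤ 33287 → fs3 v = true := slots_step fs3 32738 549 33287 s3u62 s3c63 rfl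
theorem s3u64 : ∀ v, 1 ≤ v → v ≤ 33830 → fs3 v = true := slots_step fs3 33287 543 33830 s3u63 s3c64 rfl
theorem s3u65 : ∀ v, 1 ≤ v → v ≤ 34371 → fs3 v = true := slots_step fs3 33830 541 34371 s3u64 s3c65 rfl
theorem s3u66 : ∀ v, 1 ≤ v → v ≤ 34891 → fs3 v = true := slots_step fs3 34371 520 34891 s3u65 s3c66 rfl
theorem s3u67 : ∀ v, 1 ≤ v → v ≤ 35420 → fs3 v = true := slots_step fs3 34891 529 35420 s3u66 s3c67 rfl
theorem s3u68 : ∀ v, 1 ≤ v → v ≤ 35942 → fs3 v = true := slots_step fs3 35420 522 35942 s3u67 s3c68 rfl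
theorem s3u69 : ∀ v, 1 ≤ v → v ≤ 36530 → fs3 v = true := slots_step fs3 35942 588 36530 s3u68 s3c69 rfl
theorem s3u70 : ∀ v, 1 ≤ v → v ≤ 37097 → fs3 v = true := slots_step fs3 36530 567 37097 s3u69 s3c70 rfl
theorem s3u71 : ∀ v, 1 ≤ v → v ≤ 37647 → fs3 v = true := slots_step fs3 37097 550 37647 s3u70 s3c71 rfl
theorem s3u72 : ∀ v, 1 ≤ v → v ≤ 38195 → fs3 v = true := slots_step fs3 37647 548 38195 s3u71 s3c72 rfl
theorem s3u73 : ∀ v, 1 ≤ v → v ≤ 38732 → fs3 v = true := slots_step fs3 38195 537 38732 s3u72 s3c73 rfl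
theorem s3u74 : ∀ v, 1 ≤ v → v ≤ 39306 → fs3 v = true := slots_step fs3 38732 574 39306 s3u73 s3c74 rfl
theorem s3u75 : ∀ v, 1 ≤ v → v ≤ 39857 → fs3 v = true := slots_step fs3 39306 551 39857 s3u74 s3c75 rfl
theorem s3u76 : ∀ v, 1 ≤ v → v ≤ 40418 → fs3 v = true := slots_step fs3 39857 561 40418 s3u75 s3c76 rfl
theorem s3u77 : ∀ v, 1 ≤ v → v ≤ 40943 → fs3 v = true := slots_step fs3 40418 525 40943 s3u76 s3c77 rfl
theorem s3u78 : ∀ v, 1 ≤ v → v ≤ 41468 → fs3 v = true := slots_step fs3 40943 525 41468 s3u77 s3c78 rfl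
theorem s3u79 : ∀ v, 1 ≤ v → v ≤ 42030 → fs3 v = true := slots_step fs3 41468 562 42030 s3u78 s3c79 rfl
theorem s3u80 : ∀ v, 1 ≤ v → v ≤ 42552 → fs3 v = true := slots_step fs3 42030 522 42552 s3u79 s3c80 rfl
theorem s3u81 : ∀ v, 1 ≤ v → v ≤ 43108 → fs3 v = true := slots_step fs3 42552 556 43108 s3u80 s3c81 rfl
theorem s3u82 : ∀ v, 1 ≤ v → v ≤ 43641 → fs3 v = true := slots_step fs3 43108 533 43641 s3u81 s3c82 rfl
theorem s3u83 : ∀ v, 1 ≤ v → v ≤ 44165 → fs3 v = true := slots_step fs3 43641 524 44165 s3u82 s3c83 rfl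
theorem s3u84 : ∀ v, 1 ≤ v → v ≤ 44694 → fs3 v = true := slots_step fs3 44165 529 44694 s3u83 s3c84 rfl
theorem s3u85 : ∀ v, 1 ≤ v → v ≤ 45193 → fs3 v = true := slots_step fs3 44694 499 45193 s3u84 s3c85 rfl
theorem s3u86 : ∀ v, 1 ≤ v → v ≤ 45724 → fs3 v = true := slots_step fs3 45193 531 45724 s3u85 s3c86 rfl
theorem s3u87 : ∀ v, 1 ≤ v → v ≤ 46254 → fs3 v = true := slots_step fs3 45724 530 46254 s3u86 s3c87 rfl
theorem s3u88 : ∀ v, 1 ≤ v → v ≤ 46819 → fs3 v = true := slots_step fs3 46254 565 46819 s3u87 s3c88 rfl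
theorem s3u89 : ∀ v, 1 ≤ v → v ≤ 47292 → fs3 v = true := slots_step fs3 46819 473 47292 s3u88 s3c89 rfl
theorem s3u90 : ∀ v, 1 ≤ v → v ≤ 47780 → fs3 v = true := slots_step fs3 47292 488 47780 s3u89 s3c90 rfl
theorem s3u91 : ∀ v, 1 ≤ v → v ≤ 48285 → fs3 v = true := slots_step fs3 47780 505 48285 s3u90 s3c91 rfl
theorem s3u92 : ∀ v, 1 ≤ v → v ≤ 48837 → fs3 v = true := slots_step fs3 48285 552 48837 s3u91 s3c92 rfl
theorem s3u93 : ∀ v, 1 ≤ v → v ≤ 49331 → fs3 v = true := slots_step fs3 48837 494 49331 s3u92 s3c93 rfl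
theorem s3u94 : ∀ v, 1 ≤ v → v ≤ 49830 → fs3 v = true := slots_step fs3 49331 499 49830 s3u93 s3c94 rfl
theorem s3u95 : ∀ v, 1 ≤ v → v ≤ 50360 → fs3 v = true := slots_step fs3 49830 530 50360 s3u94 s3c95 rfl
theorem s3u96 : ∀ v, 1 ≤ v → v ≤ 50854 → fs3 v = true := slots_step fs3 50360 494 50854 s3u95 s3c96 rfl
theorem s3u97 : ∀ v, 1 ≤ v → v ≤ 51343 → fs3 v = true := slots_step fs3 50854 489 51343 s3u96 s3c97 rfl
theorem s3u98 : ∀ v, 1 ≤ v → v ≤ 51878 → fs3 v = true := slots_step fs3 51343 535 51878 s3u97 s3c98 rfl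
theorem s3u99 : ∀ v, 1 ≤ v → v ≤ 52401 → fs3 v = true := slots_step fs3 51878 523 52401 s3u98 s3c99 rfl
theorem s3u100 : ∀ v, 1 ≤ v → v ≤ 52912 → fs3 v = true := slots_step fs3 52401 511 52912 s3u99 s3c100 rfl
theorem s3u101 : ∀ v, 1 ≤ v → v ≤ 53418 → fs3 v = true := slots_step fs3 52912 506 53418 s3u100 s3c101 rfl
theorem s3u102 : ∀ v, 1 ≤ v → v ≤ 53953 → fs3 v = true := slots_step fs3 53418 535 53953 s3u101 s3c102 rfl
theorem s3u103 : ∀ v, 1 ≤ v → v ≤ 54552 → fs3 v = true := slots_step fs3 53953 599 54552 s3u102 s3c103 rfl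
theorem s3u104 : ∀ v, 1 ≤ v → v ≤ 55176 → fs3 v = true := slots_step fs3 54552 624 55176 s3u103 s3c104 rfl
theorem s3u105 : ∀ v, 1 ≤ v → v ≤ 55703 → fs3 v = true := slots_step fs3 55176 527 55703 s3u104 s3c105 rfl
theorem s3u106 : ∀ v, 1 ≤ v → v ≤ 56261 → fs3 v = true := slots_step fs3 55703 558 56261 s3u105 s3c106 rfl
theorem s3u107 : ∀ v, 1 ≤ v → v ≤ 56814 → fs3 v = true := slots_step fs3 56261 553 56814 s3u106 s3c107 rfl
theorem s3u108 : ∀ v, 1 ≤ v → v ≤ 57313 → fs3 v = true := slots_step fs3 56814 499 57313 s3u107 s3c108 rfl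
theorem s3u109 : ∀ v, 1 ≤ v → v ≤ 57846 → fs3 v = true := slots_step fs3 57313 533 57846 s3u108 s3c109 rfl
theorem s3u110 : ∀ v, 1 ≤ v → v ≤ 58388 → fs3 v = true := slots_step fs3 57846 542 58388 s3u109 s3c110 rfl
theorem s3u111 : ∀ v, 1 ≤ v → v ≤ 58916 → fs3 v = true := slots_step fs3 58388 528 58916 s3u110 s3c111 rfl
theorem s3u112 : ∀ v, 1 ≤ v → v ≤ 59439 → fs3 v = true := slots_step fs3 58916 523 59439 s3u111 s3c112 rfl
theorem s3u113 : ∀ v, 1 ≤ v → v ≤ 59961 → fs3 v = true := slots_step fs3 59439 522 59961 s3u112 s3c113 rfl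
theorem s3u114 : ∀ v, 1 ≤ v → v ≤ 60473 → fs3 v = true := slots_step fs3 59961 512 60473 s3u113 s3c114 rfl
theorem s3u115 : ∀ v, 1 ≤ v → v ≤ 60997 → fs3 v = true := slots_step fs3 60473 524 60997 s3u114 s3c115 rfl
theorem s3u116 : ∀ v, 1 ≤ v → v ≤ 61521 → fs3 v = true := slots_step fs3 60997 524 61521 s3u115 s3c116 rfl
theorem s3u117 : ∀ v, 1 ≤ v → v ≤ 62022 → fs3 v = true := slots_step fs3 61521 501 62022 s3u116 s3c117 rfl
theorem s3u118 : ∀ v, 1 ≤ v → v ≤ 62550 → fs3 v = true := slots_step fs3 62022 528 62550 s3u117 s3c118 rfl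
theorem s3u119 : ∀ v, 1 ≤ v → v ≤ 63099 → fs3 v = true := slots_step fs3 62550 549 63099 s3u118 s3c119 rfl
theorem s3u120 : ∀ v, 1 ≤ v → v ≤ 63643 → fs3 v = true := slots_step fs3 63099 544 63643 s3u119 s3c120 rfl
theorem s3u121 : ∀ v, 1 ≤ v → v ≤ 64206 → fs3 v = true := slots_step fs3 63643 563 64206 s3u120 s3c121 rfl
theorem s3u122 : ∀ v, 1 ≤ v → v ≤ 64802 → fs3 v = true := slots_step fs3 64206 596 64802 s3u121 s3c122 rfl
theorem s3u123 : ∀ v, 1 ≤ v → v ≤ 65384 → fs3 v = true := slots_step fs3 64802 582 65384 s3u122 s3c123 rfl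
theorem s3u124 : ∀ v, 1 ≤ v → v ≤ 65951 → fs3 v = true := slots_step fs3 65384 567 65951 s3u123 s3c124 rfl
theorem s3u125 : ∀ v, 1 ≤ v → v ≤ 66489 → fs3 v = true := slots_step fs3 65951 538 66489 s3u124 s3c125 rfl
theorem s3u126 : ∀ v, 1 ≤ v → v ≤ 67062 → fs3 v = true := slots_step fs3 66489 573 67062 s3u125 s3c126 rfl
theorem s3u127 : ∀ v, 1 ≤ v → v ≤ 67592 → fs3 v = true := slots_step fs3 67062 530 67592 s3u126 s3c127 rfl
theorem s3u128 : ∀ v, 1 ≤ v → v ≤ 68134 → fs3 v = true := slots_step fs3 67592 542 68134 s3u127 s3c128 rfl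
theorem s3u129 : ∀ v, 1 ≤ v → v ≤ 68729 → fs3 v = true := slots_step fs3 68134 595 68729 s3u128 s3c129 rfl
theorem s3u130 : ∀ v, 1 ≤ v → v ≤ 69285 → fs3 v = true := slots_step fs3 68729 556 69285 s3u129 s3c130 rfl
theorem s3u131 : ∀ v, 1 ≤ v → v ≤ 69851 → fs3 v = true := slots_step fs3 69285 566 69851 s3u130 s3c131 rfl
theorem s3u132 : ∀ v, 1 ≤ v → v ≤ 70437 → fs3 v = true := slots_step fs3 69851 586 70437 s3u131 s3c132 rfl
theorem s3u133 : ∀ v, 1 ≤ v → v ≤ 71010 → fs3 v = true := slots_step fs3 70437 573 71010 s3u132 s3c133 rfl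
theorem s3u134 : ∀ v, 1 ≤ v → v ≤ 71557 → fs3 v = true := slots_step fs3 71010 547 71557 s3u133 s3c134 rfl
theorem s3u135 : ∀ v, 1 ≤ v → v ≤ 72132 → fs3 v = true := slots_step fs3 71557 575 72132 s3u134 s3c135 rfl
theorem s3u136 : ∀ v, 1 ≤ v → v ≤ 72716 → fs3 v = true := slots_step fs3 72132 584 72716 s3u135 s3c136 rfl
theorem s3u137 : ∀ v, 1 ≤ v → v ≤ 73301 → fs3 v = true := slots_step fs3 72716 585 73301 s3u136 s3c137 rfl
theorem s3u138 : ∀ v, 1 ≤ v → v ≤ 73820 → fs3 v = true := slots_step fs3 73301 519 73820 s3u137 s3c138 rfl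
theorem s3u139 : ∀ v, 1 ≤ v → v ≤ 74448 → fs3 v = true := slots_step fs3 73820 628 74448 s3u138 s3c139 rfl
theorem s3u140 : ∀ v, 1 ≤ v → v ≤ 75051 → fs3 v = true := slots_step fs3 74448 603 75051 s3u139 s3c140 rfl
theorem s3u141 : ∀ v, 1 ≤ v → v ≤ 75622 → fs3 v = true := slots_step fs3 75051 571 75622 s3u140 s3c141 rfl
theorem s3u142 : ∀ v, 1 ≤ v → v ≤ 76162 → fs3 v = true := slots_step fs3 75622 540 76162 s3u141 s3c142 rfl
theorem s3u143 : ∀ v, 1 ≤ v → v ≤ 76745 → fs3 v = true := slots_step fs3 76162 583 76745 s3u142 s3c143 rfl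
theorem s3u144 : ∀ v, 1 ≤ v → v ≤ 77406 → fs3 v = true := slots_step fs3 76745 661 77406 s3u143 s3c144 rfl
theorem s3u145 : ∀ v, 1 ≤ v → v ≤ 77948 → fs3 v = true := slots_step fs3 77406 542 77948 s3u144 s3c145 rfl
theorem s3u146 : ∀ v, 1 ≤ v → v ≤ 78528 → fs3 v = true := slots_step fs3 77948 580 78528 s3u145 s3c146 rfl
theorem s3u147 : ∀ v, 1 ≤ v → v ≤ 79112 → fs3 v = true := slots_step fs3 78528 584 79112 s3u146 s3c147 rfl
theorem s3u148 : ∀ v, 1 ≤ v → v ≤ 79647 → fs3 v = true := slots_step fs3 79112 535 79647 s3u147 s3c148 rfl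
theorem s3u149 : ∀ v, 1 ≤ v → v ≤ 80198 → fs3 v = true := slots_step fs3 79647 551 80198 s3u148 s3c149 rfl
theorem s3u150 : ∀ v, 1 ≤ v → v ≤ 80768 → fs3 v = true := slots_step fs3 80198 570 80768 s3u149 s3c150 rfl
theorem s3u151 : ∀ v, 1 ≤ v → v ≤ 81317 → fs3 v = true := slots_step fs3 80768 549 81317 s3u150 s3c151 rfl
theorem s3u152 : ∀ v, 1 ≤ v → v ≤ 81944 → fs3 v = true := slots_step fs3 81317 627 81944 s3u151 s3c152 rfl
theorem s3u153 : ∀ v, 1 ≤ v → v ≤ 82541 → fs3 v = true := slots_step fs3 81944 597 82541 s3u152 s3c153 rfl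
theorem s3u154 : ∀ v, 1 ≤ v → v ≤ 83102 → fs3 v = true := slots_step fs3 82541 561 83102 s3u153 s3c154 rfl
theorem s3u155 : ∀ v, 1 ≤ v → v ≤ 83651 → fs3 v = true := slots_step fs3 83102 549 83651 s3u154 s3c155 rfl
theorem s3u156 : ∀ v, 1 ≤ v → v ≤ 84196 → fs3 v = true := slots_step fs3 83651 545 84196 s3u155 s3c156 rfl
theorem s3u157 : ∀ v, 1 ≤ v → v ≤ 84709 → fs3 v = true := slots_step fs3 84196 513 84709 s3u156 s3c157 rfl
theorem s3u158 : ∀ v, 1 ≤ v → v ≤ 85229 → fs3 v = true := slots_step fs3 84709 520 85229 s3u157 s3c158 rfl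
theorem s3u159 : ∀ v, 1 ≤ v → v ≤ 85744 → fs3 v = true := slots_step fs3 85229 515 85744 s3u158 s3c159 rfl
theorem s3u160 : ∀ v, 1 ≤ v → v ≤ 86237 → fs3 v = true := slots_step fs3 85744 493 86237 s3u159 s3c160 rfl
theorem s3u161 : ∀ v, 1 ≤ v → v ≤ 86770 → fs3 v = true := slots_step fs3 86237 533 86770 s3u160 s3c161 rfl
theorem s3u162 : ∀ v, 1 ≤ v → v ≤ 87299 → fs3 v = true := slots_step fs3 86770 529 87299 s3u161 s3c162 rfl
theorem s3u163 : ∀ v, 1 ≤ v → v ≤ 87816 → fs3 v = true := slots_step fs3 87299 517 87816 s3u162 s3c163 rfl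
theorem s3u164 : ∀ v, 1 ≤ v → v ≤ 88365 → fs3 v = true := slots_step fs3 87816 549 88365 s3u163 s3c164 rfl
theorem s3u165 : ∀ v, 1 ≤ v → v ≤ 88865 → fs3 v = true := slots_step fs3 88365 500 88865 s3u164 s3c165 rfl
theorem s3u166 : ∀ v, 1 ≤ v → v ≤ 89420 → fs3 v = true := slots_step fs3 88865 555 89420 s3u165 s3c166 rfl
theorem s3u167 : ∀ v, 1 ≤ v → v ≤ 89951 → fs3 v = true := slots_step fs3 89420 531 89951 s3u166 s3c167 rfl
theorem s3u168 : ∀ v, 1 ≤ v → v ≤ 90447 → fs3 v = true := slots_step fs3 89951 496 90447 s3u167 s3c168 rfl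
theorem s3u169 : ∀ v, 1 ≤ v → v ≤ 90938 → fs3 v = true := slots_step fs3 90447 491 90938 s3u168 s3c169 rfl
theorem s3u170 : ∀ v, 1 ≤ v → v ≤ 91476 → fs3 v = true := slots_step fs3 90938 538 91476 s3u169 s3c170 rfl
theorem s3u171 : ∀ v, 1 ≤ v → v ≤ 91991 → fs3 v = true := slots_step fs3 91476 515 91991 s3u170 s3c171 rfl
theorem s3u172 : ∀ v, 1 ≤ v → v ≤ 92493 → fs3 v = true := slots_step fs3 91991 502 92493 s3u171 s3c172 rfl
theorem s3u173 : ∀ v, 1 ≤ v → v ≤ 93015 → fs3 v = true := slots_step fs3 92493 522 93015 s3u172 s3c173 rfl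
theorem s3u174 : ∀ v, 1 ≤ v → v ≤ 93554 → fs3 v = true := slots_step fs3 93015 539 93554 s3u173 s3c174 rfl
theorem s3u175 : ∀ v, 1 ≤ v → v ≤ 94105 → fs3 v = true := slots_step fs3 93554 551 94105 s3u174 s3c175 rfl
theorem s3u176 : ∀ v, 1 ≤ v → v ≤ 94674 → fs3 v = true := slots_step fs3 94105 569 94674 s3u175 s3c176 rfl
theorem s3u177 : ∀ v, 1 ≤ v → v ≤ 95207 → fs3 v = true := slots_step fs3 94674 533 95207 s3u176 s3c177 rfl
theorem s3u178 : ∀ v, 1 ≤ v → v ≤ 95750 → fs3 v = true := slots_step fs3 95207 543 95750 s3u177 s3c178 rfl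
theorem s3u179 : ∀ v, 1 ≤ v → v ≤ 96279 → fs3 v = true := slots_step fs3 95750 529 96279 s3u178 s3c179 rfl
theorem s3u180 : ∀ v, 1 ≤ v → v ≤ 96767 → fs3 v = true := slots_step fs3 96279 488 96767 s3u179 s3c180 rfl
theorem s3u181 : ∀ v, 1 ≤ v → v ≤ 97272 → fs3 v = true := slots_step fs3 96767 505 97272 s3u180 s3c181 rfl
theorem s3u182 : ∀ v, 1 ≤ v → v ≤ 97763 → fs3 v = true := slots_step fs3 97272 491 97763 s3u181 s3c182 rfl
theorem s3u183 : ∀ v, 1 ≤ v → v ≤ 98211 → fs3 v = true := slots_step fs3 97763 448 98211 s3u182 s3c183 rfl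
theorem s3u184 : ∀ v, 1 ≤ v → v ≤ 98688 → fs3 v = true := slots_step fs3 98211 477 98688 s3u183 s3c184 rfl
theorem s3u185 : ∀ v, 1 ≤ v → v ≤ 99208 → fs3 v = true := slots_step fs3 98688 520 99208 s3u184 s3c185 rfl
theorem s3u186 : ∀ v, 1 ≤ v → v ≤ 99698 → fs3 v = true := slots_step fs3 99208 490 99698 s3u185 s3c186 rfl
theorem s3u187 : ∀ v, 1 ≤ v → v ≤ 100199 → fs3 v = true := slots_step fs3 99698 501 100199 s3u186 s3c187 rfl
theorem s3u188 : ∀ v, 1 ≤ v → v ≤ 100744 → fs3 v = true := slots_step fs3 100199 545 100744 s3u187 s3c188 rfl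
theorem s3u189 : ∀ v, 1 ≤ v → v ≤ 101255 → fs3 v = true := slots_step fs3 100744 511 101255 s3u188 s3c189 rfl
theorem s3u190 : ∀ v, 1 ≤ v → v ≤ 101734 → fs3 v = true := slots_step fs3 101255 479 101734 s3u189 s3c190 rfl
theorem s3u191 : ∀ v, 1 ≤ v → v ≤ 102193 → fs3 v = true := slots_step fs3 101734 459 102193 s3u190 s3c191 rfl
theorem s3u192 : ∀ v, 1 ≤ v → v ≤ 102649 → fs3 v = true := slots_step fs3 102193 456 102649 s3u191 s3c192 rfl
theorem s3u193 : ∀ v, 1 ≤ v → v ≤ 103142 → fs3 v = true := slots_step fs3 102649 493 103142 s3u192 s3c193 rfl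
theorem s3u194 : ∀ v, 1 ≤ v → v ≤ 103624 → fs3 v = true := slots_step fs3 103142 482 103624 s3u193 s3c194 rfl
theorem s3u195 : ∀ v, 1 ≤ v → v ≤ 104078 → fs3 v = true := slots_step fs3 103624 454 104078 s3u194 s3c195 rfl
theorem s3u196 : ∀ v, 1 ≤ v → v ≤ 104576 → fs3 v = true := slots_step fs3 104078 498 104576 s3u195 s3c196 rfl
theorem s3u197 : ∀ v, 1 ≤ v → v ≤ 105059 → fs3 v = true := slots_step fs3 104576 483 105059 s3u196 s3c197 rfl
theorem s3u198 : ∀ v, 1 ≤ v → v ≤ 105583 → fs3 v = true := slots_step fs3 105059 524 105583 s3u197 s3c198 rfl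
theorem s3u199 : ∀ v, 1 ≤ v → v ≤ 106038 → fs3 v = true := slots_step fs3 105583 455 106038 s3u198 s3c199 rfl
theorem s3u200 : ∀ v, 1 ≤ v → v ≤ 106528 → fs3 v = true := slots_step fs3 106038 490 106528 s3u199 s3c200 rfl
theorem s3u201 : ∀ v, 1 ≤ v → v ≤ 107090 → fs3 v = true := slots_step fs3 106528 562 107090 s3u200 s3c201 rfl
theorem s3u202 : ∀ v, 1 ≤ v → v ≤ 107630 → fs3 v = true := slots_step fs3 107090 540 107630 s3u201 s3c202 rfl
theorem s3u203 : ∀ v, 1 ≤ v → v ≤ 108150 → fs3 v = true := slots_step fs3 107630 520 108150 s3u202 s3c203 rfl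
theorem s3u204 : ∀ v, 1 ≤ v → v ≤ 108712 → fs3 v = true := slots_step fs3 108150 562 108712 s3u203 s3c204 rfl
theorem s3u205 : ∀ v, 1 ≤ v → v ≤ 109288 → fs3 v = true := slots_step fs3 108712 576 109288 s3u204 s3c205 rfl
theorem s3u206 : ∀ v, 1 ≤ v → v ≤ 109799 → fs3 v = true := slots_step fs3 109288 511 109799 s3u205 s3c206 rfl
theorem s3u207 : ∀ v, 1 ≤ v → v ≤ 110350 → fs3 v = true := slots_step fs3 109799 551 110350 s3u206 s3c207 rfl
theorem s3u208 : ∀ v, 1 ≤ v → v ≤ 110887 → fs3 v = true := slots_step fs3 110350 537 110887 s3u207 s3c208 rfl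
theorem s3u209 : ∀ v, 1 ≤ v → v ≤ 111477 → fs3 v = true := slots_step fs3 110887 590 111477 s3u208 s3c209 rfl
theorem s3u210 : ∀ v, 1 ≤ v → v ≤ 112106 → fs3 v = true := slots_step fs3 111477 629 112106 s3u209 s3c210 rfl
theorem s3u211 : ∀ v, 1 ≤ v → v ≤ 112661 → fs3 v = true := slots_step fs3 112106 555 112661 s3u210 s3c211 rfl
theorem s3u212 : ∀ v, 1 ≤ v → v ≤ 113188 → fs3 v = true := slots_step fs3 112661 527 113188 s3u211 s3c212 rfl
theorem s3u213 : ∀ v, 1 ≤ v → v ≤ 113730 → fs3 v = true := slots_step fs3 113188 542 113730 s3u212 s3c213 rfl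
theorem s3u214 : ∀ v, 1 ≤ v → v ≤ 114261 → fs3 v = true := slots_step fs3 113730 531 114261 s3u213 s3c214 rfl
theorem s3u215 : ∀ v, 1 ≤ v → v ≤ 114815 → fs3 v = true := slots_step fs3 114261 554 114815 s3u214 s3c215 rfl
theorem s3u216 : ∀ v, 1 ≤ v → v ≤ 115292 → fs3 v = true := slots_step fs3 114815 477 115292 s3u215 s3c216 rfl
theorem s3u217 : ∀ v, 1 ≤ v → v ≤ 115758 → fs3 v = true := slots_step fs3 115292 466 115758 s3u216 s3c217 rfl
theorem s3u218 : ∀ v, 1 ≤ v → v ≤ 116184 → fs3 v = true := slots_step fs3 115758 426 116184 s3u217 s3c218 rfl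
theorem s3u219 : ∀ v, 1 ≤ v → v ≤ 116738 → fs3 v = true := slots_step fs3 116184 554 116738 s3u218 s3c219 rfl
theorem s3u220 : ∀ v, 1 ≤ v → v ≤ 117258 → fs3 v = true := slots_step fs3 116738 520 117258 s3u219 s3c220 rfl
theorem s3u221 : ∀ v, 1 ≤ v → v ≤ 117775 → fs3 v = true := slots_step fs3 117258 517 117775 s3u220 s3c221 rfl
theorem s3u222 : ∀ v, 1 ≤ v → v ≤ 118274 → fs3 v = true := slots_step fs3 117775 499 118274 s3u221 s3c222 rfl
theorem s3u223 : ∀ v, 1 ≤ v → v ≤ 118818 → fs3 v = true := slots_step fs3 118274 544 118818 s3u222 s3c223 rfl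
theorem s3u224 : ∀ v, 1 ≤ v → v ≤ 119407 → fs3 v = true := slots_step fs3 118818 589 119407 s3u223 s3c224 rfl
theorem s3u225 : ∀ v, 1 ≤ v → v ≤ 119947 → fs3 v = true := slots_step fs3 119407 540 119947 s3u224 s3c225 rfl
theorem s3u226 : ∀ v, 1 ≤ v → v ≤ 120513 → fs3 v = true := slots_step fs3 119947 566 120513 s3u225 s3c226 rfl
theorem s3u227 : ∀ v, 1 ≤ v → v ≤ 120980 → fs3 v = true := slots_step fs3 120513 467 120980 s3u226 s3c227 rfl
theorem s3u228 : ∀ v, 1 ≤ v → v ≤ 121460 → fs3 v = true := slots_step fs3 120980 480 121460 s3u227 s3c228 rfl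
theorem s3u229 : ∀ v, 1 ≤ v → v ≤ 121998 → fs3 v = true := slots_step fs3 121460 538 121998 s3u228 s3c229 rfl
theorem s3u230 : ∀ v, 1 ≤ v → v ≤ 122489 → fs3 v = true := slots_step fs3 121998 491 122489 s3u229 s3c230 rfl
theorem s3u231 : ∀ v, 1 ≤ v → v ≤ 122974 → fs3 v = true := slots_step fs3 122489 485 122974 s3u230 s3c231 rfl
theorem s3u232 : ∀ v, 1 ≤ v → v ≤ 123518 → fs3 v = true := slots_step fs3 122974 544 123518 s3u231 s3c232 rfl
theorem s3u233 : ∀ v, 1 ≤ v → v ≤ 123994 → fs3 v = true := slots_step fs3 123518 476 123994 s3u232 s3c233 rfl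
theorem s3u234 : ∀ v, 1 ≤ v → v ≤ 124496 → fs3 v = true := slots_step fs3 123994 502 124496 s3u233 s3c234 rfl
theorem s3u235 : ∀ v, 1 ≤ v → v ≤ 124996 → fs3 v = true := slots_step fs3 124496 500 124996 s3u234 s3c235 rfl
theorem s3u236 : ∀ v, 1 ≤ v → v ≤ 125474 → fs3 v = true := slots_step fs3 124996 478 125474 s3u235 s3c236 rfl
theorem s3u237 : ∀ v, 1 ≤ v → v ≤ 125950 → fs3 v = true := slots_step fs3 125474 476 125950 s3u236 s3c237 rfl
theorem s3u238 : ∀ v, 1 ≤ v → v ≤ 126497 → fs3 v = true := slots_step fs3 125950 547 126497 s3u237 s3c238 rfl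
theorem s3u239 : ∀ v, 1 ≤ v → v ≤ 127052 → fs3 v = true := slots_step fs3 126497 555 127052 s3u238 s3c239 rfl
theorem s3u240 : ∀ v, 1 ≤ v → v ≤ 127661 → fs3 v = true := slots_step fs3 127052 609 127661 s3u239 s3c240 rfl
theorem s3u241 : ∀ v, 1 ≤ v → v ≤ 128177 → fs3 v = true := slots_step fs3 127661 516 128177 s3u240 s3c241 rfl
theorem s3u242 : ∀ v, 1 ≤ v → v ≤ 128770 → fs3 v = true := slots_step fs3 128177 593 128770 s3u241 s3c242 rfl
theorem s3u243 : ∀ v, 1 ≤ v → v ≤ 129289 → fs3 v = true := slots_step fs3 128770 519 129289 s3u242 s3c243 rfl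
theorem s3u244 : ∀ v, 1 ≤ v → v ≤ 129834 → fs3 v = true := slots_step fs3 129289 545 129834 s3u243 s3c244 rfl
theorem s3u245 : ∀ v, 1 ≤ v → v ≤ 130422 → fs3 v = true := slots_step fs3 129834 588 130422 s3u244 s3c245 rfl
theorem s3u246 : ∀ v, 1 ≤ v → v ≤ 131026 → fs3 v = true := slots_step fs3 130422 604 131026 s3u245 s3c246 rfl
theorem s3u247 : ∀ v, 1 ≤ v → v ≤ 131588 → fs3 v = true := slots_step fs3 131026 562 131588 s3u246 s3c247 rfl
theorem s3u248 : ∀ v, 1 ≤ v → v ≤ 132163 → fs3 v = true := slots_step fs3 131588 575 132163 s3u247 s3c248 rfl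
theorem s3u249 : ∀ v, 1 ≤ v → v ≤ 132665 → fs3 v = true := slots_step fs3 132163 502 132665 s3u248 s3c249 rfl
theorem s3u250 : ∀ v, 1 ≤ v → v ≤ 133289 → fs3 v = true := slots_step fs3 132665 624 133289 s3u249 s3c250 rfl
theorem s3u251 : ∀ v, 1 ≤ v → v ≤ 133847 → fs3 v = true := slots_step fs3 133289 558 133847 s3u250 s3c251 rfl
theorem s3u252 : ∀ v, 1 ≤ v → v ≤ 134394 → fs3 v = true := slots_step fs3 133847 547 134394 s3u251 s3c252 rfl
theorem s3u253 : ∀ v, 1 ≤ v → v ≤ 134933 → fs3 v = true := slots_step fs3 134394 539 134933 s3u252 s3c253 rfl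
theorem s3u254 : ∀ v, 1 ≤ v → v ≤ 135502 → fs3 v = true := slots_step fs3 134933 569 135502 s3u253 s3c254 rfl
theorem s3u255 : ∀ v, 1 ≤ v → v ≤ 136047 → fs3 v = true := slots_step fs3 135502 545 136047 s3u254 s3c255 rfl
theorem s3u256 : ∀ v, 1 ≤ v → v ≤ 136623 → fs3 v = true := slots_step fs3 136047 576 136623 s3u255 s3c256 rfl
theorem s3u257 : ∀ v, 1 ≤ v → v ≤ 137194 → fs3 v = true := slots_step fs3 136623 571 137194 s3u256 s3c257 rfl
theorem s3u258 : ∀ v, 1 ≤ v → v ≤ 137728 → fs3 v = true := slots_step fs3 137194 534 137728 s3u257 s3c258 rfl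
theorem s3u259 : ∀ v, 1 ≤ v → v ≤ 138269 → fs3 v = true := slots_step fs3 137728 541 138269 s3u258 s3c259 rfl
theorem s3u260 : ∀ v, 1 ≤ v → v ≤ 138791 → fs3 v = true := slots_step fs3 138269 522 138791 s3u259 s3c260 rfl
theorem s3u261 : ∀ v, 1 ≤ v → v ≤ 139326 → fs3 v = true := slots_step fs3 138791 535 139326 s3u260 s3c261 rfl
theorem s3u262 : ∀ v, 1 ≤ v → v ≤ 139887 → fs3 v = true := slots_step fs3 139326 561 139887 s3u261 s3c262 rfl
theorem s3u263 : ∀ v, 1 ≤ v → v ≤ 140414 → fs3 v = true := slots_step fs3 139887 527 140414 s3u262 s3c263 rfl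
theorem s3u264 : ∀ v, 1 ≤ v → v ≤ 141002 → fs3 v = true := slots_step fs3 140414 588 141002 s3u263 s3c264 rfl
theorem s3u265 : ∀ v, 1 ≤ v → v ≤ 141446 → fs3 v = true := slots_step fs3 141002 444 141446 s3u264 s3c265 rfl
theorem s3u266 : ∀ v, 1 ≤ v → v ≤ 142038 → fs3 v = true := slots_step fs3 141446 592 142038 s3u265 s3c266 rfl
theorem s3u267 : ∀ v, 1 ≤ v → v ≤ 142577 → fs3 v = true := slots_step fs3 142038 539 142577 s3u266 s3c267 rfl
theorem s3u268 : ∀ v, 1 ≤ v → v ≤ 143162 → fs3 v = true := slots_step fs3 142577 585 143162 s3u267 s3c268 rfl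
theorem s3u269 : ∀ v, 1 ≤ v → v ≤ 143753 → fs3 v = true := slots_step fs3 143162 591 143753 s3u268 s3c269 rfl
theorem s3u270 : ∀ v, 1 ≤ v → v ≤ 144264 → fs3 v = true := slots_step fs3 143753 511 144264 s3u269 s3c270 rfl
theorem s3u271 : ∀ v, 1 ≤ v → v ≤ 144789 → fs3 v = true := slots_step fs3 144264 525 144789 s3u270 s3c271 rfl
theorem s3u272 : ∀ v, 1 ≤ v → v ≤ 145407 → fs3 v = true := slots_step fs3 144789 618 145407 s3u271 s3c272 rfl
theorem s3u273 : ∀ v, 1 ≤ v → v ≤ 146040 → fs3 v = true := slots_step fs3 145407 633 146040 s3u272 s3c273 rfl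
theorem s3u274 : ∀ v, 1 ≤ v → v ≤ 146614 → fs3 v = true := slots_step fs3 146040 574 146614 s3u273 s3c274 rfl
theorem s3u275 : ∀ v, 1 ≤ v → v ≤ 147184 → fs3 v = true := slots_step fs3 146614 570 147184 s3u274 s3c275 rfl
theorem s3u276 : ∀ v, 1 ≤ v → v ≤ 147718 → fs3 v = true := slots_step fs3 147184 534 147718 s3u275 s3c276 rfl
theorem s3u277 : ∀ v, 1 ≤ v → v ≤ 148358 → fs3 v = true := slots_step fs3 147718 640 148358 s3u276 s3c277 rfl
theorem s3u278 : ∀ v, 1 ≤ v → v ≤ 148970 → fs3 v = true := slots_step fs3 148358 612 148970 s3u277 s3c278 rfl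
theorem s3u279 : ∀ v, 1 ≤ v → v ≤ 149623 → fs3 v = true := slots_step fs3 148970 653 149623 s3u278 s3c279 rfl
theorem s3u280 : ∀ v, 1 ≤ v → v ≤ 150204 → fs3 v = true := slots_step fs3 149623 581 150204 s3u279 s3c280 rfl
theorem s3u281 : ∀ v, 1 ≤ v → v ≤ 150838 → fs3 v = true := slots_step fs3 150204 634 150838 s3u280 s3c281 rfl
theorem s3u282 : ∀ v, 1 ≤ v → v ≤ 151487 → fs3 v = true := slots_step fs3 150838 649 151487 s3u281 s3c282 rfl
theorem s3u283 : ∀ v, 1 ≤ v → v ≤ 152073 → fs3 v = true := slots_step fs3 151487 586 152073 s3u282 s3c283 rfl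
theorem s3u284 : ∀ v, 1 ≤ v → v ≤ 152646 → fs3 v = true := slots_step fs3 152073 573 152646 s3u283 s3c284 rfl
theorem s3u285 : ∀ v, 1 ≤ v → v ≤ 153237 → fs3 v = true := slots_step fs3 152646 591 153237 s3u284 s3c285 rfl
theorem s3u286 : ∀ v, 1 ≤ v → v ≤ 153818 → fs3 v = true := slots_step fs3 153237 581 153818 s3u285 s3c286 rfl
theorem s3u287 : ∀ v, 1 ≤ v → v ≤ 154432 → fs3 v = true := slots_step fs3 153818 614 154432 s3u286 s3c287 rfl
theorem s3u288 : ∀ v, 1 ≤ v → v ≤ 155010 → fs3 v = true := slots_step fs3 154432 578 155010 s3u287 s3c288 rfl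
theorem s3u289 : ∀ v, 1 ≤ v → v ≤ 155591 → fs3 v = true := slots_step fs3 155010 581 155591 s3u288 s3c289 rfl
theorem s3u290 : ∀ v, 1 ≤ v → v ≤ 156186 → fs3 v = true := slots_step fs3 155591 595 156186 s3u289 s3c290 rfl
theorem s3u291 : ∀ v, 1 ≤ v → v ≤ 156824 → fs3 v = true := slots_step fs3 156186 638 156824 s3u290 s3c291 rfl
theorem s3u292 : ∀ v, 1 ≤ v → v ≤ 157424 → fs3 v = true := slots_step fs3 156824 600 157424 s3u291 s3c292 rfl
theorem s3u293 : ∀ v, 1 ≤ v → v ≤ 158002 → fs3 v = true := slots_step fs3 157424 578 158002 s3u292 s3c293 rfl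
theorem s3u294 : ∀ v, 1 ≤ v → v ≤ 158648 → fs3 v = true := slots_step fs3 158002 646 158648 s3u293 s3c294 rfl
theorem s3u295 : ∀ v, 1 ≤ v → v ≤ 159243 → fs3 v = true := slots_step fs3 158648 595 159243 s3u294 s3c295 rfl
theorem s3u296 : ∀ v, 1 ≤ v → v ≤ 159816 → fs3 v = true := slots_step fs3 159243 573 159816 s3u295 s3c296 rfl
theorem s3u297 : ∀ v, 1 ≤ v → v ≤ 160408 → fs3 v = true := slots_step fs3 159816 592 160408 s3u296 s3c297 rfl
theorem s3u298 : ∀ v, 1 ≤ v → v ≤ 161027 → fs3 v = true := slots_step fs3 160408 619 161027 s3u297 s3c298 rfl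
theorem s3u299 : ∀ v, 1 ≤ v → v ≤ 161575 → fs3 v = true := slots_step fs3 161027 548 161575 s3u298 s3c299 rfl
theorem s3u300 : ∀ v, 1 ≤ v → v ≤ 162071 → fs3 v = true := slots_step fs3 161575 496 162071 s3u299 s3c300 rfl
theorem s3u301 : ∀ v, 1 ≤ v → v ≤ 162472 → fs3 v = true := slots_step fs3 162071 401 162472 s3u300 s3c301 rfl
theorem s3u302 : ∀ v, 1 ≤ v → v ≤ 162883 → fs3 v = true := slots_step fs3 162472 411 162883 s3u301 s3c302 rfl
theorem s3u303 : ∀ v, 1 ≤ v → v ≤ 163306 → fs3 v = true := slots_step fs3 162883 423 163306 s3u302 s3c303 rfl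
theorem s3u304 : ∀ v, 1 ≤ v → v ≤ 163747 → fs3 v = true := slots_step fs3 163306 441 163747 s3u303 s3c304 rfl
theorem s3u305 : ∀ v, 1 ≤ v → v ≤ 164162 → fs3 v = true := slots_step fs3 163747 415 164162 s3u304 s3c305 rfl
theorem s3u306 : ∀ v, 1 ≤ v → v ≤ 164577 → fs3 v = true := slots_step fs3 164162 415 164577 s3u305 s3c306 rfl
theorem s3u307 : ∀ v, 1 ≤ v → v ≤ 165001 → fs3 v = true := slots_step fs3 164577 424 165001 s3u306 s3c307 rfl
theorem s3u308 : ∀ v, 1 ≤ v → v ≤ 165405 → fs3 v = true := slots_step fs3 165001 404 165405 s3u307 s3c308 rfl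
theorem s3u309 : ∀ v, 1 ≤ v → v ≤ 165820 → fs3 v = true := slots_step fs3 165405 415 165820 s3u308 s3c309 rfl
theorem s3u310 : ∀ v, 1 ≤ v → v ≤ 166208 → fs3 v = true := slots_step fs3 165820 388 166208 s3u309 s3c310 rfl
theorem s3u311 : ∀ v, 1 ≤ v → v ≤ 166620 → fs3 v = true := slots_step fs3 166208 412 166620 s3u310 s3c311 rfl
theorem s3u312 : ∀ v, 1 ≤ v → v ≤ 167006 → fs3 v = true := slots_step fs3 166620 386 167006 s3u311 s3c312 rfl
theorem s3u313 : ∀ v, 1 ≤ v → v ≤ 167408 → fs3 v = true := slots_step fs3 167006 402 167408 s3u312 s3c313 rfl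
theorem s3u314 : ∀ v, 1 ≤ v → v ≤ 167801 → fs3 v = true := slots_step fs3 167408 393 167801 s3u313 s3c314 rfl
theorem s3u315 : ∀ v, 1 ≤ v → v ≤ 168203 → fs3 v = true := slots_step fs3 167801 402 168203 s3u314 s3c315 rfl
theorem s3u316 : ∀ v, 1 ≤ v → v ≤ 168608 → fs3 v = true := slots_step fs3 168203 405 168608 s3u315 s3c316 rfl
theorem s3u317 : ∀ v, 1 ≤ v → v ≤ 169009 → fs3 v = true := slots_step fs3 168608 401 169009 s3u316 s3c317 rfl
theorem s3u318 : ∀ v, 1 ≤ v → v ≤ 169427 → fs3 v = true := slots_step fs3 169009 418 169427 s3u317 s3c318 rfl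
theorem s3u319 : ∀ v, 1 ≤ v → v ≤ 169833 → fs3 v = true := slots_step fs3 169427 406 169833 s3u318 s3c319 rfl
theorem s3u320 : ∀ v, 1 ≤ v → v ≤ 170246 → fs3 v = true := slots_step fs3 169833 413 170246 s3u319 s3c320 rfl
theorem s3u321 : ∀ v, 1 ≤ v → v ≤ 170626 → fs3 v = true := slots_step fs3 170246 380 170626 s3u320 s3c321 rfl
theorem s3u322 : ∀ v, 1 ≤ v → v ≤ 171022 → fs3 v = true := slots_step fs3 170626 396 171022 s3u321 s3c322 rfl
theorem s3u323 : ∀ v, 1 ≤ v → v ≤ 171404 → fs3 v = true := slots_step fs3 171022 382 171404 s3u322 s3c323 rfl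
theorem s3u324 : ∀ v, 1 ≤ v → v ≤ 171802 → fs3 v = true := slots_step fs3 171404 398 171802 s3u323 s3c324 rfl
theorem s3u325 : ∀ v, 1 ≤ v → v ≤ 172202 → fs3 v = true := slots_step fs3 171802 400 172202 s3u324 s3c325 rfl
theorem s3u326 : ∀ v, 1 ≤ v → v ≤ 172593 → fs3 v = true := slots_step fs3 172202 391 172593 s3u325 s3c326 rfl
theorem s3u327 : ∀ v, 1 ≤ v → v ≤ 172990 → fs3 v = true := slots_step fs3 172593 397 172990 s3u326 s3c327 rfl
theorem s3u328 : ∀ v, 1 ≤ v → v ≤ 173394 → fs3 v = true := slots_step fs3 172990 404 173394 s3u327 s3c328 rfl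
theorem s3u329 : ∀ v, 1 ≤ v → v ≤ 173770 → fs3 v = true := slots_step fs3 173394 376 173770 s3u328 s3c329 rfl
theorem s3u330 : ∀ v, 1 ≤ v → v ≤ 174162 → fs3 v = true := slots_step fs3 173770 392 174162 s3u329 s3c330 rfl
theorem s3u331 : ∀ v, 1 ≤ v → v ≤ 174542 → fs3 v = true := slots_step fs3 174162 380 174542 s3u330 s3c331 rfl
theorem s3u332 : ∀ v, 1 ≤ v → v ≤ 174918 → fs3 v = true := slots_step fs3 174542 376 174918 s3u331 s3c332 rfl
theorem s3u333 : ∀ v, 1 ≤ v → v ≤ 175302 → fs3 v = true := slots_step fs3 174918 384 175302 s3u332 s3c333 rfl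
theorem s3u334 : ∀ v, 1 ≤ v → v ≤ 175692 → fs3 v = true := slots_step fs3 175302 390 175692 s3u333 s3c334 rfl
theorem s3u335 : ∀ v, 1 ≤ v → v ≤ 176068 → fs3 v = true := slots_step fs3 175692 376 176068 s3u334 s3c335 rfl
theorem s3u336 : ∀ v, 1 ≤ v → v ≤ 176438 → fs3 v = true := slots_step fs3 176068 370 176438 s3u335 s3c336 rfl
theorem s3u337 : ∀ v, 1 ≤ v → v ≤ 176825 → fs3 v = true := slots_step fs3 176438 387 176825 s3u336 s3c337 rfl
theorem s3u338 : ∀ v, 1 ≤ v → v ≤ 177194 → fs3 v = true := slots_step fs3 176825 369 177194 s3u337 s3c338 rfl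
theorem s3u339 : ∀ v, 1 ≤ v → v ≤ 177587 → fs3 v = true := slots_step fs3 177194 393 177587 s3u338 s3c339 rfl
theorem s3u340 : ∀ v, 1 ≤ v → v ≤ 177975 → fs3 v = true := slots_step fs3 177587 388 177975 s3u339 s3c340 rfl
theorem s3u341 : ∀ v, 1 ≤ v → v ≤ 178370 → fs3 v = true := slots_step fs3 177975 395 178370 s3u340 s3c341 rfl
theorem s3u342 : ∀ v, 1 ≤ v → v ≤ 178759 → fs3 v = true := slots_step fs3 178370 389 178759 s3u341 s3c342 rfl
theorem s3u343 : ∀ v, 1 ≤ v → v ≤ 179115 → fs3 v = true := slots_step fs3 178759 356 179115 s3u342 s3c343 rfl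
theorem s3u344 : ∀ v, 1 ≤ v → v ≤ 179486 → fs3 v = true := slots_step fs3 179115 371 179486 s3u343 s3c344 rfl
theorem s3u345 : ∀ v, 1 ≤ v → v ≤ 179859 → fs3 v = true := slots_step fs3 179486 373 179859 s3u344 s3c345 rfl
theorem s3u346 : ∀ v, 1 ≤ v → v ≤ 180249 → fs3 v = true := slots_step fs3 179859 390 180249 s3u345 s3c346 rfl
theorem s3u347 : ∀ v, 1 ≤ v → v ≤ 180632 → fs3 v = true := slots_step fs3 180249 383 180632 s3u346 s3c347 rfl
theorem s3u348 : ∀ v, 1 ≤ v → v ≤ 180989 → fs3 v = true := slots_step fs3 180632 357 180989 s3u347 s3c348 rfl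
theorem s3u349 : ∀ v, 1 ≤ v → v ≤ 181370 → fs3 v = true := slots_step fs3 180989 381 181370 s3u348 s3c349 rfl
theorem s3u350 : ∀ v, 1 ≤ v → v ≤ 181745 → fs3 v = true := slots_step fs3 181370 375 181745 s3u349 s3c350 rfl
theorem s3u351 : ∀ v, 1 ≤ v → v ≤ 182120 → fs3 v = true := slots_step fs3 181745 375 182120 s3u350 s3c351 rfl
theorem s3u352 : ∀ v, 1 ≤ v → v ≤ 182502 → fs3 v = true := slots_step fs3 182120 382 182502 s3u351 s3c352 rfl
theorem s3u353 : ∀ v, 1 ≤ v → v ≤ 182867 → fs3 v = true := slots_step fs3 182502 365 182867 s3u352 s3c353 rfl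
theorem s3u354 : ∀ v, 1 ≤ v → v ≤ 183212 → fs3 v = true := slots_step fs3 182867 345 183212 s3u353 s3c354 rfl
theorem s3u355 : ∀ v, 1 ≤ v → v ≤ 183595 → fs3 v = true := slots_step fs3 183212 383 183595 s3u354 s3c355 rfl
theorem s3u356 : ∀ v, 1 ≤ v → v ≤ 183964 → fs3 v = true := slots_step fs3 183595 369 183964 s3u355 s3c356 rfl
theorem s3u357 : ∀ v, 1 ≤ v → v ≤ 184329 → fs3 v = true := slots_step fs3 183964 365 184329 s3u356 s3c357 rfl
theorem s3u358 : ∀ v, 1 ≤ v → v ≤ 184698 → fs3 v = true := slots_step fs3 184329 369 184698 s3u357 s3c358 rfl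
theorem s3u359 : ∀ v, 1 ≤ v → v ≤ 185068 → fs3 v = true := slots_step fs3 184698 370 185068 s3u358 s3c359 rfl
theorem s3u360 : ∀ v, 1 ≤ v → v ≤ 185438 → fs3 v = true := slots_step fs3 185068 370 185438 s3u359 s3c360 rfl
theorem s3u361 : ∀ v, 1 ≤ v → v ≤ 185822 → fs3 v = true := slots_step fs3 185438 384 185822 s3u360 s3c361 rfl
theorem s3u362 : ∀ v, 1 ≤ v → v ≤ 186187 → fs3 v = true := slots_step fs3 185822 365 186187 s3u361 s3c362 rfl
theorem s3u363 : ∀ v, 1 ≤ v → v ≤ 186583 → fs3 v = true := slots_step fs3 186187 396 186583 s3u362 s3c363 rfl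
theorem s3u364 : ∀ v, 1 ≤ v → v ≤ 186974 → fs3 v = true := slots_step fs3 186583 391 186974 s3u363 s3c364 rfl
theorem s3u365 : ∀ v, 1 ≤ v → v ≤ 187334 → fs3 v = true := slots_step fs3 186974 360 187334 s3u364 s3c365 rfl
theorem s3u366 : ∀ v, 1 ≤ v → v ≤ 187701 → fs3 v = true := slots_step fs3 187334 367 187701 s3u365 s3c366 rfl
theorem s3u367 : ∀ v, 1 ≤ v → v ≤ 188052 → fs3 v = true := slots_step fs3 187701 351 188052 s3u366 s3c367 rfl
theorem s3u368 : ∀ v, 1 ≤ v → v ≤ 188412 → fs3 v = true := slots_step fs3 188052 360 188412 s3u367 s3c368 rfl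
theorem s3u369 : ∀ v, 1 ≤ v → v ≤ 188785 → fs3 v = true := slots_step fs3 188412 373 188785 s3u368 s3c369 rfl
theorem s3u370 : ∀ v, 1 ≤ v → v ≤ 189150 → fs3 v = true := slots_step fs3 188785 365 189150 s3u369 s3c370 rfl
theorem s3u371 : ∀ v, 1 ≤ v → v ≤ 189517 → fs3 v = true := slots_step fs3 189150 367 189517 s3u370 s3c371 rfl
theorem s3u372 : ∀ v, 1 ≤ v → v ≤ 189894 → fs3 v = true := slots_step fs3 189517 377 189894 s3u371 s3c372 rfl
theorem s3u373 : ∀ v, 1 ≤ v → v ≤ 190258 → fs3 v = true := slots_step fs3 189894 364 190258 s3u372 s3c373 rfl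
theorem s3u374 : ∀ v, 1 ≤ v → v ≤ 190626 → fs3 v = true := slots_step fs3 190258 368 190626 s3u373 s3c374 rfl
theorem s3u375 : ∀ v, 1 ≤ v → v ≤ 190985 → fs3 v = true := slots_step fs3 190626 359 190985 s3u374 s3c375 rfl
theorem s3u376 : ∀ v, 1 ≤ v → v ≤ 191345 → fs3 v = true := slots_step fs3 190985 360 191345 s3u375 s3c376 rfl
theorem s3u377 : ∀ v, 1 ≤ v → v ≤ 191697 → fs3 v = true := slots_step fs3 191345 352 191697 s3u376 s3c377 rfl
theorem s3u378 : ∀ v, 1 ≤ v → v ≤ 192064 → fs3 v = true := slots_step fs3 191697 367 192064 s3u377 s3c378 rfl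
theorem s3u379 : ∀ v, 1 ≤ v → v ≤ 192442 → fs3 v = true := slots_step fs3 192064 378 192442 s3u378 s3c379 rfl
theorem s3u380 : ∀ v, 1 ≤ v → v ≤ 192801 → fs3 v = true := slots_step fs3 192442 359 192801 s3u379 s3c380 rfl
theorem s3u381 : ∀ v, 1 ≤ v → v ≤ 193162 → fs3 v = true := slots_step fs3 192801 361 193162 s3u380 s3c381 rfl
theorem s3u382 : ∀ v, 1 ≤ v → v ≤ 193524 → fs3 v = true := slots_step fs3 193162 362 193524 s3u381 s3c382 rfl
theorem s3u383 : ∀ v, 1 ≤ v → v ≤ 193871 → fs3 v = true := slots_step fs3 193524 347 193871 s3u382 s3c383 rfl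
theorem s3u384 : ∀ v, 1 ≤ v → v ≤ 194217 → fs3 v = true := slots_step fs3 193871 346 194217 s3u383 s3c384 rfl
theorem s3u385 : ∀ v, 1 ≤ v → v ≤ 194578 → fs3 v = true := slots_step fs3 194217 361 194578 s3u384 s3c385 rfl
theorem s3u386 : ∀ v, 1 ≤ v → v ≤ 194929 → fs3 v = true := slots_step fs3 194578 351 194929 s3u385 s3c386 rfl
theorem s3u387 : ∀ v, 1 ≤ v → v ≤ 195269 → fs3 v = true := slots_step fs3 194929 340 195269 s3u386 s3c387 rfl
theorem s3u388 : ∀ v, 1 ≤ v → v ≤ 195632 → fs3 v = true := slots_step fs3 195269 363 195632 s3u387 s3c388 rfl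
theorem s3u389 : ∀ v, 1 ≤ v → v ≤ 195997 → fs3 v = true := slots_step fs3 195632 365 195997 s3u388 s3c389 rfl
theorem s3u390 : ∀ v, 1 ≤ v → v ≤ 196345 → fs3 v = true := slots_step fs3 195997 348 196345 s3u389 s3c390 rfl
theorem s3u391 : ∀ v, 1 ≤ v → v ≤ 196670 → fs3 v = true := slots_step fs3 196345 325 196670 s3u390 s3c391 rfl
theorem s3u392 : ∀ v, 1 ≤ v → v ≤ 197008 → fs3 v = true := slots_step fs3 196670 338 197008 s3u391 s3c392 rfl
theorem s3u393 : ∀ v, 1 ≤ v → v ≤ 197351 → fs3 v = true := slots_step fs3 197008 343 197351 s3u392 s3c393 rfl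
theorem s3u394 : ∀ v, 1 ≤ v → v ≤ 197670 → fs3 v = true := slots_step fs3 197351 319 197670 s3u393 s3c394 rfl
theorem s3u395 : ∀ v, 1 ≤ v → v ≤ 198006 → fs3 v = true := slots_step fs3 197670 336 198006 s3u394 s3c395 rfl
theorem s3u396 : ∀ v, 1 ≤ v → v ≤ 198335 → fs3 v = true := slots_step fs3 198006 329 198335 s3u395 s3c396 rfl
theorem s3u397 : ∀ v, 1 ≤ v → v ≤ 198672 → fs3 v = true := slots_step fs3 198335 337 198672 s3u396 s3c397 rfl
theorem s3u398 : ∀ v, 1 ≤ v → v ≤ 198993 → fs3 v = true := slots_step fs3 198672 321 198993 s3u397 s3c398 rfl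
theorem s3u399 : ∀ v, 1 ≤ v → v ≤ 199317 → fs3 v = true := slots_step fs3 198993 324 199317 s3u398 s3c399 rfl
theorem s3u400 : ∀ v, 1 ≤ v → v ≤ 199642 → fs3 v = true := slots_step fs3 199317 325 199642 s3u399 s3c400 rfl
theorem s3u401 : ∀ v, 1 ≤ v → v ≤ 199964 → fs3 v = true := slots_step fs3 199642 322 199964 s3u400 s3c401 rfl
theorem s3u402 : ∀ v, 1 ≤ v → v ≤ 200288 → fs3 v = true := slots_step fs3 199964 324 200288 s3u401 s3c402 rfl
theorem s3u403 : ∀ v, 1 ≤ v → v ≤ 200609 → fs3 v = true := slots_step fs3 200288 321 200609 s3u402 s3c403 rfl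
theorem s3u404 : ∀ v, 1 ≤ v → v ≤ 200930 → fs3 v = true := slots_step fs3 200609 321 200930 s3u403 s3c404 rfl
theorem s3u405 : ∀ v, 1 ≤ v → v ≤ 201260 → fs3 v = true := slots_step fs3 200930 330 201260 s3u404 s3c405 rfl
theorem s3u406 : ∀ v, 1 ≤ v → v ≤ 201576 → fs3 v = true := slots_step fs3 201260 316 201576 s3u405 s3c406 rfl
theorem s3u407 : ∀ v, 1 ≤ v → v ≤ 201582 → fs3 v = true := slots_step fs3 201576 6 201582 s3u406 s3c407 rfl
theorem s4u0 : ∀ v, 1 ≤ v → v ≤ 523 → fs4 v = true := slots_step fs4 0 523 523 (slots_zero fs4) s4c0 rfl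
theorem s4u1 : ∀ v, 1 ≤ v → v ≤ 983 → fs4 v = true := slots_step fs4 523 460 983 s4u0 s4c1 rfl
theorem s4u2 : ∀ v, 1 ≤ v → v ≤ 1465 → fs4 v = true := slots_step fs4 983 482 1465 s4u1 s4c2 rfl
theorem s4u3 : ∀ v, 1 ≤ v → v ≤ 1971 → fs4 v = true := slots_step fs4 1465 506 1971 s4u2 s4c3 rfl
theorem s4u4 : ∀ v, 1 ≤ v → v ≤ 2478 → fs4 v = true := slots_step fs4 1971 507 2478 s4u3 s4c4 rfl
theorem s4u5 : ∀ v, 1 ≤ v → v ≤ 2998 → fs4 v = true := slots_step fs4 2478 520 2998 s4u4 s4c5 rfl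
theorem s4u6 : ∀ v, 1 ≤ v → v ≤ 3499 → fs4 v = true := slots_step fs4 2998 501 3499 s4u5 s4c6 rfl
theorem s4u7 : ∀ v, 1 ≤ v → v ≤ 4010 → fs4 v = true := slots_step fs4 3499 511 4010 s4u6 s4c7 rfl
theorem s4u8 : ∀ v, 1 ≤ v → v ≤ 4544 → fs4 v = true := slots_step fs4 4010 534 4544 s4u7 s4c8 rfl
theorem s4u9 : ∀ v, 1 ≤ v → v ≤ 5055 → fs4 v = true := slots_step fs4 4544 511 5055 s4u8 s4c9 rfl
theorem s4u10 : ∀ v, 1 ≤ v → v ≤ 5538 → fs4 v = true := slots_step fs4 5055 483 5538 s4u9 s4c10 rfl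
theorem s4u11 : ∀ v, 1 ≤ v → v ≤ 6000 → fs4 v = true := slots_step fs4 5538 462 6000 s4u10 s4c11 rfl
theorem s4u12 : ∀ v, 1 ≤ v → v ≤ 6497 → fs4 v = true := slots_step fs4 6000 497 6497 s4u11 s4c12 rfl
theorem s4u13 : ∀ v, 1 ≤ v → v ≤ 6982 → fs4 v = true := slots_step fs4 6497 485 6982 s4u12 s4c13 rfl
theorem s4u14 : ∀ v, 1 ≤ v → v ≤ 7505 → fs4 v = true := slots_step fs4 6982 523 7505 s4u13 s4c14 rfl
theorem s4u15 : ∀ v, 1 ≤ v → v ≤ 7992 → fs4 v = true := slots_step fs4 7505 487 7992 s4u14 s4c15 rfl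
theorem s4u16 : ∀ v, 1 ≤ v → v ≤ 8487 → fs4 v = true := slots_step fs4 7992 495 8487 s4u15 s4c16 rfl
theorem s4u17 : ∀ v, 1 ≤ v → v ≤ 8975 → fs4 v = true := slots_step fs4 8487 488 8975 s4u16 s4c17 rfl
theorem s4u18 : ∀ v, 1 ≤ v → v ≤ 9463 → fs4 v = true := slots_step fs4 8975 488 9463 s4u17 s4c18 rfl
theorem s4u19 : ∀ v, 1 ≤ v → v ≤ 9964 → fs4 v = true := slots_step fs4 9463 501 9964 s4u18 s4c19 rfl
theorem s4u20 : ∀ v, 1 ≤ v → v ≤ 10457 → fs4 v = true := slots_step fs4 9964 493 10457 s4u19 s4c20 rfl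
theorem s4u21 : ∀ v, 1 ≤ v → v ≤ 10963 → fs4 v = true := slots_step fs4 10457 506 10963 s4u20 s4c21 rfl
theorem s4u22 : ∀ v, 1 ≤ v → v ≤ 11429 → fs4 v = true := slots_step fs4 10963 466 11429 s4u21 s4c22 rfl
theorem s4u23 : ∀ v, 1 ≤ v → v ≤ 11926 → fs4 v = true := slots_step fs4 11429 497 11926 s4u22 s4c23 rfl
theorem s4u24 : ∀ v, 1 ≤ v → v ≤ 12384 → fs4 v = true := slots_step fs4 11926 458 12384 s4u23 s4c24 rfl
theorem s4u25 : ∀ v, 1 ≤ v → v ≤ 12878 → fs4 v = true := slots_step fs4 12384 494 12878 s4u24 s4c25 rfl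
theorem s4u26 : ∀ v, 1 ≤ v → v ≤ 13362 → fs4 v = true := slots_step fs4 12878 484 13362 s4u25 s4c26 rfl
theorem s4u27 : ∀ v, 1 ≤ v → v ≤ 13850 → fs4 v = true := slots_step fs4 13362 488 13850 s4u26 s4c27 rfl
theorem s4u28 : ∀ v, 1 ≤ v → v ≤ 14333 → fs4 v = true := slots_step fs4 13850 483 14333 s4u27 s4c28 rfl
theorem s4u29 : ∀ v, 1 ≤ v → v ≤ 14804 → fs4 v = true := slots_step fs4 14333 471 14804 s4u28 s4c29 rfl
theorem s4u30 : ∀ v, 1 ≤ v → v ≤ 15330 → fs4 v = true := slots_step fs4 14804 526 15330 s4u29 s4c30 rfl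
theorem s4u31 : ∀ v, 1 ≤ v → v ≤ 15857 → fs4 v = true := slots_step fs4 15330 527 15857 s4u30 s4c31 rfl
theorem s4u32 : ∀ v, 1 ≤ v → v ≤ 16363 → fs4 v = true := slots_step fs4 15857 506 16363 s4u31 s4c32 rfl
theorem s4u33 : ∀ v, 1 ≤ v → v ≤ 16843 → fs4 v = true := slots_step fs4 16363 480 16843 s4u32 s4c33 rfl
theorem s4u34 : ∀ v, 1 ≤ v → v ≤ 17329 → fs4 v = true := slots_step fs4 16843 486 17329 s4u33 s4c34 rfl
theorem s4u35 : ∀ v, 1 ≤ v → v ≤ 17807 → fs4 v = true := slots_step fs4 17329 478 17807 s4u34 s4c35 rfl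
theorem s4u36 : ∀ v, 1 ≤ v → v ≤ 18308 → fs4 v = true := slots_step fs4 17807 501 18308 s4u35 s4c36 rfl
theorem s4u37 : ∀ v, 1 ≤ v → v ≤ 18826 → fs4 v = true := slots_step fs4 18308 518 18826 s4u36 s4c37 rfl
theorem s4u38 : ∀ v, 1 ≤ v → v ≤ 19309 → fs4 v = true := slots_step fs4 18826 483 19309 s4u37 s4c38 rfl
theorem s4u39 : ∀ v, 1 ≤ v → v ≤ 19806 → fs4 v = true := slots_step fs4 19309 497 19806 s4u38 s4c39 rfl
theorem s4u40 : ∀ v, 1 ≤ v → v ≤ 20302 → fs4 v = true := slots_step fs4 19806 496 20302 s4u39 s4c40 rfl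
theorem s4u41 : ∀ v, 1 ≤ v → v ≤ 20803 → fs4 v = true := slots_step fs4 20302 501 20803 s4u40 s4c41 rfl
theorem s4u42 : ∀ v, 1 ≤ v → v ≤ 21261 → fs4 v = true := slots_step fs4 20803 458 21261 s4u41 s4c42 rfl
theorem s4u43 : ∀ v, 1 ≤ v → v ≤ 21734 → fs4 v = true := slots_step fs4 21261 473 21734 s4u42 s4c43 rfl
theorem s4u44 : ∀ v, 1 ≤ v → v ≤ 22217 → fs4 v = true := slots_step fs4 21734 483 22217 s4u43 s4c44 rfl
theorem s4u45 : ∀ v, 1 ≤ v → v ≤ 22720 → fs4 v = true := slots_step fs4 22217 503 22720 s4u44 s4c45 rfl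
theorem s4u46 : ∀ v, 1 ≤ v → v ≤ 23232 → fs4 v = true := slots_step fs4 22720 512 23232 s4u45 s4c46 rfl
theorem s4u47 : ∀ v, 1 ≤ v → v ≤ 23676 → fs4 v = true := slots_step fs4 23232 444 23676 s4u46 s4c47 rfl
theorem s4u48 : ∀ v, 1 ≤ v → v ≤ 24148 → fs4 v = true := slots_step fs4 23676 472 24148 s4u47 s4c48 rfl
theorem s4u49 : ∀ v, 1 ≤ v → v ≤ 24590 → fs4 v = true := slots_step fs4 24148 442 24590 s4u48 s4c49 rfl
theorem s4u50 : ∀ v, 1 ≤ v → v ≤ 25028 → fs4 v = true := slots_step fs4 24590 438 25028 s4u49 s4c50 rfl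
theorem s4u51 : ∀ v, 1 ≤ v → v ≤ 25490 → fs4 v = true := slots_step fs4 25028 462 25490 s4u50 s4c51 rfl
theorem s4u52 : ∀ v, 1 ≤ v → v ≤ 25966 → fs4 v = true := slots_step fs4 25490 476 25966 s4u51 s4c52 rfl
theorem s4u53 : ∀ v, 1 ≤ v → v ≤ 26448 → fs4 v = true := slots_step fs4 25966 482 26448 s4u52 s4c53 rfl
theorem s4u54 : ∀ v, 1 ≤ v → v ≤ 26938 → fs4 v = true := slots_step fs4 26448 490 26938 s4u53 s4c54 rfl
theorem s4u55 : ∀ v, 1 ≤ v → v ≤ 27445 → fs4 v = true := slots_step fs4 26938 507 27445 s4u54 s4c55 rfl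
theorem s4u56 : ∀ v, 1 ≤ v → v ≤ 27886 → fs4 v = true := slots_step fs4 27445 441 27886 s4u55 s4c56 rfl
theorem s4u57 : ∀ v, 1 ≤ v → v ≤ 28347 → fs4 v = true := slots_step fs4 27886 461 28347 s4u56 s4c57 rfl
theorem s4u58 : ∀ v, 1 ≤ v → v ≤ 28808 → fs4 v = true := slots_step fs4 28347 461 28808 s4u57 s4c58 rfl
theorem s4u59 : ∀ v, 1 ≤ v → v ≤ 29276 → fs4 v = true := slots_step fs4 28808 468 29276 s4u58 s4c59 rfl
theorem s4u60 : ∀ v, 1 ≤ v → v ≤ 29722 → fs4 v = true := slots_step fs4 29276 446 29722 s4u59 s4c60 rfl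
theorem s4u61 : ∀ v, 1 ≤ v → v ≤ 30205 → fs4 v = true := slots_step fs4 29722 483 30205 s4u60 s4c61 rfl
theorem s4u62 : ∀ v, 1 ≤ v → v ≤ 30740 → fs4 v = true := slots_step fs4 30205 535 30740 s4u61 s4c62 rfl
theorem s4u63 : ∀ v, 1 ≤ v → v ≤ 31243 → fs4 v = true := slots_step fs4 30740 503 31243 s4u62 s4c63 rfl
theorem s4u64 : ∀ v, 1 ≤ v → v ≤ 31757 → fs4 v = true := slots_step fs4 31243 514 31757 s4u63 s4c64 rfl
theorem s4u65 : ∀ v, 1 ≤ v → v ≤ 32253 → fs4 v = true := slots_step fs4 31757 496 32253 s4u64 s4c65 rfl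
theorem s4u66 : ∀ v, 1 ≤ v → v ≤ 32747 → fs4 v = true := slots_step fs4 32253 494 32747 s4u65 s4c66 rfl
theorem s4u67 : ∀ v, 1 ≤ v → v ≤ 33258 → fs4 v = true := slots_step fs4 32747 511 33258 s4u66 s4c67 rfl
theorem s4u68 : ∀ v, 1 ≤ v → v ≤ 33736 → fs4 v = true := slots_step fs4 33258 478 33736 s4u67 s4c68 rfl
theorem s4u69 : ∀ v, 1 ≤ v → v ≤ 34234 → fs4 v = true := slots_step fs4 33736 498 34234 s4u68 s4c69 rfl
theorem s4u70 : ∀ v, 1 ≤ v → v ≤ 34727 → fs4 v = true := slots_step fs4 34234 493 34727 s4u69 s4c70 rfl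
theorem s4u71 : ∀ v, 1 ≤ v → v ≤ 35226 → fs4 v = true := slots_step fs4 34727 499 35226 s4u70 s4c71 rfl
theorem s4u72 : ∀ v, 1 ≤ v → v ≤ 35704 → fs4 v = true := slots_step fs4 35226 478 35704 s4u71 s4c72 rfl
theorem s4u73 : ∀ v, 1 ≤ v → v ≤ 36205 → fs4 v = true := slots_step fs4 35704 501 36205 s4u72 s4c73 rfl
theorem s4u74 : ∀ v, 1 ≤ v → v ≤ 36714 → fs4 v = true := slots_step fs4 36205 509 36714 s4u73 s4c74 rfl
theorem s4u75 : ∀ v, 1 ≤ v → v ≤ 37207 → fs4 v = true := slots_step fs4 36714 493 37207 s4u74 s4c75 rfl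
theorem s4u76 : ∀ v, 1 ≤ v → v ≤ 37734 → fs4 v = true := slots_step fs4 37207 527 37734 s4u75 s4c76 rfl
theorem s4u77 : ∀ v, 1 ≤ v → v ≤ 38250 → fs4 v = true := slots_step fs4 37734 516 38250 s4u76 s4c77 rfl
theorem s4u78 : ∀ v, 1 ≤ v → v ≤ 38767 → fs4 v = true := slots_step fs4 38250 517 38767 s4u77 s4c78 rfl
theorem s4u79 : ∀ v, 1 ≤ v → v ≤ 39278 → fs4 v = true := slots_step fs4 38767 511 39278 s4u78 s4c79 rfl
theorem s4u80 : ∀ v, 1 ≤ v → v ≤ 39748 → fs4 v = true := slots_step fs4 39278 470 39748 s4u79 s4c80 rfl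
theorem s4u81 : ∀ v, 1 ≤ v → v ≤ 40291 → fs4 v = true := slots_step fs4 39748 543 40291 s4u80 s4c81 rfl
theorem s4u82 : ∀ v, 1 ≤ v → v ≤ 40748 → fs4 v = true := slots_step fs4 40291 457 40748 s4u81 s4c82 rfl
theorem s4u83 : ∀ v, 1 ≤ v → v ≤ 41229 → fs4 v = true := slots_step fs4 40748 481 41229 s4u82 s4c83 rfl
theorem s4u84 : ∀ v, 1 ≤ v → v ≤ 41681 → fs4 v = true := slots_step fs4 41229 452 41681 s4u83 s4c84 rfl
theorem s4u85 : ∀ v, 1 ≤ v → v ≤ 42155 → fs4 v = true := slots_step fs4 41681 474 42155 s4u84 s4c85 rfl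
theorem s4u86 : ∀ v, 1 ≤ v → v ≤ 42639 → fs4 v = true := slots_step fs4 42155 484 42639 s4u85 s4c86 rfl
theorem s4u87 : ∀ v, 1 ≤ v → v ≤ 43101 → fs4 v = true := slots_step fs4 42639 462 43101 s4u86 s4c87 rfl
theorem s4u88 : ∀ v, 1 ≤ v → v ≤ 43566 → fs4 v = true := slots_step fs4 43101 465 43566 s4u87 s4c88 rfl
theorem s4u89 : ∀ v, 1 ≤ v → v ≤ 44024 → fs4 v = true := slots_step fs4 43566 458 44024 s4u88 s4c89 rfl
theorem s4u90 : ∀ v, 1 ≤ v → v ≤ 44507 → fs4 v = true := slots_step fs4 44024 483 44507 s4u89 s4c90 rfl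
theorem s4u91 : ∀ v, 1 ≤ v → v ≤ 44986 → fs4 v = true := slots_step fs4 44507 479 44986 s4u90 s4c91 rfl
theorem s4u92 : ∀ v, 1 ≤ v → v ≤ 45454 → fs4 v = true := slots_step fs4 44986 468 45454 s4u91 s4c92 rfl
theorem s4u93 : ∀ v, 1 ≤ v → v ≤ 45972 → fs4 v = true := slots_step fs4 45454 518 45972 s4u92 s4c93 rfl
theorem s4u94 : ∀ v, 1 ≤ v → v ≤ 46436 → fs4 v = true := slots_step fs4 45972 464 46436 s4u93 s4c94 rfl
theorem s4u95 : ∀ v, 1 ≤ v → v ≤ 46906 → fs4 v = true := slots_step fs4 46436 470 46906 s4u94 s4c95 rfl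
theorem s4u96 : ∀ v, 1 ≤ v → v ≤ 47349 → fs4 v = true := slots_step fs4 46906 443 47349 s4u95 s4c96 rfl
theorem s4u97 : ∀ v, 1 ≤ v → v ≤ 47784 → fs4 v = true := slots_step fs4 47349 435 47784 s4u96 s4c97 rfl
theorem s4u98 : ∀ v, 1 ≤ v → v ≤ 48226 → fs4 v = true := slots_step fs4 47784 442 48226 s4u97 s4c98 rfl
theorem s4u99 : ∀ v, 1 ≤ v → v ≤ 48729 → fs4 v = true := slots_step fs4 48226 503 48729 s4u98 s4c99 rfl
theorem s4u100 : ∀ v, 1 ≤ v → v ≤ 49202 → fs4 v = true := slots_step fs4 48729 473 49202 s4u99 s4c100 rfl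
theorem s4u101 : ∀ v, 1 ≤ v → v ≤ 49634 → fs4 v = true := slots_step fs4 49202 432 49634 s4u100 s4c101 rfl
theorem s4u102 : ∀ v, 1 ≤ v → v ≤ 50132 → fs4 v = true := slots_step fs4 49634 498 50132 s4u101 s4c102 rfl
theorem s4u103 : ∀ v, 1 ≤ v → v ≤ 50588 → fs4 v = true := slots_step fs4 50132 456 50588 s4u102 s4c103 rfl
theorem s4u104 : ∀ v, 1 ≤ v → v ≤ 51057 → fs4 v = true := slots_step fs4 50588 469 51057 s4u103 s4c104 rfl
theorem s4u105 : ∀ v, 1 ≤ v → v ≤ 51522 → fs4 v = true := slots_step fs4 51057 465 51522 s4u104 s4c105 rfl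
theorem s4u106 : ∀ v, 1 ≤ v → v ≤ 52023 → fs4 v = true := slots_step fs4 51522 501 52023 s4u105 s4c106 rfl
theorem s4u107 : ∀ v, 1 ≤ v → v ≤ 52514 → fs4 v = true := slots_step fs4 52023 491 52514 s4u106 s4c107 rfl
theorem s4u108 : ∀ v, 1 ≤ v → v ≤ 53018 → fs4 v = true := slots_step fs4 52514 504 53018 s4u107 s4c108 rfl
theorem s4u109 : ∀ v, 1 ≤ v → v ≤ 53513 → fs4 v = true := slots_step fs4 53018 495 53513 s4u108 s4c109 rfl
theorem s4u110 : ∀ v, 1 ≤ v → v ≤ 54031 → fs4 v = true := slots_step fs4 53513 518 54031 s4u109 s4c110 rfl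
theorem s4u111 : ∀ v, 1 ≤ v → v ≤ 54562 → fs4 v = true := slots_step fs4 54031 531 54562 s4u110 s4c111 rfl
theorem s4u112 : ∀ v, 1 ≤ v → v ≤ 55077 → fs4 v = true := slots_step fs4 54562 515 55077 s4u111 s4c112 rfl
theorem s4u113 : ∀ v, 1 ≤ v → v ≤ 55604 → fs4 v = true := slots_step fs4 55077 527 55604 s4u112 s4c113 rfl
theorem s4u114 : ∀ v, 1 ≤ v → v ≤ 56122 → fs4 v = true := slots_step fs4 55604 518 56122 s4u113 s4c114 rfl
theorem s4u115 : ∀ v, 1 ≤ v → v ≤ 56635 → fs4 v = true := slots_step fs4 56122 513 56635 s4u114 s4c115 rfl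
theorem s4u116 : ∀ v, 1 ≤ v → v ≤ 57093 → fs4 v = true := slots_step fs4 56635 458 57093 s4u115 s4c116 rfl
theorem s4u117 : ∀ v, 1 ≤ v → v ≤ 57532 → fs4 v = true := slots_step fs4 57093 439 57532 s4u116 s4c117 rfl
theorem s4u118 : ∀ v, 1 ≤ v → v ≤ 58005 → fs4 v = true := slots_step fs4 57532 473 58005 s4u117 s4c118 rfl
theorem s4u119 : ∀ v, 1 ≤ v → v ≤ 58468 → fs4 v = true := slots_step fs4 58005 463 58468 s4u118 s4c119 rfl
theorem s4u120 : ∀ v, 1 ≤ v → v ≤ 58978 → fs4 v = true := slots_step fs4 58468 510 58978 s4u119 s4c120 rfl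
theorem s4u121 : ∀ v, 1 ≤ v → v ≤ 59453 → fs4 v = true := slots_step fs4 58978 475 59453 s4u120 s4c121 rfl
theorem s4u122 : ∀ v, 1 ≤ v → v ≤ 59900 → fs4 v = true := slots_step fs4 59453 447 59900 s4u121 s4c122 rfl
theorem s4u123 : ∀ v, 1 ≤ v → v ≤ 60390 → fs4 v = true := slots_step fs4 59900 490 60390 s4u122 s4c123 rfl
theorem s4u124 : ∀ v, 1 ≤ v → v ≤ 60829 → fs4 v = true := slots_step fs4 60390 439 60829 s4u123 s4c124 rfl
theorem s4u125 : ∀ v, 1 ≤ v → v ≤ 61292 → fs4 v = true := slots_step fs4 60829 463 61292 s4u124 s4c125 rfl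
theorem s4u126 : ∀ v, 1 ≤ v → v ≤ 61762 → fs4 v = true := slots_step fs4 61292 470 61762 s4u125 s4c126 rfl
theorem s4u127 : ∀ v, 1 ≤ v → v ≤ 62236 → fs4 v = true := slots_step fs4 61762 474 62236 s4u126 s4c127 rfl
theorem s4u128 : ∀ v, 1 ≤ v → v ≤ 62758 → fs4 v = true := slots_step fs4 62236 522 62758 s4u127 s4c128 rfl
theorem s4u129 : ∀ v, 1 ≤ v → v ≤ 63269 → fs4 v = true := slots_step fs4 62758 511 63269 s4u128 s4c129 rfl
theorem s4u130 : ∀ v, 1 ≤ v → v ≤ 63781 → fs4 v = true := slots_step fs4 63269 512 63781 s4u129 s4c130 rfl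
theorem s4u131 : ∀ v, 1 ≤ v → v ≤ 64332 → fs4 v = true := slots_step fs4 63781 551 64332 s4u130 s4c131 rfl
theorem s4u132 : ∀ v, 1 ≤ v → v ≤ 64887 → fs4 v = true := slots_step fs4 64332 555 64887 s4u131 s4c132 rfl
theorem s4u133 : ∀ v, 1 ≤ v → v ≤ 65382 → fs4 v = true := slots_step fs4 64887 495 65382 s4u132 s4c133 rfl
theorem s4u134 : ∀ v, 1 ≤ v → v ≤ 65878 → fs4 v = true := slots_step fs4 65382 496 65878 s4u133 s4c134 rfl
theorem s4u135 : ∀ v, 1 ≤ v → v ≤ 66391 → fs4 v = true := slots_step fs4 65878 513 66391 s4u134 s4c135 rfl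
theorem s4u136 : ∀ v, 1 ≤ v → v ≤ 66917 → fs4 v = true := slots_step fs4 66391 526 66917 s4u135 s4c136 rfl
theorem s4u137 : ∀ v, 1 ≤ v → v ≤ 67401 → fs4 v = true := slots_step fs4 66917 484 67401 s4u136 s4c137 rfl
theorem s4u138 : ∀ v, 1 ≤ v → v ≤ 67873 → fs4 v = true := slots_step fs4 67401 472 67873 s4u137 s4c138 rfl
theorem s4u139 : ∀ v, 1 ≤ v → v ≤ 68373 → fs4 v = true := slots_step fs4 67873 500 68373 s4u138 s4c139 rfl
theorem s4u140 : ∀ v, 1 ≤ v → v ≤ 68878 → fs4 v = true := slots_step fs4 68373 505 68878 s4u139 s4c140 rfl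
theorem s4u141 : ∀ v, 1 ≤ v → v ≤ 69429 → fs4 v = true := slots_step fs4 68878 551 69429 s4u140 s4c141 rfl
theorem s4u142 : ∀ v, 1 ≤ v → v ≤ 69935 → fs4 v = true := slots_step fs4 69429 506 69935 s4u141 s4c142 rfl
theorem s4u143 : ∀ v, 1 ≤ v → v ≤ 70493 → fs4 v = true := slots_step fs4 69935 558 70493 s4u142 s4c143 rfl
theorem s4u144 : ∀ v, 1 ≤ v → v ≤ 71032 → fs4 v = true := slots_step fs4 70493 539 71032 s4u143 s4c144 rfl
theorem s4u145 : ∀ v, 1 ≤ v → v ≤ 71516 → fs4 v = true := slots_step fs4 71032 484 71516 s4u144 s4c145 rfl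
theorem s4u146 : ∀ v, 1 ≤ v → v ≤ 72021 → fs4 v = true := slots_step fs4 71516 505 72021 s4u145 s4c146 rfl
theorem s4u147 : ∀ v, 1 ≤ v → v ≤ 72507 → fs4 v = true := slots_step fs4 72021 486 72507 s4u146 s4c147 rfl
theorem s4u148 : ∀ v, 1 ≤ v → v ≤ 73038 → fs4 v = true := slots_step fs4 72507 531 73038 s4u147 s4c148 rfl
theorem s4u149 : ∀ v, 1 ≤ v → v ≤ 73549 → fs4 v = true := slots_step fs4 73038 511 73549 s4u148 s4c149 rfl
theorem s4u150 : ∀ v, 1 ≤ v → v ≤ 74030 → fs4 v = true := slots_step fs4 73549 481 74030 s4u149 s4c150 rfl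
theorem s4u151 : ∀ v, 1 ≤ v → v ≤ 74546 → fs4 v = true := slots_step fs4 74030 516 74546 s4u150 s4c151 rfl
theorem s4u152 : ∀ v, 1 ≤ v → v ≤ 75087 → fs4 v = true := slots_step fs4 74546 541 75087 s4u151 s4c152 rfl
theorem s4u153 : ∀ v, 1 ≤ v → v ≤ 75594 → fs4 v = true := slots_step fs4 75087 507 75594 s4u152 s4c153 rfl
theorem s4u154 : ∀ v, 1 ≤ v → v ≤ 76057 → fs4 v = true := slots_step fs4 75594 463 76057 s4u153 s4c154 rfl
theorem s4u155 : ∀ v, 1 ≤ v → v ≤ 76593 → fs4 v = true := slots_step fs4 76057 536 76593 s4u154 s4c155 rfl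
theorem s4u156 : ∀ v, 1 ≤ v → v ≤ 77106 → fs4 v = true := slots_step fs4 76593 513 77106 s4u155 s4c156 rfl
theorem s4u157 : ∀ v, 1 ≤ v → v ≤ 77585 → fs4 v = true := slots_step fs4 77106 479 77585 s4u156 s4c157 rfl
theorem s4u158 : ∀ v, 1 ≤ v → v ≤ 78099 → fs4 v = true := slots_step fs4 77585 514 78099 s4u157 s4c158 rfl
theorem s4u159 : ∀ v, 1 ≤ v → v ≤ 78585 → fs4 v = true := slots_step fs4 78099 486 78585 s4u158 s4c159 rfl
theorem s4u160 : ∀ v, 1 ≤ v → v ≤ 79111 → fs4 v = true := slots_step fs4 78585 526 79111 s4u159 s4c160 rfl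
theorem s4u161 : ∀ v, 1 ≤ v → v ≤ 79619 → fs4 v = true := slots_step fs4 79111 508 79619 s4u160 s4c161 rfl
theorem s4u162 : ∀ v, 1 ≤ v → v ≤ 80136 → fs4 v = true := slots_step fs4 79619 517 80136 s4u161 s4c162 rfl
theorem s4u163 : ∀ v, 1 ≤ v → v ≤ 80653 → fs4 v = true := slots_step fs4 80136 517 80653 s4u162 s4c163 rfl
theorem s4u164 : ∀ v, 1 ≤ v → v ≤ 81171 → fs4 v = true := slots_step fs4 80653 518 81171 s4u163 s4c164 rfl
theorem s4u165 : ∀ v, 1 ≤ v → v ≤ 81732 → fs4 v = true := slots_step fs4 81171 561 81732 s4u164 s4c165 rfl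
theorem s4u166 : ∀ v, 1 ≤ v → v ≤ 82259 → fs4 v = true := slots_step fs4 81732 527 82259 s4u165 s4c166 rfl
theorem s4u167 : ∀ v, 1 ≤ v → v ≤ 82729 → fs4 v = true := slots_step fs4 82259 470 82729 s4u166 s4c167 rfl
theorem s4u168 : ∀ v, 1 ≤ v → v ≤ 83228 → fs4 v = true := slots_step fs4 82729 499 83228 s4u167 s4c168 rfl
theorem s4u169 : ∀ v, 1 ≤ v → v ≤ 83753 → fs4 v = true := slots_step fs4 83228 525 83753 s4u168 s4c169 rfl
theorem s4u170 : ∀ v, 1 ≤ v → v ≤ 84274 → fs4 v = true := slots_step fs4 83753 521 84274 s4u169 s4c170 rfl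
theorem s4u171 : ∀ v, 1 ≤ v → v ≤ 84738 → fs4 v = true := slots_step fs4 84274 464 84738 s4u170 s4c171 rfl
theorem s4u172 : ∀ v, 1 ≤ v → v ≤ 85230 → fs4 v = true := slots_step fs4 84738 492 85230 s4u171 s4c172 rfl
theorem s4u173 : ∀ v, 1 ≤ v → v ≤ 85652 → fs4 v = true := slots_step fs4 85230 422 85652 s4u172 s4c173 rfl
theorem s4u174 : ∀ v, 1 ≤ v → v ≤ 86102 → fs4 v = true := slots_step fs4 85652 450 86102 s4u173 s4c174 rfl
theorem s4u175 : ∀ v, 1 ≤ v → v ≤ 86562 → fs4 v = true := slots_step fs4 86102 460 86562 s4u174 s4c175 rfl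
theorem s4u176 : ∀ v, 1 ≤ v → v ≤ 87055 → fs4 v = true := slots_step fs4 86562 493 87055 s4u175 s4c176 rfl
theorem s4u177 : ∀ v, 1 ≤ v → v ≤ 87495 → fs4 v = true := slots_step fs4 87055 440 87495 s4u176 s4c177 rfl
theorem s4u178 : ∀ v, 1 ≤ v → v ≤ 87974 → fs4 v = true := slots_step fs4 87495 479 87974 s4u177 s4c178 rfl
theorem s4u179 : ∀ v, 1 ≤ v → v ≤ 88451 → fs4 v = true := slots_step fs4 87974 477 88451 s4u178 s4c179 rfl
theorem s4u180 : ∀ v, 1 ≤ v → v ≤ 88900 → fs4 v = true := slots_step fs4 88451 449 88900 s4u179 s4c180 rfl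
theorem s4u181 : ∀ v, 1 ≤ v → v ≤ 89359 → fs4 v = true := slots_step fs4 88900 459 89359 s4u180 s4c181 rfl
theorem s4u182 : ∀ v, 1 ≤ v → v ≤ 89836 → fs4 v = true := slots_step fs4 89359 477 89836 s4u181 s4c182 rfl
theorem s4u183 : ∀ v, 1 ≤ v → v ≤ 90319 → fs4 v = true := slots_step fs4 89836 483 90319 s4u182 s4c183 rfl
theorem s4u184 : ∀ v, 1 ≤ v → v ≤ 90793 → fs4 v = true := slots_step fs4 90319 474 90793 s4u183 s4c184 rfl
theorem s4u185 : ∀ v, 1 ≤ v → v ≤ 91269 → fs4 v = true := slots_step fs4 90793 476 91269 s4u184 s4c185 rfl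
theorem s4u186 : ∀ v, 1 ≤ v → v ≤ 91775 → fs4 v = true := slots_step fs4 91269 506 91775 s4u185 s4c186 rfl
theorem s4u187 : ∀ v, 1 ≤ v → v ≤ 92261 → fs4 v = true := slots_step fs4 91775 486 92261 s4u186 s4c187 rfl
theorem s4u188 : ∀ v, 1 ≤ v → v ≤ 92737 → fs4 v = true := slots_step fs4 92261 476 92737 s4u187 s4c188 rfl
theorem s4u189 : ∀ v, 1 ≤ v → v ≤ 93248 → fs4 v = true := slots_step fs4 92737 511 93248 s4u188 s4c189 rfl
theorem s4u190 : ∀ v, 1 ≤ v → v ≤ 93725 → fs4 v = true := slots_step fs4 93248 477 93725 s4u189 s4c190 rfl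
theorem s4u191 : ∀ v, 1 ≤ v → v ≤ 94224 → fs4 v = true := slots_step fs4 93725 499 94224 s4u190 s4c191 rfl
theorem s4u192 : ∀ v, 1 ≤ v → v ≤ 94721 → fs4 v = true := slots_step fs4 94224 497 94721 s4u191 s4c192 rfl
theorem s4u193 : ∀ v, 1 ≤ v → v ≤ 95203 → fs4 v = true := slots_step fs4 94721 482 95203 s4u192 s4c193 rfl
theorem s4u194 : ∀ v, 1 ≤ v → v ≤ 95656 → fs4 v = true := slots_step fs4 95203 453 95656 s4u193 s4c194 rfl
theorem s4u195 : ∀ v, 1 ≤ v → v ≤ 96135 → fs4 v = true := slots_step fs4 95656 479 96135 s4u194 s4c195 rfl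
theorem s4u196 : ∀ v, 1 ≤ v → v ≤ 96600 → fs4 v = true := slots_step fs4 96135 465 96600 s4u195 s4c196 rfl
theorem s4u197 : ∀ v, 1 ≤ v → v ≤ 97018 → fs4 v = true := slots_step fs4 96600 418 97018 s4u196 s4c197 rfl
theorem s4u198 : ∀ v, 1 ≤ v → v ≤ 97524 → fs4 v = true := slots_step fs4 97018 506 97524 s4u197 s4c198 rfl
theorem s4u199 : ∀ v, 1 ≤ v → v ≤ 97947 → fs4 v = true := slots_step fs4 97524 423 97947 s4u198 s4c199 rfl
theorem s4u200 : ∀ v, 1 ≤ v → v ≤ 98377 → fs4 v = true := slots_step fs4 97947 430 98377 s4u199 s4c200 rfl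
theorem s4u201 : ∀ v, 1 ≤ v → v ≤ 98808 → fs4 v = true := slots_step fs4 98377 431 98808 s4u200 s4c201 rfl
theorem s4u202 : ∀ v, 1 ≤ v → v ≤ 99223 → fs4 v = true := slots_step fs4 98808 415 99223 s4u201 s4c202 rfl
theorem s4u203 : ∀ v, 1 ≤ v → v ≤ 99673 → fs4 v = true := slots_step fs4 99223 450 99673 s4u202 s4c203 rfl
theorem s4u204 : ∀ v, 1 ≤ v → v ≤ 100135 → fs4 v = true := slots_step fs4 99673 462 100135 s4u203 s4c204 rfl
theorem s4u205 : ∀ v, 1 ≤ v → v ≤ 100631 → fs4 v = true := slots_step fs4 100135 496 100631 s4u204 s4c205 rfl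
theorem s4u206 : ∀ v, 1 ≤ v → v ≤ 101123 → fs4 v = true := slots_step fs4 100631 492 101123 s4u205 s4c206 rfl
theorem s4u207 : ∀ v, 1 ≤ v → v ≤ 101565 → fs4 v = true := slots_step fs4 101123 442 101565 s4u206 s4c207 rfl
theorem s4u208 : ∀ v, 1 ≤ v → v ≤ 101986 → fs4 v = true := slots_step fs4 101565 421 101986 s4u207 s4c208 rfl
theorem s4u209 : ∀ v, 1 ≤ v → v ≤ 102392 → fs4 v = true := slots_step fs4 101986 406 102392 s4u208 s4c209 rfl
theorem s4u210 : ∀ v, 1 ≤ v → v ≤ 102828 → fs4 v = true := slots_step fs4 102392 436 102828 s4u209 s4c210 rfl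
theorem s4u211 : ∀ v, 1 ≤ v → v ≤ 103280 → fs4 v = true := slots_step fs4 102828 452 103280 s4u210 s4c211 rfl
theorem s4u212 : ∀ v, 1 ≤ v → v ≤ 103706 → fs4 v = true := slots_step fs4 103280 426 103706 s4u211 s4c212 rfl
theorem s4u213 : ∀ v, 1 ≤ v → v ≤ 104154 → fs4 v = true := slots_step fs4 103706 448 104154 s4u212 s4c213 rfl
theorem s4u214 : ∀ v, 1 ≤ v → v ≤ 104616 → fs4 v = true := slots_step fs4 104154 462 104616 s4u213 s4c214 rfl
theorem s4u215 : ∀ v, 1 ≤ v → v ≤ 105050 → fs4 v = true := slots_step fs4 104616 434 105050 s4u214 s4c215 rfl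
theorem s4u216 : ∀ v, 1 ≤ v → v ≤ 105519 → fs4 v = true := slots_step fs4 105050 469 105519 s4u215 s4c216 rfl
theorem s4u217 : ∀ v, 1 ≤ v → v ≤ 105941 → fs4 v = true := slots_step fs4 105519 422 105941 s4u216 s4c217 rfl
theorem s4u218 : ∀ v, 1 ≤ v → v ≤ 106368 → fs4 v = true := slots_step fs4 105941 427 106368 s4u217 s4c218 rfl
theorem s4u219 : ∀ v, 1 ≤ v → v ≤ 106849 → fs4 v = true := slots_step fs4 106368 481 106849 s4u218 s4c219 rfl
theorem s4u220 : ∀ v, 1 ≤ v → v ≤ 107342 → fs4 v = true := slots_step fs4 106849 493 107342 s4u219 s4c220 rfl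
theorem s4u221 : ∀ v, 1 ≤ v → v ≤ 107802 → fs4 v = true := slots_step fs4 107342 460 107802 s4u220 s4c221 rfl
theorem s4u222 : ∀ v, 1 ≤ v → v ≤ 108301 → fs4 v = true := slots_step fs4 107802 499 108301 s4u221 s4c222 rfl
theorem s4u223 : ∀ v, 1 ≤ v → v ≤ 108784 → fs4 v = true := slots_step fs4 108301 483 108784 s4u222 s4c223 rfl
theorem s4u224 : ∀ v, 1 ≤ v → v ≤ 109262 → fs4 v = true := slots_step fs4 108784 478 109262 s4u223 s4c224 rfl
theorem s4u225 : ∀ v, 1 ≤ v → v ≤ 109744 → fs4 v = true := slots_step fs4 109262 482 109744 s4u224 s4c225 rfl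
theorem s4u226 : ∀ v, 1 ≤ v → v ≤ 110250 → fs4 v = true := slots_step fs4 109744 506 110250 s4u225 s4c226 rfl
theorem s4u227 : ∀ v, 1 ≤ v → v ≤ 110712 → fs4 v = true := slots_step fs4 110250 462 110712 s4u226 s4c227 rfl
theorem s4u228 : ∀ v, 1 ≤ v → v ≤ 111192 → fs4 v = true := slots_step fs4 110712 480 111192 s4u227 s4c228 rfl
theorem s4u229 : ∀ v, 1 ≤ v → v ≤ 111705 → fs4 v = true := slots_step fs4 111192 513 111705 s4u228 s4c229 rfl
theorem s4u230 : ∀ v, 1 ≤ v → v ≤ 112206 → fs4 v = true := slots_step fs4 111705 501 112206 s4u229 s4c230 rfl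
theorem s4u231 : ∀ v, 1 ≤ v → v ≤ 112677 → fs4 v = true := slots_step fs4 112206 471 112677 s4u230 s4c231 rfl
theorem s4u232 : ∀ v, 1 ≤ v → v ≤ 113165 → fs4 v = true := slots_step fs4 112677 488 113165 s4u231 s4c232 rfl
theorem s4u233 : ∀ v, 1 ≤ v → v ≤ 113670 → fs4 v = true := slots_step fs4 113165 505 113670 s4u232 s4c233 rfl
theorem s4u234 : ∀ v, 1 ≤ v → v ≤ 114123 → fs4 v = true := slots_step fs4 113670 453 114123 s4u233 s4c234 rfl
theorem s4u235 : ∀ v, 1 ≤ v → v ≤ 114607 → fs4 v = true := slots_step fs4 114123 484 114607 s4u234 s4c235 rfl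
theorem s4u236 : ∀ v, 1 ≤ v → v ≤ 115091 → fs4 v = true := slots_step fs4 114607 484 115091 s4u235 s4c236 rfl
theorem s4u237 : ∀ v, 1 ≤ v → v ≤ 115501 → fs4 v = true := slots_step fs4 115091 410 115501 s4u236 s4c237 rfl
theorem s4u238 : ∀ v, 1 ≤ v → v ≤ 115929 → fs4 v = true := slots_step fs4 115501 428 115929 s4u237 s4c238 rfl
theorem s4u239 : ∀ v, 1 ≤ v → v ≤ 116377 → fs4 v = true := slots_step fs4 115929 448 116377 s4u238 s4c239 rfl
theorem s4u240 : ∀ v, 1 ≤ v → v ≤ 116876 → fs4 v = true := slots_step fs4 116377 499 116876 s4u239 s4c240 rfl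
theorem s4u241 : ∀ v, 1 ≤ v → v ≤ 117321 → fs4 v = true := slots_step fs4 116876 445 117321 s4u240 s4c241 rfl
theorem s4u242 : ∀ v, 1 ≤ v → v ≤ 117758 → fs4 v = true := slots_step fs4 117321 437 117758 s4u241 s4c242 rfl
theorem s4u243 : ∀ v, 1 ≤ v → v ≤ 118232 → fs4 v = true := slots_step fs4 117758 474 118232 s4u242 s4c243 rfl
theorem s4u244 : ∀ v, 1 ≤ v → v ≤ 118729 → fs4 v = true := slots_step fs4 118232 497 118729 s4u243 s4c244 rfl
theorem s4u245 : ∀ v, 1 ≤ v → v ≤ 119227 → fs4 v = true := slots_step fs4 118729 498 119227 s4u244 s4c245 rfl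
theorem s4u246 : ∀ v, 1 ≤ v → v ≤ 119725 → fs4 v = true := slots_step fs4 119227 498 119725 s4u245 s4c246 rfl
theorem s4u247 : ∀ v, 1 ≤ v → v ≤ 120210 → fs4 v = true := slots_step fs4 119725 485 120210 s4u246 s4c247 rfl
theorem s4u248 : ∀ v, 1 ≤ v → v ≤ 120680 → fs4 v = true := slots_step fs4 120210 470 120680 s4u247 s4c248 rfl
theorem s4u249 : ∀ v, 1 ≤ v → v ≤ 121111 → fs4 v = true := slots_step fs4 120680 431 121111 s4u248 s4c249 rfl
theorem s4u250 : ∀ v, 1 ≤ v → v ≤ 121571 → fs4 v = true := slots_step fs4 121111 460 121571 s4u249 s4c250 rfl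
theorem s4u251 : ∀ v, 1 ≤ v → v ≤ 122053 → fs4 v = true := slots_step fs4 121571 482 122053 s4u250 s4c251 rfl
theorem s4u252 : ∀ v, 1 ≤ v → v ≤ 122504 → fs4 v = true := slots_step fs4 122053 451 122504 s4u251 s4c252 rfl
theorem s4u253 : ∀ v, 1 ≤ v → v ≤ 122966 → fs4 v = true := slots_step fs4 122504 462 122966 s4u252 s4c253 rfl
theorem s4u254 : ∀ v, 1 ≤ v → v ≤ 123459 → fs4 v = true := slots_step fs4 122966 493 123459 s4u253 s4c254 rfl
theorem s4u255 : ∀ v, 1 ≤ v → v ≤ 123902 → fs4 v = true := slots_step fs4 123459 443 123902 s4u254 s4c255 rfl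
theorem s4u256 : ∀ v, 1 ≤ v → v ≤ 124377 → fs4 v = true := slots_step fs4 123902 475 124377 s4u255 s4c256 rfl
theorem s4u257 : ∀ v, 1 ≤ v → v ≤ 124815 → fs4 v = true := slots_step fs4 124377 438 124815 s4u256 s4c257 rfl
theorem s4u258 : ∀ v, 1 ≤ v → v ≤ 125302 → fs4 v = true := slots_step fs4 124815 487 125302 s4u257 s4c258 rfl
theorem s4u259 : ∀ v, 1 ≤ v → v ≤ 125778 → fs4 v = true := slots_step fs4 125302 476 125778 s4u258 s4c259 rfl
theorem s4u260 : ∀ v, 1 ≤ v → v ≤ 126252 → fs4 v = true := slots_step fs4 125778 474 126252 s4u259 s4c260 rfl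
theorem s4u261 : ∀ v, 1 ≤ v → v ≤ 126749 → fs4 v = true := slots_step fs4 126252 497 126749 s4u260 s4c261 rfl
theorem s4u262 : ∀ v, 1 ≤ v → v ≤ 127290 → fs4 v = true := slots_step fs4 126749 541 127290 s4u261 s4c262 rfl
theorem s4u263 : ∀ v, 1 ≤ v → v ≤ 127819 → fs4 v = true := slots_step fs4 127290 529 127819 s4u262 s4c263 rfl
theorem s4u264 : ∀ v, 1 ≤ v → v ≤ 128304 → fs4 v = true := slots_step fs4 127819 485 128304 s4u263 s4c264 rfl
theorem s4u265 : ∀ v, 1 ≤ v → v ≤ 128824 → fs4 v = true := slots_step fs4 128304 520 128824 s4u264 s4c265 rfl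
theorem s4u266 : ∀ v, 1 ≤ v → v ≤ 129308 → fs4 v = true := slots_step fs4 128824 484 129308 s4u265 s4c266 rfl
theorem s4u267 : ∀ v, 1 ≤ v → v ≤ 129815 → fs4 v = true := slots_step fs4 129308 507 129815 s4u266 s4c267 rfl
theorem s4u268 : ∀ v, 1 ≤ v → v ≤ 130344 → fs4 v = true := slots_step fs4 129815 529 130344 s4u267 s4c268 rfl
theorem s4u269 : ∀ v, 1 ≤ v → v ≤ 130875 → fs4 v = true := slots_step fs4 130344 531 130875 s4u268 s4c269 rfl
theorem s4u270 : ∀ v, 1 ≤ v → v ≤ 131420 → fs4 v = true := slots_step fs4 130875 545 131420 s4u269 s4c270 rfl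
theorem s4u271 : ∀ v, 1 ≤ v → v ≤ 131915 → fs4 v = true := slots_step fs4 131420 495 131915 s4u270 s4c271 rfl
theorem s4u272 : ∀ v, 1 ≤ v → v ≤ 132373 → fs4 v = true := slots_step fs4 131915 458 132373 s4u271 s4c272 rfl
theorem s4u273 : ∀ v, 1 ≤ v → v ≤ 132822 → fs4 v = true := slots_step fs4 132373 449 132822 s4u272 s4c273 rfl
theorem s4u274 : ∀ v, 1 ≤ v → v ≤ 133308 → fs4 v = true := slots_step fs4 132822 486 133308 s4u273 s4c274 rfl
theorem s4u275 : ∀ v, 1 ≤ v → v ≤ 133760 → fs4 v = true := slots_step fs4 133308 452 133760 s4u274 s4c275 rfl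
theorem s4u276 : ∀ v, 1 ≤ v → v ≤ 134252 → fs4 v = true := slots_step fs4 133760 492 134252 s4u275 s4c276 rfl
theorem s4u277 : ∀ v, 1 ≤ v → v ≤ 134729 → fs4 v = true := slots_step fs4 134252 477 134729 s4u276 s4c277 rfl
theorem s4u278 : ∀ v, 1 ≤ v → v ≤ 135250 → fs4 v = true := slots_step fs4 134729 521 135250 s4u277 s4c278 rfl
theorem s4u279 : ∀ v, 1 ≤ v → v ≤ 135724 → fs4 v = true := slots_step fs4 135250 474 135724 s4u278 s4c279 rfl
theorem s4u280 : ∀ v, 1 ≤ v → v ≤ 136200 → fs4 v = true := slots_step fs4 135724 476 136200 s4u279 s4c280 rfl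
theorem s4u281 : ∀ v, 1 ≤ v → v ≤ 136677 → fs4 v = true := slots_step fs4 136200 477 136677 s4u280 s4c281 rfl
theorem s4u282 : ∀ v, 1 ≤ v → v ≤ 137144 → fs4 v = true := slots_step fs4 136677 467 137144 s4u281 s4c282 rfl
theorem s4u283 : ∀ v, 1 ≤ v → v ≤ 137625 → fs4 v = true := slots_step fs4 137144 481 137625 s4u282 s4c283 rfl
theorem s4u284 : ∀ v, 1 ≤ v → v ≤ 138089 → fs4 v = true := slots_step fs4 137625 464 138089 s4u283 s4c284 rfl
theorem s4u285 : ∀ v, 1 ≤ v → v ≤ 138571 → fs4 v = true := slots_step fs4 138089 482 138571 s4u284 s4c285 rfl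
theorem s4u286 : ∀ v, 1 ≤ v → v ≤ 139034 → fs4 v = true := slots_step fs4 138571 463 139034 s4u285 s4c286 rfl
theorem s4u287 : ∀ v, 1 ≤ v → v ≤ 139539 → fs4 v = true := slots_step fs4 139034 505 139539 s4u286 s4c287 rfl
theorem s4u288 : ∀ v, 1 ≤ v → v ≤ 140021 → fs4 v = true := slots_step fs4 139539 482 140021 s4u287 s4c288 rfl
theorem s4u289 : ∀ v, 1 ≤ v → v ≤ 140527 → fs4 v = true := slots_step fs4 140021 506 140527 s4u288 s4c289 rfl
theorem s4u290 : ∀ v, 1 ≤ v → v ≤ 141056 → fs4 v = true := slots_step fs4 140527 529 141056 s4u289 s4c290 rfl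
theorem s4u291 : ∀ v, 1 ≤ v → v ≤ 141477 → fs4 v = true := slots_step fs4 141056 421 141477 s4u290 s4c291 rfl
theorem s4u292 : ∀ v, 1 ≤ v → v ≤ 141981 → fs4 v = true := slots_step fs4 141477 504 141981 s4u291 s4c292 rfl
theorem s4u293 : ∀ v, 1 ≤ v → v ≤ 142461 → fs4 v = true := slots_step fs4 141981 480 142461 s4u292 s4c293 rfl
theorem s4u294 : ∀ v, 1 ≤ v → v ≤ 142941 → fs4 v = true := slots_step fs4 142461 480 142941 s4u293 s4c294 rfl
theorem s4u295 : ∀ v, 1 ≤ v → v ≤ 143462 → fs4 v = true := slots_step fs4 142941 521 143462 s4u294 s4c295 rfl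
theorem s4u296 : ∀ v, 1 ≤ v → v ≤ 143918 → fs4 v = true := slots_step fs4 143462 456 143918 s4u295 s4c296 rfl
theorem s4u297 : ∀ v, 1 ≤ v → v ≤ 144399 → fs4 v = true := slots_step fs4 143918 481 144399 s4u296 s4c297 rfl
theorem s4u298 : ∀ v, 1 ≤ v → v ≤ 144887 → fs4 v = true := slots_step fs4 144399 488 144887 s4u297 s4c298 rfl
theorem s4u299 : ∀ v, 1 ≤ v → v ≤ 145381 → fs4 v = true := slots_step fs4 144887 494 145381 s4u298 s4c299 rfl
theorem s4u300 : ∀ v, 1 ≤ v → v ≤ 145937 → fs4 v = true := slots_step fs4 145381 556 145937 s4u299 s4c300 rfl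
theorem s4u301 : ∀ v, 1 ≤ v → v ≤ 146443 → fs4 v = true := slots_step fs4 145937 506 146443 s4u300 s4c301 rfl
theorem s4u302 : ∀ v, 1 ≤ v → v ≤ 146928 → fs4 v = true := slots_step fs4 146443 485 146928 s4u301 s4c302 rfl
theorem s4u303 : ∀ v, 1 ≤ v → v ≤ 147427 → fs4 v = true := slots_step fs4 146928 499 147427 s4u302 s4c303 rfl
theorem s4u304 : ∀ v, 1 ≤ v → v ≤ 147930 → fs4 v = true := slots_step fs4 147427 503 147930 s4u303 s4c304 rfl
theorem s4u305 : ∀ v, 1 ≤ v → v ≤ 148490 → fs4 v = true := slots_step fs4 147930 560 148490 s4u304 s4c305 rfl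
theorem s4u306 : ∀ v, 1 ≤ v → v ≤ 149009 → fs4 v = true := slots_step fs4 148490 519 149009 s4u305 s4c306 rfl
theorem s4u307 : ∀ v, 1 ≤ v → v ≤ 149498 → fs4 v = true := slots_step fs4 149009 489 149498 s4u306 s4c307 rfl
theorem s4u308 : ∀ v, 1 ≤ v → v ≤ 150023 → fs4 v = true := slots_step fs4 149498 525 150023 s4u307 s4c308 rfl
theorem s4u309 : ∀ v, 1 ≤ v → v ≤ 150536 → fs4 v = true := slots_step fs4 150023 513 150536 s4u308 s4c309 rfl
theorem s4u310 : ∀ v, 1 ≤ v → v ≤ 151074 → fs4 v = true := slots_step fs4 150536 538 151074 s4u309 s4c310 rfl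
theorem s4u311 : ∀ v, 1 ≤ v → v ≤ 151578 → fs4 v = true := slots_step fs4 151074 504 151578 s4u310 s4c311 rfl
theorem s4u312 : ∀ v, 1 ≤ v → v ≤ 152085 → fs4 v = true := slots_step fs4 151578 507 152085 s4u311 s4c312 rfl
theorem s4u313 : ∀ v, 1 ≤ v → v ≤ 152609 → fs4 v = true := slots_step fs4 152085 524 152609 s4u312 s4c313 rfl
theorem s4u314 : ∀ v, 1 ≤ v → v ≤ 153093 → fs4 v = true := slots_step fs4 152609 484 153093 s4u313 s4c314 rfl
theorem s4u315 : ∀ v, 1 ≤ v → v ≤ 153615 → fs4 v = true := slots_step fs4 153093 522 153615 s4u314 s4c315 rfl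
theorem s4u316 : ∀ v, 1 ≤ v → v ≤ 154152 → fs4 v = true := slots_step fs4 153615 537 154152 s4u315 s4c316 rfl
theorem s4u317 : ∀ v, 1 ≤ v → v ≤ 154700 → fs4 v = true := slots_step fs4 154152 548 154700 s4u316 s4c317 rfl
theorem s4u318 : ∀ v, 1 ≤ v → v ≤ 155194 → fs4 v = true := slots_step fs4 154700 494 155194 s4u317 s4c318 rfl
theorem s4u319 : ∀ v, 1 ≤ v → v ≤ 155686 → fs4 v = true := slots_step fs4 155194 492 155686 s4u318 s4c319 rfl
theorem s4u320 : ∀ v, 1 ≤ v → v ≤ 156182 → fs4 v = true := slots_step fs4 155686 496 156182 s4u319 s4c320 rfl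
theorem s4u321 : ∀ v, 1 ≤ v → v ≤ 156711 → fs4 v = true := slots_step fs4 156182 529 156711 s4u320 s4c321 rfl
theorem s4u322 : ∀ v, 1 ≤ v → v ≤ 157182 → fs4 v = true := slots_step fs4 156711 471 157182 s4u321 s4c322 rfl
theorem s4u323 : ∀ v, 1 ≤ v → v ≤ 157729 → fs4 v = true := slots_step fs4 157182 547 157729 s4u322 s4c323 rfl
theorem s4u324 : ∀ v, 1 ≤ v → v ≤ 158216 → fs4 v = true := slots_step fs4 157729 487 158216 s4u323 s4c324 rfl
theorem s4u325 : ∀ v, 1 ≤ v → v ≤ 158763 → fs4 v = true := slots_step fs4 158216 547 158763 s4u324 s4c325 rfl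
theorem s4u326 : ∀ v, 1 ≤ v → v ≤ 159254 → fs4 v = true := slots_step fs4 158763 491 159254 s4u325 s4c326 rfl
theorem s4u327 : ∀ v, 1 ≤ v → v ≤ 159770 → fs4 v = true := slots_step fs4 159254 516 159770 s4u326 s4c327 rfl
theorem s4u328 : ∀ v, 1 ≤ v → v ≤ 160265 → fs4 v = true := slots_step fs4 159770 495 160265 s4u327 s4c328 rfl
theorem s4u329 : ∀ v, 1 ≤ v → v ≤ 160817 → fs4 v = true := slots_step fs4 160265 552 160817 s4u328 s4c329 rfl
theorem s4u330 : ∀ v, 1 ≤ v → v ≤ 161295 → fs4 v = true := slots_step fs4 160817 478 161295 s4u329 s4c330 rfl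
theorem s4u331 : ∀ v, 1 ≤ v → v ≤ 161778 → fs4 v = true := slots_step fs4 161295 483 161778 s4u330 s4c331 rfl
theorem s4u332 : ∀ v, 1 ≤ v → v ≤ 162218 → fs4 v = true := slots_step fs4 161778 440 162218 s4u331 s4c332 rfl
theorem s4u333 : ∀ v, 1 ≤ v → v ≤ 162595 → fs4 v = true := slots_step fs4 162218 377 162595 s4u332 s4c333 rfl
theorem s4u334 : ∀ v, 1 ≤ v → v ≤ 162985 → fs4 v = true := slots_step fs4 162595 390 162985 s4u333 s4c334 rfl
theorem s4u335 : ∀ v, 1 ≤ v → v ≤ 163387 → fs4 v = true := slots_step fs4 162985 402 163387 s4u334 s4c335 rfl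
theorem s4u336 : ∀ v, 1 ≤ v → v ≤ 163790 → fs4 v = true := slots_step fs4 163387 403 163790 s4u335 s4c336 rfl
theorem s4u337 : ∀ v, 1 ≤ v → v ≤ 164173 → fs4 v = true := slots_step fs4 163790 383 164173 s4u336 s4c337 rfl
theorem s4u338 : ∀ v, 1 ≤ v → v ≤ 164572 → fs4 v = true := slots_step fs4 164173 399 164572 s4u337 s4c338 rfl
theorem s4u339 : ∀ v, 1 ≤ v → v ≤ 164956 → fs4 v = true := slots_step fs4 164572 384 164956 s4u338 s4c339 rfl
theorem s4u340 : ∀ v, 1 ≤ v → v ≤ 165343 → fs4 v = true := slots_step fs4 164956 387 165343 s4u339 s4c340 rfl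
theorem s4u341 : ∀ v, 1 ≤ v → v ≤ 165739 → fs4 v = true := slots_step fs4 165343 396 165739 s4u340 s4c341 rfl
theorem s4u342 : ∀ v, 1 ≤ v → v ≤ 166101 → fs4 v = true := slots_step fs4 165739 362 166101 s4u341 s4c342 rfl
theorem s4u343 : ∀ v, 1 ≤ v → v ≤ 166488 → fs4 v = true := slots_step fs4 166101 387 166488 s4u342 s4c343 rfl
theorem s4u344 : ∀ v, 1 ≤ v → v ≤ 166844 → fs4 v = true := slots_step fs4 166488 356 166844 s4u343 s4c344 rfl
theorem s4u345 : ∀ v, 1 ≤ v → v ≤ 167233 → fs4 v = true := slots_step fs4 166844 389 167233 s4u344 s4c345 rfl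
theorem s4u346 : ∀ v, 1 ≤ v → v ≤ 167625 → fs4 v = true := slots_step fs4 167233 392 167625 s4u345 s4c346 rfl
theorem s4u347 : ∀ v, 1 ≤ v → v ≤ 168009 → fs4 v = true := slots_step fs4 167625 384 168009 s4u346 s4c347 rfl
theorem s4u348 : ∀ v, 1 ≤ v → v ≤ 168403 → fs4 v = true := slots_step fs4 168009 394 168403 s4u347 s4c348 rfl
theorem s4u349 : ∀ v, 1 ≤ v → v ≤ 168787 → fs4 v = true := slots_step fs4 168403 384 168787 s4u348 s4c349 rfl
theorem s4u350 : ∀ v, 1 ≤ v → v ≤ 169165 → fs4 v = true := slots_step fs4 168787 378 169165 s4u349 s4c350 rfl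
theorem s4u351 : ∀ v, 1 ≤ v → v ≤ 169546 → fs4 v = true := slots_step fs4 169165 381 169546 s4u350 s4c351 rfl
theorem s4u352 : ∀ v, 1 ≤ v → v ≤ 169923 → fs4 v = true := slots_step fs4 169546 377 169923 s4u351 s4c352 rfl
theorem s4u353 : ∀ v, 1 ≤ v → v ≤ 170282 → fs4 v = true := slots_step fs4 169923 359 170282 s4u352 s4c353 rfl
theorem s4u354 : ∀ v, 1 ≤ v → v ≤ 170641 → fs4 v = true := slots_step fs4 170282 359 170641 s4u353 s4c354 rfl
theorem s4u355 : ∀ v, 1 ≤ v → v ≤ 171007 → fs4 v = true := slots_step fs4 170641 366 171007 s4u354 s4c355 rfl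
theorem s4u356 : ∀ v, 1 ≤ v → v ≤ 171366 → fs4 v = true := slots_step fs4 171007 359 171366 s4u355 s4c356 rfl
theorem s4u357 : ∀ v, 1 ≤ v → v ≤ 171733 → fs4 v = true := slots_step fs4 171366 367 171733 s4u356 s4c357 rfl
theorem s4u358 : ∀ v, 1 ≤ v → v ≤ 172093 → fs4 v = true := slots_step fs4 171733 360 172093 s4u357 s4c358 rfl
theorem s4u359 : ∀ v, 1 ≤ v → v ≤ 172458 → fs4 v = true := slots_step fs4 172093 365 172458 s4u358 s4c359 rfl
theorem s4u360 : ∀ v, 1 ≤ v → v ≤ 172822 → fs4 v = true := slots_step fs4 172458 364 172822 s4u359 s4c360 rfl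
theorem s4u361 : ∀ v, 1 ≤ v → v ≤ 173192 → fs4 v = true := slots_step fs4 172822 370 173192 s4u360 s4c361 rfl
theorem s4u362 : ∀ v, 1 ≤ v → v ≤ 173569 → fs4 v = true := slots_step fs4 173192 377 173569 s4u361 s4c362 rfl
theorem s4u363 : ∀ v, 1 ≤ v → v ≤ 173920 → fs4 v = true := slots_step fs4 173569 351 173920 s4u362 s4c363 rfl
theorem s4u364 : ∀ v, 1 ≤ v → v ≤ 174290 → fs4 v = true := slots_step fs4 173920 370 174290 s4u363 s4c364 rfl
theorem s4u365 : ∀ v, 1 ≤ v → v ≤ 174657 → fs4 v = true := slots_step fs4 174290 367 174657 s4u364 s4c365 rfl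
theorem s4u366 : ∀ v, 1 ≤ v → v ≤ 174995 → fs4 v = true := slots_step fs4 174657 338 174995 s4u365 s4c366 rfl
theorem s4u367 : ∀ v, 1 ≤ v → v ≤ 175362 → fs4 v = true := slots_step fs4 174995 367 175362 s4u366 s4c367 rfl
theorem s4u368 : ∀ v, 1 ≤ v → v ≤ 175725 → fs4 v = true := slots_step fs4 175362 363 175725 s4u367 s4c368 rfl
theorem s4u369 : ∀ v, 1 ≤ v → v ≤ 176074 → fs4 v = true := slots_step fs4 175725 349 176074 s4u368 s4c369 rfl
theorem s4u370 : ∀ v, 1 ≤ v → v ≤ 176419 → fs4 v = true := slots_step fs4 176074 345 176419 s4u369 s4c370 rfl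
theorem s4u371 : ∀ v, 1 ≤ v → v ≤ 176769 → fs4 v = true := slots_step fs4 176419 350 176769 s4u370 s4c371 rfl
theorem s4u372 : ∀ v, 1 ≤ v → v ≤ 177118 → fs4 v = true := slots_step fs4 176769 349 177118 s4u371 s4c372 rfl
theorem s4u373 : ∀ v, 1 ≤ v → v ≤ 177474 → fs4 v = true := slots_step fs4 177118 356 177474 s4u372 s4c373 rfl
theorem s4u374 : ∀ v, 1 ≤ v → v ≤ 177834 → fs4 v = true := slots_step fs4 177474 360 177834 s4u373 s4c374 rfl
theorem s4u375 : ∀ v, 1 ≤ v → v ≤ 178190 → fs4 v = true := slots_step fs4 177834 356 178190 s4u374 s4c375 rfl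
theorem s4u376 : ∀ v, 1 ≤ v → v ≤ 178515 → fs4 v = true := slots_step fs4 178190 325 178515 s4u375 s4c376 rfl
theorem s4u377 : ∀ v, 1 ≤ v → v ≤ 178858 → fs4 v = true := slots_step fs4 178515 343 178858 s4u376 s4c377 rfl
theorem s4u378 : ∀ v, 1 ≤ v → v ≤ 179186 → fs4 v = true := slots_step fs4 178858 328 179186 s4u377 s4c378 rfl
theorem s4u379 : ∀ v, 1 ≤ v → v ≤ 179535 → fs4 v = true := slots_step fs4 179186 349 179535 s4u378 s4c379 rfl
theorem s4u380 : ∀ v, 1 ≤ v → v ≤ 179886 → fs4 v = true := slots_step fs4 179535 351 179886 s4u379 s4c380 rfl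
theorem s4u381 : ∀ v, 1 ≤ v → v ≤ 180251 → fs4 v = true := slots_step fs4 179886 365 180251 s4u380 s4c381 rfl
theorem s4u382 : ∀ v, 1 ≤ v → v ≤ 180575 → fs4 v = true := slots_step fs4 180251 324 180575 s4u381 s4c382 rfl
theorem s4u383 : ∀ v, 1 ≤ v → v ≤ 180914 → fs4 v = true := slots_step fs4 180575 339 180914 s4u382 s4c383 rfl
theorem s4u384 : ∀ v, 1 ≤ v → v ≤ 181261 → fs4 v = true := slots_step fs4 180914 347 181261 s4u383 s4c384 rfl
theorem s4u385 : ∀ v, 1 ≤ v → v ≤ 181612 → fs4 v = true := slots_step fs4 181261 351 181612 s4u384 s4c385 rfl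
theorem s4u386 : ∀ v, 1 ≤ v → v ≤ 181950 → fs4 v = true := slots_step fs4 181612 338 181950 s4u385 s4c386 rfl
theorem s4u387 : ∀ v, 1 ≤ v → v ≤ 182292 → fs4 v = true := slots_step fs4 181950 342 182292 s4u386 s4c387 rfl
theorem s4u388 : ∀ v, 1 ≤ v → v ≤ 182650 → fs4 v = true := slots_step fs4 182292 358 182650 s4u387 s4c388 rfl
theorem s4u389 : ∀ v, 1 ≤ v → v ≤ 182986 → fs4 v = true := slots_step fs4 182650 336 182986 s4u388 s4c389 rfl
theorem s4u390 : ∀ v, 1 ≤ v → v ≤ 183316 → fs4 v = true := slots_step fs4 182986 330 183316 s4u389 s4c390 rfl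
theorem s4u391 : ∀ v, 1 ≤ v → v ≤ 183641 → fs4 v = true := slots_step fs4 183316 325 183641 s4u390 s4c391 rfl
theorem s4u392 : ∀ v, 1 ≤ v → v ≤ 183993 → fs4 v = true := slots_step fs4 183641 352 183993 s4u391 s4c392 rfl
theorem s4u393 : ∀ v, 1 ≤ v → v ≤ 184327 → fs4 v = true := slots_step fs4 183993 334 184327 s4u392 s4c393 rfl
theorem s4u394 : ∀ v, 1 ≤ v → v ≤ 184655 → fs4 v = true := slots_step fs4 184327 328 184655 s4u393 s4c394 rfl
theorem s4u395 : ∀ v, 1 ≤ v → v ≤ 185012 → fs4 v = true := slots_step fs4 184655 357 185012 s4u394 s4c395 rfl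
theorem s4u396 : ∀ v, 1 ≤ v → v ≤ 185360 → fs4 v = true := slots_step fs4 185012 348 185360 s4u395 s4c396 rfl
theorem s4u397 : ∀ v, 1 ≤ v → v ≤ 185711 → fs4 v = true := slots_step fs4 185360 351 185711 s4u396 s4c397 rfl
theorem s4u398 : ∀ v, 1 ≤ v → v ≤ 186044 → fs4 v = true := slots_step fs4 185711 333 186044 s4u397 s4c398 rfl
theorem s4u399 : ∀ v, 1 ≤ v → v ≤ 186380 → fs4 v = true := slots_step fs4 186044 336 186380 s4u398 s4c399 rfl
theorem s4u400 : ∀ v, 1 ≤ v → v ≤ 186719 → fs4 v = true := slots_step fs4 186380 339 186719 s4u399 s4c400 rfl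
theorem s4u401 : ∀ v, 1 ≤ v → v ≤ 187064 → fs4 v = true := slots_step fs4 186719 345 187064 s4u400 s4c401 rfl
theorem s4u402 : ∀ v, 1 ≤ v → v ≤ 187387 → fs4 v = true := slots_step fs4 187064 323 187387 s4u401 s4c402 rfl
theorem s4u403 : ∀ v, 1 ≤ v → v ≤ 187712 → fs4 v = true := slots_step fs4 187387 325 187712 s4u402 s4c403 rfl
theorem s4u404 : ∀ v, 1 ≤ v → v ≤ 188031 → fs4 v = true := slots_step fs4 187712 319 188031 s4u403 s4c404 rfl
theorem s4u405 : ∀ v, 1 ≤ v → v ≤ 188355 → fs4 v = true := slots_step fs4 188031 324 188355 s4u404 s4c405 rfl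
theorem s4u406 : ∀ v, 1 ≤ v → v ≤ 188691 → fs4 v = true := slots_step fs4 188355 336 188691 s4u405 s4c406 rfl
theorem s4u407 : ∀ v, 1 ≤ v → v ≤ 189018 → fs4 v = true := slots_step fs4 188691 327 189018 s4u406 s4c407 rfl
theorem s4u408 : ∀ v, 1 ≤ v → v ≤ 189353 → fs4 v = true := slots_step fs4 189018 335 189353 s4u407 s4c408 rfl
theorem s4u409 : ∀ v, 1 ≤ v → v ≤ 189681 → fs4 v = true := slots_step fs4 189353 328 189681 s4u408 s4c409 rfl
theorem s4u410 : ∀ v, 1 ≤ v → v ≤ 190004 → fs4 v = true := slots_step fs4 189681 323 190004 s4u409 s4c410 rfl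
theorem s4u411 : ∀ v, 1 ≤ v → v ≤ 190333 → fs4 v = true := slots_step fs4 190004 329 190333 s4u410 s4c411 rfl
theorem s4u412 : ∀ v, 1 ≤ v → v ≤ 190657 → fs4 v = true := slots_step fs4 190333 324 190657 s4u411 s4c412 rfl
theorem s4u413 : ∀ v, 1 ≤ v → v ≤ 190980 → fs4 v = true := slots_step fs4 190657 323 190980 s4u412 s4c413 rfl
theorem s4u414 : ∀ v, 1 ≤ v → v ≤ 191310 → fs4 v = true := slots_step fs4 190980 330 191310 s4u413 s4c414 rfl
theorem s4u415 : ∀ v, 1 ≤ v → v ≤ 191637 → fs4 v = true := slots_step fs4 191310 327 191637 s4u414 s4c415 rfl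
theorem s4u416 : ∀ v, 1 ≤ v → v ≤ 191978 → fs4 v = true := slots_step fs4 191637 341 191978 s4u415 s4c416 rfl
theorem s4u417 : ∀ v, 1 ≤ v → v ≤ 192322 → fs4 v = true := slots_step fs4 191978 344 192322 s4u416 s4c417 rfl
theorem s4u418 : ∀ v, 1 ≤ v → v ≤ 192657 → fs4 v = true := slots_step fs4 192322 335 192657 s4u417 s4c418 rfl
theorem s4u419 : ∀ v, 1 ≤ v → v ≤ 192997 → fs4 v = true := slots_step fs4 192657 340 192997 s4u418 s4c419 rfl
theorem s4u420 : ∀ v, 1 ≤ v → v ≤ 193315 → fs4 v = true := slots_step fs4 192997 318 193315 s4u419 s4c420 rfl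
theorem s4u421 : ∀ v, 1 ≤ v → v ≤ 193630 → fs4 v = true := slots_step fs4 193315 315 193630 s4u420 s4c421 rfl
theorem s4u422 : ∀ v, 1 ≤ v → v ≤ 193954 → fs4 v = true := slots_step fs4 193630 324 193954 s4u421 s4c422 rfl
theorem s4u423 : ∀ v, 1 ≤ v → v ≤ 194260 → fs4 v = true := slots_step fs4 193954 306 194260 s4u422 s4c423 rfl
theorem s4u424 : ∀ v, 1 ≤ v → v ≤ 194583 → fs4 v = true := slots_step fs4 194260 323 194583 s4u423 s4c424 rfl
theorem s4u425 : ∀ v, 1 ≤ v → v ≤ 194896 → fs4 v = true := slots_step fs4 194583 313 194896 s4u424 s4c425 rfl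
theorem s4u426 : ∀ v, 1 ≤ v → v ≤ 195200 → fs4 v = true := slots_step fs4 194896 304 195200 s4u425 s4c426 rfl
theorem s4u427 : ∀ v, 1 ≤ v → v ≤ 195515 → fs4 v = true := slots_step fs4 195200 315 195515 s4u426 s4c427 rfl
theorem s4u428 : ∀ v, 1 ≤ v → v ≤ 195830 → fs4 v = true := slots_step fs4 195515 315 195830 s4u427 s4c428 rfl
theorem s4u429 : ∀ v, 1 ≤ v → v ≤ 196140 → fs4 v = true := slots_step fs4 195830 310 196140 s4u428 s4c429 rfl
theorem s4u430 : ∀ v, 1 ≤ v → v ≤ 196440 → fs4 v = true := slots_step fs4 196140 300 196440 s4u429 s4c430 rfl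
theorem s4u431 : ∀ v, 1 ≤ v → v ≤ 196733 → fs4 v = true := slots_step fs4 196440 293 196733 s4u430 s4c431 rfl
theorem s4u432 : ∀ v, 1 ≤ v → v ≤ 197036 → fs4 v = true := slots_step fs4 196733 303 197036 s4u431 s4c432 rfl
theorem s4u433 : ∀ v, 1 ≤ v → v ≤ 197366 → fs4 v = true := slots_step fs4 197036 330 197366 s4u432 s4c433 rfl
theorem s4u434 : ∀ v, 1 ≤ v → v ≤ 197661 → fs4 v = true := slots_step fs4 197366 295 197661 s4u433 s4c434 rfl
theorem s4u435 : ∀ v, 1 ≤ v → v ≤ 197964 → fs4 v = true := slots_step fs4 197661 303 197964 s4u434 s4c435 rfl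
theorem s4u436 : ∀ v, 1 ≤ v → v ≤ 198272 → fs4 v = true := slots_step fs4 197964 308 198272 s4u435 s4c436 rfl
theorem s4u437 : ∀ v, 1 ≤ v → v ≤ 198570 → fs4 v = true := slots_step fs4 198272 298 198570 s4u436 s4c437 rfl
theorem s4u438 : ∀ v, 1 ≤ v → v ≤ 198869 → fs4 v = true := slots_step fs4 198570 299 198869 s4u437 s4c438 rfl
theorem s4u439 : ∀ v, 1 ≤ v → v ≤ 199177 → fs4 v = true := slots_step fs4 198869 308 199177 s4u438 s4c439 rfl
theorem s4u440 : ∀ v, 1 ≤ v → v ≤ 199482 → fs4 v = true := slots_step fs4 199177 305 199482 s4u439 s4c440 rfl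
theorem s4u441 : ∀ v, 1 ≤ v → v ≤ 199762 → fs4 v = true := slots_step fs4 199482 280 199762 s4u440 s4c441 rfl
theorem s4u442 : ∀ v, 1 ≤ v → v ≤ 200050 → fs4 v = true := slots_step fs4 199762 288 200050 s4u441 s4c442 rfl
theorem s4u443 : ∀ v, 1 ≤ v → v ≤ 200347 → fs4 v = true := slots_step fs4 200050 297 200347 s4u442 s4c443 rfl
theorem s4u444 : ∀ v, 1 ≤ v → v ≤ 200651 → fs4 v = true := slots_step fs4 200347 304 200651 s4u443 s4c444 rfl
theorem s4u445 : ∀ v, 1 ≤ v → v ≤ 200944 → fs4 v = true := slots_step fs4 200651 293 200944 s4u444 s4c445 rfl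
theorem s4u446 : ∀ v, 1 ≤ v → v ≤ 201238 → fs4 v = true := slots_step fs4 200944 294 201238 s4u445 s4c446 rfl
theorem s4u447 : ∀ v, 1 ≤ v → v ≤ 201517 → fs4 v = true := slots_step fs4 201238 279 201517 s4u446 s4c447 rfl
theorem s4u448 : ∀ v, 1 ≤ v → v ≤ 201582 → fs4 v = true := slots_step fs4 201517 65 201582 s4u447 s4c448 rfl
theorem s5u0 : ∀ v, 1 ≤ v → v ≤ 533 → fs5 v = true := slots_step fs5 0 533 533 (slots_zero fs5) s5c0 rfl
theorem s5u1 : ∀ v, 1 ≤ v → v ≤ 1018 → fs5 v = true := slots_step fs5 533 485 1018 s5u0 s5c1 rfl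
theorem s5u2 : ∀ v, 1 ≤ v → v ≤ 1504 → fs5 v = true := slots_step fs5 1018 486 1504 s5u1 s5c2 rfl
theorem s5u3 : ∀ v, 1 ≤ v → v ≤ 2035 → fs5 v = true := slots_step fs5 1504 531 2035 s5u2 s5c3 rfl
theorem s5u4 : ∀ v, 1 ≤ v → v ≤ 2546 → fs5 v = true := slots_step fs5 2035 511 2546 s5u3 s5c4 rfl
theorem s5u5 : ∀ v, 1 ≤ v → v ≤ 3076 → fs5 v = true := slots_step fs5 2546 530 3076 s5u4 s5c5 rfl
theorem s5u6 : ∀ v, 1 ≤ v → v ≤ 3609 → fs5 v = true := slots_step fs5 3076 533 3609 s5u5 s5c6 rfl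
theorem s5u7 : ∀ v, 1 ≤ v → v ≤ 4161 → fs5 v = true := slots_step fs5 3609 552 4161 s5u6 s5c7 rfl
theorem s5u8 : ∀ v, 1 ≤ v → v ≤ 4693 → fs5 v = true := slots_step fs5 4161 532 4693 s5u7 s5c8 rfl
theorem s5u9 : ∀ v, 1 ≤ v → v ≤ 5188 → fs5 v = true := slots_step fs5 4693 495 5188 s5u8 s5c9 rfl
theorem s5u10 : ∀ v, 1 ≤ v → v ≤ 5682 → fs5 v = true := slots_step fs5 5188 494 5682 s5u9 s5c10 rfl
theorem s5u11 : ∀ v, 1 ≤ v → v ≤ 6198 → fs5 v = true := slots_step fs5 5682 516 6198 s5u10 s5c11 rfl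
theorem s5u12 : ∀ v, 1 ≤ v → v ≤ 6661 → fs5 v = true := slots_step fs5 6198 463 6661 s5u11 s5c12 rfl
theorem s5u13 : ∀ v, 1 ≤ v → v ≤ 7173 → fs5 v = true := slots_step fs5 6661 512 7173 s5u12 s5c13 rfl
theorem s5u14 : ∀ v, 1 ≤ v → v ≤ 7710 → fs5 v = true := slots_step fs5 7173 537 7710 s5u13 s5c14 rfl
theorem s5u15 : ∀ v, 1 ≤ v → v ≤ 8231 → fs5 v = true := slots_step fs5 7710 521 8231 s5u14 s5c15 rfl
theorem s5u16 : ∀ v, 1 ≤ v → v ≤ 8757 → fs5 v = true := slots_step fs5 8231 526 8757 s5u15 s5c16 rfl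
theorem s5u17 : ∀ v, 1 ≤ v → v ≤ 9265 → fs5 v = true := slots_step fs5 8757 508 9265 s5u16 s5c17 rfl
theorem s5u18 : ∀ v, 1 ≤ v → v ≤ 9803 → fs5 v = true := slots_step fs5 9265 538 9803 s5u17 s5c18 rfl
theorem s5u19 : ∀ v, 1 ≤ v → v ≤ 10335 → fs5 v = true := slots_step fs5 9803 532 10335 s5u18 s5c19 rfl
theorem s5u20 : ∀ v, 1 ≤ v → v ≤ 10872 → fs5 v = true := slots_step fs5 10335 537 10872 s5u19 s5c20 rfl
theorem s5u21 : ∀ v, 1 ≤ v → v ≤ 11332 → fs5 v = true := slots_step fs5 10872 460 11332 s5u20 s5c21 rfl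
theorem s5u22 : ∀ v, 1 ≤ v → v ≤ 11793 → fs5 v = true := slots_step fs5 11332 461 11793 s5u21 s5c22 rfl
theorem s5u23 : ∀ v, 1 ≤ v → v ≤ 12270 → fs5 v = true := slots_step fs5 11793 477 12270 s5u22 s5c23 rfl
theorem s5u24 : ∀ v, 1 ≤ v → v ≤ 12784 → fs5 v = true := slots_step fs5 12270 514 12784 s5u23 s5c24 rfl
theorem s5u25 : ∀ v, 1 ≤ v → v ≤ 13259 → fs5 v = true := slots_step fs5 12784 475 13259 s5u24 s5c25 rfl
theorem s5u26 : ∀ v, 1 ≤ v → v ≤ 13739 → fs5 v = true := slots_step fs5 13259 480 13739 s5u25 s5c26 rfl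
theorem s5u27 : ∀ v, 1 ≤ v → v ≤ 14207 → fs5 v = true := slots_step fs5 13739 468 14207 s5u26 s5c27 rfl
theorem s5u28 : ∀ v, 1 ≤ v → v ≤ 14698 → fs5 v = true := slots_step fs5 14207 491 14698 s5u27 s5c28 rfl
theorem s5u29 : ∀ v, 1 ≤ v → v ≤ 15229 → fs5 v = true := slots_step fs5 14698 531 15229 s5u28 s5c29 rfl
theorem s5u30 : ∀ v, 1 ≤ v → v ≤ 15737 → fs5 v = true := slots_step fs5 15229 508 15737 s5u29 s5c30 rfl
theorem s5u31 : ∀ v, 1 ≤ v → v ≤ 16259 → fs5 v = true := slots_step fs5 15737 522 16259 s5u30 s5c31 rfl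
theorem s5u32 : ∀ v, 1 ≤ v → v ≤ 16742 → fs5 v = true := slots_step fs5 16259 483 16742 s5u31 s5c32 rfl
theorem s5u33 : ∀ v, 1 ≤ v → v ≤ 17240 → fs5 v = true := slots_step fs5 16742 498 17240 s5u32 s5c33 rfl
theorem s5u34 : ∀ v, 1 ≤ v → v ≤ 17772 → fs5 v = true := slots_step fs5 17240 532 17772 s5u33 s5c34 rfl
theorem s5u35 : ∀ v, 1 ≤ v → v ≤ 18304 → fs5 v = true := slots_step fs5 17772 532 18304 s5u34 s5c35 rfl
theorem s5u36 : ∀ v, 1 ≤ v → v ≤ 18841 → fs5 v = true := slots_step fs5 18304 537 18841 s5u35 s5c36 rfl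
theorem s5u37 : ∀ v, 1 ≤ v → v ≤ 19339 → fs5 v = true := slots_step fs5 18841 498 19339 s5u36 s5c37 rfl
theorem s5u38 : ∀ v, 1 ≤ v → v ≤ 19841 → fs5 v = true := slots_step fs5 19339 502 19841 s5u37 s5c38 rfl
theorem s5u39 : ∀ v, 1 ≤ v → v ≤ 20375 → fs5 v = true := slots_step fs5 19841 534 20375 s5u38 s5c39 rfl
theorem s5u40 : ∀ v, 1 ≤ v → v ≤ 20900 → fs5 v = true := slots_step fs5 20375 525 20900 s5u39 s5c40 rfl
theorem s5u41 : ∀ v, 1 ≤ v → v ≤ 21448 → fs5 v = true := slots_step fs5 20900 548 21448 s5u40 s5c41 rfl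
theorem s5u42 : ∀ v, 1 ≤ v → v ≤ 21976 → fs5 v = true := slots_step fs5 21448 528 21976 s5u41 s5c42 rfl
theorem s5u43 : ∀ v, 1 ≤ v → v ≤ 22501 → fs5 v = true := slots_step fs5 21976 525 22501 s5u42 s5c43 rfl
theorem s5u44 : ∀ v, 1 ≤ v → v ≤ 23031 → fs5 v = true := slots_step fs5 22501 530 23031 s5u43 s5c44 rfl
theorem s5u45 : ∀ v, 1 ≤ v → v ≤ 23507 → fs5 v = true := slots_step fs5 23031 476 23507 s5u44 s5c45 rfl
theorem s5u46 : ∀ v, 1 ≤ v → v ≤ 23960 → fs5 v = true := slots_step fs5 23507 453 23960 s5u45 s5c46 rfl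
theorem s5u47 : ∀ v, 1 ≤ v → v ≤ 24416 → fs5 v = true := slots_step fs5 23960 456 24416 s5u46 s5c47 rfl
theorem s5u48 : ∀ v, 1 ≤ v → v ≤ 24878 → fs5 v = true := slots_step fs5 24416 462 24878 s5u47 s5c48 rfl
theorem s5u49 : ∀ v, 1 ≤ v → v ≤ 25363 → fs5 v = true := slots_step fs5 24878 485 25363 s5u48 s5c49 rfl
theorem s5u50 : ∀ v, 1 ≤ v → v ≤ 25849 → fs5 v = true := slots_step fs5 25363 486 25849 s5u49 s5c50 rfl
theorem s5u51 : ∀ v, 1 ≤ v → v ≤ 26316 → fs5 v = true := slots_step fs5 25849 467 26316 s5u50 s5c51 rfl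
theorem s5u52 : ∀ v, 1 ≤ v → v ≤ 26799 → fs5 v = true := slots_step fs5 26316 483 26799 s5u51 s5c52 rfl
theorem s5u53 : ∀ v, 1 ≤ v → v ≤ 27312 → fs5 v = true := slots_step fs5 26799 513 27312 s5u52 s5c53 rfl
theorem s5u54 : ∀ v, 1 ≤ v → v ≤ 27787 → fs5 v = true := slots_step fs5 27312 475 27787 s5u53 s5c54 rfl
theorem s5u55 : ∀ v, 1 ≤ v → v ≤ 28295 → fs5 v = true := slots_step fs5 27787 508 28295 s5u54 s5c55 rfl
theorem s5u56 : ∀ v, 1 ≤ v → v ≤ 28776 → fs5 v = true := slots_step fs5 28295 481 28776 s5u55 s5c56 rfl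
theorem s5u57 : ∀ v, 1 ≤ v → v ≤ 29258 → fs5 v = true := slots_step fs5 28776 482 29258 s5u56 s5c57 rfl
theorem s5u58 : ∀ v, 1 ≤ v → v ≤ 29737 → fs5 v = true := slots_step fs5 29258 479 29737 s5u57 s5c58 rfl
theorem s5u59 : ∀ v, 1 ≤ v → v ≤ 30247 → fs5 v = true := slots_step fs5 29737 510 30247 s5u58 s5c59 rfl
theorem s5u60 : ∀ v, 1 ≤ v → v ≤ 30809 → fs5 v = true := slots_step fs5 30247 562 30809 s5u59 s5c60 rfl
theorem s5u61 : ∀ v, 1 ≤ v → v ≤ 31311 → fs5 v = true := slots_step fs5 30809 502 31311 s5u60 s5c61 rfl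
theorem s5u62 : ∀ v, 1 ≤ v → v ≤ 31803 → fs5 v = true := slots_step fs5 31311 492 31803 s5u61 s5c62 rfl
theorem s5u63 : ∀ v, 1 ≤ v → v ≤ 32280 → fs5 v = true := slots_step fs5 31803 477 32280 s5u62 s5c63 rfl
theorem s5u64 : ∀ v, 1 ≤ v → v ≤ 32780 → fs5 v = true := slots_step fs5 32280 500 32780 s5u63 s5c64 rfl
theorem s5u65 : ∀ v, 1 ≤ v → v ≤ 33303 → fs5 v = true := slots_step fs5 32780 523 33303 s5u64 s5c65 rfl
theorem s5u66 : ∀ v, 1 ≤ v → v ≤ 33826 → fs5 v = true := slots_step fs5 33303 523 33826 s5u65 s5c66 rfl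
theorem s5u67 : ∀ v, 1 ≤ v → v ≤ 34332 → fs5 v = true := slots_step fs5 33826 506 34332 s5u66 s5c67 rfl
theorem s5u68 : ∀ v, 1 ≤ v → v ≤ 34834 → fs5 v = true := slots_step fs5 34332 502 34834 s5u67 s5c68 rfl
theorem s5u69 : ∀ v, 1 ≤ v → v ≤ 35357 → fs5 v = true := slots_step fs5 34834 523 35357 s5u68 s5c69 rfl
theorem s5u70 : ∀ v, 1 ≤ v → v ≤ 35855 → fs5 v = true := slots_step fs5 35357 498 35855 s5u69 s5c70 rfl
theorem s5u71 : ∀ v, 1 ≤ v → v ≤ 36424 → fs5 v = true := slots_step fs5 35855 569 36424 s5u70 s5c71 rfl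
theorem s5u72 : ∀ v, 1 ≤ v → v ≤ 36959 → fs5 v = true := slots_step fs5 36424 535 36959 s5u71 s5c72 rfl
theorem s5u73 : ∀ v, 1 ≤ v → v ≤ 37483 → fs5 v = true := slots_step fs5 36959 524 37483 s5u72 s5c73 rfl
theorem s5u74 : ∀ v, 1 ≤ v → v ≤ 38013 → fs5 v = true := slots_step fs5 37483 530 38013 s5u73 s5c74 rfl
theorem s5u75 : ∀ v, 1 ≤ v → v ≤ 38544 → fs5 v = true := slots_step fs5 38013 531 38544 s5u74 s5c75 rfl
theorem s5u76 : ∀ v, 1 ≤ v → v ≤ 39114 → fs5 v = true := slots_step fs5 38544 570 39114 s5u75 s5c76 rfl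
theorem s5u77 : ∀ v, 1 ≤ v → v ≤ 39624 → fs5 v = true := slots_step fs5 39114 510 39624 s5u76 s5c77 rfl
theorem s5u78 : ∀ v, 1 ≤ v → v ≤ 40157 → fs5 v = true := slots_step fs5 39624 533 40157 s5u77 s5c78 rfl
theorem s5u79 : ∀ v, 1 ≤ v → v ≤ 40674 → fs5 v = true := slots_step fs5 40157 517 40674 s5u78 s5c79 rfl
theorem s5u80 : ∀ v, 1 ≤ v → v ≤ 41149 → fs5 v = true := slots_step fs5 40674 475 41149 s5u79 s5c80 rfl
theorem s5u81 : ∀ v, 1 ≤ v → v ≤ 41630 → fs5 v = true := slots_step fs5 41149 481 41630 s5u80 s5c81 rfl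
theorem s5u82 : ∀ v, 1 ≤ v → v ≤ 42164 → fs5 v = true := slots_step fs5 41630 534 42164 s5u81 s5c82 rfl
theorem s5u83 : ∀ v, 1 ≤ v → v ≤ 42703 → fs5 v = true := slots_step fs5 42164 539 42703 s5u82 s5c83 rfl
theorem s5u84 : ∀ v, 1 ≤ v → v ≤ 43223 → fs5 v = true := slots_step fs5 42703 520 43223 s5u83 s5c84 rfl
theorem s5u85 : ∀ v, 1 ≤ v → v ≤ 43738 → fs5 v = true := slots_step fs5 43223 515 43738 s5u84 s5c85 rfl
theorem s5u86 : ∀ v, 1 ≤ v → v ≤ 44221 → fs5 v = true := slots_step fs5 43738 483 44221 s5u85 s5c86 rfl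
theorem s5u87 : ∀ v, 1 ≤ v → v ≤ 44751 → fs5 v = true := slots_step fs5 44221 530 44751 s5u86 s5c87 rfl
theorem s5u88 : ∀ v, 1 ≤ v → v ≤ 45232 → fs5 v = true := slots_step fs5 44751 481 45232 s5u87 s5c88 rfl
theorem s5u89 : ∀ v, 1 ≤ v → v ≤ 45771 → fs5 v = true := slots_step fs5 45232 539 45771 s5u88 s5c89 rfl
theorem s5u90 : ∀ v, 1 ≤ v → v ≤ 46285 → fs5 v = true := slots_step fs5 45771 514 46285 s5u89 s5c90 rfl
theorem s5u91 : ∀ v, 1 ≤ v → v ≤ 46808 → fs5 v = true := slots_step fs5 46285 523 46808 s5u90 s5c91 rfl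
theorem s5u92 : ∀ v, 1 ≤ v → v ≤ 47287 → fs5 v = true := slots_step fs5 46808 479 47287 s5u91 s5c92 rfl
theorem s5u93 : ∀ v, 1 ≤ v → v ≤ 47743 → fs5 v = true := slots_step fs5 47287 456 47743 s5u92 s5c93 rfl
theorem s5u94 : ∀ v, 1 ≤ v → v ≤ 48195 → fs5 v = true := slots_step fs5 47743 452 48195 s5u93 s5c94 rfl
theorem s5u95 : ∀ v, 1 ≤ v → v ≤ 48703 → fs5 v = true := slots_step fs5 48195 508 48703 s5u94 s5c95 rfl
theorem s5u96 : ∀ v, 1 ≤ v → v ≤ 49216 → fs5 v = true := slots_step fs5 48703 513 49216 s5u95 s5c96 rfl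
theorem s5u97 : ∀ v, 1 ≤ v → v ≤ 49661 → fs5 v = true := slots_step fs5 49216 445 49661 s5u96 s5c97 rfl
theorem s5u98 : ∀ v, 1 ≤ v → v ≤ 50174 → fs5 v = true := slots_step fs5 49661 513 50174 s5u97 s5c98 rfl
theorem s5u99 : ∀ v, 1 ≤ v → v ≤ 50658 → fs5 v = true := slots_step fs5 50174 484 50658 s5u98 s5c99 rfl
theorem s5u100 : ∀ v, 1 ≤ v → v ≤ 51128 → fs5 v = true := slots_step fs5 50658 470 51128 s5u99 s5c100 rfl
theorem s5u101 : ∀ v, 1 ≤ v → v ≤ 51603 → fs5 v = true := slots_step fs5 51128 475 51603 s5u100 s5c101 rfl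
theorem s5u102 : ∀ v, 1 ≤ v → v ≤ 52136 → fs5 v = true := slots_step fs5 51603 533 52136 s5u101 s5c102 rfl
theorem s5u103 : ∀ v, 1 ≤ v → v ≤ 52611 → fs5 v = true := slots_step fs5 52136 475 52611 s5u102 s5c103 rfl
theorem s5u104 : ∀ v, 1 ≤ v → v ≤ 53085 → fs5 v = true := slots_step fs5 52611 474 53085 s5u103 s5c104 rfl
theorem s5u105 : ∀ v, 1 ≤ v → v ≤ 53591 → fs5 v = true := slots_step fs5 53085 506 53591 s5u104 s5c105 rfl
theorem s5u106 : ∀ v, 1 ≤ v → v ≤ 54107 → fs5 v = true := slots_step fs5 53591 516 54107 s5u105 s5c106 rfl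
theorem s5u107 : ∀ v, 1 ≤ v → v ≤ 54709 → fs5 v = true := slots_step fs5 54107 602 54709 s5u106 s5c107 rfl
theorem s5u108 : ∀ v, 1 ≤ v → v ≤ 55247 → fs5 v = true := slots_step fs5 54709 538 55247 s5u107 s5c108 rfl
theorem s5u109 : ∀ v, 1 ≤ v → v ≤ 55774 → fs5 v = true := slots_step fs5 55247 527 55774 s5u108 s5c109 rfl
theorem s5u110 : ∀ v, 1 ≤ v → v ≤ 56315 → fs5 v = true := slots_step fs5 55774 541 56315 s5u109 s5c110 rfl
theorem s5u111 : ∀ v, 1 ≤ v → v ≤ 56842 → fs5 v = true := slots_step fs5 56315 527 56842 s5u110 s5c111 rfl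
theorem s5u112 : ∀ v, 1 ≤ v → v ≤ 57320 → fs5 v = true := slots_step fs5 56842 478 57320 s5u111 s5c112 rfl
theorem s5u113 : ∀ v, 1 ≤ v → v ≤ 57830 → fs5 v = true := slots_step fs5 57320 510 57830 s5u112 s5c113 rfl
theorem s5u114 : ∀ v, 1 ≤ v → v ≤ 58338 → fs5 v = true := slots_step fs5 57830 508 58338 s5u113 s5c114 rfl
theorem s5u115 : ∀ v, 1 ≤ v → v ≤ 58865 → fs5 v = true := slots_step fs5 58338 527 58865 s5u114 s5c115 rfl
theorem s5u116 : ∀ v, 1 ≤ v → v ≤ 59370 → fs5 v = true := slots_step fs5 58865 505 59370 s5u115 s5c116 rfl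
theorem s5u117 : ∀ v, 1 ≤ v → v ≤ 59867 → fs5 v = true := slots_step fs5 59370 497 59867 s5u116 s5c117 rfl
theorem s5u118 : ∀ v, 1 ≤ v → v ≤ 60385 → fs5 v = true := slots_step fs5 59867 518 60385 s5u117 s5c118 rfl
theorem s5u119 : ∀ v, 1 ≤ v → v ≤ 60873 → fs5 v = true := slots_step fs5 60385 488 60873 s5u118 s5c119 rfl
theorem s5u120 : ∀ v, 1 ≤ v → v ≤ 61407 → fs5 v = true := slots_step fs5 60873 534 61407 s5u119 s5c120 rfl
theorem s5u121 : ∀ v, 1 ≤ v → v ≤ 61907 → fs5 v = true := slots_step fs5 61407 500 61907 s5u120 s5c121 rfl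
theorem s5u122 : ∀ v, 1 ≤ v → v ≤ 62421 → fs5 v = true := slots_step fs5 61907 514 62421 s5u121 s5c122 rfl
theorem s5u123 : ∀ v, 1 ≤ v → v ≤ 62978 → fs5 v = true := slots_step fs5 62421 557 62978 s5u122 s5c123 rfl
theorem s5u124 : ∀ v, 1 ≤ v → v ≤ 63536 → fs5 v = true := slots_step fs5 62978 558 63536 s5u123 s5c124 rfl
theorem s5u125 : ∀ v, 1 ≤ v → v ≤ 64125 → fs5 v = true := slots_step fs5 63536 589 64125 s5u124 s5c125 rfl
theorem s5u126 : ∀ v, 1 ≤ v → v ≤ 64713 → fs5 v = true := slots_step fs5 64125 588 64713 s5u125 s5c126 rfl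
theorem s5u127 : ∀ v, 1 ≤ v → v ≤ 65292 → fs5 v = true := slots_step fs5 64713 579 65292 s5u126 s5c127 rfl
theorem s5u128 : ∀ v, 1 ≤ v → v ≤ 65800 → fs5 v = true := slots_step fs5 65292 508 65800 s5u127 s5c128 rfl
theorem s5u129 : ∀ v, 1 ≤ v → v ≤ 66312 → fs5 v = true := slots_step fs5 65800 512 66312 s5u128 s5c129 rfl
theorem s5u130 : ∀ v, 1 ≤ v → v ≤ 66814 → fs5 v = true := slots_step fs5 66312 502 66814 s5u129 s5c130 rfl
theorem s5u131 : ∀ v, 1 ≤ v → v ≤ 67321 → fs5 v = true := slots_step fs5 66814 507 67321 s5u130 s5c131 rfl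
theorem s5u132 : ∀ v, 1 ≤ v → v ≤ 67822 → fs5 v = true := slots_step fs5 67321 501 67822 s5u131 s5c132 rfl
theorem s5u133 : ∀ v, 1 ≤ v → v ≤ 68361 → fs5 v = true := slots_step fs5 67822 539 68361 s5u132 s5c133 rfl
theorem s5u134 : ∀ v, 1 ≤ v → v ≤ 68897 → fs5 v = true := slots_step fs5 68361 536 68897 s5u133 s5c134 rfl
theorem s5u135 : ∀ v, 1 ≤ v → v ≤ 69431 → fs5 v = true := slots_step fs5 68897 534 69431 s5u134 s5c135 rfl
theorem s5u136 : ∀ v, 1 ≤ v → v ≤ 69963 → fs5 v = true := slots_step fs5 69431 532 69963 s5u135 s5c136 rfl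
theorem s5u137 : ∀ v, 1 ≤ v → v ≤ 70524 → fs5 v = true := slots_step fs5 69963 561 70524 s5u136 s5c137 rfl
theorem s5u138 : ∀ v, 1 ≤ v → v ≤ 71086 → fs5 v = true := slots_step fs5 70524 562 71086 s5u137 s5c138 rfl
theorem s5u139 : ∀ v, 1 ≤ v → v ≤ 71595 → fs5 v = true := slots_step fs5 71086 509 71595 s5u138 s5c139 rfl
theorem s5u140 : ∀ v, 1 ≤ v → v ≤ 72116 → fs5 v = true := slots_step fs5 71595 521 72116 s5u139 s5c140 rfl
theorem s5u141 : ∀ v, 1 ≤ v → v ≤ 72628 → fs5 v = true := slots_step fs5 72116 512 72628 s5u140 s5c141 rfl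
theorem s5u142 : ∀ v, 1 ≤ v → v ≤ 73150 → fs5 v = true := slots_step fs5 72628 522 73150 s5u141 s5c142 rfl
theorem s5u143 : ∀ v, 1 ≤ v → v ≤ 73639 → fs5 v = true := slots_step fs5 73150 489 73639 s5u142 s5c143 rfl
theorem s5u144 : ∀ v, 1 ≤ v → v ≤ 74154 → fs5 v = true := slots_step fs5 73639 515 74154 s5u143 s5c144 rfl
theorem s5u145 : ∀ v, 1 ≤ v → v ≤ 74725 → fs5 v = true := slots_step fs5 74154 571 74725 s5u144 s5c145 rfl
theorem s5u146 : ∀ v, 1 ≤ v → v ≤ 75262 → fs5 v = true := slots_step fs5 74725 537 75262 s5u145 s5c146 rfl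
theorem s5u147 : ∀ v, 1 ≤ v → v ≤ 75783 → fs5 v = true := slots_step fs5 75262 521 75783 s5u146 s5c147 rfl
theorem s5u148 : ∀ v, 1 ≤ v → v ≤ 76355 → fs5 v = true := slots_step fs5 75783 572 76355 s5u147 s5c148 rfl
theorem s5u149 : ∀ v, 1 ≤ v → v ≤ 76914 → fs5 v = true := slots_step fs5 76355 559 76914 s5u148 s5c149 rfl
theorem s5u150 : ∀ v, 1 ≤ v → v ≤ 77486 → fs5 v = true := slots_step fs5 76914 572 77486 s5u149 s5c150 rfl
theorem s5u151 : ∀ v, 1 ≤ v → v ≤ 77979 → fs5 v = true := slots_step fs5 77486 493 77979 s5u150 s5c151 rfl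
theorem s5u152 : ∀ v, 1 ≤ v → v ≤ 78518 → fs5 v = true := slots_step fs5 77979 539 78518 s5u151 s5c152 rfl
theorem s5u153 : ∀ v, 1 ≤ v → v ≤ 79061 → fs5 v = true := slots_step fs5 78518 543 79061 s5u152 s5c153 rfl
theorem s5u154 : ∀ v, 1 ≤ v → v ≤ 79562 → fs5 v = true := slots_step fs5 79061 501 79562 s5u153 s5c154 rfl
theorem s5u155 : ∀ v, 1 ≤ v → v ≤ 80106 → fs5 v = true := slots_step fs5 79562 544 80106 s5u154 s5c155 rfl
theorem s5u156 : ∀ v, 1 ≤ v → v ≤ 80667 → fs5 v = true := slots_step fs5 80106 561 80667 s5u155 s5c156 rfl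
theorem s5u157 : ∀ v, 1 ≤ v → v ≤ 81215 → fs5 v = true := slots_step fs5 80667 548 81215 s5u156 s5c157 rfl
theorem s5u158 : ∀ v, 1 ≤ v → v ≤ 81804 → fs5 v = true := slots_step fs5 81215 589 81804 s5u157 s5c158 rfl
theorem s5u159 : ∀ v, 1 ≤ v → v ≤ 82385 → fs5 v = true := slots_step fs5 81804 581 82385 s5u158 s5c159 rfl
theorem s5u160 : ∀ v, 1 ≤ v → v ≤ 82941 → fs5 v = true := slots_step fs5 82385 556 82941 s5u159 s5c160 rfl
theorem s5u161 : ∀ v, 1 ≤ v → v ≤ 83464 → fs5 v = true := slots_step fs5 82941 523 83464 s5u160 s5c161 rfl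
theorem s5u162 : ∀ v, 1 ≤ v → v ≤ 83978 → fs5 v = true := slots_step fs5 83464 514 83978 s5u161 s5c162 rfl
theorem s5u163 : ∀ v, 1 ≤ v → v ≤ 84517 → fs5 v = true := slots_step fs5 83978 539 84517 s5u162 s5c163 rfl
theorem s5u164 : ∀ v, 1 ≤ v → v ≤ 84993 → fs5 v = true := slots_step fs5 84517 476 84993 s5u163 s5c164 rfl
theorem s5u165 : ∀ v, 1 ≤ v → v ≤ 85452 → fs5 v = true := slots_step fs5 84993 459 85452 s5u164 s5c165 rfl
theorem s5u166 : ∀ v, 1 ≤ v → v ≤ 85896 → fs5 v = true := slots_step fs5 85452 444 85896 s5u165 s5c166 rfl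
theorem s5u167 : ∀ v, 1 ≤ v → v ≤ 86350 → fs5 v = true := slots_step fs5 85896 454 86350 s5u166 s5c167 rfl
theorem s5u168 : ∀ v, 1 ≤ v → v ≤ 86841 → fs5 v = true := slots_step fs5 86350 491 86841 s5u167 s5c168 rfl
theorem s5u169 : ∀ v, 1 ≤ v → v ≤ 87308 → fs5 v = true := slots_step fs5 86841 467 87308 s5u168 s5c169 rfl
theorem s5u170 : ∀ v, 1 ≤ v → v ≤ 87759 → fs5 v = true := slots_step fs5 87308 451 87759 s5u169 s5c170 rfl
theorem s5u171 : ∀ v, 1 ≤ v → v ≤ 88251 → fs5 v = true := slots_step fs5 87759 492 88251 s5u170 s5c171 rfl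
theorem s5u172 : ∀ v, 1 ≤ v → v ≤ 88717 → fs5 v = true := slots_step fs5 88251 466 88717 s5u171 s5c172 rfl
theorem s5u173 : ∀ v, 1 ≤ v → v ≤ 89194 → fs5 v = true := slots_step fs5 88717 477 89194 s5u172 s5c173 rfl
theorem s5u174 : ∀ v, 1 ≤ v → v ≤ 89681 → fs5 v = true := slots_step fs5 89194 487 89681 s5u173 s5c174 rfl
theorem s5u175 : ∀ v, 1 ≤ v → v ≤ 90157 → fs5 v = true := slots_step fs5 89681 476 90157 s5u174 s5c175 rfl
theorem s5u176 : ∀ v, 1 ≤ v → v ≤ 90609 → fs5 v = true := slots_step fs5 90157 452 90609 s5u175 s5c176 rfl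
theorem s5u177 : ∀ v, 1 ≤ v → v ≤ 91063 → fs5 v = true := slots_step fs5 90609 454 91063 s5u176 s5c177 rfl
theorem s5u178 : ∀ v, 1 ≤ v → v ≤ 91561 → fs5 v = true := slots_step fs5 91063 498 91561 s5u177 s5c178 rfl
theorem s5u179 : ∀ v, 1 ≤ v → v ≤ 92034 → fs5 v = true := slots_step fs5 91561 473 92034 s5u178 s5c179 rfl
theorem s5u180 : ∀ v, 1 ≤ v → v ≤ 92507 → fs5 v = true := slots_step fs5 92034 473 92507 s5u179 s5c180 rfl
theorem s5u181 : ∀ v, 1 ≤ v → v ≤ 92979 → fs5 v = true := slots_step fs5 92507 472 92979 s5u180 s5c181 rfl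
theorem s5u182 : ∀ v, 1 ≤ v → v ≤ 93474 → fs5 v = true := slots_step fs5 92979 495 93474 s5u181 s5c182 rfl
theorem s5u183 : ∀ v, 1 ≤ v → v ≤ 93969 → fs5 v = true := slots_step fs5 93474 495 93969 s5u182 s5c183 rfl
theorem s5u184 : ∀ v, 1 ≤ v → v ≤ 94525 → fs5 v = true := slots_step fs5 93969 556 94525 s5u183 s5c184 rfl
theorem s5u185 : ∀ v, 1 ≤ v → v ≤ 94979 → fs5 v = true := slots_step fs5 94525 454 94979 s5u184 s5c185 rfl
theorem s5u186 : ∀ v, 1 ≤ v → v ≤ 95466 → fs5 v = true := slots_step fs5 94979 487 95466 s5u185 s5c186 rfl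
theorem s5u187 : ∀ v, 1 ≤ v → v ≤ 95903 → fs5 v = true := slots_step fs5 95466 437 95903 s5u186 s5c187 rfl
theorem s5u188 : ∀ v, 1 ≤ v → v ≤ 96363 → fs5 v = true := slots_step fs5 95903 460 96363 s5u187 s5c188 rfl
theorem s5u189 : ∀ v, 1 ≤ v → v ≤ 96811 → fs5 v = true := slots_step fs5 96363 448 96811 s5u188 s5c189 rfl
theorem s5u190 : ∀ v, 1 ≤ v → v ≤ 97288 → fs5 v = true := slots_step fs5 96811 477 97288 s5u189 s5c190 rfl
theorem s5u191 : ∀ v, 1 ≤ v → v ≤ 97752 → fs5 v = true := slots_step fs5 97288 464 97752 s5u190 s5c191 rfl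
theorem s5u192 : ∀ v, 1 ≤ v → v ≤ 98204 → fs5 v = true := slots_step fs5 97752 452 98204 s5u191 s5c192 rfl
theorem s5u193 : ∀ v, 1 ≤ v → v ≤ 98650 → fs5 v = true := slots_step fs5 98204 446 98650 s5u192 s5c193 rfl
theorem s5u194 : ∀ v, 1 ≤ v → v ≤ 99113 → fs5 v = true := slots_step fs5 98650 463 99113 s5u193 s5c194 rfl
theorem s5u195 : ∀ v, 1 ≤ v → v ≤ 99588 → fs5 v = true := slots_step fs5 99113 475 99588 s5u194 s5c195 rfl
theorem s5u196 : ∀ v, 1 ≤ v → v ≤ 100064 → fs5 v = true := slots_step fs5 99588 476 100064 s5u195 s5c196 rfl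
theorem s5u197 : ∀ v, 1 ≤ v → v ≤ 100576 → fs5 v = true := slots_step fs5 100064 512 100576 s5u196 s5c197 rfl
theorem s5u198 : ∀ v, 1 ≤ v → v ≤ 101114 → fs5 v = true := slots_step fs5 100576 538 101114 s5u197 s5c198 rfl
theorem s5u199 : ∀ v, 1 ≤ v → v ≤ 101570 → fs5 v = true := slots_step fs5 101114 456 101570 s5u198 s5c199 rfl
theorem s5u200 : ∀ v, 1 ≤ v → v ≤ 102004 → fs5 v = true := slots_step fs5 101570 434 102004 s5u199 s5c200 rfl
theorem s5u201 : ∀ v, 1 ≤ v → v ≤ 102436 → fs5 v = true := slots_step fs5 102004 432 102436 s5u200 s5c201 rfl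
theorem s5u202 : ∀ v, 1 ≤ v → v ≤ 102898 → fs5 v = true := slots_step fs5 102436 462 102898 s5u201 s5c202 rfl
theorem s5u203 : ∀ v, 1 ≤ v → v ≤ 103404 → fs5 v = true := slots_step fs5 102898 506 103404 s5u202 s5c203 rfl
theorem s5u204 : ∀ v, 1 ≤ v → v ≤ 103833 → fs5 v = true := slots_step fs5 103404 429 103833 s5u203 s5c204 rfl
theorem s5u205 : ∀ v, 1 ≤ v → v ≤ 104284 → fs5 v = true := slots_step fs5 103833 451 104284 s5u204 s5c205 rfl
theorem s5u206 : ∀ v, 1 ≤ v → v ≤ 104751 → fs5 v = true := slots_step fs5 104284 467 104751 s5u205 s5c206 rfl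
theorem s5u207 : ∀ v, 1 ≤ v → v ≤ 105202 → fs5 v = true := slots_step fs5 104751 451 105202 s5u206 s5c207 rfl
theorem s5u208 : ∀ v, 1 ≤ v → v ≤ 105706 → fs5 v = true := slots_step fs5 105202 504 105706 s5u207 s5c208 rfl
theorem s5u209 : ∀ v, 1 ≤ v → v ≤ 106176 → fs5 v = true := slots_step fs5 105706 470 106176 s5u208 s5c209 rfl
theorem s5u210 : ∀ v, 1 ≤ v → v ≤ 106660 → fs5 v = true := slots_step fs5 106176 484 106660 s5u209 s5c210 rfl
theorem s5u211 : ∀ v, 1 ≤ v → v ≤ 107168 → fs5 v = true := slots_step fs5 106660 508 107168 s5u210 s5c211 rfl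
theorem s5u212 : ∀ v, 1 ≤ v → v ≤ 107669 → fs5 v = true := slots_step fs5 107168 501 107669 s5u211 s5c212 rfl
theorem s5u213 : ∀ v, 1 ≤ v → v ≤ 108135 → fs5 v = true := slots_step fs5 107669 466 108135 s5u212 s5c213 rfl
theorem s5u214 : ∀ v, 1 ≤ v → v ≤ 108648 → fs5 v = true := slots_step fs5 108135 513 108648 s5u213 s5c214 rfl
theorem s5u215 : ∀ v, 1 ≤ v → v ≤ 109145 → fs5 v = true := slots_step fs5 108648 497 109145 s5u214 s5c215 rfl
theorem s5u216 : ∀ v, 1 ≤ v → v ≤ 109647 → fs5 v = true := slots_step fs5 109145 502 109647 s5u215 s5c216 rfl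
theorem s5u217 : ∀ v, 1 ≤ v → v ≤ 110132 → fs5 v = true := slots_step fs5 109647 485 110132 s5u216 s5c217 rfl
theorem s5u218 : ∀ v, 1 ≤ v → v ≤ 110636 → fs5 v = true := slots_step fs5 110132 504 110636 s5u217 s5c218 rfl
theorem s5u219 : ∀ v, 1 ≤ v → v ≤ 111093 → fs5 v = true := slots_step fs5 110636 457 111093 s5u218 s5c219 rfl
theorem s5u220 : ∀ v, 1 ≤ v → v ≤ 111631 → fs5 v = true := slots_step fs5 111093 538 111631 s5u219 s5c220 rfl
theorem s5u221 : ∀ v, 1 ≤ v → v ≤ 112120 → fs5 v = true := slots_step fs5 111631 489 112120 s5u220 s5c221 rfl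
theorem s5u222 : ∀ v, 1 ≤ v → v ≤ 112572 → fs5 v = true := slots_step fs5 112120 452 112572 s5u221 s5c222 rfl
theorem s5u223 : ∀ v, 1 ≤ v → v ≤ 113057 → fs5 v = true := slots_step fs5 112572 485 113057 s5u222 s5c223 rfl
theorem s5u224 : ∀ v, 1 ≤ v → v ≤ 113572 → fs5 v = true := slots_step fs5 113057 515 113572 s5u223 s5c224 rfl
theorem s5u225 : ∀ v, 1 ≤ v → v ≤ 114038 → fs5 v = true := slots_step fs5 113572 466 114038 s5u224 s5c225 rfl
theorem s5u226 : ∀ v, 1 ≤ v → v ≤ 114494 → fs5 v = true := slots_step fs5 114038 456 114494 s5u225 s5c226 rfl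
theorem s5u227 : ∀ v, 1 ≤ v → v ≤ 114983 → fs5 v = true := slots_step fs5 114494 489 114983 s5u226 s5c227 rfl
theorem s5u228 : ∀ v, 1 ≤ v → v ≤ 115424 → fs5 v = true := slots_step fs5 114983 441 115424 s5u227 s5c228 rfl
theorem s5u229 : ∀ v, 1 ≤ v → v ≤ 115853 → fs5 v = true := slots_step fs5 115424 429 115853 s5u228 s5c229 rfl
theorem s5u230 : ∀ v, 1 ≤ v → v ≤ 116309 → fs5 v = true := slots_step fs5 115853 456 116309 s5u229 s5c230 rfl
theorem s5u231 : ∀ v, 1 ≤ v → v ≤ 116784 → fs5 v = true := slots_step fs5 116309 475 116784 s5u230 s5c231 rfl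
theorem s5u232 : ∀ v, 1 ≤ v → v ≤ 117237 → fs5 v = true := slots_step fs5 116784 453 117237 s5u231 s5c232 rfl
theorem s5u233 : ∀ v, 1 ≤ v → v ≤ 117717 → fs5 v = true := slots_step fs5 117237 480 117717 s5u232 s5c233 rfl
theorem s5u234 : ∀ v, 1 ≤ v → v ≤ 118158 → fs5 v = true := slots_step fs5 117717 441 118158 s5u233 s5c234 rfl
theorem s5u235 : ∀ v, 1 ≤ v → v ≤ 118676 → fs5 v = true := slots_step fs5 118158 518 118676 s5u234 s5c235 rfl
theorem s5u236 : ∀ v, 1 ≤ v → v ≤ 119206 → fs5 v = true := slots_step fs5 118676 530 119206 s5u235 s5c236 rfl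
theorem s5u237 : ∀ v, 1 ≤ v → v ≤ 119738 → fs5 v = true := slots_step fs5 119206 532 119738 s5u236 s5c237 rfl
theorem s5u238 : ∀ v, 1 ≤ v → v ≤ 120221 → fs5 v = true := slots_step fs5 119738 483 120221 s5u237 s5c238 rfl
theorem s5u239 : ∀ v, 1 ≤ v → v ≤ 120697 → fs5 v = true := slots_step fs5 120221 476 120697 s5u238 s5c239 rfl
theorem s5u240 : ∀ v, 1 ≤ v → v ≤ 121152 → fs5 v = true := slots_step fs5 120697 455 121152 s5u239 s5c240 rfl
theorem s5u241 : ∀ v, 1 ≤ v → v ≤ 121621 → fs5 v = true := slots_step fs5 121152 469 121621 s5u240 s5c241 rfl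
theorem s5u242 : ∀ v, 1 ≤ v → v ≤ 122112 → fs5 v = true := slots_step fs5 121621 491 122112 s5u241 s5c242 rfl
theorem s5u243 : ∀ v, 1 ≤ v → v ≤ 122554 → fs5 v = true := slots_step fs5 122112 442 122554 s5u242 s5c243 rfl
theorem s5u244 : ∀ v, 1 ≤ v → v ≤ 123034 → fs5 v = true := slots_step fs5 122554 480 123034 s5u243 s5c244 rfl
theorem s5u245 : ∀ v, 1 ≤ v → v ≤ 123531 → fs5 v = true := slots_step fs5 123034 497 123531 s5u244 s5c245 rfl
theorem s5u246 : ∀ v, 1 ≤ v → v ≤ 123989 → fs5 v = true := slots_step fs5 123531 458 123989 s5u245 s5c246 rfl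
theorem s5u247 : ∀ v, 1 ≤ v → v ≤ 124471 → fs5 v = true := slots_step fs5 123989 482 124471 s5u246 s5c247 rfl
theorem s5u248 : ∀ v, 1 ≤ v → v ≤ 124922 → fs5 v = true := slots_step fs5 124471 451 124922 s5u247 s5c248 rfl
theorem s5u249 : ∀ v, 1 ≤ v → v ≤ 125390 → fs5 v = true := slots_step fs5 124922 468 125390 s5u248 s5c249 rfl
theorem s5u250 : ∀ v, 1 ≤ v → v ≤ 125845 → fs5 v = true := slots_step fs5 125390 455 125845 s5u249 s5c250 rfl
theorem s5u251 : ∀ v, 1 ≤ v → v ≤ 126325 → fs5 v = true := slots_step fs5 125845 480 126325 s5u250 s5c251 rfl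
theorem s5u252 : ∀ v, 1 ≤ v → v ≤ 126828 → fs5 v = true := slots_step fs5 126325 503 126828 s5u251 s5c252 rfl
theorem s5u253 : ∀ v, 1 ≤ v → v ≤ 127369 → fs5 v = true := slots_step fs5 126828 541 127369 s5u252 s5c253 rfl
theorem s5u254 : ∀ v, 1 ≤ v → v ≤ 127900 → fs5 v = true := slots_step fs5 127369 531 127900 s5u253 s5c254 rfl
theorem s5u255 : ∀ v, 1 ≤ v → v ≤ 128334 → fs5 v = true := slots_step fs5 127900 434 128334 s5u254 s5c255 rfl
theorem s5u256 : ∀ v, 1 ≤ v → v ≤ 128857 → fs5 v = true := slots_step fs5 128334 523 128857 s5u255 s5c256 rfl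
theorem s5u257 : ∀ v, 1 ≤ v → v ≤ 129349 → fs5 v = true := slots_step fs5 128857 492 129349 s5u256 s5c257 rfl
theorem s5u258 : ∀ v, 1 ≤ v → v ≤ 129846 → fs5 v = true := slots_step fs5 129349 497 129846 s5u257 s5c258 rfl
theorem s5u259 : ∀ v, 1 ≤ v → v ≤ 130370 → fs5 v = true := slots_step fs5 129846 524 130370 s5u258 s5c259 rfl
theorem s5u260 : ∀ v, 1 ≤ v → v ≤ 130923 → fs5 v = true := slots_step fs5 130370 553 130923 s5u259 s5c260 rfl
theorem s5u261 : ∀ v, 1 ≤ v → v ≤ 131448 → fs5 v = true := slots_step fs5 130923 525 131448 s5u260 s5c261 rfl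
theorem s5u262 : ∀ v, 1 ≤ v → v ≤ 131945 → fs5 v = true := slots_step fs5 131448 497 131945 s5u261 s5c262 rfl
theorem s5u263 : ∀ v, 1 ≤ v → v ≤ 132444 → fs5 v = true := slots_step fs5 131945 499 132444 s5u262 s5c263 rfl
theorem s5u264 : ∀ v, 1 ≤ v → v ≤ 132932 → fs5 v = true := slots_step fs5 132444 488 132932 s5u263 s5c264 rfl
theorem s5u265 : ∀ v, 1 ≤ v → v ≤ 133423 → fs5 v = true := slots_step fs5 132932 491 133423 s5u264 s5c265 rfl
theorem s5u266 : ∀ v, 1 ≤ v → v ≤ 133903 → fs5 v = true := slots_step fs5 133423 480 133903 s5u265 s5c266 rfl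
theorem s5u267 : ∀ v, 1 ≤ v → v ≤ 134369 → fs5 v = true := slots_step fs5 133903 466 134369 s5u266 s5c267 rfl
theorem s5u268 : ∀ v, 1 ≤ v → v ≤ 134850 → fs5 v = true := slots_step fs5 134369 481 134850 s5u267 s5c268 rfl
theorem s5u269 : ∀ v, 1 ≤ v → v ≤ 135366 → fs5 v = true := slots_step fs5 134850 516 135366 s5u268 s5c269 rfl
theorem s5u270 : ∀ v, 1 ≤ v → v ≤ 135831 → fs5 v = true := slots_step fs5 135366 465 135831 s5u269 s5c270 rfl
theorem s5u271 : ∀ v, 1 ≤ v → v ≤ 136310 → fs5 v = true := slots_step fs5 135831 479 136310 s5u270 s5c271 rfl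
theorem s5u272 : ∀ v, 1 ≤ v → v ≤ 136819 → fs5 v = true := slots_step fs5 136310 509 136819 s5u271 s5c272 rfl
theorem s5u273 : ∀ v, 1 ≤ v → v ≤ 137316 → fs5 v = true := slots_step fs5 136819 497 137316 s5u272 s5c273 rfl
theorem s5u274 : ∀ v, 1 ≤ v → v ≤ 137811 → fs5 v = true := slots_step fs5 137316 495 137811 s5u273 s5c274 rfl
theorem s5u275 : ∀ v, 1 ≤ v → v ≤ 138298 → fs5 v = true := slots_step fs5 137811 487 138298 s5u274 s5c275 rfl
theorem s5u276 : ∀ v, 1 ≤ v → v ≤ 138767 → fs5 v = true := slots_step fs5 138298 469 138767 s5u275 s5c276 rfl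
theorem s5u277 : ∀ v, 1 ≤ v → v ≤ 139229 → fs5 v = true := slots_step fs5 138767 462 139229 s5u276 s5c277 rfl
theorem s5u278 : ∀ v, 1 ≤ v → v ≤ 139700 → fs5 v = true := slots_step fs5 139229 471 139700 s5u277 s5c278 rfl
theorem s5u279 : ∀ v, 1 ≤ v → v ≤ 140167 → fs5 v = true := slots_step fs5 139700 467 140167 s5u278 s5c279 rfl
theorem s5u280 : ∀ v, 1 ≤ v → v ≤ 140704 → fs5 v = true := slots_step fs5 140167 537 140704 s5u279 s5c280 rfl
theorem s5u281 : ∀ v, 1 ≤ v → v ≤ 141183 → fs5 v = true := slots_step fs5 140704 479 141183 s5u280 s5c281 rfl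
theorem s5u282 : ∀ v, 1 ≤ v → v ≤ 141654 → fs5 v = true := slots_step fs5 141183 471 141654 s5u281 s5c282 rfl
theorem s5u283 : ∀ v, 1 ≤ v → v ≤ 142183 → fs5 v = true := slots_step fs5 141654 529 142183 s5u282 s5c283 rfl
theorem s5u284 : ∀ v, 1 ≤ v → v ≤ 142650 → fs5 v = true := slots_step fs5 142183 467 142650 s5u283 s5c284 rfl
theorem s5u285 : ∀ v, 1 ≤ v → v ≤ 143139 → fs5 v = true := slots_step fs5 142650 489 143139 s5u284 s5c285 rfl
theorem s5u286 : ∀ v, 1 ≤ v → v ≤ 143591 → fs5 v = true := slots_step fs5 143139 452 143591 s5u285 s5c286 rfl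
theorem s5u287 : ∀ v, 1 ≤ v → v ≤ 144072 → fs5 v = true := slots_step fs5 143591 481 144072 s5u286 s5c287 rfl
theorem s5u288 : ∀ v, 1 ≤ v → v ≤ 144533 → fs5 v = true := slots_step fs5 144072 461 144533 s5u287 s5c288 rfl
theorem s5u289 : ∀ v, 1 ≤ v → v ≤ 145024 → fs5 v = true := slots_step fs5 144533 491 145024 s5u288 s5c289 rfl
theorem s5u290 : ∀ v, 1 ≤ v → v ≤ 145605 → fs5 v = true := slots_step fs5 145024 581 145605 s5u289 s5c290 rfl
theorem s5u291 : ∀ v, 1 ≤ v → v ≤ 146125 → fs5 v = true := slots_step fs5 145605 520 146125 s5u290 s5c291 rfl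
theorem s5u292 : ∀ v, 1 ≤ v → v ≤ 146650 → fs5 v = true := slots_step fs5 146125 525 146650 s5u291 s5c292 rfl
theorem s5u293 : ∀ v, 1 ≤ v → v ≤ 147176 → fs5 v = true := slots_step fs5 146650 526 147176 s5u292 s5c293 rfl
theorem s5u294 : ∀ v, 1 ≤ v → v ≤ 147660 → fs5 v = true := slots_step fs5 147176 484 147660 s5u293 s5c294 rfl
theorem s5u295 : ∀ v, 1 ≤ v → v ≤ 148265 → fs5 v = true := slots_step fs5 147660 605 148265 s5u294 s5c295 rfl
theorem s5u296 : ∀ v, 1 ≤ v → v ≤ 148774 → fs5 v = true := slots_step fs5 148265 509 148774 s5u295 s5c296 rfl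
theorem s5u297 : ∀ v, 1 ≤ v → v ≤ 149328 → fs5 v = true := slots_step fs5 148774 554 149328 s5u296 s5c297 rfl
theorem s5u298 : ∀ v, 1 ≤ v → v ≤ 149885 → fs5 v = true := slots_step fs5 149328 557 149885 s5u297 s5c298 rfl
theorem s5u299 : ∀ v, 1 ≤ v → v ≤ 150348 → fs5 v = true := slots_step fs5 149885 463 150348 s5u298 s5c299 rfl
theorem s5u300 : ∀ v, 1 ≤ v → v ≤ 150866 → fs5 v = true := slots_step fs5 150348 518 150866 s5u299 s5c300 rfl
theorem s5u301 : ∀ v, 1 ≤ v → v ≤ 151401 → fs5 v = true := slots_step fs5 150866 535 151401 s5u300 s5c301 rfl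
theorem s5u302 : ∀ v, 1 ≤ v → v ≤ 151940 → fs5 v = true := slots_step fs5 151401 539 151940 s5u301 s5c302 rfl
theorem s5u303 : ∀ v, 1 ≤ v → v ≤ 152476 → fs5 v = true := slots_step fs5 151940 536 152476 s5u302 s5c303 rfl
theorem s5u304 : ∀ v, 1 ≤ v → v ≤ 152971 → fs5 v = true := slots_step fs5 152476 495 152971 s5u303 s5c304 rfl
theorem s5u305 : ∀ v, 1 ≤ v → v ≤ 153481 → fs5 v = true := slots_step fs5 152971 510 153481 s5u304 s5c305 rfl
theorem s5u306 : ∀ v, 1 ≤ v → v ≤ 153987 → fs5 v = true := slots_step fs5 153481 506 153987 s5u305 s5c306 rfl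
theorem s5u307 : ∀ v, 1 ≤ v → v ≤ 154538 → fs5 v = true := slots_step fs5 153987 551 154538 s5u306 s5c307 rfl
theorem s5u308 : ∀ v, 1 ≤ v → v ≤ 155073 → fs5 v = true := slots_step fs5 154538 535 155073 s5u307 s5c308 rfl
theorem s5u309 : ∀ v, 1 ≤ v → v ≤ 155582 → fs5 v = true := slots_step fs5 155073 509 155582 s5u308 s5c309 rfl
theorem s5u310 : ∀ v, 1 ≤ v → v ≤ 156110 → fs5 v = true := slots_step fs5 155582 528 156110 s5u309 s5c310 rfl
theorem s5u311 : ∀ v, 1 ≤ v → v ≤ 156631 → fs5 v = true := slots_step fs5 156110 521 156631 s5u310 s5c311 rfl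
theorem s5u312 : ∀ v, 1 ≤ v → v ≤ 157130 → fs5 v = true := slots_step fs5 156631 499 157130 s5u311 s5c312 rfl
theorem s5u313 : ∀ v, 1 ≤ v → v ≤ 157664 → fs5 v = true := slots_step fs5 157130 534 157664 s5u312 s5c313 rfl
theorem s5u314 : ∀ v, 1 ≤ v → v ≤ 158178 → fs5 v = true := slots_step fs5 157664 514 158178 s5u313 s5c314 rfl
theorem s5u315 : ∀ v, 1 ≤ v → v ≤ 158698 → fs5 v = true := slots_step fs5 158178 520 158698 s5u314 s5c315 rfl
theorem s5u316 : ∀ v, 1 ≤ v → v ≤ 159191 → fs5 v = true := slots_step fs5 158698 493 159191 s5u315 s5c316 rfl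
theorem s5u317 : ∀ v, 1 ≤ v → v ≤ 159654 → fs5 v = true := slots_step fs5 159191 463 159654 s5u316 s5c317 rfl
theorem s5u318 : ∀ v, 1 ≤ v → v ≤ 160162 → fs5 v = true := slots_step fs5 159654 508 160162 s5u317 s5c318 rfl
theorem s5u319 : ∀ v, 1 ≤ v → v ≤ 160679 → fs5 v = true := slots_step fs5 160162 517 160679 s5u318 s5c319 rfl
theorem s5u320 : ∀ v, 1 ≤ v → v ≤ 161145 → fs5 v = true := slots_step fs5 160679 466 161145 s5u319 s5c320 rfl
theorem s5u321 : ∀ v, 1 ≤ v → v ≤ 161637 → fs5 v = true := slots_step fs5 161145 492 161637 s5u320 s5c321 rfl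
theorem s5u322 : ∀ v, 1 ≤ v → v ≤ 162086 → fs5 v = true := slots_step fs5 161637 449 162086 s5u321 s5c322 rfl
theorem s5u323 : ∀ v, 1 ≤ v → v ≤ 162457 → fs5 v = true := slots_step fs5 162086 371 162457 s5u322 s5c323 rfl
theorem s5u324 : ∀ v, 1 ≤ v → v ≤ 162816 → fs5 v = true := slots_step fs5 162457 359 162816 s5u323 s5c324 rfl
theorem s5u325 : ∀ v, 1 ≤ v → v ≤ 163188 → fs5 v = true := slots_step fs5 162816 372 163188 s5u324 s5c325 rfl
theorem s5u326 : ∀ v, 1 ≤ v → v ≤ 163578 → fs5 v = true := slots_step fs5 163188 390 163578 s5u325 s5c326 rfl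
theorem s5u327 : ∀ v, 1 ≤ v → v ≤ 163959 → fs5 v = true := slots_step fs5 163578 381 163959 s5u326 s5c327 rfl
theorem s5u328 : ∀ v, 1 ≤ v → v ≤ 164353 → fs5 v = true := slots_step fs5 163959 394 164353 s5u327 s5c328 rfl
theorem s5u329 : ∀ v, 1 ≤ v → v ≤ 164739 → fs5 v = true := slots_step fs5 164353 386 164739 s5u328 s5c329 rfl
theorem s5u330 : ∀ v, 1 ≤ v → v ≤ 165117 → fs5 v = true := slots_step fs5 164739 378 165117 s5u329 s5c330 rfl
theorem s5u331 : ∀ v, 1 ≤ v → v ≤ 165505 → fs5 v = true := slots_step fs5 165117 388 165505 s5u330 s5c331 rfl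
theorem s5u332 : ∀ v, 1 ≤ v → v ≤ 165864 → fs5 v = true := slots_step fs5 165505 359 165864 s5u331 s5c332 rfl
theorem s5u333 : ∀ v, 1 ≤ v → v ≤ 166225 → fs5 v = true := slots_step fs5 165864 361 166225 s5u332 s5c333 rfl
theorem s5u334 : ∀ v, 1 ≤ v → v ≤ 166566 → fs5 v = true := slots_step fs5 166225 341 166566 s5u333 s5c334 rfl
theorem s5u335 : ∀ v, 1 ≤ v → v ≤ 166940 → fs5 v = true := slots_step fs5 166566 374 166940 s5u334 s5c335 rfl
theorem s5u336 : ∀ v, 1 ≤ v → v ≤ 167324 → fs5 v = true := slots_step fs5 166940 384 167324 s5u335 s5c336 rfl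
theorem s5u337 : ∀ v, 1 ≤ v → v ≤ 167694 → fs5 v = true := slots_step fs5 167324 370 167694 s5u336 s5c337 rfl
theorem s5u338 : ∀ v, 1 ≤ v → v ≤ 168063 → fs5 v = true := slots_step fs5 167694 369 168063 s5u337 s5c338 rfl
theorem s5u339 : ∀ v, 1 ≤ v → v ≤ 168452 → fs5 v = true := slots_step fs5 168063 389 168452 s5u338 s5c339 rfl
theorem s5u340 : ∀ v, 1 ≤ v → v ≤ 168845 → fs5 v = true := slots_step fs5 168452 393 168845 s5u339 s5c340 rfl
theorem s5u341 : ∀ v, 1 ≤ v → v ≤ 169214 → fs5 v = true := slots_step fs5 168845 369 169214 s5u340 s5c341 rfl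
theorem s5u342 : ∀ v, 1 ≤ v → v ≤ 169600 → fs5 v = true := slots_step fs5 169214 386 169600 s5u341 s5c342 rfl
theorem s5u343 : ∀ v, 1 ≤ v → v ≤ 169982 → fs5 v = true := slots_step fs5 169600 382 169982 s5u342 s5c343 rfl
theorem s5u344 : ∀ v, 1 ≤ v → v ≤ 170345 → fs5 v = true := slots_step fs5 169982 363 170345 s5u343 s5c344 rfl
theorem s5u345 : ∀ v, 1 ≤ v → v ≤ 170703 → fs5 v = true := slots_step fs5 170345 358 170703 s5u344 s5c345 rfl
theorem s5u346 : ∀ v, 1 ≤ v → v ≤ 171079 → fs5 v = true := slots_step fs5 170703 376 171079 s5u345 s5c346 rfl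
theorem s5u347 : ∀ v, 1 ≤ v → v ≤ 171439 → fs5 v = true := slots_step fs5 171079 360 171439 s5u346 s5c347 rfl
theorem s5u348 : ∀ v, 1 ≤ v → v ≤ 171791 → fs5 v = true := slots_step fs5 171439 352 171791 s5u347 s5c348 rfl
theorem s5u349 : ∀ v, 1 ≤ v → v ≤ 172173 → fs5 v = true := slots_step fs5 171791 382 172173 s5u348 s5c349 rfl
theorem s5u350 : ∀ v, 1 ≤ v → v ≤ 172539 → fs5 v = true := slots_step fs5 172173 366 172539 s5u349 s5c350 rfl
theorem s5u351 : ∀ v, 1 ≤ v → v ≤ 172913 → fs5 v = true := slots_step fs5 172539 374 172913 s5u350 s5c351 rfl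
theorem s5u352 : ∀ v, 1 ≤ v → v ≤ 173299 → fs5 v = true := slots_step fs5 172913 386 173299 s5u351 s5c352 rfl
theorem s5u353 : ∀ v, 1 ≤ v → v ≤ 173667 → fs5 v = true := slots_step fs5 173299 368 173667 s5u352 s5c353 rfl
theorem s5u354 : ∀ v, 1 ≤ v → v ≤ 174052 → fs5 v = true := slots_step fs5 173667 385 174052 s5u353 s5c354 rfl
theorem s5u355 : ∀ v, 1 ≤ v → v ≤ 174406 → fs5 v = true := slots_step fs5 174052 354 174406 s5u354 s5c355 rfl
theorem s5u356 : ∀ v, 1 ≤ v → v ≤ 174770 → fs5 v = true := slots_step fs5 174406 364 174770 s5u355 s5c356 rfl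
theorem s5u357 : ∀ v, 1 ≤ v → v ≤ 175141 → fs5 v = true := slots_step fs5 174770 371 175141 s5u356 s5c357 rfl
theorem s5u358 : ∀ v, 1 ≤ v → v ≤ 175508 → fs5 v = true := slots_step fs5 175141 367 175508 s5u357 s5c358 rfl
theorem s5u359 : ∀ v, 1 ≤ v → v ≤ 175866 → fs5 v = true := slots_step fs5 175508 358 175866 s5u358 s5c359 rfl
theorem s5u360 : ∀ v, 1 ≤ v → v ≤ 176214 → fs5 v = true := slots_step fs5 175866 348 176214 s5u359 s5c360 rfl
theorem s5u361 : ∀ v, 1 ≤ v → v ≤ 176589 → fs5 v = true := slots_step fs5 176214 375 176589 s5u360 s5c361 rfl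
theorem s5u362 : ∀ v, 1 ≤ v → v ≤ 176929 → fs5 v = true := slots_step fs5 176589 340 176929 s5u361 s5c362 rfl
theorem s5u363 : ∀ v, 1 ≤ v → v ≤ 177271 → fs5 v = true := slots_step fs5 176929 342 177271 s5u362 s5c363 rfl
theorem s5u364 : ∀ v, 1 ≤ v → v ≤ 177639 → fs5 v = true := slots_step fs5 177271 368 177639 s5u363 s5c364 rfl
theorem s5u365 : ∀ v, 1 ≤ v → v ≤ 178013 → fs5 v = true := slots_step fs5 177639 374 178013 s5u364 s5c365 rfl
theorem s5u366 : ∀ v, 1 ≤ v → v ≤ 178370 → fs5 v = true := slots_step fs5 178013 357 178370 s5u365 s5c366 rfl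
theorem s5u367 : ∀ v, 1 ≤ v → v ≤ 178722 → fs5 v = true := slots_step fs5 178370 352 178722 s5u366 s5c367 rfl
theorem s5u368 : ∀ v, 1 ≤ v → v ≤ 179078 → fs5 v = true := slots_step fs5 178722 356 179078 s5u367 s5c368 rfl
theorem s5u369 : ∀ v, 1 ≤ v → v ≤ 179438 → fs5 v = true := slots_step fs5 179078 360 179438 s5u368 s5c369 rfl
theorem s5u370 : ∀ v, 1 ≤ v → v ≤ 179786 → fs5 v = true := slots_step fs5 179438 348 179786 s5u369 s5c370 rfl
theorem s5u371 : ∀ v, 1 ≤ v → v ≤ 180132 → fs5 v = true := slots_step fs5 179786 346 180132 s5u370 s5c371 rfl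
theorem s5u372 : ∀ v, 1 ≤ v → v ≤ 180482 → fs5 v = true := slots_step fs5 180132 350 180482 s5u371 s5c372 rfl
theorem s5u373 : ∀ v, 1 ≤ v → v ≤ 180825 → fs5 v = true := slots_step fs5 180482 343 180825 s5u372 s5c373 rfl
theorem s5u374 : ∀ v, 1 ≤ v → v ≤ 181171 → fs5 v = true := slots_step fs5 180825 346 181171 s5u373 s5c374 rfl
theorem s5u375 : ∀ v, 1 ≤ v → v ≤ 181547 → fs5 v = true := slots_step fs5 181171 376 181547 s5u374 s5c375 rfl
theorem s5u376 : ∀ v, 1 ≤ v → v ≤ 181886 → fs5 v = true := slots_step fs5 181547 339 181886 s5u375 s5c376 rfl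
theorem s5u377 : ∀ v, 1 ≤ v → v ≤ 182237 → fs5 v = true := slots_step fs5 181886 351 182237 s5u376 s5c377 rfl
theorem s5u378 : ∀ v, 1 ≤ v → v ≤ 182588 → fs5 v = true := slots_step fs5 182237 351 182588 s5u377 s5c378 rfl
theorem s5u379 : ∀ v, 1 ≤ v → v ≤ 182930 → fs5 v = true := slots_step fs5 182588 342 182930 s5u378 s5c379 rfl
theorem s5u380 : ∀ v, 1 ≤ v → v ≤ 183281 → fs5 v = true := slots_step fs5 182930 351 183281 s5u379 s5c380 rfl
theorem s5u381 : ∀ v, 1 ≤ v → v ≤ 183640 → fs5 v = true := slots_step fs5 183281 359 183640 s5u380 s5c381 rfl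
theorem s5u382 : ∀ v, 1 ≤ v → v ≤ 183979 → fs5 v = true := slots_step fs5 183640 339 183979 s5u381 s5c382 rfl
theorem s5u383 : ∀ v, 1 ≤ v → v ≤ 184313 → fs5 v = true := slots_step fs5 183979 334 184313 s5u382 s5c383 rfl
theorem s5u384 : ∀ v, 1 ≤ v → v ≤ 184661 → fs5 v = true := slots_step fs5 184313 348 184661 s5u383 s5c384 rfl
theorem s5u385 : ∀ v, 1 ≤ v → v ≤ 184999 → fs5 v = true := slots_step fs5 184661 338 184999 s5u384 s5c385 rfl
theorem s5u386 : ∀ v, 1 ≤ v → v ≤ 185341 → fs5 v = true := slots_step fs5 184999 342 185341 s5u385 s5c386 rfl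
theorem s5u387 : ∀ v, 1 ≤ v → v ≤ 185688 → fs5 v = true := slots_step fs5 185341 347 185688 s5u386 s5c387 rfl
theorem s5u388 : ∀ v, 1 ≤ v → v ≤ 186047 → fs5 v = true := slots_step fs5 185688 359 186047 s5u387 s5c388 rfl
theorem s5u389 : ∀ v, 1 ≤ v → v ≤ 186393 → fs5 v = true := slots_step fs5 186047 346 186393 s5u388 s5c389 rfl
theorem s5u390 : ∀ v, 1 ≤ v → v ≤ 186737 → fs5 v = true := slots_step fs5 186393 344 186737 s5u389 s5c390 rfl
theorem s5u391 : ∀ v, 1 ≤ v → v ≤ 187081 → fs5 v = true := slots_step fs5 186737 344 187081 s5u390 s5c391 rfl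
theorem s5u392 : ∀ v, 1 ≤ v → v ≤ 187422 → fs5 v = true := slots_step fs5 187081 341 187422 s5u391 s5c392 rfl
theorem s5u393 : ∀ v, 1 ≤ v → v ≤ 187758 → fs5 v = true := slots_step fs5 187422 336 187758 s5u392 s5c393 rfl
theorem s5u394 : ∀ v, 1 ≤ v → v ≤ 188097 → fs5 v = true := slots_step fs5 187758 339 188097 s5u393 s5c394 rfl
theorem s5u395 : ∀ v, 1 ≤ v → v ≤ 188437 → fs5 v = true := slots_step fs5 188097 340 188437 s5u394 s5c395 rfl
theorem s5u396 : ∀ v, 1 ≤ v → v ≤ 188769 → fs5 v = true := slots_step fs5 188437 332 188769 s5u395 s5c396 rfl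
theorem s5u397 : ∀ v, 1 ≤ v → v ≤ 189102 → fs5 v = true := slots_step fs5 188769 333 189102 s5u396 s5c397 rfl
theorem s5u398 : ∀ v, 1 ≤ v → v ≤ 189437 → fs5 v = true := slots_step fs5 189102 335 189437 s5u397 s5c398 rfl
theorem s5u399 : ∀ v, 1 ≤ v → v ≤ 189785 → fs5 v = true := slots_step fs5 189437 348 189785 s5u398 s5c399 rfl
theorem s5u400 : ∀ v, 1 ≤ v → v ≤ 190131 → fs5 v = true := slots_step fs5 189785 346 190131 s5u399 s5c400 rfl
theorem s5u401 : ∀ v, 1 ≤ v → v ≤ 190455 → fs5 v = true := slots_step fs5 190131 324 190455 s5u400 s5c401 rfl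
theorem s5u402 : ∀ v, 1 ≤ v → v ≤ 190766 → fs5 v = true := slots_step fs5 190455 311 190766 s5u401 s5c402 rfl
theorem s5u403 : ∀ v, 1 ≤ v → v ≤ 191095 → fs5 v = true := slots_step fs5 190766 329 191095 s5u402 s5c403 rfl
theorem s5u404 : ∀ v, 1 ≤ v → v ≤ 191435 → fs5 v = true := slots_step fs5 191095 340 191435 s5u403 s5c404 rfl
theorem s5u405 : ∀ v, 1 ≤ v → v ≤ 191763 → fs5 v = true := slots_step fs5 191435 328 191763 s5u404 s5c405 rfl
theorem s5u406 : ∀ v, 1 ≤ v → v ≤ 192088 → fs5 v = true := slots_step fs5 191763 325 192088 s5u405 s5c406 rfl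
theorem s5u407 : ∀ v, 1 ≤ v → v ≤ 192412 → fs5 v = true := slots_step fs5 192088 324 192412 s5u406 s5c407 rfl
theorem s5u408 : ∀ v, 1 ≤ v → v ≤ 192731 → fs5 v = true := slots_step fs5 192412 319 192731 s5u407 s5c408 rfl
theorem s5u409 : ∀ v, 1 ≤ v → v ≤ 193054 → fs5 v = true := slots_step fs5 192731 323 193054 s5u408 s5c409 rfl
theorem s5u410 : ∀ v, 1 ≤ v → v ≤ 193374 → fs5 v = true := slots_step fs5 193054 320 193374 s5u409 s5c410 rfl
theorem s5u411 : ∀ v, 1 ≤ v → v ≤ 193719 → fs5 v = true := slots_step fs5 193374 345 193719 s5u410 s5c411 rfl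
theorem s5u412 : ∀ v, 1 ≤ v → v ≤ 194052 → fs5 v = true := slots_step fs5 193719 333 194052 s5u411 s5c412 rfl
theorem s5u413 : ∀ v, 1 ≤ v → v ≤ 194377 → fs5 v = true := slots_step fs5 194052 325 194377 s5u412 s5c413 rfl
theorem s5u414 : ∀ v, 1 ≤ v → v ≤ 194696 → fs5 v = true := slots_step fs5 194377 319 194696 s5u413 s5c414 rfl
theorem s5u415 : ∀ v, 1 ≤ v → v ≤ 195008 → fs5 v = true := slots_step fs5 194696 312 195008 s5u414 s5c415 rfl
theorem s5u416 : ∀ v, 1 ≤ v → v ≤ 195327 → fs5 v = true := slots_step fs5 195008 319 195327 s5u415 s5c416 rfl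
theorem s5u417 : ∀ v, 1 ≤ v → v ≤ 195656 → fs5 v = true := slots_step fs5 195327 329 195656 s5u416 s5c417 rfl
theorem s5u418 : ∀ v, 1 ≤ v → v ≤ 195985 → fs5 v = true := slots_step fs5 195656 329 195985 s5u417 s5c418 rfl
theorem s5u419 : ∀ v, 1 ≤ v → v ≤ 196315 → fs5 v = true := slots_step fs5 195985 330 196315 s5u418 s5c419 rfl
theorem s5u420 : ∀ v, 1 ≤ v → v ≤ 196634 → fs5 v = true := slots_step fs5 196315 319 196634 s5u419 s5c420 rfl
theorem s5u421 : ∀ v, 1 ≤ v → v ≤ 196948 → fs5 v = true := slots_step fs5 196634 314 196948 s5u420 s5c421 rfl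
theorem s5u422 : ∀ v, 1 ≤ v → v ≤ 197254 → fs5 v = true := slots_step fs5 196948 306 197254 s5u421 s5c422 rfl
theorem s5u423 : ∀ v, 1 ≤ v → v ≤ 197564 → fs5 v = true := slots_step fs5 197254 310 197564 s5u422 s5c423 rfl
theorem s5u424 : ∀ v, 1 ≤ v → v ≤ 197873 → fs5 v = true := slots_step fs5 197564 309 197873 s5u423 s5c424 rfl
theorem s5u425 : ∀ v, 1 ≤ v → v ≤ 198187 → fs5 v = true := slots_step fs5 197873 314 198187 s5u424 s5c425 rfl
theorem s5u426 : ∀ v, 1 ≤ v → v ≤ 198498 → fs5 v = true := slots_step fs5 198187 311 198498 s5u425 s5c426 rfl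
theorem s5u427 : ∀ v, 1 ≤ v → v ≤ 198816 → fs5 v = true := slots_step fs5 198498 318 198816 s5u426 s5c427 rfl
theorem s5u428 : ∀ v, 1 ≤ v → v ≤ 199110 → fs5 v = true := slots_step fs5 198816 294 199110 s5u427 s5c428 rfl
theorem s5u429 : ∀ v, 1 ≤ v → v ≤ 199395 → fs5 v = true := slots_step fs5 199110 285 199395 s5u428 s5c429 rfl
theorem s5u430 : ∀ v, 1 ≤ v → v ≤ 199707 → fs5 v = true := slots_step fs5 199395 312 199707 s5u429 s5c430 rfl
theorem s5u431 : ∀ v, 1 ≤ v → v ≤ 200028 → fs5 v = true := slots_step fs5 199707 321 200028 s5u430 s5c431 rfl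
theorem s5u432 : ∀ v, 1 ≤ v → v ≤ 200324 → fs5 v = true := slots_step fs5 200028 296 200324 s5u431 s5c432 rfl
theorem s5u433 : ∀ v, 1 ≤ v → v ≤ 200636 → fs5 v = true := slots_step fs5 200324 312 200636 s5u432 s5c433 rfl
theorem s5u434 : ∀ v, 1 ≤ v → v ≤ 200927 → fs5 v = true := slots_step fs5 200636 291 200927 s5u433 s5c434 rfl
theorem s5u435 : ∀ v, 1 ≤ v → v ≤ 201235 → fs5 v = true := slots_step fs5 200927 308 201235 s5u434 s5c435 rfl
theorem s5u436 : ∀ v, 1 ≤ v → v ≤ 201533 → fs5 v = true := slots_step fs5 201235 298 201533 s5u435 s5c436 rfl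
theorem s5u437 : ∀ v, 1 ≤ v → v ≤ 201582 → fs5 v = true := slots_step fs5 201533 49 201582 s5u436 s5c437 rfl
theorem s6u0 : ∀ v, 1 ≤ v → v ≤ 575 → fs6 v = true := slots_step fs6 0 575 575 (slots_zero fs6) s6c0 rfl
theorem s6u1 : ∀ v, 1 ≤ v → v ≤ 1094 → fs6 v = true := slots_step fs6 575 519 1094 s6u0 s6c1 rfl
theorem s6u2 : ∀ v, 1 ≤ v → v ≤ 1607 → fs6 v = true := slots_step fs6 1094 513 1607 s6u1 s6c2 rfl
theorem s6u3 : ∀ v, 1 ≤ v → v ≤ 2146 → fs6 v = true := slots_step fs6 1607 539 2146 s6u2 s6c3 rfl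
theorem s6u4 : ∀ v, 1 ≤ v → v ≤ 2672 → fs6 v = true := slots_step fs6 2146 526 2672 s6u3 s6c4 rfl
theorem s6u5 : ∀ v, 1 ≤ v → v ≤ 3243 → fs6 v = true := slots_step fs6 2672 571 3243 s6u4 s6c5 rfl
theorem s6u6 : ∀ v, 1 ≤ v → v ≤ 3804 → fs6 v = true := slots_step fs6 3243 561 3804 s6u5 s6c6 rfl
theorem s6u7 : ∀ v, 1 ≤ v → v ≤ 4377 → fs6 v = true := slots_step fs6 3804 573 4377 s6u6 s6c7 rfl
theorem s6u8 : ∀ v, 1 ≤ v → v ≤ 4926 → fs6 v = true := slots_step fs6 4377 549 4926 s6u7 s6c8 rfl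
theorem s6u9 : ∀ v, 1 ≤ v → v ≤ 5468 → fs6 v = true := slots_step fs6 4926 542 5468 s6u8 s6c9 rfl
theorem s6u10 : ∀ v, 1 ≤ v → v ≤ 5980 → fs6 v = true := slots_step fs6 5468 512 5980 s6u9 s6c10 rfl
theorem s6u11 : ∀ v, 1 ≤ v → v ≤ 6496 → fs6 v = true := slots_step fs6 5980 516 6496 s6u10 s6c11 rfl
theorem s6u12 : ∀ v, 1 ≤ v → v ≤ 7040 → fs6 v = true := slots_step fs6 6496 544 7040 s6u11 s6c12 rfl
theorem s6u13 : ∀ v, 1 ≤ v → v ≤ 7615 → fs6 v = true := slots_step fs6 7040 575 7615 s6u12 s6c13 rfl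
theorem s6u14 : ∀ v, 1 ≤ v → v ≤ 8156 → fs6 v = true := slots_step fs6 7615 541 8156 s6u13 s6c14 rfl
theorem s6u15 : ∀ v, 1 ≤ v → v ≤ 8727 → fs6 v = true := slots_step fs6 8156 571 8727 s6u14 s6c15 rfl
theorem s6u16 : ∀ v, 1 ≤ v → v ≤ 9279 → fs6 v = true := slots_step fs6 8727 552 9279 s6u15 s6c16 rfl
theorem s6u17 : ∀ v, 1 ≤ v → v ≤ 9848 → fs6 v = true := slots_step fs6 9279 569 9848 s6u16 s6c17 rfl
theorem s6u18 : ∀ v, 1 ≤ v → v ≤ 10430 → fs6 v = true := slots_step fs6 9848 582 10430 s6u17 s6c18 rfl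
theorem s6u19 : ∀ v, 1 ≤ v → v ≤ 10983 → fs6 v = true := slots_step fs6 10430 553 10983 s6u18 s6c19 rfl
theorem s6u20 : ∀ v, 1 ≤ v → v ≤ 11505 → fs6 v = true := slots_step fs6 10983 522 11505 s6u19 s6c20 rfl
theorem s6u21 : ∀ v, 1 ≤ v → v ≤ 12008 → fs6 v = true := slots_step fs6 11505 503 12008 s6u20 s6c21 rfl
theorem s6u22 : ∀ v, 1 ≤ v → v ≤ 12537 → fs6 v = true := slots_step fs6 12008 529 12537 s6u21 s6c22 rfl
theorem s6u23 : ∀ v, 1 ≤ v → v ≤ 13056 → fs6 v = true := slots_step fs6 12537 519 13056 s6u22 s6c23 rfl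
theorem s6u24 : ∀ v, 1 ≤ v → v ≤ 13589 → fs6 v = true := slots_step fs6 13056 533 13589 s6u23 s6c24 rfl
theorem s6u25 : ∀ v, 1 ≤ v → v ≤ 14133 → fs6 v = true := slots_step fs6 13589 544 14133 s6u24 s6c25 rfl
theorem s6u26 : ∀ v, 1 ≤ v → v ≤ 14674 → fs6 v = true := slots_step fs6 14133 541 14674 s6u25 s6c26 rfl
theorem s6u27 : ∀ v, 1 ≤ v → v ≤ 15241 → fs6 v = true := slots_step fs6 14674 567 15241 s6u26 s6c27 rfl
theorem s6u28 : ∀ v, 1 ≤ v → v ≤ 15857 → fs6 v = true := slots_step fs6 15241 616 15857 s6u27 s6c28 rfl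
theorem s6u29 : ∀ v, 1 ≤ v → v ≤ 16420 → fs6 v = true := slots_step fs6 15857 563 16420 s6u28 s6c29 rfl
theorem s6u30 : ∀ v, 1 ≤ v → v ≤ 16959 → fs6 v = true := slots_step fs6 16420 539 16959 s6u29 s6c30 rfl
theorem s6u31 : ∀ v, 1 ≤ v → v ≤ 17504 → fs6 v = true := slots_step fs6 16959 545 17504 s6u30 s6c31 rfl
theorem s6u32 : ∀ v, 1 ≤ v → v ≤ 18067 → fs6 v = true := slots_step fs6 17504 563 18067 s6u31 s6c32 rfl
theorem s6u33 : ∀ v, 1 ≤ v → v ≤ 18655 → fs6 v = true := slots_step fs6 18067 588 18655 s6u32 s6c33 rfl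
theorem s6u34 : ∀ v, 1 ≤ v → v ≤ 19217 → fs6 v = true := slots_step fs6 18655 562 19217 s6u33 s6c34 rfl
theorem s6u35 : ∀ v, 1 ≤ v → v ≤ 19768 → fs6 v = true := slots_step fs6 19217 551 19768 s6u34 s6c35 rfl
theorem s6u36 : ∀ v, 1 ≤ v → v ≤ 20327 → fs6 v = true := slots_step fs6 19768 559 20327 s6u35 s6c36 rfl
theorem s6u37 : ∀ v, 1 ≤ v → v ≤ 20897 → fs6 v = true := slots_step fs6 20327 570 20897 s6u36 s6c37 rfl
theorem s6u38 : ∀ v, 1 ≤ v → v ≤ 21466 → fs6 v = true := slots_step fs6 20897 569 21466 s6u37 s6c38 rfl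
theorem s6u39 : ∀ v, 1 ≤ v → v ≤ 22051 → fs6 v = true := slots_step fs6 21466 585 22051 s6u38 s6c39 rfl
theorem s6u40 : ∀ v, 1 ≤ v → v ≤ 22644 → fs6 v = true := slots_step fs6 22051 593 22644 s6u39 s6c40 rfl
theorem s6u41 : ∀ v, 1 ≤ v → v ≤ 23231 → fs6 v = true := slots_step fs6 22644 587 23231 s6u40 s6c41 rfl
theorem s6u42 : ∀ v, 1 ≤ v → v ≤ 23757 → fs6 v = true := slots_step fs6 23231 526 23757 s6u41 s6c42 rfl
theorem s6u43 : ∀ v, 1 ≤ v → v ≤ 24282 → fs6 v = true := slots_step fs6 23757 525 24282 s6u42 s6c43 rfl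
theorem s6u44 : ∀ v, 1 ≤ v → v ≤ 24785 → fs6 v = true := slots_step fs6 24282 503 24785 s6u43 s6c44 rfl
theorem s6u45 : ∀ v, 1 ≤ v → v ≤ 25298 → fs6 v = true := slots_step fs6 24785 513 25298 s6u44 s6c45 rfl
theorem s6u46 : ∀ v, 1 ≤ v → v ≤ 25815 → fs6 v = true := slots_step fs6 25298 517 25815 s6u45 s6c46 rfl
theorem s6u47 : ∀ v, 1 ≤ v → v ≤ 26350 → fs6 v = true := slots_step fs6 25815 535 26350 s6u46 s6c47 rfl
theorem s6u48 : ∀ v, 1 ≤ v → v ≤ 26878 → fs6 v = true := slots_step fs6 26350 528 26878 s6u47 s6c48 rfl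
theorem s6u49 : ∀ v, 1 ≤ v → v ≤ 27426 → fs6 v = true := slots_step fs6 26878 548 27426 s6u48 s6c49 rfl
theorem s6u50 : ∀ v, 1 ≤ v → v ≤ 27965 → fs6 v = true := slots_step fs6 27426 539 27965 s6u49 s6c50 rfl
theorem s6u51 : ∀ v, 1 ≤ v → v ≤ 28516 → fs6 v = true := slots_step fs6 27965 551 28516 s6u50 s6c51 rfl
theorem s6u52 : ∀ v, 1 ≤ v → v ≤ 29034 → fs6 v = true := slots_step fs6 28516 518 29034 s6u51 s6c52 rfl
theorem s6u53 : ∀ v, 1 ≤ v → v ≤ 29567 → fs6 v = true := slots_step fs6 29034 533 29567 s6u52 s6c53 rfl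
theorem s6u54 : ∀ v, 1 ≤ v → v ≤ 30098 → fs6 v = true := slots_step fs6 29567 531 30098 s6u53 s6c54 rfl
theorem s6u55 : ∀ v, 1 ≤ v → v ≤ 30691 → fs6 v = true := slots_step fs6 30098 593 30691 s6u54 s6c55 rfl
theorem s6u56 : ∀ v, 1 ≤ v → v ≤ 31271 → fs6 v = true := slots_step fs6 30691 580 31271 s6u55 s6c56 rfl
theorem s6u57 : ∀ v, 1 ≤ v → v ≤ 31826 → fs6 v = true := slots_step fs6 31271 555 31826 s6u56 s6c57 rfl
theorem s6u58 : ∀ v, 1 ≤ v → v ≤ 32384 → fs6 v = true := slots_step fs6 31826 558 32384 s6u57 s6c58 rfl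
theorem s6u59 : ∀ v, 1 ≤ v → v ≤ 32937 → fs6 v = true := slots_step fs6 32384 553 32937 s6u58 s6c59 rfl
theorem s6u60 : ∀ v, 1 ≤ v → v ≤ 33521 → fs6 v = true := slots_step fs6 32937 584 33521 s6u59 s6c60 rfl
theorem s6u61 : ∀ v, 1 ≤ v → v ≤ 34046 → fs6 v = true := slots_step fs6 33521 525 34046 s6u60 s6c61 rfl
theorem s6u62 : ∀ v, 1 ≤ v → v ≤ 34587 → fs6 v = true := slots_step fs6 34046 541 34587 s6u61 s6c62 rfl
theorem s6u63 : ∀ v, 1 ≤ v → v ≤ 35172 → fs6 v = true := slots_step fs6 34587 585 35172 s6u62 s6c63 rfl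
theorem s6u64 : ∀ v, 1 ≤ v → v ≤ 35715 → fs6 v = true := slots_step fs6 35172 543 35715 s6u63 s6c64 rfl
theorem s6u65 : ∀ v, 1 ≤ v → v ≤ 36276 → fs6 v = true := slots_step fs6 35715 561 36276 s6u64 s6c65 rfl
theorem s6u66 : ∀ v, 1 ≤ v → v ≤ 36864 → fs6 v = true := slots_step fs6 36276 588 36864 s6u65 s6c66 rfl
theorem s6u67 : ∀ v, 1 ≤ v → v ≤ 37473 → fs6 v = true := slots_step fs6 36864 609 37473 s6u66 s6c67 rfl
theorem s6u68 : ∀ v, 1 ≤ v → v ≤ 38039 → fs6 v = true := slots_step fs6 37473 566 38039 s6u67 s6c68 rfl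
theorem s6u69 : ∀ v, 1 ≤ v → v ≤ 38613 → fs6 v = true := slots_step fs6 38039 574 38613 s6u68 s6c69 rfl
theorem s6u70 : ∀ v, 1 ≤ v → v ≤ 39219 → fs6 v = true := slots_step fs6 38613 606 39219 s6u69 s6c70 rfl
theorem s6u71 : ∀ v, 1 ≤ v → v ≤ 39786 → fs6 v = true := slots_step fs6 39219 567 39786 s6u70 s6c71 rfl
theorem s6u72 : ∀ v, 1 ≤ v → v ≤ 40394 → fs6 v = true := slots_step fs6 39786 608 40394 s6u71 s6c72 rfl
theorem s6u73 : ∀ v, 1 ≤ v → v ≤ 40937 → fs6 v = true := slots_step fs6 40394 543 40937 s6u72 s6c73 rfl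
theorem s6u74 : ∀ v, 1 ≤ v → v ≤ 41471 → fs6 v = true := slots_step fs6 40937 534 41471 s6u73 s6c74 rfl
theorem s6u75 : ∀ v, 1 ≤ v → v ≤ 42075 → fs6 v = true := slots_step fs6 41471 604 42075 s6u74 s6c75 rfl
theorem s6u76 : ∀ v, 1 ≤ v → v ≤ 42620 → fs6 v = true := slots_step fs6 42075 545 42620 s6u75 s6c76 rfl
theorem s6u77 : ∀ v, 1 ≤ v → v ≤ 43218 → fs6 v = true := slots_step fs6 42620 598 43218 s6u76 s6c77 rfl
theorem s6u78 : ∀ v, 1 ≤ v → v ≤ 43794 → fs6 v = true := slots_step fs6 43218 576 43794 s6u77 s6c78 rfl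
theorem s6u79 : ∀ v, 1 ≤ v → v ≤ 44328 → fs6 v = true := slots_step fs6 43794 534 44328 s6u78 s6c79 rfl
theorem s6u80 : ∀ v, 1 ≤ v → v ≤ 44896 → fs6 v = true := slots_step fs6 44328 568 44896 s6u79 s6c80 rfl
theorem s6u81 : ∀ v, 1 ≤ v → v ≤ 45450 → fs6 v = true := slots_step fs6 44896 554 45450 s6u80 s6c81 rfl
theorem s6u82 : ∀ v, 1 ≤ v → v ≤ 46021 → fs6 v = true := slots_step fs6 45450 571 46021 s6u81 s6c82 rfl
theorem s6u83 : ∀ v, 1 ≤ v → v ≤ 46583 → fs6 v = true := slots_step fs6 46021 562 46583 s6u82 s6c83 rfl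
theorem s6u84 : ∀ v, 1 ≤ v → v ≤ 47145 → fs6 v = true := slots_step fs6 46583 562 47145 s6u83 s6c84 rfl
theorem s6u85 : ∀ v, 1 ≤ v → v ≤ 47656 → fs6 v = true := slots_step fs6 47145 511 47656 s6u84 s6c85 rfl
theorem s6u86 : ∀ v, 1 ≤ v → v ≤ 48189 → fs6 v = true := slots_step fs6 47656 533 48189 s6u85 s6c86 rfl
theorem s6u87 : ∀ v, 1 ≤ v → v ≤ 48783 → fs6 v = true := slots_step fs6 48189 594 48783 s6u86 s6c87 rfl
theorem s6u88 : ∀ v, 1 ≤ v → v ≤ 49344 → fs6 v = true := slots_step fs6 48783 561 49344 s6u87 s6c88 rfl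
theorem s6u89 : ∀ v, 1 ≤ v → v ≤ 49850 → fs6 v = true := slots_step fs6 49344 506 49850 s6u88 s6c89 rfl
theorem s6u90 : ∀ v, 1 ≤ v → v ≤ 50439 → fs6 v = true := slots_step fs6 49850 589 50439 s6u89 s6c90 rfl
theorem s6u91 : ∀ v, 1 ≤ v → v ≤ 50981 → fs6 v = true := slots_step fs6 50439 542 50981 s6u90 s6c91 rfl
theorem s6u92 : ∀ v, 1 ≤ v → v ≤ 51538 → fs6 v = true := slots_step fs6 50981 557 51538 s6u91 s6c92 rfl
theorem s6u93 : ∀ v, 1 ≤ v → v ≤ 52121 → fs6 v = true := slots_step fs6 51538 583 52121 s6u92 s6c93 rfl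
theorem s6u94 : ∀ v, 1 ≤ v → v ≤ 52640 → fs6 v = true := slots_step fs6 52121 519 52640 s6u93 s6c94 rfl
theorem s6u95 : ∀ v, 1 ≤ v → v ≤ 53158 → fs6 v = true := slots_step fs6 52640 518 53158 s6u94 s6c95 rfl
theorem s6u96 : ∀ v, 1 ≤ v → v ≤ 53697 → fs6 v = true := slots_step fs6 53158 539 53697 s6u95 s6c96 rfl
theorem s6u97 : ∀ v, 1 ≤ v → v ≤ 54276 → fs6 v = true := slots_step fs6 53697 579 54276 s6u96 s6c97 rfl
theorem s6u98 : ∀ v, 1 ≤ v → v ≤ 54886 → fs6 v = true := slots_step fs6 54276 610 54886 s6u97 s6c98 rfl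
theorem s6u99 : ∀ v, 1 ≤ v → v ≤ 55506 → fs6 v = true := slots_step fs6 54886 620 55506 s6u98 s6c99 rfl
theorem s6u100 : ∀ v, 1 ≤ v → v ≤ 56100 → fs6 v = true := slots_step fs6 55506 594 56100 s6u99 s6c100 rfl
theorem s6u101 : ∀ v, 1 ≤ v → v ≤ 56691 → fs6 v = true := slots_step fs6 56100 591 56691 s6u100 s6c101 rfl
theorem s6u102 : ∀ v, 1 ≤ v → v ≤ 57263 → fs6 v = true := slots_step fs6 56691 572 57263 s6u101 s6c102 rfl
theorem s6u103 : ∀ v, 1 ≤ v → v ≤ 57838 → fs6 v = true := slots_step fs6 57263 575 57838 s6u102 s6c103 rfl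
theorem s6u104 : ∀ v, 1 ≤ v → v ≤ 58384 → fs6 v = true := slots_step fs6 57838 546 58384 s6u103 s6c104 rfl
theorem s6u105 : ∀ v, 1 ≤ v → v ≤ 58967 → fs6 v = true := slots_step fs6 58384 583 58967 s6u104 s6c105 rfl
theorem s6u106 : ∀ v, 1 ≤ v → v ≤ 59493 → fs6 v = true := slots_step fs6 58967 526 59493 s6u105 s6c106 rfl
theorem s6u107 : ∀ v, 1 ≤ v → v ≤ 60019 → fs6 v = true := slots_step fs6 59493 526 60019 s6u106 s6c107 rfl
theorem s6u108 : ∀ v, 1 ≤ v → v ≤ 60554 → fs6 v = true := slots_step fs6 60019 535 60554 s6u107 s6c108 rfl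
theorem s6u109 : ∀ v, 1 ≤ v → v ≤ 61107 → fs6 v = true := slots_step fs6 60554 553 61107 s6u108 s6c109 rfl
theorem s6u110 : ∀ v, 1 ≤ v → v ≤ 61645 → fs6 v = true := slots_step fs6 61107 538 61645 s6u109 s6c110 rfl
theorem s6u111 : ∀ v, 1 ≤ v → v ≤ 62189 → fs6 v = true := slots_step fs6 61645 544 62189 s6u110 s6c111 rfl
theorem s6u112 : ∀ v, 1 ≤ v → v ≤ 62785 → fs6 v = true := slots_step fs6 62189 596 62785 s6u111 s6c112 rfl
theorem s6u113 : ∀ v, 1 ≤ v → v ≤ 63371 → fs6 v = true := slots_step fs6 62785 586 63371 s6u112 s6c113 rfl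
theorem s6u114 : ∀ v, 1 ≤ v → v ≤ 64009 → fs6 v = true := slots_step fs6 63371 638 64009 s6u113 s6c114 rfl
theorem s6u115 : ∀ v, 1 ≤ v → v ≤ 64671 → fs6 v = true := slots_step fs6 64009 662 64671 s6u114 s6c115 rfl
theorem s6u116 : ∀ v, 1 ≤ v → v ≤ 65290 → fs6 v = true := slots_step fs6 64671 619 65290 s6u115 s6c116 rfl
theorem s6u117 : ∀ v, 1 ≤ v → v ≤ 65858 → fs6 v = true := slots_step fs6 65290 568 65858 s6u116 s6c117 rfl
theorem s6u118 : ∀ v, 1 ≤ v → v ≤ 66421 → fs6 v = true := slots_step fs6 65858 563 66421 s6u117 s6c118 rfl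
theorem s6u119 : ∀ v, 1 ≤ v → v ≤ 66993 → fs6 v = true := slots_step fs6 66421 572 66993 s6u118 s6c119 rfl
theorem s6u120 : ∀ v, 1 ≤ v → v ≤ 67578 → fs6 v = true := slots_step fs6 66993 585 67578 s6u119 s6c120 rfl
theorem s6u121 : ∀ v, 1 ≤ v → v ≤ 68150 → fs6 v = true := slots_step fs6 67578 572 68150 s6u120 s6c121 rfl
theorem s6u122 : ∀ v, 1 ≤ v → v ≤ 68725 → fs6 v = true := slots_step fs6 68150 575 68725 s6u121 s6c122 rfl
theorem s6u123 : ∀ v, 1 ≤ v → v ≤ 69284 → fs6 v = true := slots_step fs6 68725 559 69284 s6u122 s6c123 rfl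
theorem s6u124 : ∀ v, 1 ≤ v → v ≤ 69857 → fs6 v = true := slots_step fs6 69284 573 69857 s6u123 s6c124 rfl
theorem s6u125 : ∀ v, 1 ≤ v → v ≤ 70474 → fs6 v = true := slots_step fs6 69857 617 70474 s6u124 s6c125 rfl
theorem s6u126 : ∀ v, 1 ≤ v → v ≤ 71093 → fs6 v = true := slots_step fs6 70474 619 71093 s6u125 s6c126 rfl
theorem s6u127 : ∀ v, 1 ≤ v → v ≤ 71624 → fs6 v = true := slots_step fs6 71093 531 71624 s6u126 s6c127 rfl
theorem s6u128 : ∀ v, 1 ≤ v → v ≤ 72212 → fs6 v = true := slots_step fs6 71624 588 72212 s6u127 s6c128 rfl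
theorem s6u129 : ∀ v, 1 ≤ v → v ≤ 72782 → fs6 v = true := slots_step fs6 72212 570 72782 s6u128 s6c129 rfl
theorem s6u130 : ∀ v, 1 ≤ v → v ≤ 73379 → fs6 v = true := slots_step fs6 72782 597 73379 s6u129 s6c130 rfl
theorem s6u131 : ∀ v, 1 ≤ v → v ≤ 73933 → fs6 v = true := slots_step fs6 73379 554 73933 s6u130 s6c131 rfl
theorem s6u132 : ∀ v, 1 ≤ v → v ≤ 74609 → fs6 v = true := slots_step fs6 73933 676 74609 s6u131 s6c132 rfl
theorem s6u133 : ∀ v, 1 ≤ v → v ≤ 75198 → fs6 v = true := slots_step fs6 74609 589 75198 s6u132 s6c133 rfl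
theorem s6u134 : ∀ v, 1 ≤ v → v ≤ 75751 → fs6 v = true := slots_step fs6 75198 553 75751 s6u133 s6c134 rfl
theorem s6u135 : ∀ v, 1 ≤ v → v ≤ 76387 → fs6 v = true := slots_step fs6 75751 636 76387 s6u134 s6c135 rfl
theorem s6u136 : ∀ v, 1 ≤ v → v ≤ 76989 → fs6 v = true := slots_step fs6 76387 602 76989 s6u135 s6c136 rfl
theorem s6u137 : ∀ v, 1 ≤ v → v ≤ 77637 → fs6 v = true := slots_step fs6 76989 648 77637 s6u136 s6c137 rfl
theorem s6u138 : ∀ v, 1 ≤ v → v ≤ 78254 → fs6 v = true := slots_step fs6 77637 617 78254 s6u137 s6c138 rfl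
theorem s6u139 : ∀ v, 1 ≤ v → v ≤ 78856 → fs6 v = true := slots_step fs6 78254 602 78856 s6u138 s6c139 rfl
theorem s6u140 : ∀ v, 1 ≤ v → v ≤ 79442 → fs6 v = true := slots_step fs6 78856 586 79442 s6u139 s6c140 rfl
theorem s6u141 : ∀ v, 1 ≤ v → v ≤ 80028 → fs6 v = true := slots_step fs6 79442 586 80028 s6u140 s6c141 rfl
theorem s6u142 : ∀ v, 1 ≤ v → v ≤ 80631 → fs6 v = true := slots_step fs6 80028 603 80631 s6u141 s6c142 rfl
theorem s6u143 : ∀ v, 1 ≤ v → v ≤ 81227 → fs6 v = true := slots_step fs6 80631 596 81227 s6u142 s6c143 rfl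
theorem s6u144 : ∀ v, 1 ≤ v → v ≤ 81844 → fs6 v = true := slots_step fs6 81227 617 81844 s6u143 s6c144 rfl
theorem s6u145 : ∀ v, 1 ≤ v → v ≤ 82454 → fs6 v = true := slots_step fs6 81844 610 82454 s6u144 s6c145 rfl
theorem s6u146 : ∀ v, 1 ≤ v → v ≤ 83073 → fs6 v = true := slots_step fs6 82454 619 83073 s6u145 s6c146 rfl
theorem s6u147 : ∀ v, 1 ≤ v → v ≤ 83685 → fs6 v = true := slots_step fs6 83073 612 83685 s6u146 s6c147 rfl
theorem s6u148 : ∀ v, 1 ≤ v → v ≤ 84252 → fs6 v = true := slots_step fs6 83685 567 84252 s6u147 s6c148 rfl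
theorem s6u149 : ∀ v, 1 ≤ v → v ≤ 84802 → fs6 v = true := slots_step fs6 84252 550 84802 s6u148 s6c149 rfl
theorem s6u150 : ∀ v, 1 ≤ v → v ≤ 85336 → fs6 v = true := slots_step fs6 84802 534 85336 s6u149 s6c150 rfl
theorem s6u151 : ∀ v, 1 ≤ v → v ≤ 85861 → fs6 v = true := slots_step fs6 85336 525 85861 s6u150 s6c151 rfl
theorem s6u152 : ∀ v, 1 ≤ v → v ≤ 86377 → fs6 v = true := slots_step fs6 85861 516 86377 s6u151 s6c152 rfl
theorem s6u153 : ∀ v, 1 ≤ v → v ≤ 86936 → fs6 v = true := slots_step fs6 86377 559 86936 s6u152 s6c153 rfl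
theorem s6u154 : ∀ v, 1 ≤ v → v ≤ 87480 → fs6 v = true := slots_step fs6 86936 544 87480 s6u153 s6c154 rfl
theorem s6u155 : ∀ v, 1 ≤ v → v ≤ 88020 → fs6 v = true := slots_step fs6 87480 540 88020 s6u154 s6c155 rfl
theorem s6u156 : ∀ v, 1 ≤ v → v ≤ 88577 → fs6 v = true := slots_step fs6 88020 557 88577 s6u155 s6c156 rfl
theorem s6u157 : ∀ v, 1 ≤ v → v ≤ 89104 → fs6 v = true := slots_step fs6 88577 527 89104 s6u156 s6c157 rfl
theorem s6u158 : ∀ v, 1 ≤ v → v ≤ 89672 → fs6 v = true := slots_step fs6 89104 568 89672 s6u157 s6c158 rfl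
theorem s6u159 : ∀ v, 1 ≤ v → v ≤ 90183 → fs6 v = true := slots_step fs6 89672 511 90183 s6u158 s6c159 rfl
theorem s6u160 : ∀ v, 1 ≤ v → v ≤ 90701 → fs6 v = true := slots_step fs6 90183 518 90701 s6u159 s6c160 rfl
theorem s6u161 : ∀ v, 1 ≤ v → v ≤ 91243 → fs6 v = true := slots_step fs6 90701 542 91243 s6u160 s6c161 rfl
theorem s6u162 : ∀ v, 1 ≤ v → v ≤ 91779 → fs6 v = true := slots_step fs6 91243 536 91779 s6u161 s6c162 rfl
theorem s6u163 : ∀ v, 1 ≤ v → v ≤ 92309 → fs6 v = true := slots_step fs6 91779 530 92309 s6u162 s6c163 rfl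
theorem s6u164 : ∀ v, 1 ≤ v → v ≤ 92841 → fs6 v = true := slots_step fs6 92309 532 92841 s6u163 s6c164 rfl
theorem s6u165 : ∀ v, 1 ≤ v → v ≤ 93411 → fs6 v = true := slots_step fs6 92841 570 93411 s6u164 s6c165 rfl
theorem s6u166 : ∀ v, 1 ≤ v → v ≤ 93994 → fs6 v = true := slots_step fs6 93411 583 93994 s6u165 s6c166 rfl
theorem s6u167 : ∀ v, 1 ≤ v → v ≤ 94589 → fs6 v = true := slots_step fs6 93994 595 94589 s6u166 s6c167 rfl
theorem s6u168 : ∀ v, 1 ≤ v → v ≤ 95148 → fs6 v = true := slots_step fs6 94589 559 95148 s6u167 s6c168 rfl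
theorem s6u169 : ∀ v, 1 ≤ v → v ≤ 95684 → fs6 v = true := slots_step fs6 95148 536 95684 s6u168 s6c169 rfl
theorem s6u170 : ∀ v, 1 ≤ v → v ≤ 96245 → fs6 v = true := slots_step fs6 95684 561 96245 s6u169 s6c170 rfl
theorem s6u171 : ∀ v, 1 ≤ v → v ≤ 96725 → fs6 v = true := slots_step fs6 96245 480 96725 s6u170 s6c171 rfl
theorem s6u172 : ∀ v, 1 ≤ v → v ≤ 97266 → fs6 v = true := slots_step fs6 96725 541 97266 s6u171 s6c172 rfl
theorem s6u173 : ∀ v, 1 ≤ v → v ≤ 97758 → fs6 v = true := slots_step fs6 97266 492 97758 s6u172 s6c173 rfl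
theorem s6u174 : ∀ v, 1 ≤ v → v ≤ 98261 → fs6 v = true := slots_step fs6 97758 503 98261 s6u173 s6c174 rfl
theorem s6u175 : ∀ v, 1 ≤ v → v ≤ 98766 → fs6 v = true := slots_step fs6 98261 505 98766 s6u174 s6c175 rfl
theorem s6u176 : ∀ v, 1 ≤ v → v ≤ 99319 → fs6 v = true := slots_step fs6 98766 553 99319 s6u175 s6c176 rfl
theorem s6u177 : ∀ v, 1 ≤ v → v ≤ 99823 → fs6 v = true := slots_step fs6 99319 504 99823 s6u176 s6c177 rfl
theorem s6u178 : ∀ v, 1 ≤ v → v ≤ 100387 → fs6 v = true := slots_step fs6 99823 564 100387 s6u177 s6c178 rfl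
theorem s6u179 : ∀ v, 1 ≤ v → v ≤ 101007 → fs6 v = true := slots_step fs6 100387 620 101007 s6u178 s6c179 rfl
theorem s6u180 : ∀ v, 1 ≤ v → v ≤ 101537 → fs6 v = true := slots_step fs6 101007 530 101537 s6u179 s6c180 rfl
theorem s6u181 : ∀ v, 1 ≤ v → v ≤ 101997 → fs6 v = true := slots_step fs6 101537 460 101997 s6u180 s6c181 rfl
theorem s6u182 : ∀ v, 1 ≤ v → v ≤ 102459 → fs6 v = true := slots_step fs6 101997 462 102459 s6u181 s6c182 rfl
theorem s6u183 : ∀ v, 1 ≤ v → v ≤ 102960 → fs6 v = true := slots_step fs6 102459 501 102960 s6u182 s6c183 rfl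
theorem s6u184 : ∀ v, 1 ≤ v → v ≤ 103512 → fs6 v = true := slots_step fs6 102960 552 103512 s6u183 s6c184 rfl
theorem s6u185 : ∀ v, 1 ≤ v → v ≤ 103985 → fs6 v = true := slots_step fs6 103512 473 103985 s6u184 s6c185 rfl
theorem s6u186 : ∀ v, 1 ≤ v → v ≤ 104499 → fs6 v = true := slots_step fs6 103985 514 104499 s6u185 s6c186 rfl
theorem s6u187 : ∀ v, 1 ≤ v → v ≤ 104990 → fs6 v = true := slots_step fs6 104499 491 104990 s6u186 s6c187 rfl
theorem s6u188 : ∀ v, 1 ≤ v → v ≤ 105514 → fs6 v = true := slots_step fs6 104990 524 105514 s6u187 s6c188 rfl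
theorem s6u189 : ∀ v, 1 ≤ v → v ≤ 106000 → fs6 v = true := slots_step fs6 105514 486 106000 s6u188 s6c189 rfl
theorem s6u190 : ∀ v, 1 ≤ v → v ≤ 106510 → fs6 v = true := slots_step fs6 106000 510 106510 s6u189 s6c190 rfl
theorem s6u191 : ∀ v, 1 ≤ v → v ≤ 107080 → fs6 v = true := slots_step fs6 106510 570 107080 s6u190 s6c191 rfl
theorem s6u192 : ∀ v, 1 ≤ v → v ≤ 107625 → fs6 v = true := slots_step fs6 107080 545 107625 s6u191 s6c192 rfl
theorem s6u193 : ∀ v, 1 ≤ v → v ≤ 108122 → fs6 v = true := slots_step fs6 107625 497 108122 s6u192 s6c193 rfl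
theorem s6u194 : ∀ v, 1 ≤ v → v ≤ 108678 → fs6 v = true := slots_step fs6 108122 556 108678 s6u193 s6c194 rfl
theorem s6u195 : ∀ v, 1 ≤ v → v ≤ 109190 → fs6 v = true := slots_step fs6 108678 512 109190 s6u194 s6c195 rfl
theorem s6u196 : ∀ v, 1 ≤ v → v ≤ 109703 → fs6 v = true := slots_step fs6 109190 513 109703 s6u195 s6c196 rfl
theorem s6u197 : ∀ v, 1 ≤ v → v ≤ 110223 → fs6 v = true := slots_step fs6 109703 520 110223 s6u196 s6c197 rfl
theorem s6u198 : ∀ v, 1 ≤ v → v ≤ 110755 → fs6 v = true := slots_step fs6 110223 532 110755 s6u197 s6c198 rfl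
theorem s6u199 : ∀ v, 1 ≤ v → v ≤ 111307 → fs6 v = true := slots_step fs6 110755 552 111307 s6u198 s6c199 rfl
theorem s6u200 : ∀ v, 1 ≤ v → v ≤ 111894 → fs6 v = true := slots_step fs6 111307 587 111894 s6u199 s6c200 rfl
theorem s6u201 : ∀ v, 1 ≤ v → v ≤ 112489 → fs6 v = true := slots_step fs6 111894 595 112489 s6u200 s6c201 rfl
theorem s6u202 : ∀ v, 1 ≤ v → v ≤ 113057 → fs6 v = true := slots_step fs6 112489 568 113057 s6u201 s6c202 rfl
theorem s6u203 : ∀ v, 1 ≤ v → v ≤ 113592 → fs6 v = true := slots_step fs6 113057 535 113592 s6u202 s6c203 rfl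
theorem s6u204 : ∀ v, 1 ≤ v → v ≤ 114086 → fs6 v = true := slots_step fs6 113592 494 114086 s6u203 s6c204 rfl
theorem s6u205 : ∀ v, 1 ≤ v → v ≤ 114609 → fs6 v = true := slots_step fs6 114086 523 114609 s6u204 s6c205 rfl
theorem s6u206 : ∀ v, 1 ≤ v → v ≤ 115151 → fs6 v = true := slots_step fs6 114609 542 115151 s6u205 s6c206 rfl
theorem s6u207 : ∀ v, 1 ≤ v → v ≤ 115607 → fs6 v = true := slots_step fs6 115151 456 115607 s6u206 s6c207 rfl
theorem s6u208 : ∀ v, 1 ≤ v → v ≤ 116090 → fs6 v = true := slots_step fs6 115607 483 116090 s6u207 s6c208 rfl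
theorem s6u209 : ∀ v, 1 ≤ v → v ≤ 116616 → fs6 v = true := slots_step fs6 116090 526 116616 s6u208 s6c209 rfl
theorem s6u210 : ∀ v, 1 ≤ v → v ≤ 117125 → fs6 v = true := slots_step fs6 116616 509 117125 s6u209 s6c210 rfl
theorem s6u211 : ∀ v, 1 ≤ v → v ≤ 117626 → fs6 v = true := slots_step fs6 117125 501 117626 s6u210 s6c211 rfl
theorem s6u212 : ∀ v, 1 ≤ v → v ≤ 118116 → fs6 v = true := slots_step fs6 117626 490 118116 s6u211 s6c212 rfl
theorem s6u213 : ∀ v, 1 ≤ v → v ≤ 118696 → fs6 v = true := slots_step fs6 118116 580 118696 s6u212 s6c213 rfl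
theorem s6u214 : ∀ v, 1 ≤ v → v ≤ 119275 → fs6 v = true := slots_step fs6 118696 579 119275 s6u213 s6c214 rfl
theorem s6u215 : ∀ v, 1 ≤ v → v ≤ 119810 → fs6 v = true := slots_step fs6 119275 535 119810 s6u214 s6c215 rfl
theorem s6u216 : ∀ v, 1 ≤ v → v ≤ 120330 → fs6 v = true := slots_step fs6 119810 520 120330 s6u215 s6c216 rfl
theorem s6u217 : ∀ v, 1 ≤ v → v ≤ 120846 → fs6 v = true := slots_step fs6 120330 516 120846 s6u216 s6c217 rfl
theorem s6u218 : ∀ v, 1 ≤ v → v ≤ 121351 → fs6 v = true := slots_step fs6 120846 505 121351 s6u217 s6c218 rfl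
theorem s6u219 : ∀ v, 1 ≤ v → v ≤ 121924 → fs6 v = true := slots_step fs6 121351 573 121924 s6u218 s6c219 rfl
theorem s6u220 : ∀ v, 1 ≤ v → v ≤ 122400 → fs6 v = true := slots_step fs6 121924 476 122400 s6u219 s6c220 rfl
theorem s6u221 : ∀ v, 1 ≤ v → v ≤ 122924 → fs6 v = true := slots_step fs6 122400 524 122924 s6u220 s6c221 rfl
theorem s6u222 : ∀ v, 1 ≤ v → v ≤ 123437 → fs6 v = true := slots_step fs6 122924 513 123437 s6u221 s6c222 rfl
theorem s6u223 : ∀ v, 1 ≤ v → v ≤ 123945 → fs6 v = true := slots_step fs6 123437 508 123945 s6u222 s6c223 rfl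
theorem s6u224 : ∀ v, 1 ≤ v → v ≤ 124456 → fs6 v = true := slots_step fs6 123945 511 124456 s6u223 s6c224 rfl
theorem s6u225 : ∀ v, 1 ≤ v → v ≤ 124919 → fs6 v = true := slots_step fs6 124456 463 124919 s6u224 s6c225 rfl
theorem s6u226 : ∀ v, 1 ≤ v → v ≤ 125452 → fs6 v = true := slots_step fs6 124919 533 125452 s6u225 s6c226 rfl
theorem s6u227 : ∀ v, 1 ≤ v → v ≤ 125948 → fs6 v = true := slots_step fs6 125452 496 125948 s6u226 s6c227 rfl
theorem s6u228 : ∀ v, 1 ≤ v → v ≤ 126495 → fs6 v = true := slots_step fs6 125948 547 126495 s6u227 s6c228 rfl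
theorem s6u229 : ∀ v, 1 ≤ v → v ≤ 127072 → fs6 v = true := slots_step fs6 126495 577 127072 s6u228 s6c229 rfl
theorem s6u230 : ∀ v, 1 ≤ v → v ≤ 127714 → fs6 v = true := slots_step fs6 127072 642 127714 s6u229 s6c230 rfl
theorem s6u231 : ∀ v, 1 ≤ v → v ≤ 128214 → fs6 v = true := slots_step fs6 127714 500 128214 s6u230 s6c231 rfl
theorem s6u232 : ∀ v, 1 ≤ v → v ≤ 128812 → fs6 v = true := slots_step fs6 128214 598 128812 s6u231 s6c232 rfl
theorem s6u233 : ∀ v, 1 ≤ v → v ≤ 129330 → fs6 v = true := slots_step fs6 128812 518 129330 s6u232 s6c233 rfl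
theorem s6u234 : ∀ v, 1 ≤ v → v ≤ 129889 → fs6 v = true := slots_step fs6 129330 559 129889 s6u233 s6c234 rfl
theorem s6u235 : ∀ v, 1 ≤ v → v ≤ 130489 → fs6 v = true := slots_step fs6 129889 600 130489 s6u234 s6c235 rfl
theorem s6u236 : ∀ v, 1 ≤ v → v ≤ 131129 → fs6 v = true := slots_step fs6 130489 640 131129 s6u235 s6c236 rfl
theorem s6u237 : ∀ v, 1 ≤ v → v ≤ 131674 → fs6 v = true := slots_step fs6 131129 545 131674 s6u236 s6c237 rfl
theorem s6u238 : ∀ v, 1 ≤ v → v ≤ 132218 → fs6 v = true := slots_step fs6 131674 544 132218 s6u237 s6c238 rfl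
theorem s6u239 : ∀ v, 1 ≤ v → v ≤ 132742 → fs6 v = true := slots_step fs6 132218 524 132742 s6u238 s6c239 rfl
theorem s6u240 : ∀ v, 1 ≤ v → v ≤ 133320 → fs6 v = true := slots_step fs6 132742 578 133320 s6u239 s6c240 rfl
theorem s6u241 : ∀ v, 1 ≤ v → v ≤ 133856 → fs6 v = true := slots_step fs6 133320 536 133856 s6u240 s6c241 rfl
theorem s6u242 : ∀ v, 1 ≤ v → v ≤ 134379 → fs6 v = true := slots_step fs6 133856 523 134379 s6u241 s6c242 rfl
theorem s6u243 : ∀ v, 1 ≤ v → v ≤ 134922 → fs6 v = true := slots_step fs6 134379 543 134922 s6u242 s6c243 rfl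
theorem s6u244 : ∀ v, 1 ≤ v → v ≤ 135487 → fs6 v = true := slots_step fs6 134922 565 135487 s6u243 s6c244 rfl
theorem s6u245 : ∀ v, 1 ≤ v → v ≤ 136039 → fs6 v = true := slots_step fs6 135487 552 136039 s6u244 s6c245 rfl
theorem s6u246 : ∀ v, 1 ≤ v → v ≤ 136595 → fs6 v = true := slots_step fs6 136039 556 136595 s6u245 s6c246 rfl
theorem s6u247 : ∀ v, 1 ≤ v → v ≤ 137146 → fs6 v = true := slots_step fs6 136595 551 137146 s6u246 s6c247 rfl
theorem s6u248 : ∀ v, 1 ≤ v → v ≤ 137688 → fs6 v = true := slots_step fs6 137146 542 137688 s6u247 s6c248 rfl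
theorem s6u249 : ∀ v, 1 ≤ v → v ≤ 138215 → fs6 v = true := slots_step fs6 137688 527 138215 s6u248 s6c249 rfl
theorem s6u250 : ∀ v, 1 ≤ v → v ≤ 138766 → fs6 v = true := slots_step fs6 138215 551 138766 s6u249 s6c250 rfl
theorem s6u251 : ∀ v, 1 ≤ v → v ≤ 139287 → fs6 v = true := slots_step fs6 138766 521 139287 s6u250 s6c251 rfl
theorem s6u252 : ∀ v, 1 ≤ v → v ≤ 139816 → fs6 v = true := slots_step fs6 139287 529 139816 s6u251 s6c252 rfl
theorem s6u253 : ∀ v, 1 ≤ v → v ≤ 140385 → fs6 v = true := slots_step fs6 139816 569 140385 s6u252 s6c253 rfl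
theorem s6u254 : ∀ v, 1 ≤ v → v ≤ 140969 → fs6 v = true := slots_step fs6 140385 584 140969 s6u253 s6c254 rfl
theorem s6u255 : ∀ v, 1 ≤ v → v ≤ 141476 → fs6 v = true := slots_step fs6 140969 507 141476 s6u254 s6c255 rfl
theorem s6u256 : ∀ v, 1 ≤ v → v ≤ 142072 → fs6 v = true := slots_step fs6 141476 596 142072 s6u255 s6c256 rfl
theorem s6u257 : ∀ v, 1 ≤ v → v ≤ 142583 → fs6 v = true := slots_step fs6 142072 511 142583 s6u256 s6c257 rfl
theorem s6u258 : ∀ v, 1 ≤ v → v ≤ 143143 → fs6 v = true := slots_step fs6 142583 560 143143 s6u257 s6c258 rfl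
theorem s6u259 : ∀ v, 1 ≤ v → v ≤ 143707 → fs6 v = true := slots_step fs6 143143 564 143707 s6u258 s6c259 rfl
theorem s6u260 : ∀ v, 1 ≤ v → v ≤ 144235 → fs6 v = true := slots_step fs6 143707 528 144235 s6u259 s6c260 rfl
theorem s6u261 : ∀ v, 1 ≤ v → v ≤ 144759 → fs6 v = true := slots_step fs6 144235 524 144759 s6u260 s6c261 rfl
theorem s6u262 : ∀ v, 1 ≤ v → v ≤ 145363 → fs6 v = true := slots_step fs6 144759 604 145363 s6u261 s6c262 rfl
theorem s6u263 : ∀ v, 1 ≤ v → v ≤ 146014 → fs6 v = true := slots_step fs6 145363 651 146014 s6u262 s6c263 rfl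
theorem s6u264 : ∀ v, 1 ≤ v → v ≤ 146584 → fs6 v = true := slots_step fs6 146014 570 146584 s6u263 s6c264 rfl
theorem s6u265 : ∀ v, 1 ≤ v → v ≤ 147134 → fs6 v = true := slots_step fs6 146584 550 147134 s6u264 s6c265 rfl
theorem s6u266 : ∀ v, 1 ≤ v → v ≤ 147660 → fs6 v = true := slots_step fs6 147134 526 147660 s6u265 s6c266 rfl
theorem s6u267 : ∀ v, 1 ≤ v → v ≤ 148324 → fs6 v = true := slots_step fs6 147660 664 148324 s6u266 s6c267 rfl
theorem s6u268 : ∀ v, 1 ≤ v → v ≤ 148897 → fs6 v = true := slots_step fs6 148324 573 148897 s6u267 s6c268 rfl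
theorem s6u269 : ∀ v, 1 ≤ v → v ≤ 149537 → fs6 v = true := slots_step fs6 148897 640 149537 s6u268 s6c269 rfl
theorem s6u270 : ∀ v, 1 ≤ v → v ≤ 150137 → fs6 v = true := slots_step fs6 149537 600 150137 s6u269 s6c270 rfl
theorem s6u271 : ∀ v, 1 ≤ v → v ≤ 150795 → fs6 v = true := slots_step fs6 150137 658 150795 s6u270 s6c271 rfl
theorem s6u272 : ∀ v, 1 ≤ v → v ≤ 151439 → fs6 v = true := slots_step fs6 150795 644 151439 s6u271 s6c272 rfl
theorem s6u273 : ∀ v, 1 ≤ v → v ≤ 152050 → fs6 v = true := slots_step fs6 151439 611 152050 s6u272 s6c273 rfl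
theorem s6u274 : ∀ v, 1 ≤ v → v ≤ 152633 → fs6 v = true := slots_step fs6 152050 583 152633 s6u273 s6c274 rfl
theorem s6u275 : ∀ v, 1 ≤ v → v ≤ 153232 → fs6 v = true := slots_step fs6 152633 599 153232 s6u274 s6c275 rfl
theorem s6u276 : ∀ v, 1 ≤ v → v ≤ 153817 → fs6 v = true := slots_step fs6 153232 585 153817 s6u275 s6c276 rfl
theorem s6u277 : ∀ v, 1 ≤ v → v ≤ 154434 → fs6 v = true := slots_step fs6 153817 617 154434 s6u276 s6c277 rfl
theorem s6u278 : ∀ v, 1 ≤ v → v ≤ 155046 → fs6 v = true := slots_step fs6 154434 612 155046 s6u277 s6c278 rfl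
theorem s6u279 : ∀ v, 1 ≤ v → v ≤ 155628 → fs6 v = true := slots_step fs6 155046 582 155628 s6u278 s6c279 rfl
theorem s6u280 : ∀ v, 1 ≤ v → v ≤ 156191 → fs6 v = true := slots_step fs6 155628 563 156191 s6u279 s6c280 rfl
theorem s6u281 : ∀ v, 1 ≤ v → v ≤ 156804 → fs6 v = true := slots_step fs6 156191 613 156804 s6u280 s6c281 rfl
theorem s6u282 : ∀ v, 1 ≤ v → v ≤ 157376 → fs6 v = true := slots_step fs6 156804 572 157376 s6u281 s6c282 rfl
theorem s6u283 : ∀ v, 1 ≤ v → v ≤ 157951 → fs6 v = true := slots_step fs6 157376 575 157951 s6u282 s6c283 rfl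
theorem s6u284 : ∀ v, 1 ≤ v → v ≤ 158640 → fs6 v = true := slots_step fs6 157951 689 158640 s6u283 s6c284 rfl
theorem s6u285 : ∀ v, 1 ≤ v → v ≤ 159214 → fs6 v = true := slots_step fs6 158640 574 159214 s6u284 s6c285 rfl
theorem s6u286 : ∀ v, 1 ≤ v → v ≤ 159771 → fs6 v = true := slots_step fs6 159214 557 159771 s6u285 s6c286 rfl
theorem s6u287 : ∀ v, 1 ≤ v → v ≤ 160357 → fs6 v = true := slots_step fs6 159771 586 160357 s6u286 s6c287 rfl
theorem s6u288 : ∀ v, 1 ≤ v → v ≤ 160938 → fs6 v = true := slots_step fs6 160357 581 160938 s6u287 s6c288 rfl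
theorem s6u289 : ∀ v, 1 ≤ v → v ≤ 161463 → fs6 v = true := slots_step fs6 160938 525 161463 s6u288 s6c289 rfl
theorem s6u290 : ∀ v, 1 ≤ v → v ≤ 161983 → fs6 v = true := slots_step fs6 161463 520 161983 s6u289 s6c290 rfl
theorem s6u291 : ∀ v, 1 ≤ v → v ≤ 162402 → fs6 v = true := slots_step fs6 161983 419 162402 s6u290 s6c291 rfl
theorem s6u292 : ∀ v, 1 ≤ v → v ≤ 162807 → fs6 v = true := slots_step fs6 162402 405 162807 s6u291 s6c292 rfl
theorem s6u293 : ∀ v, 1 ≤ v → v ≤ 163224 → fs6 v = true := slots_step fs6 162807 417 163224 s6u292 s6c293 rfl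
theorem s6u294 : ∀ v, 1 ≤ v → v ≤ 163643 → fs6 v = true := slots_step fs6 163224 419 163643 s6u293 s6c294 rfl
theorem s6u295 : ∀ v, 1 ≤ v → v ≤ 164056 → fs6 v = true := slots_step fs6 163643 413 164056 s6u294 s6c295 rfl
theorem s6u296 : ∀ v, 1 ≤ v → v ≤ 164483 → fs6 v = true := slots_step fs6 164056 427 164483 s6u295 s6c296 rfl
theorem s6u297 : ∀ v, 1 ≤ v → v ≤ 164900 → fs6 v = true := slots_step fs6 164483 417 164900 s6u296 s6c297 rfl
theorem s6u298 : ∀ v, 1 ≤ v → v ≤ 165313 → fs6 v = true := slots_step fs6 164900 413 165313 s6u297 s6c298 rfl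
theorem s6u299 : ∀ v, 1 ≤ v → v ≤ 165739 → fs6 v = true := slots_step fs6 165313 426 165739 s6u298 s6c299 rfl
theorem s6u300 : ∀ v, 1 ≤ v → v ≤ 166151 → fs6 v = true := slots_step fs6 165739 412 166151 s6u299 s6c300 rfl
theorem s6u301 : ∀ v, 1 ≤ v → v ≤ 166561 → fs6 v = true := slots_step fs6 166151 410 166561 s6u300 s6c301 rfl
theorem s6u302 : ∀ v, 1 ≤ v → v ≤ 166964 → fs6 v = true := slots_step fs6 166561 403 166964 s6u301 s6c302 rfl
theorem s6u303 : ∀ v, 1 ≤ v → v ≤ 167376 → fs6 v = true := slots_step fs6 166964 412 167376 s6u302 s6c303 rfl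
theorem s6u304 : ∀ v, 1 ≤ v → v ≤ 167800 → fs6 v = true := slots_step fs6 167376 424 167800 s6u303 s6c304 rfl
theorem s6u305 : ∀ v, 1 ≤ v → v ≤ 168226 → fs6 v = true := slots_step fs6 167800 426 168226 s6u304 s6c305 rfl
theorem s6u306 : ∀ v, 1 ≤ v → v ≤ 168650 → fs6 v = true := slots_step fs6 168226 424 168650 s6u305 s6c306 rfl
theorem s6u307 : ∀ v, 1 ≤ v → v ≤ 169053 → fs6 v = true := slots_step fs6 168650 403 169053 s6u306 s6c307 rfl
theorem s6u308 : ∀ v, 1 ≤ v → v ≤ 169466 → fs6 v = true := slots_step fs6 169053 413 169466 s6u307 s6c308 rfl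
theorem s6u309 : ∀ v, 1 ≤ v → v ≤ 169887 → fs6 v = true := slots_step fs6 169466 421 169887 s6u308 s6c309 rfl
theorem s6u310 : ∀ v, 1 ≤ v → v ≤ 170268 → fs6 v = true := slots_step fs6 169887 381 170268 s6u309 s6c310 rfl
theorem s6u311 : ∀ v, 1 ≤ v → v ≤ 170666 → fs6 v = true := slots_step fs6 170268 398 170666 s6u310 s6c311 rfl
theorem s6u312 : ∀ v, 1 ≤ v → v ≤ 171089 → fs6 v = true := slots_step fs6 170666 423 171089 s6u311 s6c312 rfl
theorem s6u313 : ∀ v, 1 ≤ v → v ≤ 171487 → fs6 v = true := slots_step fs6 171089 398 171487 s6u312 s6c313 rfl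
theorem s6u314 : ∀ v, 1 ≤ v → v ≤ 171907 → fs6 v = true := slots_step fs6 171487 420 171907 s6u313 s6c314 rfl
theorem s6u315 : ∀ v, 1 ≤ v → v ≤ 172320 → fs6 v = true := slots_step fs6 171907 413 172320 s6u314 s6c315 rfl
theorem s6u316 : ∀ v, 1 ≤ v → v ≤ 172734 → fs6 v = true := slots_step fs6 172320 414 172734 s6u315 s6c316 rfl
theorem s6u317 : ∀ v, 1 ≤ v → v ≤ 173137 → fs6 v = true := slots_step fs6 172734 403 173137 s6u316 s6c317 rfl
theorem s6u318 : ∀ v, 1 ≤ v → v ≤ 173548 → fs6 v = true := slots_step fs6 173137 411 173548 s6u317 s6c318 rfl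
theorem s6u319 : ∀ v, 1 ≤ v → v ≤ 173919 → fs6 v = true := slots_step fs6 173548 371 173919 s6u318 s6c319 rfl
theorem s6u320 : ∀ v, 1 ≤ v → v ≤ 174313 → fs6 v = true := slots_step fs6 173919 394 174313 s6u319 s6c320 rfl
theorem s6u321 : ∀ v, 1 ≤ v → v ≤ 174701 → fs6 v = true := slots_step fs6 174313 388 174701 s6u320 s6c321 rfl
theorem s6u322 : ∀ v, 1 ≤ v → v ≤ 175096 → fs6 v = true := slots_step fs6 174701 395 175096 s6u321 s6c322 rfl
theorem s6u323 : ∀ v, 1 ≤ v → v ≤ 175480 → fs6 v = true := slots_step fs6 175096 384 175480 s6u322 s6c323 rfl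
theorem s6u324 : ∀ v, 1 ≤ v → v ≤ 175865 → fs6 v = true := slots_step fs6 175480 385 175865 s6u323 s6c324 rfl
theorem s6u325 : ∀ v, 1 ≤ v → v ≤ 176254 → fs6 v = true := slots_step fs6 175865 389 176254 s6u324 s6c325 rfl
theorem s6u326 : ∀ v, 1 ≤ v → v ≤ 176633 → fs6 v = true := slots_step fs6 176254 379 176633 s6u325 s6c326 rfl
theorem s6u327 : ∀ v, 1 ≤ v → v ≤ 176997 → fs6 v = true := slots_step fs6 176633 364 176997 s6u326 s6c327 rfl
theorem s6u328 : ∀ v, 1 ≤ v → v ≤ 177389 → fs6 v = true := slots_step fs6 176997 392 177389 s6u327 s6c328 rfl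
theorem s6u329 : ∀ v, 1 ≤ v → v ≤ 177807 → fs6 v = true := slots_step fs6 177389 418 177807 s6u328 s6c329 rfl
theorem s6u330 : ∀ v, 1 ≤ v → v ≤ 178194 → fs6 v = true := slots_step fs6 177807 387 178194 s6u329 s6c330 rfl
theorem s6u331 : ∀ v, 1 ≤ v → v ≤ 178558 → fs6 v = true := slots_step fs6 178194 364 178558 s6u330 s6c331 rfl
theorem s6u332 : ∀ v, 1 ≤ v → v ≤ 178949 → fs6 v = true := slots_step fs6 178558 391 178949 s6u331 s6c332 rfl
theorem s6u333 : ∀ v, 1 ≤ v → v ≤ 179317 → fs6 v = true := slots_step fs6 178949 368 179317 s6u332 s6c333 rfl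
theorem s6u334 : ∀ v, 1 ≤ v → v ≤ 179697 → fs6 v = true := slots_step fs6 179317 380 179697 s6u333 s6c334 rfl
theorem s6u335 : ∀ v, 1 ≤ v → v ≤ 180073 → fs6 v = true := slots_step fs6 179697 376 180073 s6u334 s6c335 rfl
theorem s6u336 : ∀ v, 1 ≤ v → v ≤ 180480 → fs6 v = true := slots_step fs6 180073 407 180480 s6u335 s6c336 rfl
theorem s6u337 : ∀ v, 1 ≤ v → v ≤ 180857 → fs6 v = true := slots_step fs6 180480 377 180857 s6u336 s6c337 rfl
theorem s6u338 : ∀ v, 1 ≤ v → v ≤ 181247 → fs6 v = true := slots_step fs6 180857 390 181247 s6u337 s6c338 rfl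
theorem s6u339 : ∀ v, 1 ≤ v → v ≤ 181647 → fs6 v = true := slots_step fs6 181247 400 181647 s6u338 s6c339 rfl
theorem s6u340 : ∀ v, 1 ≤ v → v ≤ 182009 → fs6 v = true := slots_step fs6 181647 362 182009 s6u339 s6c340 rfl
theorem s6u341 : ∀ v, 1 ≤ v → v ≤ 182403 → fs6 v = true := slots_step fs6 182009 394 182403 s6u340 s6c341 rfl
theorem s6u342 : ∀ v, 1 ≤ v → v ≤ 182785 → fs6 v = true := slots_step fs6 182403 382 182785 s6u341 s6c342 rfl
theorem s6u343 : ∀ v, 1 ≤ v → v ≤ 183157 → fs6 v = true := slots_step fs6 182785 372 183157 s6u342 s6c343 rfl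
theorem s6u344 : ∀ v, 1 ≤ v → v ≤ 183545 → fs6 v = true := slots_step fs6 183157 388 183545 s6u343 s6c344 rfl
theorem s6u345 : ∀ v, 1 ≤ v → v ≤ 183911 → fs6 v = true := slots_step fs6 183545 366 183911 s6u344 s6c345 rfl
theorem s6u346 : ∀ v, 1 ≤ v → v ≤ 184296 → fs6 v = true := slots_step fs6 183911 385 184296 s6u345 s6c346 rfl
theorem s6u347 : ∀ v, 1 ≤ v → v ≤ 184661 → fs6 v = true := slots_step fs6 184296 365 184661 s6u346 s6c347 rfl
theorem s6u348 : ∀ v, 1 ≤ v → v ≤ 185040 → fs6 v = true := slots_step fs6 184661 379 185040 s6u347 s6c348 rfl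
theorem s6u349 : ∀ v, 1 ≤ v → v ≤ 185427 → fs6 v = true := slots_step fs6 185040 387 185427 s6u348 s6c349 rfl
theorem s6u350 : ∀ v, 1 ≤ v → v ≤ 185831 → fs6 v = true := slots_step fs6 185427 404 185831 s6u349 s6c350 rfl
theorem s6u351 : ∀ v, 1 ≤ v → v ≤ 186210 → fs6 v = true := slots_step fs6 185831 379 186210 s6u350 s6c351 rfl
theorem s6u352 : ∀ v, 1 ≤ v → v ≤ 186597 → fs6 v = true := slots_step fs6 186210 387 186597 s6u351 s6c352 rfl
theorem s6u353 : ∀ v, 1 ≤ v → v ≤ 186975 → fs6 v = true := slots_step fs6 186597 378 186975 s6u352 s6c353 rfl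
theorem s6u354 : ∀ v, 1 ≤ v → v ≤ 187360 → fs6 v = true := slots_step fs6 186975 385 187360 s6u353 s6c354 rfl
theorem s6u355 : ∀ v, 1 ≤ v → v ≤ 187724 → fs6 v = true := slots_step fs6 187360 364 187724 s6u354 s6c355 rfl
theorem s6u356 : ∀ v, 1 ≤ v → v ≤ 188083 → fs6 v = true := slots_step fs6 187724 359 188083 s6u355 s6c356 rfl
theorem s6u357 : ∀ v, 1 ≤ v → v ≤ 188457 → fs6 v = true := slots_step fs6 188083 374 188457 s6u356 s6c357 rfl
theorem s6u358 : ∀ v, 1 ≤ v → v ≤ 188839 → fs6 v = true := slots_step fs6 188457 382 188839 s6u357 s6c358 rfl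
theorem s6u359 : ∀ v, 1 ≤ v → v ≤ 189205 → fs6 v = true := slots_step fs6 188839 366 189205 s6u358 s6c359 rfl
theorem s6u360 : ∀ v, 1 ≤ v → v ≤ 189574 → fs6 v = true := slots_step fs6 189205 369 189574 s6u359 s6c360 rfl
theorem s6u361 : ∀ v, 1 ≤ v → v ≤ 189956 → fs6 v = true := slots_step fs6 189574 382 189956 s6u360 s6c361 rfl
theorem s6u362 : ∀ v, 1 ≤ v → v ≤ 190312 → fs6 v = true := slots_step fs6 189956 356 190312 s6u361 s6c362 rfl
theorem s6u363 : ∀ v, 1 ≤ v → v ≤ 190676 → fs6 v = true := slots_step fs6 190312 364 190676 s6u362 s6c363 rfl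
theorem s6u364 : ∀ v, 1 ≤ v → v ≤ 191051 → fs6 v = true := slots_step fs6 190676 375 191051 s6u363 s6c364 rfl
theorem s6u365 : ∀ v, 1 ≤ v → v ≤ 191416 → fs6 v = true := slots_step fs6 191051 365 191416 s6u364 s6c365 rfl
theorem s6u366 : ∀ v, 1 ≤ v → v ≤ 191790 → fs6 v = true := slots_step fs6 191416 374 191790 s6u365 s6c366 rfl
theorem s6u367 : ∀ v, 1 ≤ v → v ≤ 192153 → fs6 v = true := slots_step fs6 191790 363 192153 s6u366 s6c367 rfl
theorem s6u368 : ∀ v, 1 ≤ v → v ≤ 192519 → fs6 v = true := slots_step fs6 192153 366 192519 s6u367 s6c368 rfl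
theorem s6u369 : ∀ v, 1 ≤ v → v ≤ 192887 → fs6 v = true := slots_step fs6 192519 368 192887 s6u368 s6c369 rfl
theorem s6u370 : ∀ v, 1 ≤ v → v ≤ 193241 → fs6 v = true := slots_step fs6 192887 354 193241 s6u369 s6c370 rfl
theorem s6u371 : ∀ v, 1 ≤ v → v ≤ 193593 → fs6 v = true := slots_step fs6 193241 352 193593 s6u370 s6c371 rfl
theorem s6u372 : ∀ v, 1 ≤ v → v ≤ 193936 → fs6 v = true := slots_step fs6 193593 343 193936 s6u371 s6c372 rfl
theorem s6u373 : ∀ v, 1 ≤ v → v ≤ 194280 → fs6 v = true := slots_step fs6 193936 344 194280 s6u372 s6c373 rfl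
theorem s6u374 : ∀ v, 1 ≤ v → v ≤ 194644 → fs6 v = true := slots_step fs6 194280 364 194644 s6u373 s6c374 rfl
theorem s6u375 : ∀ v, 1 ≤ v → v ≤ 194991 → fs6 v = true := slots_step fs6 194644 347 194991 s6u374 s6c375 rfl
theorem s6u376 : ∀ v, 1 ≤ v → v ≤ 195351 → fs6 v = true := slots_step fs6 194991 360 195351 s6u375 s6c376 rfl
theorem s6u377 : ∀ v, 1 ≤ v → v ≤ 195725 → fs6 v = true := slots_step fs6 195351 374 195725 s6u376 s6c377 rfl
theorem s6u378 : ∀ v, 1 ≤ v → v ≤ 196084 → fs6 v = true := slots_step fs6 195725 359 196084 s6u377 s6c378 rfl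
theorem s6u379 : ∀ v, 1 ≤ v → v ≤ 196435 → fs6 v = true := slots_step fs6 196084 351 196435 s6u378 s6c379 rfl
theorem s6u380 : ∀ v, 1 ≤ v → v ≤ 196771 → fs6 v = true := slots_step fs6 196435 336 196771 s6u379 s6c380 rfl
theorem s6u381 : ∀ v, 1 ≤ v → v ≤ 197116 → fs6 v = true := slots_step fs6 196771 345 197116 s6u380 s6c381 rfl
theorem s6u382 : ∀ v, 1 ≤ v → v ≤ 197460 → fs6 v = true := slots_step fs6 197116 344 197460 s6u381 s6c382 rfl
theorem s6u383 : ∀ v, 1 ≤ v → v ≤ 197799 → fs6 v = true := slots_step fs6 197460 339 197799 s6u382 s6c383 rfl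
theorem s6u384 : ∀ v, 1 ≤ v → v ≤ 198138 → fs6 v = true := slots_step fs6 197799 339 198138 s6u383 s6c384 rfl
theorem s6u385 : ∀ v, 1 ≤ v → v ≤ 198492 → fs6 v = true := slots_step fs6 198138 354 198492 s6u384 s6c385 rfl
theorem s6u386 : ∀ v, 1 ≤ v → v ≤ 198832 → fs6 v = true := slots_step fs6 198492 340 198832 s6u385 s6c386 rfl
theorem s6u387 : ∀ v, 1 ≤ v → v ≤ 199158 → fs6 v = true := slots_step fs6 198832 326 199158 s6u386 s6c387 rfl
theorem s6u388 : ∀ v, 1 ≤ v → v ≤ 199506 → fs6 v = true := slots_step fs6 199158 348 199506 s6u387 s6c388 rfl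
theorem s6u389 : ∀ v, 1 ≤ v → v ≤ 199848 → fs6 v = true := slots_step fs6 199506 342 199848 s6u388 s6c389 rfl
theorem s6u390 : ∀ v, 1 ≤ v → v ≤ 200172 → fs6 v = true := slots_step fs6 199848 324 200172 s6u389 s6c390 rfl
theorem s6u391 : ∀ v, 1 ≤ v → v ≤ 200504 → fs6 v = true := slots_step fs6 200172 332 200504 s6u390 s6c391 rfl
theorem s6u392 : ∀ v, 1 ≤ v → v ≤ 200836 → fs6 v = true := slots_step fs6 200504 332 200836 s6u391 s6c392 rfl
theorem s6u393 : ∀ v, 1 ≤ v → v ≤ 201161 → fs6 v = true := slots_step fs6 200836 325 201161 s6u392 s6c393 rfl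
theorem s6u394 : ∀ v, 1 ≤ v → v ≤ 201482 → fs6 v = true := slots_step fs6 201161 321 201482 s6u393 s6c394 rfl
theorem s6u395 : ∀ v, 1 ≤ v → v ≤ 201582 → fs6 v = true := slots_step fs6 201482 100 201582 s6u394 s6c395 rfl
theorem s7u0 : ∀ v, 1 ≤ v → v ≤ 559 → fs7 v = true := slots_step fs7 0 559 559 (slots_zero fs7) s7c0 rfl
theorem s7u1 : ∀ v, 1 ≤ v → v ≤ 1043 → fs7 v = true := slots_step fs7 559 484 1043 s7u0 s7c1 rfl
theorem s7u2 : ∀ v, 1 ≤ v → v ≤ 1554 → fs7 v = true := slots_step fs7 1043 511 1554 s7u1 s7c2 rfl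
theorem s7u3 : ∀ v, 1 ≤ v → v ≤ 2070 → fs7 v = true := slots_step fs7 1554 516 2070 s7u2 s7c3 rfl
theorem s7u4 : ∀ v, 1 ≤ v → v ≤ 2578 → fs7 v = true := slots_step fs7 2070 508 2578 s7u3 s7c4 rfl
theorem s7u5 : ∀ v, 1 ≤ v → v ≤ 3130 → fs7 v = true := slots_step fs7 2578 552 3130 s7u4 s7c5 rfl
theorem s7u6 : ∀ v, 1 ≤ v → v ≤ 3648 → fs7 v = true := slots_step fs7 3130 518 3648 s7u5 s7c6 rfl
theorem s7u7 : ∀ v, 1 ≤ v → v ≤ 4179 → fs7 v = true := slots_step fs7 3648 531 4179 s7u6 s7c7 rfl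
theorem s7u8 : ∀ v, 1 ≤ v → v ≤ 4717 → fs7 v = true := slots_step fs7 4179 538 4717 s7u7 s7c8 rfl
theorem s7u9 : ∀ v, 1 ≤ v → v ≤ 5232 → fs7 v = true := slots_step fs7 4717 515 5232 s7u8 s7c9 rfl
theorem s7u10 : ∀ v, 1 ≤ v → v ≤ 5757 → fs7 v = true := slots_step fs7 5232 525 5757 s7u9 s7c10 rfl
theorem s7u11 : ∀ v, 1 ≤ v → v ≤ 6263 → fs7 v = true := slots_step fs7 5757 506 6263 s7u10 s7c11 rfl
theorem s7u12 : ∀ v, 1 ≤ v → v ≤ 6756 → fs7 v = true := slots_step fs7 6263 493 6756 s7u11 s7c12 rfl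
theorem s7u13 : ∀ v, 1 ≤ v → v ≤ 7295 → fs7 v = true := slots_step fs7 6756 539 7295 s7u12 s7c13 rfl
theorem s7u14 : ∀ v, 1 ≤ v → v ≤ 7819 → fs7 v = true := slots_step fs7 7295 524 7819 s7u13 s7c14 rfl
theorem s7u15 : ∀ v, 1 ≤ v → v ≤ 8342 → fs7 v = true := slots_step fs7 7819 523 8342 s7u14 s7c15 rfl
theorem s7u16 : ∀ v, 1 ≤ v → v ≤ 8868 → fs7 v = true := slots_step fs7 8342 526 8868 s7u15 s7c16 rfl
theorem s7u17 : ∀ v, 1 ≤ v → v ≤ 9393 → fs7 v = true := slots_step fs7 8868 525 9393 s7u16 s7c17 rfl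
theorem s7u18 : ∀ v, 1 ≤ v → v ≤ 9936 → fs7 v = true := slots_step fs7 9393 543 9936 s7u17 s7c18 rfl
theorem s7u19 : ∀ v, 1 ≤ v → v ≤ 10482 → fs7 v = true := slots_step fs7 9936 546 10482 s7u18 s7c19 rfl
theorem s7u20 : ∀ v, 1 ≤ v → v ≤ 11005 → fs7 v = true := slots_step fs7 10482 523 11005 s7u19 s7c20 rfl
theorem s7u21 : ∀ v, 1 ≤ v → v ≤ 11495 → fs7 v = true := slots_step fs7 11005 490 11495 s7u20 s7c21 rfl
theorem s7u22 : ∀ v, 1 ≤ v → v ≤ 11995 → fs7 v = true := slots_step fs7 11495 500 11995 s7u21 s7c22 rfl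
theorem s7u23 : ∀ v, 1 ≤ v → v ≤ 12494 → fs7 v = true := slots_step fs7 11995 499 12494 s7u22 s7c23 rfl
theorem s7u24 : ∀ v, 1 ≤ v → v ≤ 12990 → fs7 v = true := slots_step fs7 12494 496 12990 s7u23 s7c24 rfl
theorem s7u25 : ∀ v, 1 ≤ v → v ≤ 13491 → fs7 v = true := slots_step fs7 12990 501 13491 s7u24 s7c25 rfl
theorem s7u26 : ∀ v, 1 ≤ v → v ≤ 13990 → fs7 v = true := slots_step fs7 13491 499 13990 s7u25 s7c26 rfl
theorem s7u27 : ∀ v, 1 ≤ v → v ≤ 14483 → fs7 v = true := slots_step fs7 13990 493 14483 s7u26 s7c27 rfl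
theorem s7u28 : ∀ v, 1 ≤ v → v ≤ 15016 → fs7 v = true := slots_step fs7 14483 533 15016 s7u27 s7c28 rfl
theorem s7u29 : ∀ v, 1 ≤ v → v ≤ 15576 → fs7 v = true := slots_step fs7 15016 560 15576 s7u28 s7c29 rfl
theorem s7u30 : ∀ v, 1 ≤ v → v ≤ 16130 → fs7 v = true := slots_step fs7 15576 554 16130 s7u29 s7c30 rfl
theorem s7u31 : ∀ v, 1 ≤ v → v ≤ 16632 → fs7 v = true := slots_step fs7 16130 502 16632 s7u30 s7c31 rfl
theorem s7u32 : ∀ v, 1 ≤ v → v ≤ 17142 → fs7 v = true := slots_step fs7 16632 510 17142 s7u31 s7c32 rfl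
theorem s7u33 : ∀ v, 1 ≤ v → v ≤ 17662 → fs7 v = true := slots_step fs7 17142 520 17662 s7u32 s7c33 rfl
theorem s7u34 : ∀ v, 1 ≤ v → v ≤ 18205 → fs7 v = true := slots_step fs7 17662 543 18205 s7u33 s7c34 rfl
theorem s7u35 : ∀ v, 1 ≤ v → v ≤ 18743 → fs7 v = true := slots_step fs7 18205 538 18743 s7u34 s7c35 rfl
theorem s7u36 : ∀ v, 1 ≤ v → v ≤ 19272 → fs7 v = true := slots_step fs7 18743 529 19272 s7u35 s7c36 rfl
theorem s7u37 : ∀ v, 1 ≤ v → v ≤ 19801 → fs7 v = true := slots_step fs7 19272 529 19801 s7u36 s7c37 rfl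
theorem s7u38 : ∀ v, 1 ≤ v → v ≤ 20333 → fs7 v = true := slots_step fs7 19801 532 20333 s7u37 s7c38 rfl
theorem s7u39 : ∀ v, 1 ≤ v → v ≤ 20879 → fs7 v = true := slots_step fs7 20333 546 20879 s7u38 s7c39 rfl
theorem s7u40 : ∀ v, 1 ≤ v → v ≤ 21442 → fs7 v = true := slots_step fs7 20879 563 21442 s7u39 s7c40 rfl
theorem s7u41 : ∀ v, 1 ≤ v → v ≤ 21997 → fs7 v = true := slots_step fs7 21442 555 21997 s7u40 s7c41 rfl
theorem s7u42 : ∀ v, 1 ≤ v → v ≤ 22524 → fs7 v = true := slots_step fs7 21997 527 22524 s7u41 s7c42 rfl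
theorem s7u43 : ∀ v, 1 ≤ v → v ≤ 23093 → fs7 v = true := slots_step fs7 22524 569 23093 s7u42 s7c43 rfl
theorem s7u44 : ∀ v, 1 ≤ v → v ≤ 23576 → fs7 v = true := slots_step fs7 23093 483 23576 s7u43 s7c44 rfl
theorem s7u45 : ∀ v, 1 ≤ v → v ≤ 24066 → fs7 v = true := slots_step fs7 23576 490 24066 s7u44 s7c45 rfl
theorem s7u46 : ∀ v, 1 ≤ v → v ≤ 24537 → fs7 v = true := slots_step fs7 24066 471 24537 s7u45 s7c46 rfl
theorem s7u47 : ∀ v, 1 ≤ v → v ≤ 25002 → fs7 v = true := slots_step fs7 24537 465 25002 s7u46 s7c47 rfl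
theorem s7u48 : ∀ v, 1 ≤ v → v ≤ 25488 → fs7 v = true := slots_step fs7 25002 486 25488 s7u47 s7c48 rfl
theorem s7u49 : ∀ v, 1 ≤ v → v ≤ 25977 → fs7 v = true := slots_step fs7 25488 489 25977 s7u48 s7c49 rfl
theorem s7u50 : ∀ v, 1 ≤ v → v ≤ 26464 → fs7 v = true := slots_step fs7 25977 487 26464 s7u49 s7c50 rfl
theorem s7u51 : ∀ v, 1 ≤ v → v ≤ 26978 → fs7 v = true := slots_step fs7 26464 514 26978 s7u50 s7c51 rfl
theorem s7u52 : ∀ v, 1 ≤ v → v ≤ 27488 → fs7 v = true := slots_step fs7 26978 510 27488 s7u51 s7c52 rfl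
theorem s7u53 : ∀ v, 1 ≤ v → v ≤ 27987 → fs7 v = true := slots_step fs7 27488 499 27987 s7u52 s7c53 rfl
theorem s7u54 : ∀ v, 1 ≤ v → v ≤ 28511 → fs7 v = true := slots_step fs7 27987 524 28511 s7u53 s7c54 rfl
theorem s7u55 : ∀ v, 1 ≤ v → v ≤ 29002 → fs7 v = true := slots_step fs7 28511 491 29002 s7u54 s7c55 rfl
theorem s7u56 : ∀ v, 1 ≤ v → v ≤ 29504 → fs7 v = true := slots_step fs7 29002 502 29504 s7u55 s7c56 rfl
theorem s7u57 : ∀ v, 1 ≤ v → v ≤ 29998 → fs7 v = true := slots_step fs7 29504 494 29998 s7u56 s7c57 rfl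
theorem s7u58 : ∀ v, 1 ≤ v → v ≤ 30533 → fs7 v = true := slots_step fs7 29998 535 30533 s7u57 s7c58 rfl
theorem s7u59 : ∀ v, 1 ≤ v → v ≤ 31077 → fs7 v = true := slots_step fs7 30533 544 31077 s7u58 s7c59 rfl
theorem s7u60 : ∀ v, 1 ≤ v → v ≤ 31604 → fs7 v = true := slots_step fs7 31077 527 31604 s7u59 s7c60 rfl
theorem s7u61 : ∀ v, 1 ≤ v → v ≤ 32128 → fs7 v = true := slots_step fs7 31604 524 32128 s7u60 s7c61 rfl
theorem s7u62 : ∀ v, 1 ≤ v → v ≤ 32671 → fs7 v = true := slots_step fs7 32128 543 32671 s7u61 s7c62 rfl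
theorem s7u63 : ∀ v, 1 ≤ v → v ≤ 33223 → fs7 v = true := slots_step fs7 32671 552 33223 s7u62 s7c63 rfl
theorem s7u64 : ∀ v, 1 ≤ v → v ≤ 33736 → fs7 v = true := slots_step fs7 33223 513 33736 s7u63 s7c64 rfl
theorem s7u65 : ∀ v, 1 ≤ v → v ≤ 34246 → fs7 v = true := slots_step fs7 33736 510 34246 s7u64 s7c65 rfl
theorem s7u66 : ∀ v, 1 ≤ v → v ≤ 34753 → fs7 v = true := slots_step fs7 34246 507 34753 s7u65 s7c66 rfl
theorem s7u67 : ∀ v, 1 ≤ v → v ≤ 35306 → fs7 v = true := slots_step fs7 34753 553 35306 s7u66 s7c67 rfl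
theorem s7u68 : ∀ v, 1 ≤ v → v ≤ 35831 → fs7 v = true := slots_step fs7 35306 525 35831 s7u67 s7c68 rfl
theorem s7u69 : ∀ v, 1 ≤ v → v ≤ 36363 → fs7 v = true := slots_step fs7 35831 532 36363 s7u68 s7c69 rfl
theorem s7u70 : ∀ v, 1 ≤ v → v ≤ 36936 → fs7 v = true := slots_step fs7 36363 573 36936 s7u69 s7c70 rfl
theorem s7u71 : ∀ v, 1 ≤ v → v ≤ 37505 → fs7 v = true := slots_step fs7 36936 569 37505 s7u70 s7c71 rfl
theorem s7u72 : ∀ v, 1 ≤ v → v ≤ 38047 → fs7 v = true := slots_step fs7 37505 542 38047 s7u71 s7c72 rfl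
theorem s7u73 : ∀ v, 1 ≤ v → v ≤ 38588 → fs7 v = true := slots_step fs7 38047 541 38588 s7u72 s7c73 rfl
theorem s7u74 : ∀ v, 1 ≤ v → v ≤ 39135 → fs7 v = true := slots_step fs7 38588 547 39135 s7u73 s7c74 rfl
theorem s7u75 : ∀ v, 1 ≤ v → v ≤ 39675 → fs7 v = true := slots_step fs7 39135 540 39675 s7u74 s7c75 rfl
theorem s7u76 : ∀ v, 1 ≤ v → v ≤ 40243 → fs7 v = true := slots_step fs7 39675 568 40243 s7u75 s7c76 rfl
theorem s7u77 : ∀ v, 1 ≤ v → v ≤ 40756 → fs7 v = true := slots_step fs7 40243 513 40756 s7u76 s7c77 rfl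
theorem s7u78 : ∀ v, 1 ≤ v → v ≤ 41251 → fs7 v = true := slots_step fs7 40756 495 41251 s7u77 s7c78 rfl
theorem s7u79 : ∀ v, 1 ≤ v → v ≤ 41768 → fs7 v = true := slots_step fs7 41251 517 41768 s7u78 s7c79 rfl
theorem s7u80 : ∀ v, 1 ≤ v → v ≤ 42271 → fs7 v = true := slots_step fs7 41768 503 42271 s7u79 s7c80 rfl
theorem s7u81 : ∀ v, 1 ≤ v → v ≤ 42808 → fs7 v = true := slots_step fs7 42271 537 42808 s7u80 s7c81 rfl
theorem s7u82 : ∀ v, 1 ≤ v → v ≤ 43318 → fs7 v = true := slots_step fs7 42808 510 43318 s7u81 s7c82 rfl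
theorem s7u83 : ∀ v, 1 ≤ v → v ≤ 43886 → fs7 v = true := slots_step fs7 43318 568 43886 s7u82 s7c83 rfl
theorem s7u84 : ∀ v, 1 ≤ v → v ≤ 44389 → fs7 v = true := slots_step fs7 43886 503 44389 s7u83 s7c84 rfl
theorem s7u85 : ∀ v, 1 ≤ v → v ≤ 44937 → fs7 v = true := slots_step fs7 44389 548 44937 s7u84 s7c85 rfl
theorem s7u86 : ∀ v, 1 ≤ v → v ≤ 45458 → fs7 v = true := slots_step fs7 44937 521 45458 s7u85 s7c86 rfl
theorem s7u87 : ∀ v, 1 ≤ v → v ≤ 45986 → fs7 v = true := slots_step fs7 45458 528 45986 s7u86 s7c87 rfl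
theorem s7u88 : ∀ v, 1 ≤ v → v ≤ 46509 → fs7 v = true := slots_step fs7 45986 523 46509 s7u87 s7c88 rfl
theorem s7u89 : ∀ v, 1 ≤ v → v ≤ 47026 → fs7 v = true := slots_step fs7 46509 517 47026 s7u88 s7c89 rfl
theorem s7u90 : ∀ v, 1 ≤ v → v ≤ 47517 → fs7 v = true := slots_step fs7 47026 491 47517 s7u89 s7c90 rfl
theorem s7u91 : ∀ v, 1 ≤ v → v ≤ 48016 → fs7 v = true := slots_step fs7 47517 499 48016 s7u90 s7c91 rfl
theorem s7u92 : ∀ v, 1 ≤ v → v ≤ 48518 → fs7 v = true := slots_step fs7 48016 502 48518 s7u91 s7c92 rfl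
theorem s7u93 : ∀ v, 1 ≤ v → v ≤ 49070 → fs7 v = true := slots_step fs7 48518 552 49070 s7u92 s7c93 rfl
theorem s7u94 : ∀ v, 1 ≤ v → v ≤ 49552 → fs7 v = true := slots_step fs7 49070 482 49552 s7u93 s7c94 rfl
theorem s7u95 : ∀ v, 1 ≤ v → v ≤ 50057 → fs7 v = true := slots_step fs7 49552 505 50057 s7u94 s7c95 rfl
theorem s7u96 : ∀ v, 1 ≤ v → v ≤ 50555 → fs7 v = true := slots_step fs7 50057 498 50555 s7u95 s7c96 rfl
theorem s7u97 : ∀ v, 1 ≤ v → v ≤ 51047 → fs7 v = true := slots_step fs7 50555 492 51047 s7u96 s7c97 rfl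
theorem s7u98 : ∀ v, 1 ≤ v → v ≤ 51544 → fs7 v = true := slots_step fs7 51047 497 51544 s7u97 s7c98 rfl
theorem s7u99 : ∀ v, 1 ≤ v → v ≤ 52057 → fs7 v = true := slots_step fs7 51544 513 52057 s7u98 s7c99 rfl
theorem s7u100 : ∀ v, 1 ≤ v → v ≤ 52551 → fs7 v = true := slots_step fs7 52057 494 52551 s7u99 s7c100 rfl
theorem s7u101 : ∀ v, 1 ≤ v → v ≤ 53062 → fs7 v = true := slots_step fs7 52551 511 53062 s7u100 s7c101 rfl
theorem s7u102 : ∀ v, 1 ≤ v → v ≤ 53563 → fs7 v = true := slots_step fs7 53062 501 53563 s7u101 s7c102 rfl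
theorem s7u103 : ∀ v, 1 ≤ v → v ≤ 54102 → fs7 v = true := slots_step fs7 53563 539 54102 s7u102 s7c103 rfl
theorem s7u104 : ∀ v, 1 ≤ v → v ≤ 54671 → fs7 v = true := slots_step fs7 54102 569 54671 s7u103 s7c104 rfl
theorem s7u105 : ∀ v, 1 ≤ v → v ≤ 55252 → fs7 v = true := slots_step fs7 54671 581 55252 s7u104 s7c105 rfl
theorem s7u106 : ∀ v, 1 ≤ v → v ≤ 55798 → fs7 v = true := slots_step fs7 55252 546 55798 s7u105 s7c106 rfl
theorem s7u107 : ∀ v, 1 ≤ v → v ≤ 56330 → fs7 v = true := slots_step fs7 55798 532 56330 s7u106 s7c107 rfl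
theorem s7u108 : ∀ v, 1 ≤ v → v ≤ 56850 → fs7 v = true := slots_step fs7 56330 520 56850 s7u107 s7c108 rfl
theorem s7u109 : ∀ v, 1 ≤ v → v ≤ 57349 → fs7 v = true := slots_step fs7 56850 499 57349 s7u108 s7c109 rfl
theorem s7u110 : ∀ v, 1 ≤ v → v ≤ 57884 → fs7 v = true := slots_step fs7 57349 535 57884 s7u109 s7c110 rfl
theorem s7u111 : ∀ v, 1 ≤ v → v ≤ 58413 → fs7 v = true := slots_step fs7 57884 529 58413 s7u110 s7c111 rfl
theorem s7u112 : ∀ v, 1 ≤ v → v ≤ 58944 → fs7 v = true := slots_step fs7 58413 531 58944 s7u111 s7c112 rfl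
theorem s7u113 : ∀ v, 1 ≤ v → v ≤ 59450 → fs7 v = true := slots_step fs7 58944 506 59450 s7u112 s7c113 rfl
theorem s7u114 : ∀ v, 1 ≤ v → v ≤ 59941 → fs7 v = true := slots_step fs7 59450 491 59941 s7u113 s7c114 rfl
theorem s7u115 : ∀ v, 1 ≤ v → v ≤ 60432 → fs7 v = true := slots_step fs7 59941 491 60432 s7u114 s7c115 rfl
theorem s7u116 : ∀ v, 1 ≤ v → v ≤ 60917 → fs7 v = true := slots_step fs7 60432 485 60917 s7u115 s7c116 rfl
theorem s7u117 : ∀ v, 1 ≤ v → v ≤ 61431 → fs7 v = true := slots_step fs7 60917 514 61431 s7u116 s7c117 rfl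
theorem s7u118 : ∀ v, 1 ≤ v → v ≤ 61926 → fs7 v = true := slots_step fs7 61431 495 61926 s7u117 s7c118 rfl
theorem s7u119 : ∀ v, 1 ≤ v → v ≤ 62448 → fs7 v = true := slots_step fs7 61926 522 62448 s7u118 s7c119 rfl
theorem s7u120 : ∀ v, 1 ≤ v → v ≤ 63003 → fs7 v = true := slots_step fs7 62448 555 63003 s7u119 s7c120 rfl
theorem s7u121 : ∀ v, 1 ≤ v → v ≤ 63547 → fs7 v = true := slots_step fs7 63003 544 63547 s7u120 s7c121 rfl
theorem s7u122 : ∀ v, 1 ≤ v → v ≤ 64122 → fs7 v = true := slots_step fs7 63547 575 64122 s7u121 s7c122 rfl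
theorem s7u123 : ∀ v, 1 ≤ v → v ≤ 64713 → fs7 v = true := slots_step fs7 64122 591 64713 s7u122 s7c123 rfl
theorem s7u124 : ∀ v, 1 ≤ v → v ≤ 65275 → fs7 v = true := slots_step fs7 64713 562 65275 s7u123 s7c124 rfl
theorem s7u125 : ∀ v, 1 ≤ v → v ≤ 65809 → fs7 v = true := slots_step fs7 65275 534 65809 s7u124 s7c125 rfl
theorem s7u126 : ∀ v, 1 ≤ v → v ≤ 66328 → fs7 v = true := slots_step fs7 65809 519 66328 s7u125 s7c126 rfl
theorem s7u127 : ∀ v, 1 ≤ v → v ≤ 66861 → fs7 v = true := slots_step fs7 66328 533 66861 s7u126 s7c127 rfl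
theorem s7u128 : ∀ v, 1 ≤ v → v ≤ 67410 → fs7 v = true := slots_step fs7 66861 549 67410 s7u127 s7c128 rfl
theorem s7u129 : ∀ v, 1 ≤ v → v ≤ 67974 → fs7 v = true := slots_step fs7 67410 564 67974 s7u128 s7c129 rfl
theorem s7u130 : ∀ v, 1 ≤ v → v ≤ 68506 → fs7 v = true := slots_step fs7 67974 532 68506 s7u129 s7c130 rfl
theorem s7u131 : ∀ v, 1 ≤ v → v ≤ 69060 → fs7 v = true := slots_step fs7 68506 554 69060 s7u130 s7c131 rfl
theorem s7u132 : ∀ v, 1 ≤ v → v ≤ 69625 → fs7 v = true := slots_step fs7 69060 565 69625 s7u131 s7c132 rfl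
theorem s7u133 : ∀ v, 1 ≤ v → v ≤ 70185 → fs7 v = true := slots_step fs7 69625 560 70185 s7u132 s7c133 rfl
theorem s7u134 : ∀ v, 1 ≤ v → v ≤ 70742 → fs7 v = true := slots_step fs7 70185 557 70742 s7u133 s7c134 rfl
theorem s7u135 : ∀ v, 1 ≤ v → v ≤ 71315 → fs7 v = true := slots_step fs7 70742 573 71315 s7u134 s7c135 rfl
theorem s7u136 : ∀ v, 1 ≤ v → v ≤ 71832 → fs7 v = true := slots_step fs7 71315 517 71832 s7u135 s7c136 rfl
theorem s7u137 : ∀ v, 1 ≤ v → v ≤ 72382 → fs7 v = true := slots_step fs7 71832 550 72382 s7u136 s7c137 rfl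
theorem s7u138 : ∀ v, 1 ≤ v → v ≤ 72947 → fs7 v = true := slots_step fs7 72382 565 72947 s7u137 s7c138 rfl
theorem s7u139 : ∀ v, 1 ≤ v → v ≤ 73501 → fs7 v = true := slots_step fs7 72947 554 73501 s7u138 s7c139 rfl
theorem s7u140 : ∀ v, 1 ≤ v → v ≤ 74058 → fs7 v = true := slots_step fs7 73501 557 74058 s7u139 s7c140 rfl
theorem s7u141 : ∀ v, 1 ≤ v → v ≤ 74665 → fs7 v = true := slots_step fs7 74058 607 74665 s7u140 s7c141 rfl
theorem s7u142 : ∀ v, 1 ≤ v → v ≤ 75211 → fs7 v = true := slots_step fs7 74665 546 75211 s7u141 s7c142 rfl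
theorem s7u143 : ∀ v, 1 ≤ v → v ≤ 75767 → fs7 v = true := slots_step fs7 75211 556 75767 s7u142 s7c143 rfl
theorem s7u144 : ∀ v, 1 ≤ v → v ≤ 76336 → fs7 v = true := slots_step fs7 75767 569 76336 s7u143 s7c144 rfl
theorem s7u145 : ∀ v, 1 ≤ v → v ≤ 76882 → fs7 v = true := slots_step fs7 76336 546 76882 s7u144 s7c145 rfl
theorem s7u146 : ∀ v, 1 ≤ v → v ≤ 77459 → fs7 v = true := slots_step fs7 76882 577 77459 s7u145 s7c146 rfl
theorem s7u147 : ∀ v, 1 ≤ v → v ≤ 77984 → fs7 v = true := slots_step fs7 77459 525 77984 s7u146 s7c147 rfl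
theorem s7u148 : ∀ v, 1 ≤ v → v ≤ 78568 → fs7 v = true := slots_step fs7 77984 584 78568 s7u147 s7c148 rfl
theorem s7u149 : ∀ v, 1 ≤ v → v ≤ 79140 → fs7 v = true := slots_step fs7 78568 572 79140 s7u148 s7c149 rfl
theorem s7u150 : ∀ v, 1 ≤ v → v ≤ 79679 → fs7 v = true := slots_step fs7 79140 539 79679 s7u149 s7c150 rfl
theorem s7u151 : ∀ v, 1 ≤ v → v ≤ 80244 → fs7 v = true := slots_step fs7 79679 565 80244 s7u150 s7c151 rfl
theorem s7u152 : ∀ v, 1 ≤ v → v ≤ 80792 → fs7 v = true := slots_step fs7 80244 548 80792 s7u151 s7c152 rfl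
theorem s7u153 : ∀ v, 1 ≤ v → v ≤ 81348 → fs7 v = true := slots_step fs7 80792 556 81348 s7u152 s7c153 rfl
theorem s7u154 : ∀ v, 1 ≤ v → v ≤ 81907 → fs7 v = true := slots_step fs7 81348 559 81907 s7u153 s7c154 rfl
theorem s7u155 : ∀ v, 1 ≤ v → v ≤ 82443 → fs7 v = true := slots_step fs7 81907 536 82443 s7u154 s7c155 rfl
theorem s7u156 : ∀ v, 1 ≤ v → v ≤ 83014 → fs7 v = true := slots_step fs7 82443 571 83014 s7u155 s7c156 rfl
theorem s7u157 : ∀ v, 1 ≤ v → v ≤ 83589 → fs7 v = true := slots_step fs7 83014 575 83589 s7u156 s7c157 rfl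
theorem s7u158 : ∀ v, 1 ≤ v → v ≤ 84149 → fs7 v = true := slots_step fs7 83589 560 84149 s7u157 s7c158 rfl
theorem s7u159 : ∀ v, 1 ≤ v → v ≤ 84668 → fs7 v = true := slots_step fs7 84149 519 84668 s7u158 s7c159 rfl
theorem s7u160 : ∀ v, 1 ≤ v → v ≤ 85182 → fs7 v = true := slots_step fs7 84668 514 85182 s7u159 s7c160 rfl
theorem s7u161 : ∀ v, 1 ≤ v → v ≤ 85691 → fs7 v = true := slots_step fs7 85182 509 85691 s7u160 s7c161 rfl
theorem s7u162 : ∀ v, 1 ≤ v → v ≤ 86198 → fs7 v = true := slots_step fs7 85691 507 86198 s7u161 s7c162 rfl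
theorem s7u163 : ∀ v, 1 ≤ v → v ≤ 86750 → fs7 v = true := slots_step fs7 86198 552 86750 s7u162 s7c163 rfl
theorem s7u164 : ∀ v, 1 ≤ v → v ≤ 87279 → fs7 v = true := slots_step fs7 86750 529 87279 s7u163 s7c164 rfl
theorem s7u165 : ∀ v, 1 ≤ v → v ≤ 87793 → fs7 v = true := slots_step fs7 87279 514 87793 s7u164 s7c165 rfl
theorem s7u166 : ∀ v, 1 ≤ v → v ≤ 88342 → fs7 v = true := slots_step fs7 87793 549 88342 s7u165 s7c166 rfl
theorem s7u167 : ∀ v, 1 ≤ v → v ≤ 88845 → fs7 v = true := slots_step fs7 88342 503 88845 s7u166 s7c167 rfl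
theorem s7u168 : ∀ v, 1 ≤ v → v ≤ 89395 → fs7 v = true := slots_step fs7 88845 550 89395 s7u167 s7c168 rfl
theorem s7u169 : ∀ v, 1 ≤ v → v ≤ 89929 → fs7 v = true := slots_step fs7 89395 534 89929 s7u168 s7c169 rfl
theorem s7u170 : ∀ v, 1 ≤ v → v ≤ 90446 → fs7 v = true := slots_step fs7 89929 517 90446 s7u169 s7c170 rfl
theorem s7u171 : ∀ v, 1 ≤ v → v ≤ 90954 → fs7 v = true := slots_step fs7 90446 508 90954 s7u170 s7c171 rfl
theorem s7u172 : ∀ v, 1 ≤ v → v ≤ 91518 → fs7 v = true := slots_step fs7 90954 564 91518 s7u171 s7c172 rfl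
theorem s7u173 : ∀ v, 1 ≤ v → v ≤ 92046 → fs7 v = true := slots_step fs7 91518 528 92046 s7u172 s7c173 rfl
theorem s7u174 : ∀ v, 1 ≤ v → v ≤ 92573 → fs7 v = true := slots_step fs7 92046 527 92573 s7u173 s7c174 rfl
theorem s7u175 : ∀ v, 1 ≤ v → v ≤ 93129 → fs7 v = true := slots_step fs7 92573 556 93129 s7u174 s7c175 rfl
theorem s7u176 : ∀ v, 1 ≤ v → v ≤ 93673 → fs7 v = true := slots_step fs7 93129 544 93673 s7u175 s7c176 rfl
theorem s7u177 : ∀ v, 1 ≤ v → v ≤ 94232 → fs7 v = true := slots_step fs7 93673 559 94232 s7u176 s7c177 rfl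
theorem s7u178 : ∀ v, 1 ≤ v → v ≤ 94789 → fs7 v = true := slots_step fs7 94232 557 94789 s7u177 s7c178 rfl
theorem s7u179 : ∀ v, 1 ≤ v → v ≤ 95336 → fs7 v = true := slots_step fs7 94789 547 95336 s7u178 s7c179 rfl
theorem s7u180 : ∀ v, 1 ≤ v → v ≤ 95878 → fs7 v = true := slots_step fs7 95336 542 95878 s7u179 s7c180 rfl
theorem s7u181 : ∀ v, 1 ≤ v → v ≤ 96410 → fs7 v = true := slots_step fs7 95878 532 96410 s7u180 s7c181 rfl
theorem s7u182 : ∀ v, 1 ≤ v → v ≤ 96904 → fs7 v = true := slots_step fs7 96410 494 96904 s7u181 s7c182 rfl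
theorem s7u183 : ∀ v, 1 ≤ v → v ≤ 97435 → fs7 v = true := slots_step fs7 96904 531 97435 s7u182 s7c183 rfl
theorem s7u184 : ∀ v, 1 ≤ v → v ≤ 97913 → fs7 v = true := slots_step fs7 97435 478 97913 s7u183 s7c184 rfl
theorem s7u185 : ∀ v, 1 ≤ v → v ≤ 98413 → fs7 v = true := slots_step fs7 97913 500 98413 s7u184 s7c185 rfl
theorem s7u186 : ∀ v, 1 ≤ v → v ≤ 98900 → fs7 v = true := slots_step fs7 98413 487 98900 s7u185 s7c186 rfl
theorem s7u187 : ∀ v, 1 ≤ v → v ≤ 99403 → fs7 v = true := slots_step fs7 98900 503 99403 s7u186 s7c187 rfl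
theorem s7u188 : ∀ v, 1 ≤ v → v ≤ 99883 → fs7 v = true := slots_step fs7 99403 480 99883 s7u187 s7c188 rfl
theorem s7u189 : ∀ v, 1 ≤ v → v ≤ 100427 → fs7 v = true := slots_step fs7 99883 544 100427 s7u188 s7c189 rfl
theorem s7u190 : ∀ v, 1 ≤ v → v ≤ 100995 → fs7 v = true := slots_step fs7 100427 568 100995 s7u189 s7c190 rfl
theorem s7u191 : ∀ v, 1 ≤ v → v ≤ 101487 → fs7 v = true := slots_step fs7 100995 492 101487 s7u190 s7c191 rfl
theorem s7u192 : ∀ v, 1 ≤ v → v ≤ 101947 → fs7 v = true := slots_step fs7 101487 460 101947 s7u191 s7c192 rfl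
theorem s7u193 : ∀ v, 1 ≤ v → v ≤ 102410 → fs7 v = true := slots_step fs7 101947 463 102410 s7u192 s7c193 rfl
theorem s7u194 : ∀ v, 1 ≤ v → v ≤ 102883 → fs7 v = true := slots_step fs7 102410 473 102883 s7u193 s7c194 rfl
theorem s7u195 : ∀ v, 1 ≤ v → v ≤ 103389 → fs7 v = true := slots_step fs7 102883 506 103389 s7u194 s7c195 rfl
theorem s7u196 : ∀ v, 1 ≤ v → v ≤ 103862 → fs7 v = true := slots_step fs7 103389 473 103862 s7u195 s7c196 rfl
theorem s7u197 : ∀ v, 1 ≤ v → v ≤ 104347 → fs7 v = true := slots_step fs7 103862 485 104347 s7u196 s7c197 rfl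
theorem s7u198 : ∀ v, 1 ≤ v → v ≤ 104856 → fs7 v = true := slots_step fs7 104347 509 104856 s7u197 s7c198 rfl
theorem s7u199 : ∀ v, 1 ≤ v → v ≤ 105398 → fs7 v = true := slots_step fs7 104856 542 105398 s7u198 s7c199 rfl
theorem s7u200 : ∀ v, 1 ≤ v → v ≤ 105898 → fs7 v = true := slots_step fs7 105398 500 105898 s7u199 s7c200 rfl
theorem s7u201 : ∀ v, 1 ≤ v → v ≤ 106378 → fs7 v = true := slots_step fs7 105898 480 106378 s7u200 s7c201 rfl
theorem s7u202 : ∀ v, 1 ≤ v → v ≤ 106900 → fs7 v = true := slots_step fs7 106378 522 106900 s7u201 s7c202 rfl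
theorem s7u203 : ∀ v, 1 ≤ v → v ≤ 107444 → fs7 v = true := slots_step fs7 106900 544 107444 s7u202 s7c203 rfl
theorem s7u204 : ∀ v, 1 ≤ v → v ≤ 107949 → fs7 v = true := slots_step fs7 107444 505 107949 s7u203 s7c204 rfl
theorem s7u205 : ∀ v, 1 ≤ v → v ≤ 108496 → fs7 v = true := slots_step fs7 107949 547 108496 s7u204 s7c205 rfl
theorem s7u206 : ∀ v, 1 ≤ v → v ≤ 109034 → fs7 v = true := slots_step fs7 108496 538 109034 s7u205 s7c206 rfl
theorem s7u207 : ∀ v, 1 ≤ v → v ≤ 109579 → fs7 v = true := slots_step fs7 109034 545 109579 s7u206 s7c207 rfl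
theorem s7u208 : ∀ v, 1 ≤ v → v ≤ 110104 → fs7 v = true := slots_step fs7 109579 525 110104 s7u207 s7c208 rfl
theorem s7u209 : ∀ v, 1 ≤ v → v ≤ 110642 → fs7 v = true := slots_step fs7 110104 538 110642 s7u208 s7c209 rfl
theorem s7u210 : ∀ v, 1 ≤ v → v ≤ 111196 → fs7 v = true := slots_step fs7 110642 554 111196 s7u209 s7c210 rfl
theorem s7u211 : ∀ v, 1 ≤ v → v ≤ 111738 → fs7 v = true := slots_step fs7 111196 542 111738 s7u210 s7c211 rfl
theorem s7u212 : ∀ v, 1 ≤ v → v ≤ 112282 → fs7 v = true := slots_step fs7 111738 544 112282 s7u211 s7c212 rfl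
theorem s7u213 : ∀ v, 1 ≤ v → v ≤ 112850 → fs7 v = true := slots_step fs7 112282 568 112850 s7u212 s7c213 rfl
theorem s7u214 : ∀ v, 1 ≤ v → v ≤ 113400 → fs7 v = true := slots_step fs7 112850 550 113400 s7u213 s7c214 rfl
theorem s7u215 : ∀ v, 1 ≤ v → v ≤ 113921 → fs7 v = true := slots_step fs7 113400 521 113921 s7u214 s7c215 rfl
theorem s7u216 : ∀ v, 1 ≤ v → v ≤ 114424 → fs7 v = true := slots_step fs7 113921 503 114424 s7u215 s7c216 rfl
theorem s7u217 : ∀ v, 1 ≤ v → v ≤ 114940 → fs7 v = true := slots_step fs7 114424 516 114940 s7u216 s7c217 rfl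
theorem s7u218 : ∀ v, 1 ≤ v → v ≤ 115438 → fs7 v = true := slots_step fs7 114940 498 115438 s7u217 s7c218 rfl
theorem s7u219 : ∀ v, 1 ≤ v → v ≤ 115914 → fs7 v = true := slots_step fs7 115438 476 115914 s7u218 s7c219 rfl
theorem s7u220 : ∀ v, 1 ≤ v → v ≤ 116444 → fs7 v = true := slots_step fs7 115914 530 116444 s7u219 s7c220 rfl
theorem s7u221 : ∀ v, 1 ≤ v → v ≤ 116992 → fs7 v = true := slots_step fs7 116444 548 116992 s7u220 s7c221 rfl
theorem s7u222 : ∀ v, 1 ≤ v → v ≤ 117531 → fs7 v = true := slots_step fs7 116992 539 117531 s7u221 s7c222 rfl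
theorem s7u223 : ∀ v, 1 ≤ v → v ≤ 118063 → fs7 v = true := slots_step fs7 117531 532 118063 s7u222 s7c223 rfl
theorem s7u224 : ∀ v, 1 ≤ v → v ≤ 118594 → fs7 v = true := slots_step fs7 118063 531 118594 s7u223 s7c224 rfl
theorem s7u225 : ∀ v, 1 ≤ v → v ≤ 119163 → fs7 v = true := slots_step fs7 118594 569 119163 s7u224 s7c225 rfl
theorem s7u226 : ∀ v, 1 ≤ v → v ≤ 119707 → fs7 v = true := slots_step fs7 119163 544 119707 s7u225 s7c226 rfl
theorem s7u227 : ∀ v, 1 ≤ v → v ≤ 120238 → fs7 v = true := slots_step fs7 119707 531 120238 s7u226 s7c227 rfl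
theorem s7u228 : ∀ v, 1 ≤ v → v ≤ 120758 → fs7 v = true := slots_step fs7 120238 520 120758 s7u227 s7c228 rfl
theorem s7u229 : ∀ v, 1 ≤ v → v ≤ 121230 → fs7 v = true := slots_step fs7 120758 472 121230 s7u228 s7c229 rfl
theorem s7u230 : ∀ v, 1 ≤ v → v ≤ 121764 → fs7 v = true := slots_step fs7 121230 534 121764 s7u229 s7c230 rfl
theorem s7u231 : ∀ v, 1 ≤ v → v ≤ 122271 → fs7 v = true := slots_step fs7 121764 507 122271 s7u230 s7c231 rfl
theorem s7u232 : ∀ v, 1 ≤ v → v ≤ 122784 → fs7 v = true := slots_step fs7 122271 513 122784 s7u231 s7c232 rfl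
theorem s7u233 : ∀ v, 1 ≤ v → v ≤ 123309 → fs7 v = true := slots_step fs7 122784 525 123309 s7u232 s7c233 rfl
theorem s7u234 : ∀ v, 1 ≤ v → v ≤ 123825 → fs7 v = true := slots_step fs7 123309 516 123825 s7u233 s7c234 rfl
theorem s7u235 : ∀ v, 1 ≤ v → v ≤ 124344 → fs7 v = true := slots_step fs7 123825 519 124344 s7u234 s7c235 rfl
theorem s7u236 : ∀ v, 1 ≤ v → v ≤ 124813 → fs7 v = true := slots_step fs7 124344 469 124813 s7u235 s7c236 rfl
theorem s7u237 : ∀ v, 1 ≤ v → v ≤ 125323 → fs7 v = true := slots_step fs7 124813 510 125323 s7u236 s7c237 rfl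
theorem s7u238 : ∀ v, 1 ≤ v → v ≤ 125818 → fs7 v = true := slots_step fs7 125323 495 125818 s7u237 s7c238 rfl
theorem s7u239 : ∀ v, 1 ≤ v → v ≤ 126337 → fs7 v = true := slots_step fs7 125818 519 126337 s7u238 s7c239 rfl
theorem s7u240 : ∀ v, 1 ≤ v → v ≤ 126930 → fs7 v = true := slots_step fs7 126337 593 126930 s7u239 s7c240 rfl
theorem s7u241 : ∀ v, 1 ≤ v → v ≤ 127540 → fs7 v = true := slots_step fs7 126930 610 127540 s7u240 s7c241 rfl
theorem s7u242 : ∀ v, 1 ≤ v → v ≤ 128088 → fs7 v = true := slots_step fs7 127540 548 128088 s7u241 s7c242 rfl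
theorem s7u243 : ∀ v, 1 ≤ v → v ≤ 128658 → fs7 v = true := slots_step fs7 128088 570 128658 s7u242 s7c243 rfl
theorem s7u244 : ∀ v, 1 ≤ v → v ≤ 129230 → fs7 v = true := slots_step fs7 128658 572 129230 s7u243 s7c244 rfl
theorem s7u245 : ∀ v, 1 ≤ v → v ≤ 129783 → fs7 v = true := slots_step fs7 129230 553 129783 s7u244 s7c245 rfl
theorem s7u246 : ∀ v, 1 ≤ v → v ≤ 130405 → fs7 v = true := slots_step fs7 129783 622 130405 s7u245 s7c246 rfl
theorem s7u247 : ∀ v, 1 ≤ v → v ≤ 131032 → fs7 v = true := slots_step fs7 130405 627 131032 s7u246 s7c247 rfl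
theorem s7u248 : ∀ v, 1 ≤ v → v ≤ 131616 → fs7 v = true := slots_step fs7 131032 584 131616 s7u247 s7c248 rfl
theorem s7u249 : ∀ v, 1 ≤ v → v ≤ 132182 → fs7 v = true := slots_step fs7 131616 566 132182 s7u248 s7c249 rfl
theorem s7u250 : ∀ v, 1 ≤ v → v ≤ 132738 → fs7 v = true := slots_step fs7 132182 556 132738 s7u249 s7c250 rfl
theorem s7u251 : ∀ v, 1 ≤ v → v ≤ 133332 → fs7 v = true := slots_step fs7 132738 594 133332 s7u250 s7c251 rfl
theorem s7u252 : ∀ v, 1 ≤ v → v ≤ 133889 → fs7 v = true := slots_step fs7 133332 557 133889 s7u251 s7c252 rfl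
theorem s7u253 : ∀ v, 1 ≤ v → v ≤ 134437 → fs7 v = true := slots_step fs7 133889 548 134437 s7u252 s7c253 rfl
theorem s7u254 : ∀ v, 1 ≤ v → v ≤ 135002 → fs7 v = true := slots_step fs7 134437 565 135002 s7u253 s7c254 rfl
theorem s7u255 : ∀ v, 1 ≤ v → v ≤ 135598 → fs7 v = true := slots_step fs7 135002 596 135598 s7u254 s7c255 rfl
theorem s7u256 : ∀ v, 1 ≤ v → v ≤ 136172 → fs7 v = true := slots_step fs7 135598 574 136172 s7u255 s7c256 rfl
theorem s7u257 : ∀ v, 1 ≤ v → v ≤ 136769 → fs7 v = true := slots_step fs7 136172 597 136769 s7u256 s7c257 rfl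
theorem s7u258 : ∀ v, 1 ≤ v → v ≤ 137361 → fs7 v = true := slots_step fs7 136769 592 137361 s7u257 s7c258 rfl
theorem s7u259 : ∀ v, 1 ≤ v → v ≤ 137894 → fs7 v = true := slots_step fs7 137361 533 137894 s7u258 s7c259 rfl
theorem s7u260 : ∀ v, 1 ≤ v → v ≤ 138461 → fs7 v = true := slots_step fs7 137894 567 138461 s7u259 s7c260 rfl
theorem s7u261 : ∀ v, 1 ≤ v → v ≤ 138998 → fs7 v = true := slots_step fs7 138461 537 138998 s7u260 s7c261 rfl
theorem s7u262 : ∀ v, 1 ≤ v → v ≤ 139556 → fs7 v = true := slots_step fs7 138998 558 139556 s7u261 s7c262 rfl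
theorem s7u263 : ∀ v, 1 ≤ v → v ≤ 140133 → fs7 v = true := slots_step fs7 139556 577 140133 s7u262 s7c263 rfl
theorem s7u264 : ∀ v, 1 ≤ v → v ≤ 140771 → fs7 v = true := slots_step fs7 140133 638 140771 s7u263 s7c264 rfl
theorem s7u265 : ∀ v, 1 ≤ v → v ≤ 141289 → fs7 v = true := slots_step fs7 140771 518 141289 s7u264 s7c265 rfl
theorem s7u266 : ∀ v, 1 ≤ v → v ≤ 141824 → fs7 v = true := slots_step fs7 141289 535 141824 s7u265 s7c266 rfl
theorem s7u267 : ∀ v, 1 ≤ v → v ≤ 142418 → fs7 v = true := slots_step fs7 141824 594 142418 s7u266 s7c267 rfl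
theorem s7u268 : ∀ v, 1 ≤ v → v ≤ 142995 → fs7 v = true := slots_step fs7 142418 577 142995 s7u267 s7c268 rfl
theorem s7u269 : ∀ v, 1 ≤ v → v ≤ 143622 → fs7 v = true := slots_step fs7 142995 627 143622 s7u268 s7c269 rfl
theorem s7u270 : ∀ v, 1 ≤ v → v ≤ 144173 → fs7 v = true := slots_step fs7 143622 551 144173 s7u269 s7c270 rfl
theorem s7u271 : ∀ v, 1 ≤ v → v ≤ 144708 → fs7 v = true := slots_step fs7 144173 535 144708 s7u270 s7c271 rfl
theorem s7u272 : ∀ v, 1 ≤ v → v ≤ 145344 → fs7 v = true := slots_step fs7 144708 636 145344 s7u271 s7c272 rfl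
theorem s7u273 : ∀ v, 1 ≤ v → v ≤ 146000 → fs7 v = true := slots_step fs7 145344 656 146000 s7u272 s7c273 rfl
theorem s7u274 : ∀ v, 1 ≤ v → v ≤ 146585 → fs7 v = true := slots_step fs7 146000 585 146585 s7u273 s7c274 rfl
theorem s7u275 : ∀ v, 1 ≤ v → v ≤ 147163 → fs7 v = true := slots_step fs7 146585 578 147163 s7u274 s7c275 rfl
theorem s7u276 : ∀ v, 1 ≤ v → v ≤ 147769 → fs7 v = true := slots_step fs7 147163 606 147769 s7u275 s7c276 rfl
theorem s7u277 : ∀ v, 1 ≤ v → v ≤ 148495 → fs7 v = true := slots_step fs7 147769 726 148495 s7u276 s7c277 rfl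
theorem s7u278 : ∀ v, 1 ≤ v → v ≤ 149082 → fs7 v = true := slots_step fs7 148495 587 149082 s7u277 s7c278 rfl
theorem s7u279 : ∀ v, 1 ≤ v → v ≤ 149781 → fs7 v = true := slots_step fs7 149082 699 149781 s7u278 s7c279 rfl
theorem s7u280 : ∀ v, 1 ≤ v → v ≤ 150396 → fs7 v = true := slots_step fs7 149781 615 150396 s7u279 s7c280 rfl
theorem s7u281 : ∀ v, 1 ≤ v → v ≤ 151123 → fs7 v = true := slots_step fs7 150396 727 151123 s7u280 s7c281 rfl
theorem s7u282 : ∀ v, 1 ≤ v → v ≤ 151776 → fs7 v = true := slots_step fs7 151123 653 151776 s7u281 s7c282 rfl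
theorem s7u283 : ∀ v, 1 ≤ v → v ≤ 152354 → fs7 v = true := slots_step fs7 151776 578 152354 s7u282 s7c283 rfl
theorem s7u284 : ∀ v, 1 ≤ v → v ≤ 152955 → fs7 v = true := slots_step fs7 152354 601 152955 s7u283 s7c284 rfl
theorem s7u285 : ∀ v, 1 ≤ v → v ≤ 153590 → fs7 v = true := slots_step fs7 152955 635 153590 s7u284 s7c285 rfl
theorem s7u286 : ∀ v, 1 ≤ v → v ≤ 154230 → fs7 v = true := slots_step fs7 153590 640 154230 s7u285 s7c286 rfl
theorem s7u287 : ∀ v, 1 ≤ v → v ≤ 154895 → fs7 v = true := slots_step fs7 154230 665 154895 s7u286 s7c287 rfl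
theorem s7u288 : ∀ v, 1 ≤ v → v ≤ 155459 → fs7 v = true := slots_step fs7 154895 564 155459 s7u287 s7c288 rfl
theorem s7u289 : ∀ v, 1 ≤ v → v ≤ 156090 → fs7 v = true := slots_step fs7 155459 631 156090 s7u288 s7c289 rfl
theorem s7u290 : ∀ v, 1 ≤ v → v ≤ 156718 → fs7 v = true := slots_step fs7 156090 628 156718 s7u289 s7c290 rfl
theorem s7u291 : ∀ v, 1 ≤ v → v ≤ 157323 → fs7 v = true := slots_step fs7 156718 605 157323 s7u290 s7c291 rfl
theorem s7u292 : ∀ v, 1 ≤ v → v ≤ 157943 → fs7 v = true := slots_step fs7 157323 620 157943 s7u291 s7c292 rfl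
theorem s7u293 : ∀ v, 1 ≤ v → v ≤ 158644 → fs7 v = true := slots_step fs7 157943 701 158644 s7u292 s7c293 rfl
theorem s7u294 : ∀ v, 1 ≤ v → v ≤ 159236 → fs7 v = true := slots_step fs7 158644 592 159236 s7u293 s7c294 rfl
theorem s7u295 : ∀ v, 1 ≤ v → v ≤ 159800 → fs7 v = true := slots_step fs7 159236 564 159800 s7u294 s7c295 rfl
theorem s7u296 : ∀ v, 1 ≤ v → v ≤ 160440 → fs7 v = true := slots_step fs7 159800 640 160440 s7u295 s7c296 rfl
theorem s7u297 : ∀ v, 1 ≤ v → v ≤ 161022 → fs7 v = true := slots_step fs7 160440 582 161022 s7u296 s7c297 rfl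
theorem s7u298 : ∀ v, 1 ≤ v → v ≤ 161575 → fs7 v = true := slots_step fs7 161022 553 161575 s7u297 s7c298 rfl
theorem s7u299 : ∀ v, 1 ≤ v → v ≤ 162110 → fs7 v = true := slots_step fs7 161575 535 162110 s7u298 s7c299 rfl
theorem s7u300 : ∀ v, 1 ≤ v → v ≤ 162556 → fs7 v = true := slots_step fs7 162110 446 162556 s7u299 s7c300 rfl
theorem s7u301 : ∀ v, 1 ≤ v → v ≤ 162979 → fs7 v = true := slots_step fs7 162556 423 162979 s7u300 s7c301 rfl
theorem s7u302 : ∀ v, 1 ≤ v → v ≤ 163429 → fs7 v = true := slots_step fs7 162979 450 163429 s7u301 s7c302 rfl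
theorem s7u303 : ∀ v, 1 ≤ v → v ≤ 163861 → fs7 v = true := slots_step fs7 163429 432 163861 s7u302 s7c303 rfl
theorem s7u304 : ∀ v, 1 ≤ v → v ≤ 164300 → fs7 v = true := slots_step fs7 163861 439 164300 s7u303 s7c304 rfl
theorem s7u305 : ∀ v, 1 ≤ v → v ≤ 164739 → fs7 v = true := slots_step fs7 164300 439 164739 s7u304 s7c305 rfl
theorem s7u306 : ∀ v, 1 ≤ v → v ≤ 165194 → fs7 v = true := slots_step fs7 164739 455 165194 s7u305 s7c306 rfl
theorem s7u307 : ∀ v, 1 ≤ v → v ≤ 165640 → fs7 v = true := slots_step fs7 165194 446 165640 s7u306 s7c307 rfl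
theorem s7u308 : ∀ v, 1 ≤ v → v ≤ 166080 → fs7 v = true := slots_step fs7 165640 440 166080 s7u307 s7c308 rfl
theorem s7u309 : ∀ v, 1 ≤ v → v ≤ 166511 → fs7 v = true := slots_step fs7 166080 431 166511 s7u308 s7c309 rfl
theorem s7u310 : ∀ v, 1 ≤ v → v ≤ 166948 → fs7 v = true := slots_step fs7 166511 437 166948 s7u309 s7c310 rfl
theorem s7u311 : ∀ v, 1 ≤ v → v ≤ 167399 → fs7 v = true := slots_step fs7 166948 451 167399 s7u310 s7c311 rfl
theorem s7u312 : ∀ v, 1 ≤ v → v ≤ 167831 → fs7 v = true := slots_step fs7 167399 432 167831 s7u311 s7c312 rfl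
theorem s7u313 : ∀ v, 1 ≤ v → v ≤ 168278 → fs7 v = true := slots_step fs7 167831 447 168278 s7u312 s7c313 rfl
theorem s7u314 : ∀ v, 1 ≤ v → v ≤ 168718 → fs7 v = true := slots_step fs7 168278 440 168718 s7u313 s7c314 rfl
theorem s7u315 : ∀ v, 1 ≤ v → v ≤ 169156 → fs7 v = true := slots_step fs7 168718 438 169156 s7u314 s7c315 rfl
theorem s7u316 : ∀ v, 1 ≤ v → v ≤ 169594 → fs7 v = true := slots_step fs7 169156 438 169594 s7u315 s7c316 rfl
theorem s7u317 : ∀ v, 1 ≤ v → v ≤ 170024 → fs7 v = true := slots_step fs7 169594 430 170024 s7u316 s7c317 rfl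
theorem s7u318 : ∀ v, 1 ≤ v → v ≤ 170451 → fs7 v = true := slots_step fs7 170024 427 170451 s7u317 s7c318 rfl
theorem s7u319 : ∀ v, 1 ≤ v → v ≤ 170872 → fs7 v = true := slots_step fs7 170451 421 170872 s7u318 s7c319 rfl
theorem s7u320 : ∀ v, 1 ≤ v → v ≤ 171309 → fs7 v = true := slots_step fs7 170872 437 171309 s7u319 s7c320 rfl
theorem s7u321 : ∀ v, 1 ≤ v → v ≤ 171726 → fs7 v = true := slots_step fs7 171309 417 171726 s7u320 s7c321 rfl
theorem s7u322 : ∀ v, 1 ≤ v → v ≤ 172161 → fs7 v = true := slots_step fs7 171726 435 172161 s7u321 s7c322 rfl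
theorem s7u323 : ∀ v, 1 ≤ v → v ≤ 172583 → fs7 v = true := slots_step fs7 172161 422 172583 s7u322 s7c323 rfl
theorem s7u324 : ∀ v, 1 ≤ v → v ≤ 173007 → fs7 v = true := slots_step fs7 172583 424 173007 s7u323 s7c324 rfl
theorem s7u325 : ∀ v, 1 ≤ v → v ≤ 173451 → fs7 v = true := slots_step fs7 173007 444 173451 s7u324 s7c325 rfl
theorem s7u326 : ∀ v, 1 ≤ v → v ≤ 173863 → fs7 v = true := slots_step fs7 173451 412 173863 s7u325 s7c326 rfl
theorem s7u327 : ∀ v, 1 ≤ v → v ≤ 174287 → fs7 v = true := slots_step fs7 173863 424 174287 s7u326 s7c327 rfl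
theorem s7u328 : ∀ v, 1 ≤ v → v ≤ 174713 → fs7 v = true := slots_step fs7 174287 426 174713 s7u327 s7c328 rfl
theorem s7u329 : ∀ v, 1 ≤ v → v ≤ 175128 → fs7 v = true := slots_step fs7 174713 415 175128 s7u328 s7c329 rfl
theorem s7u330 : ∀ v, 1 ≤ v → v ≤ 175538 → fs7 v = true := slots_step fs7 175128 410 175538 s7u329 s7c330 rfl
theorem s7u331 : ∀ v, 1 ≤ v → v ≤ 175937 → fs7 v = true := slots_step fs7 175538 399 175937 s7u330 s7c331 rfl
theorem s7u332 : ∀ v, 1 ≤ v → v ≤ 176369 → fs7 v = true := slots_step fs7 175937 432 176369 s7u331 s7c332 rfl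
theorem s7u333 : ∀ v, 1 ≤ v → v ≤ 176802 → fs7 v = true := slots_step fs7 176369 433 176802 s7u332 s7c333 rfl
theorem s7u334 : ∀ v, 1 ≤ v → v ≤ 177220 → fs7 v = true := slots_step fs7 176802 418 177220 s7u333 s7c334 rfl
theorem s7u335 : ∀ v, 1 ≤ v → v ≤ 177650 → fs7 v = true := slots_step fs7 177220 430 177650 s7u334 s7c335 rfl
theorem s7u336 : ∀ v, 1 ≤ v → v ≤ 178078 → fs7 v = true := slots_step fs7 177650 428 178078 s7u335 s7c336 rfl
theorem s7u337 : ∀ v, 1 ≤ v → v ≤ 178486 → fs7 v = true := slots_step fs7 178078 408 178486 s7u336 s7c337 rfl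
theorem s7u338 : ∀ v, 1 ≤ v → v ≤ 178910 → fs7 v = true := slots_step fs7 178486 424 178910 s7u337 s7c338 rfl
theorem s7u339 : ∀ v, 1 ≤ v → v ≤ 179321 → fs7 v = true := slots_step fs7 178910 411 179321 s7u338 s7c339 rfl
theorem s7u340 : ∀ v, 1 ≤ v → v ≤ 179734 → fs7 v = true := slots_step fs7 179321 413 179734 s7u339 s7c340 rfl
theorem s7u341 : ∀ v, 1 ≤ v → v ≤ 180153 → fs7 v = true := slots_step fs7 179734 419 180153 s7u340 s7c341 rfl
theorem s7u342 : ∀ v, 1 ≤ v → v ≤ 180566 → fs7 v = true := slots_step fs7 180153 413 180566 s7u341 s7c342 rfl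
theorem s7u343 : ∀ v, 1 ≤ v → v ≤ 180979 → fs7 v = true := slots_step fs7 180566 413 180979 s7u342 s7c343 rfl
theorem s7u344 : ∀ v, 1 ≤ v → v ≤ 181387 → fs7 v = true := slots_step fs7 180979 408 181387 s7u343 s7c344 rfl
theorem s7u345 : ∀ v, 1 ≤ v → v ≤ 181788 → fs7 v = true := slots_step fs7 181387 401 181788 s7u344 s7c345 rfl
theorem s7u346 : ∀ v, 1 ≤ v → v ≤ 182223 → fs7 v = true := slots_step fs7 181788 435 182223 s7u345 s7c346 rfl
theorem s7u347 : ∀ v, 1 ≤ v → v ≤ 182649 → fs7 v = true := slots_step fs7 182223 426 182649 s7u346 s7c347 rfl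
theorem s7u348 : ∀ v, 1 ≤ v → v ≤ 183056 → fs7 v = true := slots_step fs7 182649 407 183056 s7u347 s7c348 rfl
theorem s7u349 : ∀ v, 1 ≤ v → v ≤ 183449 → fs7 v = true := slots_step fs7 183056 393 183449 s7u348 s7c349 rfl
theorem s7u350 : ∀ v, 1 ≤ v → v ≤ 183848 → fs7 v = true := slots_step fs7 183449 399 183848 s7u349 s7c350 rfl
theorem s7u351 : ∀ v, 1 ≤ v → v ≤ 184265 → fs7 v = true := slots_step fs7 183848 417 184265 s7u350 s7c351 rfl
theorem s7u352 : ∀ v, 1 ≤ v → v ≤ 184670 → fs7 v = true := slots_step fs7 184265 405 184670 s7u351 s7c352 rfl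
theorem s7u353 : ∀ v, 1 ≤ v → v ≤ 185080 → fs7 v = true := slots_step fs7 184670 410 185080 s7u352 s7c353 rfl
theorem s7u354 : ∀ v, 1 ≤ v → v ≤ 185505 → fs7 v = true := slots_step fs7 185080 425 185505 s7u353 s7c354 rfl
theorem s7u355 : ∀ v, 1 ≤ v → v ≤ 185925 → fs7 v = true := slots_step fs7 185505 420 185925 s7u354 s7c355 rfl
theorem s7u356 : ∀ v, 1 ≤ v → v ≤ 186338 → fs7 v = true := slots_step fs7 185925 413 186338 s7u355 s7c356 rfl
theorem s7u357 : ∀ v, 1 ≤ v → v ≤ 186769 → fs7 v = true := slots_step fs7 186338 431 186769 s7u356 s7c357 rfl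
theorem s7u358 : ∀ v, 1 ≤ v → v ≤ 187176 → fs7 v = true := slots_step fs7 186769 407 187176 s7u357 s7c358 rfl
theorem s7u359 : ∀ v, 1 ≤ v → v ≤ 187597 → fs7 v = true := slots_step fs7 187176 421 187597 s7u358 s7c359 rfl
theorem s7u360 : ∀ v, 1 ≤ v → v ≤ 188016 → fs7 v = true := slots_step fs7 187597 419 188016 s7u359 s7c360 rfl
theorem s7u361 : ∀ v, 1 ≤ v → v ≤ 188416 → fs7 v = true := slots_step fs7 188016 400 188416 s7u360 s7c361 rfl
theorem s7u362 : ∀ v, 1 ≤ v → v ≤ 188825 → fs7 v = true := slots_step fs7 188416 409 188825 s7u361 s7c362 rfl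
theorem s7u363 : ∀ v, 1 ≤ v → v ≤ 189235 → fs7 v = true := slots_step fs7 188825 410 189235 s7u362 s7c363 rfl
theorem s7u364 : ∀ v, 1 ≤ v → v ≤ 189648 → fs7 v = true := slots_step fs7 189235 413 189648 s7u363 s7c364 rfl
theorem s7u365 : ∀ v, 1 ≤ v → v ≤ 190037 → fs7 v = true := slots_step fs7 189648 389 190037 s7u364 s7c365 rfl
theorem s7u366 : ∀ v, 1 ≤ v → v ≤ 190437 → fs7 v = true := slots_step fs7 190037 400 190437 s7u365 s7c366 rfl
theorem s7u367 : ∀ v, 1 ≤ v → v ≤ 190836 → fs7 v = true := slots_step fs7 190437 399 190836 s7u366 s7c367 rfl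
theorem s7u368 : ∀ v, 1 ≤ v → v ≤ 191242 → fs7 v = true := slots_step fs7 190836 406 191242 s7u367 s7c368 rfl
theorem s7u369 : ∀ v, 1 ≤ v → v ≤ 191652 → fs7 v = true := slots_step fs7 191242 410 191652 s7u368 s7c369 rfl
theorem s7u370 : ∀ v, 1 ≤ v → v ≤ 192061 → fs7 v = true := slots_step fs7 191652 409 192061 s7u369 s7c370 rfl
theorem s7u371 : ∀ v, 1 ≤ v → v ≤ 192461 → fs7 v = true := slots_step fs7 192061 400 192461 s7u370 s7c371 rfl
theorem s7u372 : ∀ v, 1 ≤ v → v ≤ 192875 → fs7 v = true := slots_step fs7 192461 414 192875 s7u371 s7c372 rfl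
theorem s7u373 : ∀ v, 1 ≤ v → v ≤ 193271 → fs7 v = true := slots_step fs7 192875 396 193271 s7u372 s7c373 rfl
theorem s7u374 : ∀ v, 1 ≤ v → v ≤ 193669 → fs7 v = true := slots_step fs7 193271 398 193669 s7u373 s7c374 rfl
theorem s7u375 : ∀ v, 1 ≤ v → v ≤ 194062 → fs7 v = true := slots_step fs7 193669 393 194062 s7u374 s7c375 rfl
theorem s7u376 : ∀ v, 1 ≤ v → v ≤ 194472 → fs7 v = true := slots_step fs7 194062 410 194472 s7u375 s7c376 rfl
theorem s7u377 : ∀ v, 1 ≤ v → v ≤ 194876 → fs7 v = true := slots_step fs7 194472 404 194876 s7u376 s7c377 rfl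
theorem s7u378 : ∀ v, 1 ≤ v → v ≤ 195275 → fs7 v = true := slots_step fs7 194876 399 195275 s7u377 s7c378 rfl
theorem s7u379 : ∀ v, 1 ≤ v → v ≤ 195673 → fs7 v = true := slots_step fs7 195275 398 195673 s7u378 s7c379 rfl
theorem s7u380 : ∀ v, 1 ≤ v → v ≤ 196077 → fs7 v = true := slots_step fs7 195673 404 196077 s7u379 s7c380 rfl
theorem s7u381 : ∀ v, 1 ≤ v → v ≤ 196473 → fs7 v = true := slots_step fs7 196077 396 196473 s7u380 s7c381 rfl
theorem s7u382 : ∀ v, 1 ≤ v → v ≤ 196870 → fs7 v = true := slots_step fs7 196473 397 196870 s7u381 s7c382 rfl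
theorem s7u383 : ∀ v, 1 ≤ v → v ≤ 197265 → fs7 v = true := slots_step fs7 196870 395 197265 s7u382 s7c383 rfl
theorem s7u384 : ∀ v, 1 ≤ v → v ≤ 197663 → fs7 v = true := slots_step fs7 197265 398 197663 s7u383 s7c384 rfl
theorem s7u385 : ∀ v, 1 ≤ v → v ≤ 198050 → fs7 v = true := slots_step fs7 197663 387 198050 s7u384 s7c385 rfl
theorem s7u386 : ∀ v, 1 ≤ v → v ≤ 198439 → fs7 v = true := slots_step fs7 198050 389 198439 s7u385 s7c386 rfl
theorem s7u387 : ∀ v, 1 ≤ v → v ≤ 198847 → fs7 v = true := slots_step fs7 198439 408 198847 s7u386 s7c387 rfl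
theorem s7u388 : ∀ v, 1 ≤ v → v ≤ 199250 → fs7 v = true := slots_step fs7 198847 403 199250 s7u387 s7c388 rfl
theorem s7u389 : ∀ v, 1 ≤ v → v ≤ 199639 → fs7 v = true := slots_step fs7 199250 389 199639 s7u388 s7c389 rfl
theorem s7u390 : ∀ v, 1 ≤ v → v ≤ 200029 → fs7 v = true := slots_step fs7 199639 390 200029 s7u389 s7c390 rfl
theorem s7u391 : ∀ v, 1 ≤ v → v ≤ 200426 → fs7 v = true := slots_step fs7 200029 397 200426 s7u390 s7c391 rfl
theorem s7u392 : ∀ v, 1 ≤ v → v ≤ 200815 → fs7 v = true := slots_step fs7 200426 389 200815 s7u391 s7c392 rfl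
theorem s7u393 : ∀ v, 1 ≤ v → v ≤ 201201 → fs7 v = true := slots_step fs7 200815 386 201201 s7u392 s7c393 rfl
theorem s7u394 : ∀ v, 1 ≤ v → v ≤ 201581 → fs7 v = true := slots_step fs7 201201 380 201581 s7u393 s7c394 rfl
theorem s7u395 : ∀ v, 1 ≤ v → v ≤ 201582 → fs7 v = true := slots_step fs7 201581 1 201582 s7u394 s7c395 rfl
theorem s8u0 : ∀ v, 1 ≤ v → v ≤ 503 → fs8 v = true := slots_step fs8 0 503 503 (slots_zero fs8) s8c0 rfl
theorem s8u1 : ∀ v, 1 ≤ v → v ≤ 1437 → fs8 v = true := slots_step fs8 503 934 1437 s8u0 s8c1 rfl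
theorem s8u2 : ∀ v, 1 ≤ v → v ≤ 2216 → fs8 v = true := slots_step fs8 1437 779 2216 s8u1 s8c2 rfl
theorem s8u3 : ∀ v, 1 ≤ v → v ≤ 2860 → fs8 v = true := slots_step fs8 2216 644 2860 s8u2 s8c3 rfl
theorem s8u4 : ∀ v, 1 ≤ v → v ≤ 3570 → fs8 v = true := slots_step fs8 2860 710 3570 s8u3 s8c4 rfl
theorem s8u5 : ∀ v, 1 ≤ v → v ≤ 4189 → fs8 v = true := slots_step fs8 3570 619 4189 s8u4 s8c5 rfl
theorem s8u6 : ∀ v, 1 ≤ v → v ≤ 4680 → fs8 v = true := slots_step fs8 4189 491 4680 s8u5 s8c6 rfl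
theorem s8u7 : ∀ v, 1 ≤ v → v ≤ 5300 → fs8 v = true := slots_step fs8 4680 620 5300 s8u6 s8c7 rfl
theorem s8u8 : ∀ v, 1 ≤ v → v ≤ 5978 → fs8 v = true := slots_step fs8 5300 678 5978 s8u7 s8c8 rfl
theorem s8u9 : ∀ v, 1 ≤ v → v ≤ 6688 → fs8 v = true := slots_step fs8 5978 710 6688 s8u8 s8c9 rfl
theorem s8u10 : ∀ v, 1 ≤ v → v ≤ 7366 → fs8 v = true := slots_step fs8 6688 678 7366 s8u9 s8c10 rfl
theorem s8u11 : ∀ v, 1 ≤ v → v ≤ 8064 → fs8 v = true := slots_step fs8 7366 698 8064 s8u10 s8c11 rfl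
theorem s8u12 : ∀ v, 1 ≤ v → v ≤ 8597 → fs8 v = true := slots_step fs8 8064 533 8597 s8u11 s8c12 rfl
theorem s8u13 : ∀ v, 1 ≤ v → v ≤ 9237 → fs8 v = true := slots_step fs8 8597 640 9237 s8u12 s8c13 rfl
theorem s8u14 : ∀ v, 1 ≤ v → v ≤ 9738 → fs8 v = true := slots_step fs8 9237 501 9738 s8u13 s8c14 rfl
theorem s8u15 : ∀ v, 1 ≤ v → v ≤ 10188 → fs8 v = true := slots_step fs8 9738 450 10188 s8u14 s8c15 rfl
theorem s8u16 : ∀ v, 1 ≤ v → v ≤ 10818 → fs8 v = true := slots_step fs8 10188 630 10818 s8u15 s8c16 rfl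
theorem s8u17 : ∀ v, 1 ≤ v → v ≤ 11566 → fs8 v = true := slots_step fs8 10818 748 11566 s8u16 s8c17 rfl
theorem s8u18 : ∀ v, 1 ≤ v → v ≤ 12354 → fs8 v = true := slots_step fs8 11566 788 12354 s8u17 s8c18 rfl
theorem s8u19 : ∀ v, 1 ≤ v → v ≤ 12956 → fs8 v = true := slots_step fs8 12354 602 12956 s8u18 s8c19 rfl
theorem s8u20 : ∀ v, 1 ≤ v → v ≤ 13757 → fs8 v = true := slots_step fs8 12956 801 13757 s8u19 s8c20 rfl
theorem s8u21 : ∀ v, 1 ≤ v → v ≤ 14689 → fs8 v = true := slots_step fs8 13757 932 14689 s8u20 s8c21 rfl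
theorem s8u22 : ∀ v, 1 ≤ v → v ≤ 15303 → fs8 v = true := slots_step fs8 14689 614 15303 s8u21 s8c22 rfl
theorem s8u23 : ∀ v, 1 ≤ v → v ≤ 15822 → fs8 v = true := slots_step fs8 15303 519 15822 s8u22 s8c23 rfl
theorem s8u24 : ∀ v, 1 ≤ v → v ≤ 16485 → fs8 v = true := slots_step fs8 15822 663 16485 s8u23 s8c24 rfl
theorem s8u25 : ∀ v, 1 ≤ v → v ≤ 17194 → fs8 v = true := slots_step fs8 16485 709 17194 s8u24 s8c25 rfl
theorem s8u26 : ∀ v, 1 ≤ v → v ≤ 17699 → fs8 v = true := slots_step fs8 17194 505 17699 s8u25 s8c26 rfl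
theorem s8u27 : ∀ v, 1 ≤ v → v ≤ 18285 → fs8 v = true := slots_step fs8 17699 586 18285 s8u26 s8c27 rfl
theorem s8u28 : ∀ v, 1 ≤ v → v ≤ 18895 → fs8 v = true := slots_step fs8 18285 610 18895 s8u27 s8c28 rfl
theorem s8u29 : ∀ v, 1 ≤ v → v ≤ 19519 → fs8 v = true := slots_step fs8 18895 624 19519 s8u28 s8c29 rfl
theorem s8u30 : ∀ v, 1 ≤ v → v ≤ 20019 → fs8 v = true := slots_step fs8 19519 500 20019 s8u29 s8c30 rfl
theorem s8u31 : ∀ v, 1 ≤ v → v ≤ 20516 → fs8 v = true := slots_step fs8 20019 497 20516 s8u30 s8c31 rfl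
theorem s8u32 : ∀ v, 1 ≤ v → v ≤ 20979 → fs8 v = true := slots_step fs8 20516 463 20979 s8u31 s8c32 rfl
theorem s8u33 : ∀ v, 1 ≤ v → v ≤ 21467 → fs8 v = true := slots_step fs8 20979 488 21467 s8u32 s8c33 rfl
theorem s8u34 : ∀ v, 1 ≤ v → v ≤ 21988 → fs8 v = true := slots_step fs8 21467 521 21988 s8u33 s8c34 rfl
theorem s8u35 : ∀ v, 1 ≤ v → v ≤ 22564 → fs8 v = true := slots_step fs8 21988 576 22564 s8u34 s8c35 rfl
theorem s8u36 : ∀ v, 1 ≤ v → v ≤ 22987 → fs8 v = true := slots_step fs8 22564 423 22987 s8u35 s8c36 rfl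
theorem s8u37 : ∀ v, 1 ≤ v → v ≤ 23814 → fs8 v = true := slots_step fs8 22987 827 23814 s8u36 s8c37 rfl
theorem s8u38 : ∀ v, 1 ≤ v → v ≤ 24766 → fs8 v = true := slots_step fs8 23814 952 24766 s8u37 s8c38 rfl
theorem s8u39 : ∀ v, 1 ≤ v → v ≤ 25694 → fs8 v = true := slots_step fs8 24766 928 25694 s8u38 s8c39 rfl
theorem s8u40 : ∀ v, 1 ≤ v → v ≤ 26401 → fs8 v = true := slots_step fs8 25694 707 26401 s8u39 s8c40 rfl
theorem s8u41 : ∀ v, 1 ≤ v → v ≤ 26870 → fs8 v = true := slots_step fs8 26401 469 26870 s8u40 s8c41 rfl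
theorem s8u42 : ∀ v, 1 ≤ v → v ≤ 27539 → fs8 v = true := slots_step fs8 26870 669 27539 s8u41 s8c42 rfl
theorem s8u43 : ∀ v, 1 ≤ v → v ≤ 28307 → fs8 v = true := slots_step fs8 27539 768 28307 s8u42 s8c43 rfl
theorem s8u44 : ∀ v, 1 ≤ v → v ≤ 29176 → fs8 v = true := slots_step fs8 28307 869 29176 s8u43 s8c44 rfl
theorem s8u45 : ∀ v, 1 ≤ v → v ≤ 30068 → fs8 v = true := slots_step fs8 29176 892 30068 s8u44 s8c45 rfl
theorem s8u46 : ∀ v, 1 ≤ v → v ≤ 30780 → fs8 v = true := slots_step fs8 30068 712 30780 s8u45 s8c46 rfl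
theorem s8u47 : ∀ v, 1 ≤ v → v ≤ 31397 → fs8 v = true := slots_step fs8 30780 617 31397 s8u46 s8c47 rfl
theorem s8u48 : ∀ v, 1 ≤ v → v ≤ 32139 → fs8 v = true := slots_step fs8 31397 742 32139 s8u47 s8c48 rfl
theorem s8u49 : ∀ v, 1 ≤ v → v ≤ 32777 → fs8 v = true := slots_step fs8 32139 638 32777 s8u48 s8c49 rfl
theorem s8u50 : ∀ v, 1 ≤ v → v ≤ 33396 → fs8 v = true := slots_step fs8 32777 619 33396 s8u49 s8c50 rfl
theorem s8u51 : ∀ v, 1 ≤ v → v ≤ 34112 → fs8 v = true := slots_step fs8 33396 716 34112 s8u50 s8c51 rfl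
theorem s8u52 : ∀ v, 1 ≤ v → v ≤ 34758 → fs8 v = true := slots_step fs8 34112 646 34758 s8u51 s8c52 rfl
theorem s8u53 : ∀ v, 1 ≤ v → v ≤ 35250 → fs8 v = true := slots_step fs8 34758 492 35250 s8u52 s8c53 rfl
theorem s8u54 : ∀ v, 1 ≤ v → v ≤ 35852 → fs8 v = true := slots_step fs8 35250 602 35852 s8u53 s8c54 rfl
theorem s8u55 : ∀ v, 1 ≤ v → v ≤ 36286 → fs8 v = true := slots_step fs8 35852 434 36286 s8u54 s8c55 rfl
theorem s8u56 : ∀ v, 1 ≤ v → v ≤ 36725 → fs8 v = true := slots_step fs8 36286 439 36725 s8u55 s8c56 rfl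
theorem s8u57 : ∀ v, 1 ≤ v → v ≤ 37172 → fs8 v = true := slots_step fs8 36725 447 37172 s8u56 s8c57 rfl
theorem s8u58 : ∀ v, 1 ≤ v → v ≤ 37628 → fs8 v = true := slots_step fs8 37172 456 37628 s8u57 s8c58 rfl
theorem s8u59 : ∀ v, 1 ≤ v → v ≤ 38181 → fs8 v = true := slots_step fs8 37628 553 38181 s8u58 s8c59 rfl
theorem s8u60 : ∀ v, 1 ≤ v → v ≤ 38704 → fs8 v = true := slots_step fs8 38181 523 38704 s8u59 s8c60 rfl
theorem s8u61 : ∀ v, 1 ≤ v → v ≤ 39200 → fs8 v = true := slots_step fs8 38704 496 39200 s8u60 s8c61 rfl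
theorem s8u62 : ∀ v, 1 ≤ v → v ≤ 39690 → fs8 v = true := slots_step fs8 39200 490 39690 s8u61 s8c62 rfl
theorem s8u63 : ∀ v, 1 ≤ v → v ≤ 40143 → fs8 v = true := slots_step fs8 39690 453 40143 s8u62 s8c63 rfl
theorem s8u64 : ∀ v, 1 ≤ v → v ≤ 40746 → fs8 v = true := slots_step fs8 40143 603 40746 s8u63 s8c64 rfl
theorem s8u65 : ∀ v, 1 ≤ v → v ≤ 41354 → fs8 v = true := slots_step fs8 40746 608 41354 s8u64 s8c65 rfl
theorem s8u66 : ∀ v, 1 ≤ v → v ≤ 41878 → fs8 v = true := slots_step fs8 41354 524 41878 s8u65 s8c66 rfl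
theorem s8u67 : ∀ v, 1 ≤ v → v ≤ 42438 → fs8 v = true := slots_step fs8 41878 560 42438 s8u66 s8c67 rfl
theorem s8u68 : ∀ v, 1 ≤ v → v ≤ 42878 → fs8 v = true := slots_step fs8 42438 440 42878 s8u67 s8c68 rfl
theorem s8u69 : ∀ v, 1 ≤ v → v ≤ 43436 → fs8 v = true := slots_step fs8 42878 558 43436 s8u68 s8c69 rfl
theorem s8u70 : ∀ v, 1 ≤ v → v ≤ 43995 → fs8 v = true := slots_step fs8 43436 559 43995 s8u69 s8c70 rfl
theorem s8u71 : ∀ v, 1 ≤ v → v ≤ 44571 → fs8 v = true := slots_step fs8 43995 576 44571 s8u70 s8c71 rfl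
theorem s8u72 : ∀ v, 1 ≤ v → v ≤ 45221 → fs8 v = true := slots_step fs8 44571 650 45221 s8u71 s8c72 rfl
theorem s8u73 : ∀ v, 1 ≤ v → v ≤ 45933 → fs8 v = true := slots_step fs8 45221 712 45933 s8u72 s8c73 rfl
theorem s8u74 : ∀ v, 1 ≤ v → v ≤ 46531 → fs8 v = true := slots_step fs8 45933 598 46531 s8u73 s8c74 rfl
theorem s8u75 : ∀ v, 1 ≤ v → v ≤ 47207 → fs8 v = true := slots_step fs8 46531 676 47207 s8u74 s8c75 rfl
theorem s8u76 : ∀ v, 1 ≤ v → v ≤ 48071 → fs8 v = true := slots_step fs8 47207 864 48071 s8u75 s8c76 rfl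
theorem s8u77 : ∀ v, 1 ≤ v → v ≤ 48744 → fs8 v = true := slots_step fs8 48071 673 48744 s8u76 s8c77 rfl
theorem s8u78 : ∀ v, 1 ≤ v → v ≤ 49544 → fs8 v = true := slots_step fs8 48744 800 49544 s8u77 s8c78 rfl
theorem s8u79 : ∀ v, 1 ≤ v → v ≤ 50183 → fs8 v = true := slots_step fs8 49544 639 50183 s8u78 s8c79 rfl
theorem s8u80 : ∀ v, 1 ≤ v → v ≤ 51080 → fs8 v = true := slots_step fs8 50183 897 51080 s8u79 s8c80 rfl
theorem s8u81 : ∀ v, 1 ≤ v → v ≤ 51819 → fs8 v = true := slots_step fs8 51080 739 51819 s8u80 s8c81 rfl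
theorem s8u82 : ∀ v, 1 ≤ v → v ≤ 52466 → fs8 v = true := slots_step fs8 51819 647 52466 s8u81 s8c82 rfl
theorem s8u83 : ∀ v, 1 ≤ v → v ≤ 53116 → fs8 v = true := slots_step fs8 52466 650 53116 s8u82 s8c83 rfl
theorem s8u84 : ∀ v, 1 ≤ v → v ≤ 53698 → fs8 v = true := slots_step fs8 53116 582 53698 s8u83 s8c84 rfl
theorem s8u85 : ∀ v, 1 ≤ v → v ≤ 54124 → fs8 v = true := slots_step fs8 53698 426 54124 s8u84 s8c85 rfl
theorem s8u86 : ∀ v, 1 ≤ v → v ≤ 54505 → fs8 v = true := slots_step fs8 54124 381 54505 s8u85 s8c86 rfl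
theorem s8u87 : ∀ v, 1 ≤ v → v ≤ 54887 → fs8 v = true := slots_step fs8 54505 382 54887 s8u86 s8c87 rfl
theorem s8u88 : ∀ v, 1 ≤ v → v ≤ 55312 → fs8 v = true := slots_step fs8 54887 425 55312 s8u87 s8c88 rfl
theorem s8u89 : ∀ v, 1 ≤ v → v ≤ 55821 → fs8 v = true := slots_step fs8 55312 509 55821 s8u88 s8c89 rfl
theorem s8u90 : ∀ v, 1 ≤ v → v ≤ 56327 → fs8 v = true := slots_step fs8 55821 506 56327 s8u89 s8c90 rfl
theorem s8u91 : ∀ v, 1 ≤ v → v ≤ 56883 → fs8 v = true := slots_step fs8 56327 556 56883 s8u90 s8c91 rfl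
theorem s8u92 : ∀ v, 1 ≤ v → v ≤ 57573 → fs8 v = true := slots_step fs8 56883 690 57573 s8u91 s8c92 rfl
theorem s8u93 : ∀ v, 1 ≤ v → v ≤ 58213 → fs8 v = true := slots_step fs8 57573 640 58213 s8u92 s8c93 rfl
theorem s8u94 : ∀ v, 1 ≤ v → v ≤ 58936 → fs8 v = true := slots_step fs8 58213 723 58936 s8u93 s8c94 rfl
theorem s8u95 : ∀ v, 1 ≤ v → v ≤ 59605 → fs8 v = true := slots_step fs8 58936 669 59605 s8u94 s8c95 rfl
theorem s8u96 : ∀ v, 1 ≤ v → v ≤ 60270 → fs8 v = true := slots_step fs8 59605 665 60270 s8u95 s8c96 rfl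
theorem s8u97 : ∀ v, 1 ≤ v → v ≤ 60938 → fs8 v = true := slots_step fs8 60270 668 60938 s8u96 s8c97 rfl
theorem s8u98 : ∀ v, 1 ≤ v → v ≤ 61628 → fs8 v = true := slots_step fs8 60938 690 61628 s8u97 s8c98 rfl
theorem s8u99 : ∀ v, 1 ≤ v → v ≤ 62366 → fs8 v = true := slots_step fs8 61628 738 62366 s8u98 s8c99 rfl
theorem s8u100 : ∀ v, 1 ≤ v → v ≤ 62933 → fs8 v = true := slots_step fs8 62366 567 62933 s8u99 s8c100 rfl
theorem s8u101 : ∀ v, 1 ≤ v → v ≤ 63539 → fs8 v = true := slots_step fs8 62933 606 63539 s8u100 s8c101 rfl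
theorem s8u102 : ∀ v, 1 ≤ v → v ≤ 64082 → fs8 v = true := slots_step fs8 63539 543 64082 s8u101 s8c102 rfl
theorem s8u103 : ∀ v, 1 ≤ v → v ≤ 64593 → fs8 v = true := slots_step fs8 64082 511 64593 s8u102 s8c103 rfl
theorem s8u104 : ∀ v, 1 ≤ v → v ≤ 65133 → fs8 v = true := slots_step fs8 64593 540 65133 s8u103 s8c104 rfl
theorem s8u105 : ∀ v, 1 ≤ v → v ≤ 65714 → fs8 v = true := slots_step fs8 65133 581 65714 s8u104 s8c105 rfl
theorem s8u106 : ∀ v, 1 ≤ v → v ≤ 66277 → fs8 v = true := slots_step fs8 65714 563 66277 s8u105 s8c106 rfl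
theorem s8u107 : ∀ v, 1 ≤ v → v ≤ 66920 → fs8 v = true := slots_step fs8 66277 643 66920 s8u106 s8c107 rfl
theorem s8u108 : ∀ v, 1 ≤ v → v ≤ 67438 → fs8 v = true := slots_step fs8 66920 518 67438 s8u107 s8c108 rfl
theorem s8u109 : ∀ v, 1 ≤ v → v ≤ 67916 → fs8 v = true := slots_step fs8 67438 478 67916 s8u108 s8c109 rfl
theorem s8u110 : ∀ v, 1 ≤ v → v ≤ 68346 → fs8 v = true := slots_step fs8 67916 430 68346 s8u109 s8c110 rfl
theorem s8u111 : ∀ v, 1 ≤ v → v ≤ 68863 → fs8 v = true := slots_step fs8 68346 517 68863 s8u110 s8c111 rfl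
theorem s8u112 : ∀ v, 1 ≤ v → v ≤ 69374 → fs8 v = true := slots_step fs8 68863 511 69374 s8u111 s8c112 rfl
theorem s8u113 : ∀ v, 1 ≤ v → v ≤ 69892 → fs8 v = true := slots_step fs8 69374 518 69892 s8u112 s8c113 rfl
theorem s8u114 : ∀ v, 1 ≤ v → v ≤ 70380 → fs8 v = true := slots_step fs8 69892 488 70380 s8u113 s8c114 rfl
theorem s8u115 : ∀ v, 1 ≤ v → v ≤ 70849 → fs8 v = true := slots_step fs8 70380 469 70849 s8u114 s8c115 rfl
theorem s8u116 : ∀ v, 1 ≤ v → v ≤ 71335 → fs8 v = true := slots_step fs8 70849 486 71335 s8u115 s8c116 rfl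
theorem s8u117 : ∀ v, 1 ≤ v → v ≤ 71861 → fs8 v = true := slots_step fs8 71335 526 71861 s8u116 s8c117 rfl
theorem s8u118 : ∀ v, 1 ≤ v → v ≤ 72339 → fs8 v = true := slots_step fs8 71861 478 72339 s8u117 s8c118 rfl
theorem s8u119 : ∀ v, 1 ≤ v → v ≤ 72779 → fs8 v = true := slots_step fs8 72339 440 72779 s8u118 s8c119 rfl
theorem s8u120 : ∀ v, 1 ≤ v → v ≤ 73187 → fs8 v = true := slots_step fs8 72779 408 73187 s8u119 s8c120 rfl
theorem s8u121 : ∀ v, 1 ≤ v → v ≤ 73781 → fs8 v = true := slots_step fs8 73187 594 73781 s8u120 s8c121 rfl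
theorem s8u122 : ∀ v, 1 ≤ v → v ≤ 74196 → fs8 v = true := slots_step fs8 73781 415 74196 s8u121 s8c122 rfl
theorem s8u123 : ∀ v, 1 ≤ v → v ≤ 74564 → fs8 v = true := slots_step fs8 74196 368 74564 s8u122 s8c123 rfl
theorem s8u124 : ∀ v, 1 ≤ v → v ≤ 74997 → fs8 v = true := slots_step fs8 74564 433 74997 s8u123 s8c124 rfl
theorem s8u125 : ∀ v, 1 ≤ v → v ≤ 75517 → fs8 v = true := slots_step fs8 74997 520 75517 s8u124 s8c125 rfl
theorem s8u126 : ∀ v, 1 ≤ v → v ≤ 76016 → fs8 v = true := slots_step fs8 75517 499 76016 s8u125 s8c126 rfl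
theorem s8u127 : ∀ v, 1 ≤ v → v ≤ 76412 → fs8 v = true := slots_step fs8 76016 396 76412 s8u126 s8c127 rfl
theorem s8u128 : ∀ v, 1 ≤ v → v ≤ 76896 → fs8 v = true := slots_step fs8 76412 484 76896 s8u127 s8c128 rfl
theorem s8u129 : ∀ v, 1 ≤ v → v ≤ 77283 → fs8 v = true := slots_step fs8 76896 387 77283 s8u128 s8c129 rfl
theorem s8u130 : ∀ v, 1 ≤ v → v ≤ 77670 → fs8 v = true := slots_step fs8 77283 387 77670 s8u129 s8c130 rfl
theorem s8u131 : ∀ v, 1 ≤ v → v ≤ 78113 → fs8 v = true := slots_step fs8 77670 443 78113 s8u130 s8c131 rfl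
theorem s8u132 : ∀ v, 1 ≤ v → v ≤ 78544 → fs8 v = true := slots_step fs8 78113 431 78544 s8u131 s8c132 rfl
theorem s8u133 : ∀ v, 1 ≤ v → v ≤ 78967 → fs8 v = true := slots_step fs8 78544 423 78967 s8u132 s8c133 rfl
theorem s8u134 : ∀ v, 1 ≤ v → v ≤ 79543 → fs8 v = true := slots_step fs8 78967 576 79543 s8u133 s8c134 rfl
theorem s8u135 : ∀ v, 1 ≤ v → v ≤ 80128 → fs8 v = true := slots_step fs8 79543 585 80128 s8u134 s8c135 rfl
theorem s8u136 : ∀ v, 1 ≤ v → v ≤ 80620 → fs8 v = true := slots_step fs8 80128 492 80620 s8u135 s8c136 rfl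
theorem s8u137 : ∀ v, 1 ≤ v → v ≤ 81146 → fs8 v = true := slots_step fs8 80620 526 81146 s8u136 s8c137 rfl
theorem s8u138 : ∀ v, 1 ≤ v → v ≤ 81564 → fs8 v = true := slots_step fs8 81146 418 81564 s8u137 s8c138 rfl
theorem s8u139 : ∀ v, 1 ≤ v → v ≤ 82013 → fs8 v = true := slots_step fs8 81564 449 82013 s8u138 s8c139 rfl
theorem s8u140 : ∀ v, 1 ≤ v → v ≤ 82493 → fs8 v = true := slots_step fs8 82013 480 82493 s8u139 s8c140 rfl
theorem s8u141 : ∀ v, 1 ≤ v → v ≤ 82918 → fs8 v = true := slots_step fs8 82493 425 82918 s8u140 s8c141 rfl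
theorem s8u142 : ∀ v, 1 ≤ v → v ≤ 83421 → fs8 v = true := slots_step fs8 82918 503 83421 s8u141 s8c142 rfl
theorem s8u143 : ∀ v, 1 ≤ v → v ≤ 83974 → fs8 v = true := slots_step fs8 83421 553 83974 s8u142 s8c143 rfl
theorem s8u144 : ∀ v, 1 ≤ v → v ≤ 84530 → fs8 v = true := slots_step fs8 83974 556 84530 s8u143 s8c144 rfl
theorem s8u145 : ∀ v, 1 ≤ v → v ≤ 85117 → fs8 v = true := slots_step fs8 84530 587 85117 s8u144 s8c145 rfl
theorem s8u146 : ∀ v, 1 ≤ v → v ≤ 85709 → fs8 v = true := slots_step fs8 85117 592 85709 s8u145 s8c146 rfl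
theorem s8u147 : ∀ v, 1 ≤ v → v ≤ 86332 → fs8 v = true := slots_step fs8 85709 623 86332 s8u146 s8c147 rfl
theorem s8u148 : ∀ v, 1 ≤ v → v ≤ 86834 → fs8 v = true := slots_step fs8 86332 502 86834 s8u147 s8c148 rfl
theorem s8u149 : ∀ v, 1 ≤ v → v ≤ 87365 → fs8 v = true := slots_step fs8 86834 531 87365 s8u148 s8c149 rfl
theorem s8u150 : ∀ v, 1 ≤ v → v ≤ 87955 → fs8 v = true := slots_step fs8 87365 590 87955 s8u149 s8c150 rfl
theorem s8u151 : ∀ v, 1 ≤ v → v ≤ 88444 → fs8 v = true := slots_step fs8 87955 489 88444 s8u150 s8c151 rfl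
theorem s8u152 : ∀ v, 1 ≤ v → v ≤ 89048 → fs8 v = true := slots_step fs8 88444 604 89048 s8u151 s8c152 rfl
theorem s8u153 : ∀ v, 1 ≤ v → v ≤ 89554 → fs8 v = true := slots_step fs8 89048 506 89554 s8u152 s8c153 rfl
theorem s8u154 : ∀ v, 1 ≤ v → v ≤ 90119 → fs8 v = true := slots_step fs8 89554 565 90119 s8u153 s8c154 rfl
theorem s8u155 : ∀ v, 1 ≤ v → v ≤ 90760 → fs8 v = true := slots_step fs8 90119 641 90760 s8u154 s8c155 rfl
theorem s8u156 : ∀ v, 1 ≤ v → v ≤ 91244 → fs8 v = true := slots_step fs8 90760 484 91244 s8u155 s8c156 rfl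
theorem s8u157 : ∀ v, 1 ≤ v → v ≤ 91753 → fs8 v = true := slots_step fs8 91244 509 91753 s8u156 s8c157 rfl
theorem s8u158 : ∀ v, 1 ≤ v → v ≤ 92296 → fs8 v = true := slots_step fs8 91753 543 92296 s8u157 s8c158 rfl
theorem s8u159 : ∀ v, 1 ≤ v → v ≤ 92853 → fs8 v = true := slots_step fs8 92296 557 92853 s8u158 s8c159 rfl
theorem s8u160 : ∀ v, 1 ≤ v → v ≤ 93362 → fs8 v = true := slots_step fs8 92853 509 93362 s8u159 s8c160 rfl
theorem s8u161 : ∀ v, 1 ≤ v → v ≤ 93887 → fs8 v = true := slots_step fs8 93362 525 93887 s8u160 s8c161 rfl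
theorem s8u162 : ∀ v, 1 ≤ v → v ≤ 94372 → fs8 v = true := slots_step fs8 93887 485 94372 s8u161 s8c162 rfl
theorem s8u163 : ∀ v, 1 ≤ v → v ≤ 94924 → fs8 v = true := slots_step fs8 94372 552 94924 s8u162 s8c163 rfl
theorem s8u164 : ∀ v, 1 ≤ v → v ≤ 95467 → fs8 v = true := slots_step fs8 94924 543 95467 s8u163 s8c164 rfl
theorem s8u165 : ∀ v, 1 ≤ v → v ≤ 96004 → fs8 v = true := slots_step fs8 95467 537 96004 s8u164 s8c165 rfl
theorem s8u166 : ∀ v, 1 ≤ v → v ≤ 96557 → fs8 v = true := slots_step fs8 96004 553 96557 s8u165 s8c166 rfl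
theorem s8u167 : ∀ v, 1 ≤ v → v ≤ 97197 → fs8 v = true := slots_step fs8 96557 640 97197 s8u166 s8c167 rfl
theorem s8u168 : ∀ v, 1 ≤ v → v ≤ 97770 → fs8 v = true := slots_step fs8 97197 573 97770 s8u167 s8c168 rfl
theorem s8u169 : ∀ v, 1 ≤ v → v ≤ 98452 → fs8 v = true := slots_step fs8 97770 682 98452 s8u168 s8c169 rfl
theorem s8u170 : ∀ v, 1 ≤ v → v ≤ 99056 → fs8 v = true := slots_step fs8 98452 604 99056 s8u169 s8c170 rfl
theorem s8u171 : ∀ v, 1 ≤ v → v ≤ 99679 → fs8 v = true := slots_step fs8 99056 623 99679 s8u170 s8c171 rfl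
theorem s8u172 : ∀ v, 1 ≤ v → v ≤ 100234 → fs8 v = true := slots_step fs8 99679 555 100234 s8u171 s8c172 rfl
theorem s8u173 : ∀ v, 1 ≤ v → v ≤ 100705 → fs8 v = true := slots_step fs8 100234 471 100705 s8u172 s8c173 rfl
theorem s8u174 : ∀ v, 1 ≤ v → v ≤ 101222 → fs8 v = true := slots_step fs8 100705 517 101222 s8u173 s8c174 rfl
theorem s8u175 : ∀ v, 1 ≤ v → v ≤ 101908 → fs8 v = true := slots_step fs8 101222 686 101908 s8u174 s8c175 rfl
theorem s8u176 : ∀ v, 1 ≤ v → v ≤ 102684 → fs8 v = true := slots_step fs8 101908 776 102684 s8u175 s8c176 rfl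
theorem s8u177 : ∀ v, 1 ≤ v → v ≤ 103254 → fs8 v = true := slots_step fs8 102684 570 103254 s8u176 s8c177 rfl
theorem s8u178 : ∀ v, 1 ≤ v → v ≤ 103979 → fs8 v = true := slots_step fs8 103254 725 103979 s8u177 s8c178 rfl
theorem s8u179 : ∀ v, 1 ≤ v → v ≤ 104601 → fs8 v = true := slots_step fs8 103979 622 104601 s8u178 s8c179 rfl
theorem s8u180 : ∀ v, 1 ≤ v → v ≤ 105205 → fs8 v = true := slots_step fs8 104601 604 105205 s8u179 s8c180 rfl
theorem s8u181 : ∀ v, 1 ≤ v → v ≤ 105805 → fs8 v = true := slots_step fs8 105205 600 105805 s8u180 s8c181 rfl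
theorem s8u182 : ∀ v, 1 ≤ v → v ≤ 106514 → fs8 v = true := slots_step fs8 105805 709 106514 s8u181 s8c182 rfl
theorem s8u183 : ∀ v, 1 ≤ v → v ≤ 106994 → fs8 v = true := slots_step fs8 106514 480 106994 s8u182 s8c183 rfl
theorem s8u184 : ∀ v, 1 ≤ v → v ≤ 107462 → fs8 v = true := slots_step fs8 106994 468 107462 s8u183 s8c184 rfl
theorem s8u185 : ∀ v, 1 ≤ v → v ≤ 107984 → fs8 v = true := slots_step fs8 107462 522 107984 s8u184 s8c185 rfl
theorem s8u186 : ∀ v, 1 ≤ v → v ≤ 108426 → fs8 v = true := slots_step fs8 107984 442 108426 s8u185 s8c186 rfl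
theorem s8u187 : ∀ v, 1 ≤ v → v ≤ 108821 → fs8 v = true := slots_step fs8 108426 395 108821 s8u186 s8c187 rfl
theorem s8u188 : ∀ v, 1 ≤ v → v ≤ 109280 → fs8 v = true := slots_step fs8 108821 459 109280 s8u187 s8c188 rfl
theorem s8u189 : ∀ v, 1 ≤ v → v ≤ 109768 → fs8 v = true := slots_step fs8 109280 488 109768 s8u188 s8c189 rfl
theorem s8u190 : ∀ v, 1 ≤ v → v ≤ 110226 → fs8 v = true := slots_step fs8 109768 458 110226 s8u189 s8c190 rfl
theorem s8u191 : ∀ v, 1 ≤ v → v ≤ 110673 → fs8 v = true := slots_step fs8 110226 447 110673 s8u190 s8c191 rfl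
theorem s8u192 : ∀ v, 1 ≤ v → v ≤ 111139 → fs8 v = true := slots_step fs8 110673 466 111139 s8u191 s8c192 rfl
theorem s8u193 : ∀ v, 1 ≤ v → v ≤ 111542 → fs8 v = true := slots_step fs8 111139 403 111542 s8u192 s8c193 rfl
theorem s8u194 : ∀ v, 1 ≤ v → v ≤ 111942 → fs8 v = true := slots_step fs8 111542 400 111942 s8u193 s8c194 rfl
theorem s8u195 : ∀ v, 1 ≤ v → v ≤ 112368 → fs8 v = true := slots_step fs8 111942 426 112368 s8u194 s8c195 rfl
theorem s8u196 : ∀ v, 1 ≤ v → v ≤ 112832 → fs8 v = true := slots_step fs8 112368 464 112832 s8u195 s8c196 rfl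
theorem s8u197 : ∀ v, 1 ≤ v → v ≤ 113338 → fs8 v = true := slots_step fs8 112832 506 113338 s8u196 s8c197 rfl
theorem s8u198 : ∀ v, 1 ≤ v → v ≤ 113868 → fs8 v = true := slots_step fs8 113338 530 113868 s8u197 s8c198 rfl
theorem s8u199 : ∀ v, 1 ≤ v → v ≤ 114389 → fs8 v = true := slots_step fs8 113868 521 114389 s8u198 s8c199 rfl
theorem s8u200 : ∀ v, 1 ≤ v → v ≤ 114805 → fs8 v = true := slots_step fs8 114389 416 114805 s8u199 s8c200 rfl
theorem s8u201 : ∀ v, 1 ≤ v → v ≤ 115425 → fs8 v = true := slots_step fs8 114805 620 115425 s8u200 s8c201 rfl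
theorem s8u202 : ∀ v, 1 ≤ v → v ≤ 116168 → fs8 v = true := slots_step fs8 115425 743 116168 s8u201 s8c202 rfl
theorem s8u203 : ∀ v, 1 ≤ v → v ≤ 116669 → fs8 v = true := slots_step fs8 116168 501 116669 s8u202 s8c203 rfl
theorem s8u204 : ∀ v, 1 ≤ v → v ≤ 117129 → fs8 v = true := slots_step fs8 116669 460 117129 s8u203 s8c204 rfl
theorem s8u205 : ∀ v, 1 ≤ v → v ≤ 117634 → fs8 v = true := slots_step fs8 117129 505 117634 s8u204 s8c205 rfl
theorem s8u206 : ∀ v, 1 ≤ v → v ≤ 118227 → fs8 v = true := slots_step fs8 117634 593 118227 s8u205 s8c206 rfl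
theorem s8u207 : ∀ v, 1 ≤ v → v ≤ 118703 → fs8 v = true := slots_step fs8 118227 476 118703 s8u206 s8c207 rfl
theorem s8u208 : ∀ v, 1 ≤ v → v ≤ 119171 → fs8 v = true := slots_step fs8 118703 468 119171 s8u207 s8c208 rfl
theorem s8u209 : ∀ v, 1 ≤ v → v ≤ 119664 → fs8 v = true := slots_step fs8 119171 493 119664 s8u208 s8c209 rfl
theorem s8u210 : ∀ v, 1 ≤ v → v ≤ 120144 → fs8 v = true := slots_step fs8 119664 480 120144 s8u209 s8c210 rfl
theorem s8u211 : ∀ v, 1 ≤ v → v ≤ 120619 → fs8 v = true := slots_step fs8 120144 475 120619 s8u210 s8c211 rfl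
theorem s8u212 : ∀ v, 1 ≤ v → v ≤ 121225 → fs8 v = true := slots_step fs8 120619 606 121225 s8u211 s8c212 rfl
theorem s8u213 : ∀ v, 1 ≤ v → v ≤ 121688 → fs8 v = true := slots_step fs8 121225 463 121688 s8u212 s8c213 rfl
theorem s8u214 : ∀ v, 1 ≤ v → v ≤ 122219 → fs8 v = true := slots_step fs8 121688 531 122219 s8u213 s8c214 rfl
theorem s8u215 : ∀ v, 1 ≤ v → v ≤ 122696 → fs8 v = true := slots_step fs8 122219 477 122696 s8u214 s8c215 rfl
theorem s8u216 : ∀ v, 1 ≤ v → v ≤ 123244 → fs8 v = true := slots_step fs8 122696 548 123244 s8u215 s8c216 rfl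
theorem s8u217 : ∀ v, 1 ≤ v → v ≤ 123784 → fs8 v = true := slots_step fs8 123244 540 123784 s8u216 s8c217 rfl
theorem s8u218 : ∀ v, 1 ≤ v → v ≤ 124303 → fs8 v = true := slots_step fs8 123784 519 124303 s8u217 s8c218 rfl
theorem s8u219 : ∀ v, 1 ≤ v → v ≤ 124894 → fs8 v = true := slots_step fs8 124303 591 124894 s8u218 s8c219 rfl
theorem s8u220 : ∀ v, 1 ≤ v → v ≤ 125451 → fs8 v = true := slots_step fs8 124894 557 125451 s8u219 s8c220 rfl
theorem s8u221 : ∀ v, 1 ≤ v → v ≤ 126037 → fs8 v = true := slots_step fs8 125451 586 126037 s8u220 s8c221 rfl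
theorem s8u222 : ∀ v, 1 ≤ v → v ≤ 126502 → fs8 v = true := slots_step fs8 126037 465 126502 s8u221 s8c222 rfl
theorem s8u223 : ∀ v, 1 ≤ v → v ≤ 126965 → fs8 v = true := slots_step fs8 126502 463 126965 s8u222 s8c223 rfl
theorem s8u224 : ∀ v, 1 ≤ v → v ≤ 127421 → fs8 v = true := slots_step fs8 126965 456 127421 s8u223 s8c224 rfl
theorem s8u225 : ∀ v, 1 ≤ v → v ≤ 127910 → fs8 v = true := slots_step fs8 127421 489 127910 s8u224 s8c225 rfl
theorem s8u226 : ∀ v, 1 ≤ v → v ≤ 128415 → fs8 v = true := slots_step fs8 127910 505 128415 s8u225 s8c226 rfl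
theorem s8u227 : ∀ v, 1 ≤ v → v ≤ 128882 → fs8 v = true := slots_step fs8 128415 467 128882 s8u226 s8c227 rfl
theorem s8u228 : ∀ v, 1 ≤ v → v ≤ 129409 → fs8 v = true := slots_step fs8 128882 527 129409 s8u227 s8c228 rfl
theorem s8u229 : ∀ v, 1 ≤ v → v ≤ 129878 → fs8 v = true := slots_step fs8 129409 469 129878 s8u228 s8c229 rfl
theorem s8u230 : ∀ v, 1 ≤ v → v ≤ 130299 → fs8 v = true := slots_step fs8 129878 421 130299 s8u229 s8c230 rfl
theorem s8u231 : ∀ v, 1 ≤ v → v ≤ 130707 → fs8 v = true := slots_step fs8 130299 408 130707 s8u230 s8c231 rfl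
theorem s8u232 : ∀ v, 1 ≤ v → v ≤ 131134 → fs8 v = true := slots_step fs8 130707 427 131134 s8u231 s8c232 rfl
theorem s8u233 : ∀ v, 1 ≤ v → v ≤ 131661 → fs8 v = true := slots_step fs8 131134 527 131661 s8u232 s8c233 rfl
theorem s8u234 : ∀ v, 1 ≤ v → v ≤ 132070 → fs8 v = true := slots_step fs8 131661 409 132070 s8u233 s8c234 rfl
theorem s8u235 : ∀ v, 1 ≤ v → v ≤ 132579 → fs8 v = true := slots_step fs8 132070 509 132579 s8u234 s8c235 rfl
theorem s8u236 : ∀ v, 1 ≤ v → v ≤ 132981 → fs8 v = true := slots_step fs8 132579 402 132981 s8u235 s8c236 rfl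
theorem s8u237 : ∀ v, 1 ≤ v → v ≤ 133447 → fs8 v = true := slots_step fs8 132981 466 133447 s8u236 s8c237 rfl
theorem s8u238 : ∀ v, 1 ≤ v → v ≤ 133881 → fs8 v = true := slots_step fs8 133447 434 133881 s8u237 s8c238 rfl
theorem s8u239 : ∀ v, 1 ≤ v → v ≤ 134317 → fs8 v = true := slots_step fs8 133881 436 134317 s8u238 s8c239 rfl
theorem s8u240 : ∀ v, 1 ≤ v → v ≤ 134765 → fs8 v = true := slots_step fs8 134317 448 134765 s8u239 s8c240 rfl
theorem s8u241 : ∀ v, 1 ≤ v → v ≤ 135170 → fs8 v = true := slots_step fs8 134765 405 135170 s8u240 s8c241 rfl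
theorem s8u242 : ∀ v, 1 ≤ v → v ≤ 135589 → fs8 v = true := slots_step fs8 135170 419 135589 s8u241 s8c242 rfl
theorem s8u243 : ∀ v, 1 ≤ v → v ≤ 136009 → fs8 v = true := slots_step fs8 135589 420 136009 s8u242 s8c243 rfl
theorem s8u244 : ∀ v, 1 ≤ v → v ≤ 136413 → fs8 v = true := slots_step fs8 136009 404 136413 s8u243 s8c244 rfl
theorem s8u245 : ∀ v, 1 ≤ v → v ≤ 136815 → fs8 v = true := slots_step fs8 136413 402 136815 s8u244 s8c245 rfl
theorem s8u246 : ∀ v, 1 ≤ v → v ≤ 137247 → fs8 v = true := slots_step fs8 136815 432 137247 s8u245 s8c246 rfl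
theorem s8u247 : ∀ v, 1 ≤ v → v ≤ 137720 → fs8 v = true := slots_step fs8 137247 473 137720 s8u246 s8c247 rfl
theorem s8u248 : ∀ v, 1 ≤ v → v ≤ 138182 → fs8 v = true := slots_step fs8 137720 462 138182 s8u247 s8c248 rfl
theorem s8u249 : ∀ v, 1 ≤ v → v ≤ 138659 → fs8 v = true := slots_step fs8 138182 477 138659 s8u248 s8c249 rfl
theorem s8u250 : ∀ v, 1 ≤ v → v ≤ 139152 → fs8 v = true := slots_step fs8 138659 493 139152 s8u249 s8c250 rfl
theorem s8u251 : ∀ v, 1 ≤ v → v ≤ 139593 → fs8 v = true := slots_step fs8 139152 441 139593 s8u250 s8c251 rfl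
theorem s8u252 : ∀ v, 1 ≤ v → v ≤ 140025 → fs8 v = true := slots_step fs8 139593 432 140025 s8u251 s8c252 rfl
theorem s8u253 : ∀ v, 1 ≤ v → v ≤ 140474 → fs8 v = true := slots_step fs8 140025 449 140474 s8u252 s8c253 rfl
theorem s8u254 : ∀ v, 1 ≤ v → v ≤ 140861 → fs8 v = true := slots_step fs8 140474 387 140861 s8u253 s8c254 rfl
theorem s8u255 : ∀ v, 1 ≤ v → v ≤ 141448 → fs8 v = true := slots_step fs8 140861 587 141448 s8u254 s8c255 rfl
theorem s8u256 : ∀ v, 1 ≤ v → v ≤ 141875 → fs8 v = true := slots_step fs8 141448 427 141875 s8u255 s8c256 rfl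
theorem s8u257 : ∀ v, 1 ≤ v → v ≤ 142297 → fs8 v = true := slots_step fs8 141875 422 142297 s8u256 s8c257 rfl
theorem s8u258 : ∀ v, 1 ≤ v → v ≤ 142750 → fs8 v = true := slots_step fs8 142297 453 142750 s8u257 s8c258 rfl
theorem s8u259 : ∀ v, 1 ≤ v → v ≤ 143161 → fs8 v = true := slots_step fs8 142750 411 143161 s8u258 s8c259 rfl
theorem s8u260 : ∀ v, 1 ≤ v → v ≤ 143578 → fs8 v = true := slots_step fs8 143161 417 143578 s8u259 s8c260 rfl
theorem s8u261 : ∀ v, 1 ≤ v → v ≤ 144018 → fs8 v = true := slots_step fs8 143578 440 144018 s8u260 s8c261 rfl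
theorem s8u262 : ∀ v, 1 ≤ v → v ≤ 144460 → fs8 v = true := slots_step fs8 144018 442 144460 s8u261 s8c262 rfl
theorem s8u263 : ∀ v, 1 ≤ v → v ≤ 144893 → fs8 v = true := slots_step fs8 144460 433 144893 s8u262 s8c263 rfl
theorem s8u264 : ∀ v, 1 ≤ v → v ≤ 145296 → fs8 v = true := slots_step fs8 144893 403 145296 s8u263 s8c264 rfl
theorem s8u265 : ∀ v, 1 ≤ v → v ≤ 145659 → fs8 v = true := slots_step fs8 145296 363 145659 s8u264 s8c265 rfl
theorem s8u266 : ∀ v, 1 ≤ v → v ≤ 146061 → fs8 v = true := slots_step fs8 145659 402 146061 s8u265 s8c266 rfl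
theorem s8u267 : ∀ v, 1 ≤ v → v ≤ 146476 → fs8 v = true := slots_step fs8 146061 415 146476 s8u266 s8c267 rfl
theorem s8u268 : ∀ v, 1 ≤ v → v ≤ 146906 → fs8 v = true := slots_step fs8 146476 430 146906 s8u267 s8c268 rfl
theorem s8u269 : ∀ v, 1 ≤ v → v ≤ 147329 → fs8 v = true := slots_step fs8 146906 423 147329 s8u268 s8c269 rfl
theorem s8u270 : ∀ v, 1 ≤ v → v ≤ 147724 → fs8 v = true := slots_step fs8 147329 395 147724 s8u269 s8c270 rfl
theorem s8u271 : ∀ v, 1 ≤ v → v ≤ 148091 → fs8 v = true := slots_step fs8 147724 367 148091 s8u270 s8c271 rfl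
theorem s8u272 : ∀ v, 1 ≤ v → v ≤ 148455 → fs8 v = true := slots_step fs8 148091 364 148455 s8u271 s8c272 rfl
theorem s8u273 : ∀ v, 1 ≤ v → v ≤ 148861 → fs8 v = true := slots_step fs8 148455 406 148861 s8u272 s8c273 rfl
theorem s8u274 : ∀ v, 1 ≤ v → v ≤ 149253 → fs8 v = true := slots_step fs8 148861 392 149253 s8u273 s8c274 rfl
theorem s8u275 : ∀ v, 1 ≤ v → v ≤ 149621 → fs8 v = true := slots_step fs8 149253 368 149621 s8u274 s8c275 rfl
theorem s8u276 : ∀ v, 1 ≤ v → v ≤ 149989 → fs8 v = true := slots_step fs8 149621 368 149989 s8u275 s8c276 rfl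
theorem s8u277 : ∀ v, 1 ≤ v → v ≤ 150408 → fs8 v = true := slots_step fs8 149989 419 150408 s8u276 s8c277 rfl
theorem s8u278 : ∀ v, 1 ≤ v → v ≤ 150781 → fs8 v = true := slots_step fs8 150408 373 150781 s8u277 s8c278 rfl
theorem s8u279 : ∀ v, 1 ≤ v → v ≤ 151144 → fs8 v = true := slots_step fs8 150781 363 151144 s8u278 s8c279 rfl
theorem s8u280 : ∀ v, 1 ≤ v → v ≤ 151538 → fs8 v = true := slots_step fs8 151144 394 151538 s8u279 s8c280 rfl
theorem s8u281 : ∀ v, 1 ≤ v → v ≤ 151924 → fs8 v = true := slots_step fs8 151538 386 151924 s8u280 s8c281 rfl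
theorem s8u282 : ∀ v, 1 ≤ v → v ≤ 152331 → fs8 v = true := slots_step fs8 151924 407 152331 s8u281 s8c282 rfl
theorem s8u283 : ∀ v, 1 ≤ v → v ≤ 152747 → fs8 v = true := slots_step fs8 152331 416 152747 s8u282 s8c283 rfl
theorem s8u284 : ∀ v, 1 ≤ v → v ≤ 153167 → fs8 v = true := slots_step fs8 152747 420 153167 s8u283 s8c284 rfl
theorem s8u285 : ∀ v, 1 ≤ v → v ≤ 153551 → fs8 v = true := slots_step fs8 153167 384 153551 s8u284 s8c285 rfl
theorem s8u286 : ∀ v, 1 ≤ v → v ≤ 153925 → fs8 v = true := slots_step fs8 153551 374 153925 s8u285 s8c286 rfl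
theorem s8u287 : ∀ v, 1 ≤ v → v ≤ 154292 → fs8 v = true := slots_step fs8 153925 367 154292 s8u286 s8c287 rfl
theorem s8u288 : ∀ v, 1 ≤ v → v ≤ 154671 → fs8 v = true := slots_step fs8 154292 379 154671 s8u287 s8c288 rfl
theorem s8u289 : ∀ v, 1 ≤ v → v ≤ 155125 → fs8 v = true := slots_step fs8 154671 454 155125 s8u288 s8c289 rfl
theorem s8u290 : ∀ v, 1 ≤ v → v ≤ 155544 → fs8 v = true := slots_step fs8 155125 419 155544 s8u289 s8c290 rfl
theorem s8u291 : ∀ v, 1 ≤ v → v ≤ 155920 → fs8 v = true := slots_step fs8 155544 376 155920 s8u290 s8c291 rfl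
theorem s8u292 : ∀ v, 1 ≤ v → v ≤ 156299 → fs8 v = true := slots_step fs8 155920 379 156299 s8u291 s8c292 rfl
theorem s8u293 : ∀ v, 1 ≤ v → v ≤ 156695 → fs8 v = true := slots_step fs8 156299 396 156695 s8u292 s8c293 rfl
theorem s8u294 : ∀ v, 1 ≤ v → v ≤ 157085 → fs8 v = true := slots_step fs8 156695 390 157085 s8u293 s8c294 rfl
theorem s8u295 : ∀ v, 1 ≤ v → v ≤ 157472 → fs8 v = true := slots_step fs8 157085 387 157472 s8u294 s8c295 rfl
theorem s8u296 : ∀ v, 1 ≤ v → v ≤ 157876 → fs8 v = true := slots_step fs8 157472 404 157876 s8u295 s8c296 rfl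
theorem s8u297 : ∀ v, 1 ≤ v → v ≤ 158252 → fs8 v = true := slots_step fs8 157876 376 158252 s8u296 s8c297 rfl
theorem s8u298 : ∀ v, 1 ≤ v → v ≤ 158625 → fs8 v = true := slots_step fs8 158252 373 158625 s8u297 s8c298 rfl
theorem s8u299 : ∀ v, 1 ≤ v → v ≤ 159069 → fs8 v = true := slots_step fs8 158625 444 159069 s8u298 s8c299 rfl
theorem s8u300 : ∀ v, 1 ≤ v → v ≤ 159500 → fs8 v = true := slots_step fs8 159069 431 159500 s8u299 s8c300 rfl
theorem s8u301 : ∀ v, 1 ≤ v → v ≤ 159961 → fs8 v = true := slots_step fs8 159500 461 159961 s8u300 s8c301 rfl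
theorem s8u302 : ∀ v, 1 ≤ v → v ≤ 160361 → fs8 v = true := slots_step fs8 159961 400 160361 s8u301 s8c302 rfl
theorem s8u303 : ∀ v, 1 ≤ v → v ≤ 160745 → fs8 v = true := slots_step fs8 160361 384 160745 s8u302 s8c303 rfl
theorem s8u304 : ∀ v, 1 ≤ v → v ≤ 161215 → fs8 v = true := slots_step fs8 160745 470 161215 s8u303 s8c304 rfl
theorem s8u305 : ∀ v, 1 ≤ v → v ≤ 161676 → fs8 v = true := slots_step fs8 161215 461 161676 s8u304 s8c305 rfl
theorem s8u306 : ∀ v, 1 ≤ v → v ≤ 162326 → fs8 v = true := slots_step fs8 161676 650 162326 s8u305 s8c306 rfl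
theorem s8u307 : ∀ v, 1 ≤ v → v ≤ 163391 → fs8 v = true := slots_step fs8 162326 1065 163391 s8u306 s8c307 rfl
theorem s8u308 : ∀ v, 1 ≤ v → v ≤ 164386 → fs8 v = true := slots_step fs8 163391 995 164386 s8u307 s8c308 rfl
theorem s8u309 : ∀ v, 1 ≤ v → v ≤ 165368 → fs8 v = true := slots_step fs8 164386 982 165368 s8u308 s8c309 rfl
theorem s8u310 : ∀ v, 1 ≤ v → v ≤ 166500 → fs8 v = true := slots_step fs8 165368 1132 166500 s8u309 s8c310 rfl
theorem s8u311 : ∀ v, 1 ≤ v → v ≤ 167596 → fs8 v = true := slots_step fs8 166500 1096 167596 s8u310 s8c311 rfl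
theorem s8u312 : ∀ v, 1 ≤ v → v ≤ 168681 → fs8 v = true := slots_step fs8 167596 1085 168681 s8u311 s8c312 rfl
theorem s8u313 : ∀ v, 1 ≤ v → v ≤ 169741 → fs8 v = true := slots_step fs8 168681 1060 169741 s8u312 s8c313 rfl
theorem s8u314 : ∀ v, 1 ≤ v → v ≤ 170901 → fs8 v = true := slots_step fs8 169741 1160 170901 s8u313 s8c314 rfl
theorem s8u315 : ∀ v, 1 ≤ v → v ≤ 172030 → fs8 v = true := slots_step fs8 170901 1129 172030 s8u314 s8c315 rfl
theorem s8u316 : ∀ v, 1 ≤ v → v ≤ 173171 → fs8 v = true := slots_step fs8 172030 1141 173171 s8u315 s8c316 rfl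
theorem s8u317 : ∀ v, 1 ≤ v → v ≤ 174306 → fs8 v = true := slots_step fs8 173171 1135 174306 s8u316 s8c317 rfl
theorem s8u318 : ∀ v, 1 ≤ v → v ≤ 175451 → fs8 v = true := slots_step fs8 174306 1145 175451 s8u317 s8c318 rfl
theorem s8u319 : ∀ v, 1 ≤ v → v ≤ 176628 → fs8 v = true := slots_step fs8 175451 1177 176628 s8u318 s8c319 rfl
theorem s8u320 : ∀ v, 1 ≤ v → v ≤ 177778 → fs8 v = true := slots_step fs8 176628 1150 177778 s8u319 s8c320 rfl
theorem s8u321 : ∀ v, 1 ≤ v → v ≤ 178997 → fs8 v = true := slots_step fs8 177778 1219 178997 s8u320 s8c321 rfl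
theorem s8u322 : ∀ v, 1 ≤ v → v ≤ 180164 → fs8 v = true := slots_step fs8 178997 1167 180164 s8u321 s8c322 rfl
theorem s8u323 : ∀ v, 1 ≤ v → v ≤ 181317 → fs8 v = true := slots_step fs8 180164 1153 181317 s8u322 s8c323 rfl
theorem s8u324 : ∀ v, 1 ≤ v → v ≤ 182532 → fs8 v = true := slots_step fs8 181317 1215 182532 s8u323 s8c324 rfl
theorem s8u325 : ∀ v, 1 ≤ v → v ≤ 183777 → fs8 v = true := slots_step fs8 182532 1245 183777 s8u324 s8c325 rfl
theorem s8u326 : ∀ v, 1 ≤ v → v ≤ 185010 → fs8 v = true := slots_step fs8 183777 1233 185010 s8u325 s8c326 rfl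
theorem s8u327 : ∀ v, 1 ≤ v → v ≤ 186209 → fs8 v = true := slots_step fs8 185010 1199 186209 s8u326 s8c327 rfl
theorem s8u328 : ∀ v, 1 ≤ v → v ≤ 187422 → fs8 v = true := slots_step fs8 186209 1213 187422 s8u327 s8c328 rfl
theorem s8u329 : ∀ v, 1 ≤ v → v ≤ 188666 → fs8 v = true := slots_step fs8 187422 1244 188666 s8u328 s8c329 rfl
theorem s8u330 : ∀ v, 1 ≤ v → v ≤ 189899 → fs8 v = true := slots_step fs8 188666 1233 189899 s8u329 s8c330 rfl
theorem s8u331 : ∀ v, 1 ≤ v → v ≤ 191148 → fs8 v = true := slots_step fs8 189899 1249 191148 s8u330 s8c331 rfl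
theorem s8u332 : ∀ v, 1 ≤ v → v ≤ 192379 → fs8 v = true := slots_step fs8 191148 1231 192379 s8u331 s8c332 rfl
theorem s8u333 : ∀ v, 1 ≤ v → v ≤ 193648 → fs8 v = true := slots_step fs8 192379 1269 193648 s8u332 s8c333 rfl
theorem s8u334 : ∀ v, 1 ≤ v → v ≤ 194920 → fs8 v = true := slots_step fs8 193648 1272 194920 s8u333 s8c334 rfl
theorem s8u335 : ∀ v, 1 ≤ v → v ≤ 196199 → fs8 v = true := slots_step fs8 194920 1279 196199 s8u334 s8c335 rfl
theorem s8u336 : ∀ v, 1 ≤ v → v ≤ 197478 → fs8 v = true := slots_step fs8 196199 1279 197478 s8u335 s8c336 rfl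
theorem s8u337 : ∀ v, 1 ≤ v → v ≤ 198757 → fs8 v = true := slots_step fs8 197478 1279 198757 s8u336 s8c337 rfl
theorem s8u338 : ∀ v, 1 ≤ v → v ≤ 200036 → fs8 v = true := slots_step fs8 198757 1279 200036 s8u337 s8c338 rfl
theorem s8u339 : ∀ v, 1 ≤ v → v ≤ 201315 → fs8 v = true := slots_step fs8 200036 1279 201315 s8u338 s8c339 rfl
theorem s8u340 : ∀ v, 1 ≤ v → v ≤ 201582 → fs8 v = true := slots_step fs8 201315 267 201582 s8u339 s8c340 rfl
theorem gz : countBelow gl 0 = 0 := rfl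
theorem gn0 : countBelow gl 2558 = 1947 := countBelow_step gl 0 2558 2558 0 1947 1947 gz gk0 rfl rfl
theorem gn1 : countBelow gl 5116 = 3513 := countBelow_step gl 2558 2558 5116 1947 1566 3513 gn0 gk1 rfl rfl
theorem gn2 : countBelow gl 7674 = 5360 := countBelow_step gl 5116 2558 7674 3513 1847 5360 gn1 gk2 rfl rfl
theorem gn3 : countBelow gl 10232 = 6742 := countBelow_step gl 7674 2558 10232 5360 1382 6742 gn2 gk3 rfl rfl
theorem gn4 : countBelow gl 12790 = 8618 := countBelow_step gl 10232 2558 12790 6742 1876 8618 gn3 gk4 rfl rfl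
theorem gn5 : countBelow gl 15348 = 10582 := countBelow_step gl 12790 2558 15348 8618 1964 10582 gn4 gk5 rfl rfl
theorem gn6 : countBelow gl 17906 = 12122 := countBelow_step gl 15348 2558 17906 10582 1540 12122 gn5 gk6 rfl rfl
theorem gn7 : countBelow gl 20464 = 13533 := countBelow_step gl 17906 2558 20464 12122 1411 13533 gn6 gk7 rfl rfl
theorem gn8 : countBelow gl 23022 = 14660 := countBelow_step gl 20464 2558 23022 13533 1127 14660 gn7 gk8 rfl rfl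
theorem gn9 : countBelow gl 25580 = 16880 := countBelow_step gl 23022 2558 25580 14660 2220 16880 gn8 gk9 rfl rfl
theorem gn10 : countBelow gl 28138 = 18580 := countBelow_step gl 25580 2558 28138 16880 1700 18580 gn9 gk10 rfl rfl
theorem gn11 : countBelow gl 30696 = 20680 := countBelow_step gl 28138 2558 30696 18580 2100 20680 gn10 gk11 rfl rfl
theorem gn12 : countBelow gl 33254 = 22436 := countBelow_step gl 30696 2558 33254 20680 1756 22436 gn11 gk12 rfl rfl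
theorem gn13 : countBelow gl 35812 = 23964 := countBelow_step gl 33254 2558 35812 22436 1528 23964 gn12 gk13 rfl rfl
theorem gn14 : countBelow gl 38370 = 24968 := countBelow_step gl 35812 2558 38370 23964 1004 24968 gn13 gk14 rfl rfl
theorem gn15 : countBelow gl 40928 = 26248 := countBelow_step gl 38370 2558 40928 24968 1280 26248 gn14 gk15 rfl rfl
theorem gn16 : countBelow gl 43486 = 27458 := countBelow_step gl 40928 2558 43486 26248 1210 27458 gn15 gk16 rfl rfl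
theorem gn17 : countBelow gl 46044 = 29068 := countBelow_step gl 43486 2558 46044 27458 1610 29068 gn16 gk17 rfl rfl
theorem gn18 : countBelow gl 48602 = 30952 := countBelow_step gl 46044 2558 48602 29068 1884 30952 gn17 gk18 rfl rfl
theorem gn19 : countBelow gl 51160 = 32911 := countBelow_step gl 48602 2558 51160 30952 1959 32911 gn18 gk19 rfl rfl
theorem gn20 : countBelow gl 53718 = 34574 := countBelow_step gl 51160 2558 53718 32911 1663 34574 gn19 gk20 rfl rfl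
theorem gn21 : countBelow gl 56276 = 35413 := countBelow_step gl 53718 2558 56276 34574 839 35413 gn20 gk21 rfl rfl
theorem gn22 : countBelow gl 58834 = 37091 := countBelow_step gl 56276 2558 58834 35413 1678 37091 gn21 gk22 rfl rfl
theorem gn23 : countBelow gl 61392 = 38884 := countBelow_step gl 58834 2558 61392 37091 1793 38884 gn22 gk23 rfl rfl
theorem gn24 : countBelow gl 63950 = 40564 := countBelow_step gl 61392 2558 63950 38884 1680 40564 gn23 gk24 rfl rfl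
theorem gn25 : countBelow gl 66508 = 42008 := countBelow_step gl 63950 2558 66508 40564 1444 42008 gn24 gk25 rfl rfl
theorem gn26 : countBelow gl 69066 = 43196 := countBelow_step gl 66508 2558 69066 42008 1188 43196 gn25 gk26 rfl rfl
theorem gn27 : countBelow gl 71624 = 44392 := countBelow_step gl 69066 2558 71624 43196 1196 44392 gn26 gk27 rfl rfl
theorem gn28 : countBelow gl 74182 = 45411 := countBelow_step gl 71624 2558 74182 44392 1019 45411 gn27 gk28 rfl rfl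
theorem gn29 : countBelow gl 76740 = 46305 := countBelow_step gl 74182 2558 76740 45411 894 46305 gn28 gk29 rfl rfl
theorem gn30 : countBelow gl 79298 = 47042 := countBelow_step gl 76740 2558 79298 46305 737 47042 gn29 gk30 rfl rfl
theorem gn31 : countBelow gl 81856 = 48200 := countBelow_step gl 79298 2558 81856 47042 1158 48200 gn30 gk31 rfl rfl
theorem gn32 : countBelow gl 84414 = 49280 := countBelow_step gl 81856 2558 84414 48200 1080 49280 gn31 gk32 rfl rfl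
theorem gn33 : countBelow gl 86972 = 50642 := countBelow_step gl 84414 2558 86972 49280 1362 50642 gn32 gk33 rfl rfl
theorem gn34 : countBelow gl 89530 = 51930 := countBelow_step gl 86972 2558 89530 50642 1288 51930 gn33 gk34 rfl rfl
theorem gn35 : countBelow gl 92088 = 53297 := countBelow_step gl 89530 2558 92088 51930 1367 53297 gn34 gk35 rfl rfl
theorem gn36 : countBelow gl 94646 = 54623 := countBelow_step gl 92088 2558 94646 53297 1326 54623 gn35 gk36 rfl rfl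
theorem gn37 : countBelow gl 97204 = 56091 := countBelow_step gl 94646 2558 97204 54623 1468 56091 gn36 gk37 rfl rfl
theorem gn38 : countBelow gl 99762 = 57794 := countBelow_step gl 97204 2558 99762 56091 1703 57794 gn37 gk38 rfl rfl
theorem gn39 : countBelow gl 102320 = 59377 := countBelow_step gl 99762 2558 102320 57794 1583 59377 gn38 gk39 rfl rfl
theorem gn40 : countBelow gl 104878 = 61146 := countBelow_step gl 102320 2558 104878 59377 1769 61146 gn39 gk40 rfl rfl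
theorem gn41 : countBelow gl 107436 = 62673 := countBelow_step gl 104878 2558 107436 61146 1527 62673 gn40 gk41 rfl rfl
theorem gn42 : countBelow gl 109994 = 63698 := countBelow_step gl 107436 2558 109994 62673 1025 63698 gn41 gk42 rfl rfl
theorem gn43 : countBelow gl 112552 = 64433 := countBelow_step gl 109994 2558 112552 63698 735 64433 gn42 gk43 rfl rfl
theorem gn44 : countBelow gl 115110 = 65603 := countBelow_step gl 112552 2558 115110 64433 1170 65603 gn43 gk44 rfl rfl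
theorem gn45 : countBelow gl 117668 = 67124 := countBelow_step gl 115110 2558 117668 65603 1521 67124 gn44 gk45 rfl rfl
theorem gn46 : countBelow gl 120226 = 68384 := countBelow_step gl 117668 2558 120226 67124 1260 68384 gn45 gk46 rfl rfl
theorem gn47 : countBelow gl 122784 = 69679 := countBelow_step gl 120226 2558 122784 68384 1295 69679 gn46 gk47 rfl rfl
theorem gn48 : countBelow gl 125342 = 71224 := countBelow_step gl 122784 2558 125342 69679 1545 71224 gn47 gk48 rfl rfl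
theorem gn49 : countBelow gl 127900 = 72515 := countBelow_step gl 125342 2558 127900 71224 1291 72515 gn48 gk49 rfl rfl
theorem gn50 : countBelow gl 130458 = 73743 := countBelow_step gl 127900 2558 130458 72515 1228 73743 gn49 gk50 rfl rfl
theorem gn51 : countBelow gl 133016 = 74787 := countBelow_step gl 130458 2558 133016 73743 1044 74787 gn50 gk51 rfl rfl
theorem gn52 : countBelow gl 135574 = 75797 := countBelow_step gl 133016 2558 135574 74787 1010 75797 gn51 gk52 rfl rfl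
theorem gn53 : countBelow gl 138132 = 76645 := countBelow_step gl 135574 2558 138132 75797 848 76645 gn52 gk53 rfl rfl
theorem gn54 : countBelow gl 140690 = 77670 := countBelow_step gl 138132 2558 140690 76645 1025 77670 gn53 gk54 rfl rfl
theorem gn55 : countBelow gl 143248 = 78636 := countBelow_step gl 140690 2558 143248 77670 966 78636 gn54 gk55 rfl rfl
theorem gn56 : countBelow gl 145806 = 79401 := countBelow_step gl 143248 2558 145806 78636 765 79401 gn55 gk56 rfl rfl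
theorem gn57 : countBelow gl 148364 = 80070 := countBelow_step gl 145806 2558 148364 79401 669 80070 gn56 gk57 rfl rfl
theorem gn58 : countBelow gl 150922 = 80564 := countBelow_step gl 148364 2558 150922 80070 494 80564 gn57 gk58 rfl rfl
theorem gn59 : countBelow gl 153480 = 81261 := countBelow_step gl 150922 2558 153480 80564 697 81261 gn58 gk59 rfl rfl
theorem gn60 : countBelow gl 156038 = 81996 := countBelow_step gl 153480 2558 156038 81261 735 81996 gn59 gk60 rfl rfl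
theorem gn61 : countBelow gl 158596 = 82604 := countBelow_step gl 156038 2558 158596 81996 608 82604 gn60 gk61 rfl rfl
theorem gn62 : countBelow gl 161154 = 83570 := countBelow_step gl 158596 2558 161154 82604 966 83570 gn61 gk62 rfl rfl
theorem gn63 : countBelow gl 163712 = 85537 := countBelow_step gl 161154 2558 163712 83570 1967 85537 gn62 gk63 rfl rfl
theorem gn64 : countBelow gl 166270 = 87954 := countBelow_step gl 163712 2558 166270 85537 2417 87954 gn63 gk64 rfl rfl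
theorem gn65 : countBelow gl 168828 = 90414 := countBelow_step gl 166270 2558 168828 87954 2460 90414 gn64 gk65 rfl rfl
theorem gn66 : countBelow gl 171386 = 92884 := countBelow_step gl 168828 2558 171386 90414 2470 92884 gn65 gk66 rfl rfl
theorem gn67 : countBelow gl 173944 = 95367 := countBelow_step gl 171386 2558 173944 92884 2483 95367 gn66 gk67 rfl rfl
theorem gn68 : countBelow gl 176502 = 97864 := countBelow_step gl 173944 2558 176502 95367 2497 97864 gn67 gk68 rfl rfl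
theorem gn69 : countBelow gl 179060 = 100381 := countBelow_step gl 176502 2558 179060 97864 2517 100381 gn68 gk69 rfl rfl
theorem gn70 : countBelow gl 181618 = 102888 := countBelow_step gl 179060 2558 181618 100381 2507 102888 gn69 gk70 rfl rfl
theorem gn71 : countBelow gl 184176 = 105426 := countBelow_step gl 181618 2558 184176 102888 2538 105426 gn70 gk71 rfl rfl
theorem gn72 : countBelow gl 186734 = 107955 := countBelow_step gl 184176 2558 186734 105426 2529 107955 gn71 gk72 rfl rfl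
theorem gn73 : countBelow gl 189292 = 110494 := countBelow_step gl 186734 2558 189292 107955 2539 110494 gn72 gk73 rfl rfl
theorem gn74 : countBelow gl 191850 = 113033 := countBelow_step gl 189292 2558 191850 110494 2539 113033 gn73 gk74 rfl rfl
theorem gn75 : countBelow gl 194408 = 115587 := countBelow_step gl 191850 2558 194408 113033 2554 115587 gn74 gk75 rfl rfl
theorem gn76 : countBelow gl 196966 = 118144 := countBelow_step gl 194408 2558 196966 115587 2557 118144 gn75 gk76 rfl rfl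
theorem gn77 : countBelow gl 199524 = 120702 := countBelow_step gl 196966 2558 199524 118144 2558 120702 gn76 gk77 rfl rfl
theorem gn78 : countBelow gl 201582 = 122760 := countBelow_step gl 199524 2058 201582 120702 2058 122760 gn77 gk78 rfl rfl
theorem tchk0 : treeChk PresON.cc.inv 8 (fullBases 8 PresON.cc.inv PresON.R) (fullSub PresON.cc.inv S) 0 tree0 = true := by decide +kernel
theorem tchk1 : treeChk PresON.cc.inv 8 (fullBases 8 PresON.cc.inv PresON.R) (fullSub PresON.cc.inv S) 1 tree1 = true := by decide +kernel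
theorem tchk2 : treeChk PresON.cc.inv 8 (fullBases 8 PresON.cc.inv PresON.R) (fullSub PresON.cc.inv S) 2 tree2 = true := by decide +kernel
theorem tchk3 : treeChk PresON.cc.inv 8 (fullBases 8 PresON.cc.inv PresON.R) (fullSub PresON.cc.inv S) 3 tree3 = true := by decide +kernel
theorem tchk4 : treeChk PresON.cc.inv 8 (fullBases 8 PresON.cc.inv PresON.R) (fullSub PresON.cc.inv S) 4 tree4 = true := by decide +kernel
theorem tchk5 : treeChk PresON.cc.inv 8 (fullBases 8 PresON.cc.inv PresON.R) (fullSub PresON.cc.inv S) 5 tree5 = true := by decide +kernel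
theorem tchk6 : treeChk PresON.cc.inv 8 (fullBases 8 PresON.cc.inv PresON.R) (fullSub PresON.cc.inv S) 6 tree6 = true := by decide +kernel
theorem tchk7 : treeChk PresON.cc.inv 8 (fullBases 8 PresON.cc.inv PresON.R) (fullSub PresON.cc.inv S) 7 tree7 = true := by decide +kernel
theorem tchk8 : treeChk PresON.cc.inv 8 (fullBases 8 PresON.cc.inv PresON.R) (fullSub PresON.cc.inv S) 8 tree8 = true := by decide +kernel

noncomputable def certData2 : CertData2 PresON.cc.C PresON.cc.inv PresON.R S 122760 where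
  P := par
  hP := ⟨by decide +kernel, by decide +kernel, by decide +kernel, by decide +kernel, by decide +kernel⟩
  tabs := tabs
  N := 201582
  st := st
  hst := hst
  trees := trees
  je := je
  pe := pe
  rb := 9
  mR := 511
  cK := 16
  hcK := by decide +kernel
  htree := by
    intro l hl
    have hl' : l ≤ 8 := hl
    interval_cases l
    exacts [tchk0, tchk1, tchk2, tchk3, tchk4, tchk5, tchk6, tchk7, tchk8]
  hN := by decide +kernel
  hN1 := by decide +kernel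
  hlo := by
    intro l hl
    have hl' : l ≤ 8 := hl
    interval_cases l <;> decide +kernel
  hhi := by
    intro l hl
    have hl' : l ≤ 8 := hl
    interval_cases l <;> decide +kernel
  hz := by
    intro l hl
    have hl' : 8 < l := hl
    obtain ⟨k, rfl⟩ : ∃ k, l = k + 9 := ⟨l - 9, by omega⟩
    rfl
  hcol := by
    intro l hl
    have hl' : l < 8 := hl
    interval_cases l
    exacts [s0u448, s1u458, s2u397, s3u407, s4u448, s5u437, s6u395, s7u395]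
  heps := s8u340
  hcount := gn78

noncomputable def certData : CertData PresON.cc.C PresON.cc.inv PresON.R S 122760 := certData2.toCertData

end Cfsg.Agent.Lib.Helper35.ON122760
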