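import Cfsg.Agent.Lib.Helper35.ON122760.Data

set_option Elab.async false

namespace Cfsg.Agent.Lib.Helper35.ON122760

open Cfsg.Agent.Lib.Helper35

theorem s0c0 : allBelow (fun k => fs0 (Nat.add (Nat.succ 0) k)) 561 = true := by decide +kernel
theorem s0c1 : allBelow (fun k => fs0 (Nat.add (Nat.succ 561) k)) 462 = true := by decide +kernel
theorem s0c2 : allBelow (fun k => fs0 (Nat.add (Nat.succ 1023) k)) 486 = true := by decide +kernel
theorem s0c3 : allBelow (fun k => fs0 (Nat.add (Nat.succ 1509) k)) 491 = true := by decide +kernel
theorem s0c4 : allBelow (fun k => fs0 (Nat.add (Nat.succ 2000) k)) 500 = true := by decide +kernel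
theorem s0c5 : allBelow (fun k => fs0 (Nat.add (Nat.succ 2500) k)) 528 = true := by decide +kernel
theorem s0c6 : allBelow (fun k => fs0 (Nat.add (Nat.succ 3028) k)) 503 = true := by decide +kernel
theorem s0c7 : allBelow (fun k => fs0 (Nat.add (Nat.succ 3531) k)) 503 = true := by decide +kernel
theorem s0c8 : allBelow (fun k => fs0 (Nat.add (Nat.succ 4034) k)) 528 = true := by decide +kernel
theorem s0c9 : allBelow (fun k => fs0 (Nat.add (Nat.succ 4562) k)) 506 = true := by decide +kernel
theorem s0c10 : allBelow (fun k => fs0 (Nat.add (Nat.succ 5068) k)) 491 = true := by decide +kernel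
theorem s0c11 : allBelow (fun k => fs0 (Nat.add (Nat.succ 5559) k)) 484 = true := by decide +kernel
theorem s0c12 : allBelow (fun k => fs0 (Nat.add (Nat.succ 6043) k)) 475 = true := by decide +kernel
theorem s0c13 : allBelow (fun k => fs0 (Nat.add (Nat.succ 6518) k)) 469 = true := by decide +kernel
theorem s0c14 : allBelow (fun k => fs0 (Nat.add (Nat.succ 6987) k)) 524 = true := by decide +kernel
theorem s0c15 : allBelow (fun k => fs0 (Nat.add (Nat.succ 7511) k)) 451 = true := by decide +kernel
theorem s0c16 : allBelow (fun k => fs0 (Nat.add (Nat.succ 7962) k)) 514 = true := by decide +kernel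
theorem s0c17 : allBelow (fun k => fs0 (Nat.add (Nat.succ 8476) k)) 487 = true := by decide +kernel
theorem s0c18 : allBelow (fun k => fs0 (Nat.add (Nat.succ 8963) k)) 500 = true := by decide +kernel
theorem s0c19 : allBelow (fun k => fs0 (Nat.add (Nat.succ 9463) k)) 534 = true := by decide +kernel
theorem s0c20 : allBelow (fun k => fs0 (Nat.add (Nat.succ 9997) k)) 523 = true := by decide +kernel
theorem s0c21 : allBelow (fun k => fs0 (Nat.add (Nat.succ 10520) k)) 515 = true := by decide +kernel
theorem s0c22 : allBelow (fun k => fs0 (Nat.add (Nat.succ 11035) k)) 454 = true := by decide +kernel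
theorem s0c23 : allBelow (fun k => fs0 (Nat.add (Nat.succ 11489) k)) 468 = true := by decide +kernel
theorem s0c24 : allBelow (fun k => fs0 (Nat.add (Nat.succ 11957) k)) 481 = true := by decide +kernel
theorem s0c25 : allBelow (fun k => fs0 (Nat.add (Nat.succ 12438) k)) 472 = true := by decide +kernel
theorem s0c26 : allBelow (fun k => fs0 (Nat.add (Nat.succ 12910) k)) 463 = true := by decide +kernel
theorem s0c27 : allBelow (fun k => fs0 (Nat.add (Nat.succ 13373) k)) 452 = true := by decide +kernel
theorem s0c28 : allBelow (fun k => fs0 (Nat.add (Nat.succ 13825) k)) 463 = true := by decide +kernel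
theorem s0c29 : allBelow (fun k => fs0 (Nat.add (Nat.succ 14288) k)) 491 = true := by decide +kernel
theorem s0c30 : allBelow (fun k => fs0 (Nat.add (Nat.succ 14779) k)) 519 = true := by decide +kernel
theorem s0c31 : allBelow (fun k => fs0 (Nat.add (Nat.succ 15298) k)) 526 = true := by decide +kernel
theorem s0c32 : allBelow (fun k => fs0 (Nat.add (Nat.succ 15824) k)) 480 = true := by decide +kernel
theorem s0c33 : allBelow (fun k => fs0 (Nat.add (Nat.succ 16304) k)) 444 = true := by decide +kernel
theorem s0c34 : allBelow (fun k => fs0 (Nat.add (Nat.succ 16748) k)) 480 = true := by decide +kernel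
theorem s0c35 : allBelow (fun k => fs0 (Nat.add (Nat.succ 17228) k)) 495 = true := by decide +kernel
theorem s0c36 : allBelow (fun k => fs0 (Nat.add (Nat.succ 17723) k)) 502 = true := by decide +kernel
theorem s0c37 : allBelow (fun k => fs0 (Nat.add (Nat.succ 18225) k)) 513 = true := by decide +kernel
theorem s0c38 : allBelow (fun k => fs0 (Nat.add (Nat.succ 18738) k)) 490 = true := by decide +kernel
theorem s0c39 : allBelow (fun k => fs0 (Nat.add (Nat.succ 19228) k)) 487 = true := by decide +kernel
theorem s0c40 : allBelow (fun k => fs0 (Nat.add (Nat.succ 19715) k)) 519 = true := by decide +kernel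
theorem s0c41 : allBelow (fun k => fs0 (Nat.add (Nat.succ 20234) k)) 523 = true := by decide +kernel
theorem s0c42 : allBelow (fun k => fs0 (Nat.add (Nat.succ 20757) k)) 519 = true := by decide +kernel
theorem s0c43 : allBelow (fun k => fs0 (Nat.add (Nat.succ 21276) k)) 530 = true := by decide +kernel
theorem s0c44 : allBelow (fun k => fs0 (Nat.add (Nat.succ 21806) k)) 513 = true := by decide +kernel
theorem s0c45 : allBelow (fun k => fs0 (Nat.add (Nat.succ 22319) k)) 525 = true := by decide +kernel
theorem s0c46 : allBelow (fun k => fs0 (Nat.add (Nat.succ 22844) k)) 511 = true := by decide +kernel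
theorem s0c47 : allBelow (fun k => fs0 (Nat.add (Nat.succ 23355) k)) 443 = true := by decide +kernel
theorem s0c48 : allBelow (fun k => fs0 (Nat.add (Nat.succ 23798) k)) 474 = true := by decide +kernel
theorem s0c49 : allBelow (fun k => fs0 (Nat.add (Nat.succ 24272) k)) 446 = true := by decide +kernel
theorem s0c50 : allBelow (fun k => fs0 (Nat.add (Nat.succ 24718) k)) 424 = true := by decide +kernel
theorem s0c51 : allBelow (fun k => fs0 (Nat.add (Nat.succ 25142) k)) 476 = true := by decide +kernel
theorem s0c52 : allBelow (fun k => fs0 (Nat.add (Nat.succ 25618) k)) 464 = true := by decide +kernel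
theorem s0c53 : allBelow (fun k => fs0 (Nat.add (Nat.succ 26082) k)) 464 = true := by decide +kernel
theorem s0c54 : allBelow (fun k => fs0 (Nat.add (Nat.succ 26546) k)) 503 = true := by decide +kernel
theorem s0c55 : allBelow (fun k => fs0 (Nat.add (Nat.succ 27049) k)) 489 = true := by decide +kernel
theorem s0c56 : allBelow (fun k => fs0 (Nat.add (Nat.succ 27538) k)) 455 = true := by decide +kernel
theorem s0c57 : allBelow (fun k => fs0 (Nat.add (Nat.succ 27993) k)) 463 = true := by decide +kernel
theorem s0c58 : allBelow (fun k => fs0 (Nat.add (Nat.succ 28456) k)) 425 = true := by decide +kernel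
theorem s0c59 : allBelow (fun k => fs0 (Nat.add (Nat.succ 28881) k)) 454 = true := by decide +kernel
theorem s0c60 : allBelow (fun k => fs0 (Nat.add (Nat.succ 29335) k)) 447 = true := by decide +kernel
theorem s0c61 : allBelow (fun k => fs0 (Nat.add (Nat.succ 29782) k)) 466 = true := by decide +kernel
theorem s0c62 : allBelow (fun k => fs0 (Nat.add (Nat.succ 30248) k)) 535 = true := by decide +kernel
theorem s0c63 : allBelow (fun k => fs0 (Nat.add (Nat.succ 30783) k)) 487 = true := by decide +kernel
theorem s0c64 : allBelow (fun k => fs0 (Nat.add (Nat.succ 31270) k)) 478 = true := by decide +kernel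
theorem s0c65 : allBelow (fun k => fs0 (Nat.add (Nat.succ 31748) k)) 463 = true := by decide +kernel
theorem s0c66 : allBelow (fun k => fs0 (Nat.add (Nat.succ 32211) k)) 481 = true := by decide +kernel
theorem s0c67 : allBelow (fun k => fs0 (Nat.add (Nat.succ 32692) k)) 493 = true := by decide +kernel
theorem s0c68 : allBelow (fun k => fs0 (Nat.add (Nat.succ 33185) k)) 489 = true := by decide +kernel
theorem s0c69 : allBelow (fun k => fs0 (Nat.add (Nat.succ 33674) k)) 456 = true := by decide +kernel
theorem s0c70 : allBelow (fun k => fs0 (Nat.add (Nat.succ 34130) k)) 441 = true := by decide +kernel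
theorem s0c71 : allBelow (fun k => fs0 (Nat.add (Nat.succ 34571) k)) 523 = true := by decide +kernel
theorem s0c72 : allBelow (fun k => fs0 (Nat.add (Nat.succ 35094) k)) 447 = true := by decide +kernel
theorem s0c73 : allBelow (fun k => fs0 (Nat.add (Nat.succ 35541) k)) 495 = true := by decide +kernel
theorem s0c74 : allBelow (fun k => fs0 (Nat.add (Nat.succ 36036) k)) 537 = true := by decide +kernel
theorem s0c75 : allBelow (fun k => fs0 (Nat.add (Nat.succ 36573) k)) 525 = true := by decide +kernel
theorem s0c76 : allBelow (fun k => fs0 (Nat.add (Nat.succ 37098) k)) 539 = true := by decide +kernel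
theorem s0c77 : allBelow (fun k => fs0 (Nat.add (Nat.succ 37637) k)) 531 = true := by decide +kernel
theorem s0c78 : allBelow (fun k => fs0 (Nat.add (Nat.succ 38168) k)) 530 = true := by decide +kernel
theorem s0c79 : allBelow (fun k => fs0 (Nat.add (Nat.succ 38698) k)) 515 = true := by decide +kernel
theorem s0c80 : allBelow (fun k => fs0 (Nat.add (Nat.succ 39213) k)) 506 = true := by decide +kernel
theorem s0c81 : allBelow (fun k => fs0 (Nat.add (Nat.succ 39719) k)) 558 = true := by decide +kernel
theorem s0c82 : allBelow (fun k => fs0 (Nat.add (Nat.succ 40277) k)) 470 = true := by decide +kernel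
theorem s0c83 : allBelow (fun k => fs0 (Nat.add (Nat.succ 40747) k)) 471 = true := by decide +kernel
theorem s0c84 : allBelow (fun k => fs0 (Nat.add (Nat.succ 41218) k)) 481 = true := by decide +kernel
theorem s0c85 : allBelow (fun k => fs0 (Nat.add (Nat.succ 41699) k)) 493 = true := by decide +kernel
theorem s0c86 : allBelow (fun k => fs0 (Nat.add (Nat.succ 42192) k)) 492 = true := by decide +kernel
theorem s0c87 : allBelow (fun k => fs0 (Nat.add (Nat.succ 42684) k)) 471 = true := by decide +kernel
theorem s0c88 : allBelow (fun k => fs0 (Nat.add (Nat.succ 43155) k)) 506 = true := by decide +kernel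
theorem s0c89 : allBelow (fun k => fs0 (Nat.add (Nat.succ 43661) k)) 487 = true := by decide +kernel
theorem s0c90 : allBelow (fun k => fs0 (Nat.add (Nat.succ 44148) k)) 480 = true := by decide +kernel
theorem s0c91 : allBelow (fun k => fs0 (Nat.add (Nat.succ 44628) k)) 508 = true := by decide +kernel
theorem s0c92 : allBelow (fun k => fs0 (Nat.add (Nat.succ 45136) k)) 510 = true := by decide +kernel
theorem s0c93 : allBelow (fun k => fs0 (Nat.add (Nat.succ 45646) k)) 482 = true := by decide +kernel
theorem s0c94 : allBelow (fun k => fs0 (Nat.add (Nat.succ 46128) k)) 503 = true := by decide +kernel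
theorem s0c95 : allBelow (fun k => fs0 (Nat.add (Nat.succ 46631) k)) 463 = true := by decide +kernel
theorem s0c96 : allBelow (fun k => fs0 (Nat.add (Nat.succ 47094) k)) 434 = true := by decide +kernel
theorem s0c97 : allBelow (fun k => fs0 (Nat.add (Nat.succ 47528) k)) 445 = true := by decide +kernel
theorem s0c98 : allBelow (fun k => fs0 (Nat.add (Nat.succ 47973) k)) 468 = true := by decide +kernel
theorem s0c99 : allBelow (fun k => fs0 (Nat.add (Nat.succ 48441) k)) 529 = true := by decide +kernel
theorem s0c100 : allBelow (fun k => fs0 (Nat.add (Nat.succ 48970) k)) 447 = true := by decide +kernel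
theorem s0c101 : allBelow (fun k => fs0 (Nat.add (Nat.succ 49417) k)) 481 = true := by decide +kernel
theorem s0c102 : allBelow (fun k => fs0 (Nat.add (Nat.succ 49898) k)) 498 = true := by decide +kernel
theorem s0c103 : allBelow (fun k => fs0 (Nat.add (Nat.succ 50396) k)) 455 = true := by decide +kernel
theorem s0c104 : allBelow (fun k => fs0 (Nat.add (Nat.succ 50851) k)) 472 = true := by decide +kernel
theorem s0c105 : allBelow (fun k => fs0 (Nat.add (Nat.succ 51323) k)) 519 = true := by decide +kernel
theorem s0c106 : allBelow (fun k => fs0 (Nat.add (Nat.succ 51842) k)) 491 = true := by decide +kernel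
theorem s0c107 : allBelow (fun k => fs0 (Nat.add (Nat.succ 52333) k)) 478 = true := by decide +kernel
theorem s0c108 : allBelow (fun k => fs0 (Nat.add (Nat.succ 52811) k)) 488 = true := by decide +kernel
theorem s0c109 : allBelow (fun k => fs0 (Nat.add (Nat.succ 53299) k)) 473 = true := by decide +kernel
theorem s0c110 : allBelow (fun k => fs0 (Nat.add (Nat.succ 53772) k)) 539 = true := by decide +kernel
theorem s0c111 : allBelow (fun k => fs0 (Nat.add (Nat.succ 54311) k)) 560 = true := by decide +kernel
theorem s0c112 : allBelow (fun k => fs0 (Nat.add (Nat.succ 54871) k)) 546 = true := by decide +kernel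
theorem s0c113 : allBelow (fun k => fs0 (Nat.add (Nat.succ 55417) k)) 530 = true := by decide +kernel
theorem s0c114 : allBelow (fun k => fs0 (Nat.add (Nat.succ 55947) k)) 539 = true := by decide +kernel
theorem s0c115 : allBelow (fun k => fs0 (Nat.add (Nat.succ 56486) k)) 481 = true := by decide +kernel
theorem s0c116 : allBelow (fun k => fs0 (Nat.add (Nat.succ 56967) k)) 460 = true := by decide +kernel
theorem s0c117 : allBelow (fun k => fs0 (Nat.add (Nat.succ 57427) k)) 493 = true := by decide +kernel
theorem s0c118 : allBelow (fun k => fs0 (Nat.add (Nat.succ 57920) k)) 489 = true := by decide +kernel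
theorem s0c119 : allBelow (fun k => fs0 (Nat.add (Nat.succ 58409) k)) 496 = true := by decide +kernel
theorem s0c120 : allBelow (fun k => fs0 (Nat.add (Nat.succ 58905) k)) 454 = true := by decide +kernel
theorem s0c121 : allBelow (fun k => fs0 (Nat.add (Nat.succ 59359) k)) 475 = true := by decide +kernel
theorem s0c122 : allBelow (fun k => fs0 (Nat.add (Nat.succ 59834) k)) 482 = true := by decide +kernel
theorem s0c123 : allBelow (fun k => fs0 (Nat.add (Nat.succ 60316) k)) 456 = true := by decide +kernel
theorem s0c124 : allBelow (fun k => fs0 (Nat.add (Nat.succ 60772) k)) 475 = true := by decide +kernel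
theorem s0c125 : allBelow (fun k => fs0 (Nat.add (Nat.succ 61247) k)) 490 = true := by decide +kernel
theorem s0c126 : allBelow (fun k => fs0 (Nat.add (Nat.succ 61737) k)) 485 = true := by decide +kernel
theorem s0c127 : allBelow (fun k => fs0 (Nat.add (Nat.succ 62222) k)) 539 = true := by decide +kernel
theorem s0c128 : allBelow (fun k => fs0 (Nat.add (Nat.succ 62761) k)) 530 = true := by decide +kernel
theorem s0c129 : allBelow (fun k => fs0 (Nat.add (Nat.succ 63291) k)) 509 = true := by decide +kernel
theorem s0c130 : allBelow (fun k => fs0 (Nat.add (Nat.succ 63800) k)) 578 = true := by decide +kernel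
theorem s0c131 : allBelow (fun k => fs0 (Nat.add (Nat.succ 64378) k)) 543 = true := by decide +kernel
theorem s0c132 : allBelow (fun k => fs0 (Nat.add (Nat.succ 64921) k)) 499 = true := by decide +kernel
theorem s0c133 : allBelow (fun k => fs0 (Nat.add (Nat.succ 65420) k)) 487 = true := by decide +kernel
theorem s0c134 : allBelow (fun k => fs0 (Nat.add (Nat.succ 65907) k)) 486 = true := by decide +kernel
theorem s0c135 : allBelow (fun k => fs0 (Nat.add (Nat.succ 66393) k)) 482 = true := by decide +kernel
theorem s0c136 : allBelow (fun k => fs0 (Nat.add (Nat.succ 66875) k)) 503 = true := by decide +kernel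
theorem s0c137 : allBelow (fun k => fs0 (Nat.add (Nat.succ 67378) k)) 488 = true := by decide +kernel
theorem s0c138 : allBelow (fun k => fs0 (Nat.add (Nat.succ 67866) k)) 513 = true := by decide +kernel
theorem s0c139 : allBelow (fun k => fs0 (Nat.add (Nat.succ 68379) k)) 510 = true := by decide +kernel
theorem s0c140 : allBelow (fun k => fs0 (Nat.add (Nat.succ 68889) k)) 516 = true := by decide +kernel
theorem s0c141 : allBelow (fun k => fs0 (Nat.add (Nat.succ 69405) k)) 501 = true := by decide +kernel
theorem s0c142 : allBelow (fun k => fs0 (Nat.add (Nat.succ 69906) k)) 551 = true := by decide +kernel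
theorem s0c143 : allBelow (fun k => fs0 (Nat.add (Nat.succ 70457) k)) 536 = true := by decide +kernel
theorem s0c144 : allBelow (fun k => fs0 (Nat.add (Nat.succ 70993) k)) 502 = true := by decide +kernel
theorem s0c145 : allBelow (fun k => fs0 (Nat.add (Nat.succ 71495) k)) 502 = true := by decide +kernel
theorem s0c146 : allBelow (fun k => fs0 (Nat.add (Nat.succ 71997) k)) 522 = true := by decide +kernel
theorem s0c147 : allBelow (fun k => fs0 (Nat.add (Nat.succ 72519) k)) 533 = true := by decide +kernel
theorem s0c148 : allBelow (fun k => fs0 (Nat.add (Nat.succ 73052) k)) 498 = true := by decide +kernel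
theorem s0c149 : allBelow (fun k => fs0 (Nat.add (Nat.succ 73550) k)) 520 = true := by decide +kernel
theorem s0c150 : allBelow (fun k => fs0 (Nat.add (Nat.succ 74070) k)) 565 = true := by decide +kernel
theorem s0c151 : allBelow (fun k => fs0 (Nat.add (Nat.succ 74635) k)) 503 = true := by decide +kernel
theorem s0c152 : allBelow (fun k => fs0 (Nat.add (Nat.succ 75138) k)) 506 = true := by decide +kernel
theorem s0c153 : allBelow (fun k => fs0 (Nat.add (Nat.succ 75644) k)) 510 = true := by decide +kernel
theorem s0c154 : allBelow (fun k => fs0 (Nat.add (Nat.succ 76154) k)) 535 = true := by decide +kernel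
theorem s0c155 : allBelow (fun k => fs0 (Nat.add (Nat.succ 76689) k)) 519 = true := by decide +kernel
theorem s0c156 : allBelow (fun k => fs0 (Nat.add (Nat.succ 77208) k)) 506 = true := by decide +kernel
theorem s0c157 : allBelow (fun k => fs0 (Nat.add (Nat.succ 77714) k)) 520 = true := by decide +kernel
theorem s0c158 : allBelow (fun k => fs0 (Nat.add (Nat.succ 78234) k)) 517 = true := by decide +kernel
theorem s0c159 : allBelow (fun k => fs0 (Nat.add (Nat.succ 78751) k)) 521 = true := by decide +kernel
theorem s0c160 : allBelow (fun k => fs0 (Nat.add (Nat.succ 79272) k)) 524 = true := by decide +kernel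
theorem s0c161 : allBelow (fun k => fs0 (Nat.add (Nat.succ 79796) k)) 547 = true := by decide +kernel
theorem s0c162 : allBelow (fun k => fs0 (Nat.add (Nat.succ 80343) k)) 506 = true := by decide +kernel
theorem s0c163 : allBelow (fun k => fs0 (Nat.add (Nat.succ 80849) k)) 508 = true := by decide +kernel
theorem s0c164 : allBelow (fun k => fs0 (Nat.add (Nat.succ 81357) k)) 545 = true := by decide +kernel
theorem s0c165 : allBelow (fun k => fs0 (Nat.add (Nat.succ 81902) k)) 543 = true := by decide +kernel
theorem s0c166 : allBelow (fun k => fs0 (Nat.add (Nat.succ 82445) k)) 544 = true := by decide +kernel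
theorem s0c167 : allBelow (fun k => fs0 (Nat.add (Nat.succ 82989) k)) 519 = true := by decide +kernel
theorem s0c168 : allBelow (fun k => fs0 (Nat.add (Nat.succ 83508) k)) 532 = true := by decide +kernel
theorem s0c169 : allBelow (fun k => fs0 (Nat.add (Nat.succ 84040) k)) 475 = true := by decide +kernel
theorem s0c170 : allBelow (fun k => fs0 (Nat.add (Nat.succ 84515) k)) 469 = true := by decide +kernel
theorem s0c171 : allBelow (fun k => fs0 (Nat.add (Nat.succ 84984) k)) 473 = true := by decide +kernel
theorem s0c172 : allBelow (fun k => fs0 (Nat.add (Nat.succ 85457) k)) 454 = true := by decide +kernel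
theorem s0c173 : allBelow (fun k => fs0 (Nat.add (Nat.succ 85911) k)) 444 = true := by decide +kernel
theorem s0c174 : allBelow (fun k => fs0 (Nat.add (Nat.succ 86355) k)) 515 = true := by decide +kernel
theorem s0c175 : allBelow (fun k => fs0 (Nat.add (Nat.succ 86870) k)) 484 = true := by decide +kernel
theorem s0c176 : allBelow (fun k => fs0 (Nat.add (Nat.succ 87354) k)) 474 = true := by decide +kernel
theorem s0c177 : allBelow (fun k => fs0 (Nat.add (Nat.succ 87828) k)) 485 = true := by decide +kernel
theorem s0c178 : allBelow (fun k => fs0 (Nat.add (Nat.succ 88313) k)) 452 = true := by decide +kernel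
theorem s0c179 : allBelow (fun k => fs0 (Nat.add (Nat.succ 88765) k)) 468 = true := by decide +kernel
theorem s0c180 : allBelow (fun k => fs0 (Nat.add (Nat.succ 89233) k)) 496 = true := by decide +kernel
theorem s0c181 : allBelow (fun k => fs0 (Nat.add (Nat.succ 89729) k)) 482 = true := by decide +kernel
theorem s0c182 : allBelow (fun k => fs0 (Nat.add (Nat.succ 90211) k)) 477 = true := by decide +kernel
theorem s0c183 : allBelow (fun k => fs0 (Nat.add (Nat.succ 90688) k)) 485 = true := by decide +kernel
theorem s0c184 : allBelow (fun k => fs0 (Nat.add (Nat.succ 91173) k)) 506 = true := by decide +kernel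
theorem s0c185 : allBelow (fun k => fs0 (Nat.add (Nat.succ 91679) k)) 484 = true := by decide +kernel
theorem s0c186 : allBelow (fun k => fs0 (Nat.add (Nat.succ 92163) k)) 492 = true := by decide +kernel
theorem s0c187 : allBelow (fun k => fs0 (Nat.add (Nat.succ 92655) k)) 510 = true := by decide +kernel
theorem s0c188 : allBelow (fun k => fs0 (Nat.add (Nat.succ 93165) k)) 523 = true := by decide +kernel
theorem s0c189 : allBelow (fun k => fs0 (Nat.add (Nat.succ 93688) k)) 529 = true := by decide +kernel
theorem s0c190 : allBelow (fun k => fs0 (Nat.add (Nat.succ 94217) k)) 517 = true := by decide +kernel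
theorem s0c191 : allBelow (fun k => fs0 (Nat.add (Nat.succ 94734) k)) 527 = true := by decide +kernel
theorem s0c192 : allBelow (fun k => fs0 (Nat.add (Nat.succ 95261) k)) 466 = true := by decide +kernel
theorem s0c193 : allBelow (fun k => fs0 (Nat.add (Nat.succ 95727) k)) 453 = true := by decide +kernel
theorem s0c194 : allBelow (fun k => fs0 (Nat.add (Nat.succ 96180) k)) 436 = true := by decide +kernel
theorem s0c195 : allBelow (fun k => fs0 (Nat.add (Nat.succ 96616) k)) 441 = true := by decide +kernel
theorem s0c196 : allBelow (fun k => fs0 (Nat.add (Nat.succ 97057) k)) 480 = true := by decide +kernel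
theorem s0c197 : allBelow (fun k => fs0 (Nat.add (Nat.succ 97537) k)) 445 = true := by decide +kernel
theorem s0c198 : allBelow (fun k => fs0 (Nat.add (Nat.succ 97982) k)) 447 = true := by decide +kernel
theorem s0c199 : allBelow (fun k => fs0 (Nat.add (Nat.succ 98429) k)) 449 = true := by decide +kernel
theorem s0c200 : allBelow (fun k => fs0 (Nat.add (Nat.succ 98878) k)) 460 = true := by decide +kernel
theorem s0c201 : allBelow (fun k => fs0 (Nat.add (Nat.succ 99338) k)) 459 = true := by decide +kernel
theorem s0c202 : allBelow (fun k => fs0 (Nat.add (Nat.succ 99797) k)) 497 = true := by decide +kernel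
theorem s0c203 : allBelow (fun k => fs0 (Nat.add (Nat.succ 100294) k)) 504 = true := by decide +kernel
theorem s0c204 : allBelow (fun k => fs0 (Nat.add (Nat.succ 100798) k)) 462 = true := by decide +kernel
theorem s0c205 : allBelow (fun k => fs0 (Nat.add (Nat.succ 101260) k)) 434 = true := by decide +kernel
theorem s0c206 : allBelow (fun k => fs0 (Nat.add (Nat.succ 101694) k)) 414 = true := by decide +kernel
theorem s0c207 : allBelow (fun k => fs0 (Nat.add (Nat.succ 102108) k)) 440 = true := by decide +kernel
theorem s0c208 : allBelow (fun k => fs0 (Nat.add (Nat.succ 102548) k)) 432 = true := by decide +kernel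
theorem s0c209 : allBelow (fun k => fs0 (Nat.add (Nat.succ 102980) k)) 474 = true := by decide +kernel
theorem s0c210 : allBelow (fun k => fs0 (Nat.add (Nat.succ 103454) k)) 428 = true := by decide +kernel
theorem s0c211 : allBelow (fun k => fs0 (Nat.add (Nat.succ 103882) k)) 427 = true := by decide +kernel
theorem s0c212 : allBelow (fun k => fs0 (Nat.add (Nat.succ 104309) k)) 470 = true := by decide +kernel
theorem s0c213 : allBelow (fun k => fs0 (Nat.add (Nat.succ 104779) k)) 460 = true := by decide +kernel
theorem s0c214 : allBelow (fun k => fs0 (Nat.add (Nat.succ 105239) k)) 482 = true := by decide +kernel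
theorem s0c215 : allBelow (fun k => fs0 (Nat.add (Nat.succ 105721) k)) 431 = true := by decide +kernel
theorem s0c216 : allBelow (fun k => fs0 (Nat.add (Nat.succ 106152) k)) 464 = true := by decide +kernel
theorem s0c217 : allBelow (fun k => fs0 (Nat.add (Nat.succ 106616) k)) 517 = true := by decide +kernel
theorem s0c218 : allBelow (fun k => fs0 (Nat.add (Nat.succ 107133) k)) 472 = true := by decide +kernel
theorem s0c219 : allBelow (fun k => fs0 (Nat.add (Nat.succ 107605) k)) 477 = true := by decide +kernel
theorem s0c220 : allBelow (fun k => fs0 (Nat.add (Nat.succ 108082) k)) 507 = true := by decide +kernel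
theorem s0c221 : allBelow (fun k => fs0 (Nat.add (Nat.succ 108589) k)) 510 = true := by decide +kernel
theorem s0c222 : allBelow (fun k => fs0 (Nat.add (Nat.succ 109099) k)) 491 = true := by decide +kernel
theorem s0c223 : allBelow (fun k => fs0 (Nat.add (Nat.succ 109590) k)) 494 = true := by decide +kernel
theorem s0c224 : allBelow (fun k => fs0 (Nat.add (Nat.succ 110084) k)) 484 = true := by decide +kernel
theorem s0c225 : allBelow (fun k => fs0 (Nat.add (Nat.succ 110568) k)) 448 = true := by decide +kernel
theorem s0c226 : allBelow (fun k => fs0 (Nat.add (Nat.succ 111016) k)) 569 = true := by decide +kernel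
theorem s0c227 : allBelow (fun k => fs0 (Nat.add (Nat.succ 111585) k)) 524 = true := by decide +kernel
theorem s0c228 : allBelow (fun k => fs0 (Nat.add (Nat.succ 112109) k)) 488 = true := by decide +kernel
theorem s0c229 : allBelow (fun k => fs0 (Nat.add (Nat.succ 112597) k)) 499 = true := by decide +kernel
theorem s0c230 : allBelow (fun k => fs0 (Nat.add (Nat.succ 113096) k)) 508 = true := by decide +kernel
theorem s0c231 : allBelow (fun k => fs0 (Nat.add (Nat.succ 113604) k)) 475 = true := by decide +kernel
theorem s0c232 : allBelow (fun k => fs0 (Nat.add (Nat.succ 114079) k)) 489 = true := by decide +kernel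
theorem s0c233 : allBelow (fun k => fs0 (Nat.add (Nat.succ 114568) k)) 482 = true := by decide +kernel
theorem s0c234 : allBelow (fun k => fs0 (Nat.add (Nat.succ 115050) k)) 436 = true := by decide +kernel
theorem s0c235 : allBelow (fun k => fs0 (Nat.add (Nat.succ 115486) k)) 417 = true := by decide +kernel
theorem s0c236 : allBelow (fun k => fs0 (Nat.add (Nat.succ 115903) k)) 453 = true := by decide +kernel
theorem s0c237 : allBelow (fun k => fs0 (Nat.add (Nat.succ 116356) k)) 508 = true := by decide +kernel
theorem s0c238 : allBelow (fun k => fs0 (Nat.add (Nat.succ 116864) k)) 451 = true := by decide +kernel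
theorem s0c239 : allBelow (fun k => fs0 (Nat.add (Nat.succ 117315) k)) 469 = true := by decide +kernel
theorem s0c240 : allBelow (fun k => fs0 (Nat.add (Nat.succ 117784) k)) 442 = true := by decide +kernel
theorem s0c241 : allBelow (fun k => fs0 (Nat.add (Nat.succ 118226) k)) 521 = true := by decide +kernel
theorem s0c242 : allBelow (fun k => fs0 (Nat.add (Nat.succ 118747) k)) 491 = true := by decide +kernel
theorem s0c243 : allBelow (fun k => fs0 (Nat.add (Nat.succ 119238) k)) 502 = true := by decide +kernel
theorem s0c244 : allBelow (fun k => fs0 (Nat.add (Nat.succ 119740) k)) 462 = true := by decide +kernel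
theorem s0c245 : allBelow (fun k => fs0 (Nat.add (Nat.succ 120202) k)) 476 = true := by decide +kernel
theorem s0c246 : allBelow (fun k => fs0 (Nat.add (Nat.succ 120678) k)) 427 = true := by decide +kernel
theorem s0c247 : allBelow (fun k => fs0 (Nat.add (Nat.succ 121105) k)) 511 = true := by decide +kernel
theorem s0c248 : allBelow (fun k => fs0 (Nat.add (Nat.succ 121616) k)) 496 = true := by decide +kernel
theorem s0c249 : allBelow (fun k => fs0 (Nat.add (Nat.succ 122112) k)) 424 = true := by decide +kernel
theorem s0c250 : allBelow (fun k => fs0 (Nat.add (Nat.succ 122536) k)) 476 = true := by decide +kernel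
theorem s0c251 : allBelow (fun k => fs0 (Nat.add (Nat.succ 123012) k)) 481 = true := by decide +kernel
theorem s0c252 : allBelow (fun k => fs0 (Nat.add (Nat.succ 123493) k)) 442 = true := by decide +kernel
theorem s0c253 : allBelow (fun k => fs0 (Nat.add (Nat.succ 123935) k)) 481 = true := by decide +kernel
theorem s0c254 : allBelow (fun k => fs0 (Nat.add (Nat.succ 124416) k)) 436 = true := by decide +kernel
theorem s0c255 : allBelow (fun k => fs0 (Nat.add (Nat.succ 124852) k)) 481 = true := by decide +kernel
theorem s0c256 : allBelow (fun k => fs0 (Nat.add (Nat.succ 125333) k)) 462 = true := by decide +kernel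
theorem s0c257 : allBelow (fun k => fs0 (Nat.add (Nat.succ 125795) k)) 462 = true := by decide +kernel
theorem s0c258 : allBelow (fun k => fs0 (Nat.add (Nat.succ 126257) k)) 491 = true := by decide +kernel
theorem s0c259 : allBelow (fun k => fs0 (Nat.add (Nat.succ 126748) k)) 510 = true := by decide +kernel
theorem s0c260 : allBelow (fun k => fs0 (Nat.add (Nat.succ 127258) k)) 552 = true := by decide +kernel
theorem s0c261 : allBelow (fun k => fs0 (Nat.add (Nat.succ 127810) k)) 449 = true := by decide +kernel
theorem s0c262 : allBelow (fun k => fs0 (Nat.add (Nat.succ 128259) k)) 549 = true := by decide +kernel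
theorem s0c263 : allBelow (fun k => fs0 (Nat.add (Nat.succ 128808) k)) 457 = true := by decide +kernel
theorem s0c264 : allBelow (fun k => fs0 (Nat.add (Nat.succ 129265) k)) 501 = true := by decide +kernel
theorem s0c265 : allBelow (fun k => fs0 (Nat.add (Nat.succ 129766) k)) 535 = true := by decide +kernel
theorem s0c266 : allBelow (fun k => fs0 (Nat.add (Nat.succ 130301) k)) 562 = true := by decide +kernel
theorem s0c267 : allBelow (fun k => fs0 (Nat.add (Nat.succ 130863) k)) 548 = true := by decide +kernel
theorem s0c268 : allBelow (fun k => fs0 (Nat.add (Nat.succ 131411) k)) 499 = true := by decide +kernel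
theorem s0c269 : allBelow (fun k => fs0 (Nat.add (Nat.succ 131910) k)) 485 = true := by decide +kernel
theorem s0c270 : allBelow (fun k => fs0 (Nat.add (Nat.succ 132395) k)) 516 = true := by decide +kernel
theorem s0c271 : allBelow (fun k => fs0 (Nat.add (Nat.succ 132911) k)) 489 = true := by decide +kernel
theorem s0c272 : allBelow (fun k => fs0 (Nat.add (Nat.succ 133400) k)) 508 = true := by decide +kernel
theorem s0c273 : allBelow (fun k => fs0 (Nat.add (Nat.succ 133908) k)) 493 = true := by decide +kernel
theorem s0c274 : allBelow (fun k => fs0 (Nat.add (Nat.succ 134401) k)) 502 = true := by decide +kernel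
theorem s0c275 : allBelow (fun k => fs0 (Nat.add (Nat.succ 134903) k)) 539 = true := by decide +kernel
theorem s0c276 : allBelow (fun k => fs0 (Nat.add (Nat.succ 135442) k)) 497 = true := by decide +kernel
theorem s0c277 : allBelow (fun k => fs0 (Nat.add (Nat.succ 135939) k)) 493 = true := by decide +kernel
theorem s0c278 : allBelow (fun k => fs0 (Nat.add (Nat.succ 136432) k)) 536 = true := by decide +kernel
theorem s0c279 : allBelow (fun k => fs0 (Nat.add (Nat.succ 136968) k)) 494 = true := by decide +kernel
theorem s0c280 : allBelow (fun k => fs0 (Nat.add (Nat.succ 137462) k)) 477 = true := by decide +kernel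
theorem s0c281 : allBelow (fun k => fs0 (Nat.add (Nat.succ 137939) k)) 503 = true := by decide +kernel
theorem s0c282 : allBelow (fun k => fs0 (Nat.add (Nat.succ 138442) k)) 478 = true := by decide +kernel
theorem s0c283 : allBelow (fun k => fs0 (Nat.add (Nat.succ 138920) k)) 491 = true := by decide +kernel
theorem s0c284 : allBelow (fun k => fs0 (Nat.add (Nat.succ 139411) k)) 520 = true := by decide +kernel
theorem s0c285 : allBelow (fun k => fs0 (Nat.add (Nat.succ 139931) k)) 480 = true := by decide +kernel
theorem s0c286 : allBelow (fun k => fs0 (Nat.add (Nat.succ 140411) k)) 533 = true := by decide +kernel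
theorem s0c287 : allBelow (fun k => fs0 (Nat.add (Nat.succ 140944) k)) 430 = true := by decide +kernel
theorem s0c288 : allBelow (fun k => fs0 (Nat.add (Nat.succ 141374) k)) 515 = true := by decide +kernel
theorem s0c289 : allBelow (fun k => fs0 (Nat.add (Nat.succ 141889) k)) 498 = true := by decide +kernel
theorem s0c290 : allBelow (fun k => fs0 (Nat.add (Nat.succ 142387) k)) 509 = true := by decide +kernel
theorem s0c291 : allBelow (fun k => fs0 (Nat.add (Nat.succ 142896) k)) 536 = true := by decide +kernel
theorem s0c292 : allBelow (fun k => fs0 (Nat.add (Nat.succ 143432) k)) 477 = true := by decide +kernel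
theorem s0c293 : allBelow (fun k => fs0 (Nat.add (Nat.succ 143909) k)) 513 = true := by decide +kernel
theorem s0c294 : allBelow (fun k => fs0 (Nat.add (Nat.succ 144422) k)) 513 = true := by decide +kernel
theorem s0c295 : allBelow (fun k => fs0 (Nat.add (Nat.succ 144935) k)) 574 = true := by decide +kernel
theorem s0c296 : allBelow (fun k => fs0 (Nat.add (Nat.succ 145509) k)) 575 = true := by decide +kernel
theorem s0c297 : allBelow (fun k => fs0 (Nat.add (Nat.succ 146084) k)) 526 = true := by decide +kernel
theorem s0c298 : allBelow (fun k => fs0 (Nat.add (Nat.succ 146610) k)) 525 = true := by decide +kernel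
theorem s0c299 : allBelow (fun k => fs0 (Nat.add (Nat.succ 147135) k)) 504 = true := by decide +kernel
theorem s0c300 : allBelow (fun k => fs0 (Nat.add (Nat.succ 147639) k)) 621 = true := by decide +kernel
theorem s0c301 : allBelow (fun k => fs0 (Nat.add (Nat.succ 148260) k)) 556 = true := by decide +kernel
theorem s0c302 : allBelow (fun k => fs0 (Nat.add (Nat.succ 148816) k)) 557 = true := by decide +kernel
theorem s0c303 : allBelow (fun k => fs0 (Nat.add (Nat.succ 149373) k)) 596 = true := by decide +kernel
theorem s0c304 : allBelow (fun k => fs0 (Nat.add (Nat.succ 149969) k)) 512 = true := by decide +kernel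
theorem s0c305 : allBelow (fun k => fs0 (Nat.add (Nat.succ 150481) k)) 586 = true := by decide +kernel
theorem s0c306 : allBelow (fun k => fs0 (Nat.add (Nat.succ 151067) k)) 579 = true := by decide +kernel
theorem s0c307 : allBelow (fun k => fs0 (Nat.add (Nat.succ 151646) k)) 555 = true := by decide +kernel
theorem s0c308 : allBelow (fun k => fs0 (Nat.add (Nat.succ 152201) k)) 523 = true := by decide +kernel
theorem s0c309 : allBelow (fun k => fs0 (Nat.add (Nat.succ 152724) k)) 536 = true := by decide +kernel
theorem s0c310 : allBelow (fun k => fs0 (Nat.add (Nat.succ 153260) k)) 562 = true := by decide +kernel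
theorem s0c311 : allBelow (fun k => fs0 (Nat.add (Nat.succ 153822) k)) 602 = true := by decide +kernel
theorem s0c312 : allBelow (fun k => fs0 (Nat.add (Nat.succ 154424) k)) 573 = true := by decide +kernel
theorem s0c313 : allBelow (fun k => fs0 (Nat.add (Nat.succ 154997) k)) 507 = true := by decide +kernel
theorem s0c314 : allBelow (fun k => fs0 (Nat.add (Nat.succ 155504) k)) 534 = true := by decide +kernel
theorem s0c315 : allBelow (fun k => fs0 (Nat.add (Nat.succ 156038) k)) 528 = true := by decide +kernel
theorem s0c316 : allBelow (fun k => fs0 (Nat.add (Nat.succ 156566) k)) 519 = true := by decide +kernel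
theorem s0c317 : allBelow (fun k => fs0 (Nat.add (Nat.succ 157085) k)) 537 = true := by decide +kernel
theorem s0c318 : allBelow (fun k => fs0 (Nat.add (Nat.succ 157622) k)) 563 = true := by decide +kernel
theorem s0c319 : allBelow (fun k => fs0 (Nat.add (Nat.succ 158185) k)) 603 = true := by decide +kernel
theorem s0c320 : allBelow (fun k => fs0 (Nat.add (Nat.succ 158788) k)) 542 = true := by decide +kernel
theorem s0c321 : allBelow (fun k => fs0 (Nat.add (Nat.succ 159330) k)) 501 = true := by decide +kernel
theorem s0c322 : allBelow (fun k => fs0 (Nat.add (Nat.succ 159831) k)) 540 = true := by decide +kernel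
theorem s0c323 : allBelow (fun k => fs0 (Nat.add (Nat.succ 160371) k)) 546 = true := by decide +kernel
theorem s0c324 : allBelow (fun k => fs0 (Nat.add (Nat.succ 160917) k)) 497 = true := by decide +kernel
theorem s0c325 : allBelow (fun k => fs0 (Nat.add (Nat.succ 161414) k)) 516 = true := by decide +kernel
theorem s0c326 : allBelow (fun k => fs0 (Nat.add (Nat.succ 161930) k)) 366 = true := by decide +kernel
theorem s0c327 : allBelow (fun k => fs0 (Nat.add (Nat.succ 162296) k)) 368 = true := by decide +kernel
theorem s0c328 : allBelow (fun k => fs0 (Nat.add (Nat.succ 162664) k)) 358 = true := by decide +kernel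
theorem s0c329 : allBelow (fun k => fs0 (Nat.add (Nat.succ 163022) k)) 371 = true := by decide +kernel
theorem s0c330 : allBelow (fun k => fs0 (Nat.add (Nat.succ 163393) k)) 373 = true := by decide +kernel
theorem s0c331 : allBelow (fun k => fs0 (Nat.add (Nat.succ 163766) k)) 338 = true := by decide +kernel
theorem s0c332 : allBelow (fun k => fs0 (Nat.add (Nat.succ 164104) k)) 376 = true := by decide +kernel
theorem s0c333 : allBelow (fun k => fs0 (Nat.add (Nat.succ 164480) k)) 381 = true := by decide +kernel
theorem s0c334 : allBelow (fun k => fs0 (Nat.add (Nat.succ 164861) k)) 374 = true := by decide +kernel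
theorem s0c335 : allBelow (fun k => fs0 (Nat.add (Nat.succ 165235) k)) 360 = true := by decide +kernel
theorem s0c336 : allBelow (fun k => fs0 (Nat.add (Nat.succ 165595) k)) 382 = true := by decide +kernel
theorem s0c337 : allBelow (fun k => fs0 (Nat.add (Nat.succ 165977) k)) 348 = true := by decide +kernel
theorem s0c338 : allBelow (fun k => fs0 (Nat.add (Nat.succ 166325) k)) 379 = true := by decide +kernel
theorem s0c339 : allBelow (fun k => fs0 (Nat.add (Nat.succ 166704) k)) 364 = true := by decide +kernel
theorem s0c340 : allBelow (fun k => fs0 (Nat.add (Nat.succ 167068) k)) 342 = true := by decide +kernel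
theorem s0c341 : allBelow (fun k => fs0 (Nat.add (Nat.succ 167410) k)) 346 = true := by decide +kernel
theorem s0c342 : allBelow (fun k => fs0 (Nat.add (Nat.succ 167756) k)) 357 = true := by decide +kernel
theorem s0c343 : allBelow (fun k => fs0 (Nat.add (Nat.succ 168113) k)) 360 = true := by decide +kernel
theorem s0c344 : allBelow (fun k => fs0 (Nat.add (Nat.succ 168473) k)) 367 = true := by decide +kernel
theorem s0c345 : allBelow (fun k => fs0 (Nat.add (Nat.succ 168840) k)) 345 = true := by decide +kernel
theorem s0c346 : allBelow (fun k => fs0 (Nat.add (Nat.succ 169185) k)) 362 = true := by decide +kernel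
theorem s0c347 : allBelow (fun k => fs0 (Nat.add (Nat.succ 169547) k)) 361 = true := by decide +kernel
theorem s0c348 : allBelow (fun k => fs0 (Nat.add (Nat.succ 169908) k)) 328 = true := by decide +kernel
theorem s0c349 : allBelow (fun k => fs0 (Nat.add (Nat.succ 170236) k)) 374 = true := by decide +kernel
theorem s0c350 : allBelow (fun k => fs0 (Nat.add (Nat.succ 170610) k)) 364 = true := by decide +kernel
theorem s0c351 : allBelow (fun k => fs0 (Nat.add (Nat.succ 170974) k)) 348 = true := by decide +kernel
theorem s0c352 : allBelow (fun k => fs0 (Nat.add (Nat.succ 171322) k)) 328 = true := by decide +kernel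
theorem s0c353 : allBelow (fun k => fs0 (Nat.add (Nat.succ 171650) k)) 370 = true := by decide +kernel
theorem s0c354 : allBelow (fun k => fs0 (Nat.add (Nat.succ 172020) k)) 342 = true := by decide +kernel
theorem s0c355 : allBelow (fun k => fs0 (Nat.add (Nat.succ 172362) k)) 372 = true := by decide +kernel
theorem s0c356 : allBelow (fun k => fs0 (Nat.add (Nat.succ 172734) k)) 363 = true := by decide +kernel
theorem s0c357 : allBelow (fun k => fs0 (Nat.add (Nat.succ 173097) k)) 358 = true := by decide +kernel
theorem s0c358 : allBelow (fun k => fs0 (Nat.add (Nat.succ 173455) k)) 320 = true := by decide +kernel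
theorem s0c359 : allBelow (fun k => fs0 (Nat.add (Nat.succ 173775) k)) 355 = true := by decide +kernel
theorem s0c360 : allBelow (fun k => fs0 (Nat.add (Nat.succ 174130) k)) 354 = true := by decide +kernel
theorem s0c361 : allBelow (fun k => fs0 (Nat.add (Nat.succ 174484) k)) 348 = true := by decide +kernel
theorem s0c362 : allBelow (fun k => fs0 (Nat.add (Nat.succ 174832) k)) 335 = true := by decide +kernel
theorem s0c363 : allBelow (fun k => fs0 (Nat.add (Nat.succ 175167) k)) 344 = true := by decide +kernel
theorem s0c364 : allBelow (fun k => fs0 (Nat.add (Nat.succ 175511) k)) 322 = true := by decide +kernel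
theorem s0c365 : allBelow (fun k => fs0 (Nat.add (Nat.succ 175833) k)) 326 = true := by decide +kernel
theorem s0c366 : allBelow (fun k => fs0 (Nat.add (Nat.succ 176159) k)) 340 = true := by decide +kernel
theorem s0c367 : allBelow (fun k => fs0 (Nat.add (Nat.succ 176499) k)) 350 = true := by decide +kernel
theorem s0c368 : allBelow (fun k => fs0 (Nat.add (Nat.succ 176849) k)) 336 = true := by decide +kernel
theorem s0c369 : allBelow (fun k => fs0 (Nat.add (Nat.succ 177185) k)) 348 = true := by decide +kernel
theorem s0c370 : allBelow (fun k => fs0 (Nat.add (Nat.succ 177533) k)) 365 = true := by decide +kernel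
theorem s0c371 : allBelow (fun k => fs0 (Nat.add (Nat.succ 177898) k)) 316 = true := by decide +kernel
theorem s0c372 : allBelow (fun k => fs0 (Nat.add (Nat.succ 178214) k)) 317 = true := by decide +kernel
theorem s0c373 : allBelow (fun k => fs0 (Nat.add (Nat.succ 178531) k)) 342 = true := by decide +kernel
theorem s0c374 : allBelow (fun k => fs0 (Nat.add (Nat.succ 178873) k)) 318 = true := by decide +kernel
theorem s0c375 : allBelow (fun k => fs0 (Nat.add (Nat.succ 179191) k)) 335 = true := by decide +kernel
theorem s0c376 : allBelow (fun k => fs0 (Nat.add (Nat.succ 179526) k)) 334 = true := by decide +kernel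
theorem s0c377 : allBelow (fun k => fs0 (Nat.add (Nat.succ 179860) k)) 353 = true := by decide +kernel
theorem s0c378 : allBelow (fun k => fs0 (Nat.add (Nat.succ 180213) k)) 320 = true := by decide +kernel
theorem s0c379 : allBelow (fun k => fs0 (Nat.add (Nat.succ 180533) k)) 319 = true := by decide +kernel
theorem s0c380 : allBelow (fun k => fs0 (Nat.add (Nat.succ 180852) k)) 322 = true := by decide +kernel
theorem s0c381 : allBelow (fun k => fs0 (Nat.add (Nat.succ 181174) k)) 326 = true := by decide +kernel
theorem s0c382 : allBelow (fun k => fs0 (Nat.add (Nat.succ 181500) k)) 306 = true := by decide +kernel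
theorem s0c383 : allBelow (fun k => fs0 (Nat.add (Nat.succ 181806) k)) 347 = true := by decide +kernel
theorem s0c384 : allBelow (fun k => fs0 (Nat.add (Nat.succ 182153) k)) 325 = true := by decide +kernel
theorem s0c385 : allBelow (fun k => fs0 (Nat.add (Nat.succ 182478) k)) 316 = true := by decide +kernel
theorem s0c386 : allBelow (fun k => fs0 (Nat.add (Nat.succ 182794) k)) 307 = true := by decide +kernel
theorem s0c387 : allBelow (fun k => fs0 (Nat.add (Nat.succ 183101) k)) 309 = true := by decide +kernel
theorem s0c388 : allBelow (fun k => fs0 (Nat.add (Nat.succ 183410) k)) 304 = true := by decide +kernel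
theorem s0c389 : allBelow (fun k => fs0 (Nat.add (Nat.succ 183714) k)) 310 = true := by decide +kernel
theorem s0c390 : allBelow (fun k => fs0 (Nat.add (Nat.succ 184024) k)) 321 = true := by decide +kernel
theorem s0c391 : allBelow (fun k => fs0 (Nat.add (Nat.succ 184345) k)) 325 = true := by decide +kernel
theorem s0c392 : allBelow (fun k => fs0 (Nat.add (Nat.succ 184670) k)) 314 = true := by decide +kernel
theorem s0c393 : allBelow (fun k => fs0 (Nat.add (Nat.succ 184984) k)) 334 = true := by decide +kernel
theorem s0c394 : allBelow (fun k => fs0 (Nat.add (Nat.succ 185318) k)) 352 = true := by decide +kernel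
theorem s0c395 : allBelow (fun k => fs0 (Nat.add (Nat.succ 185670) k)) 311 = true := by decide +kernel
theorem s0c396 : allBelow (fun k => fs0 (Nat.add (Nat.succ 185981) k)) 325 = true := by decide +kernel
theorem s0c397 : allBelow (fun k => fs0 (Nat.add (Nat.succ 186306) k)) 327 = true := by decide +kernel

end Cfsg.Agent.Lib.Helper35.ON122760
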