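import Cfsg.Agent.Lib.Helper35.ON122760.Tab0
import Cfsg.Agent.Lib.Helper35.ON122760.Tab1
import Cfsg.Agent.Lib.Helper35.ON122760.Tab2
import Cfsg.Agent.Lib.Helper35.ON122760.Tab3
import Cfsg.Agent.Lib.Helper35.PresON
import Cfsg.Agent.Lib.Helper35.TCFast

namespace Cfsg.Agent.Lib.Helper35.ON122760

open Cfsg.Agent.Lib.Helper35

set_option maxRecDepth 100000
noncomputable section
def par : Par := ⟨31, 18, 2147483647, 262143, 2147745791, 2147483648⟩
def tabs : Nat → Nat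
  | 0 => tA0
  | 1 => tA1
  | 2 => tA2
  | 3 => tA3
  | 4 => tA4
  | 5 => tA5
  | 6 => tA6
  | 7 => tA7
  | 8 => tA8
  | _ => 0
def pe (u : Nat) : Nat := Nat.land (Nat.shiftRight tP (Nat.mul u 22)) 4194303
def je0 (v : Nat) : Nat := Nat.land (Nat.shiftRight tJ0 (Nat.mul v 27)) 134217727
def stp0 (off v : Nat) : Nat := Nat.land (Nat.add (Nat.land (Nat.shiftRight tA0 (Nat.mul v 31)) 2147483647) off) 2147745791
theorem stp0_eq : ∀ off v, stp0 off v = step par (tabs 0) off v := fun _ _ => rfl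
attribute [irreducible] stp0
def je1 (v : Nat) : Nat := Nat.land (Nat.shiftRight tJ1 (Nat.mul v 27)) 134217727
def stp1 (off v : Nat) : Nat := Nat.land (Nat.add (Nat.land (Nat.shiftRight tA1 (Nat.mul v 31)) 2147483647) off) 2147745791
theorem stp1_eq : ∀ off v, stp1 off v = step par (tabs 1) off v := fun _ _ => rfl
attribute [irreducible] stp1
def je2 (v : Nat) : Nat := Nat.land (Nat.shiftRight tJ2 (Nat.mul v 27)) 134217727
def stp2 (off v : Nat) : Nat := Nat.land (Nat.add (Nat.land (Nat.shiftRight tA2 (Nat.mul v 31)) 2147483647) off) 2147745791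
theorem stp2_eq : ∀ off v, stp2 off v = step par (tabs 2) off v := fun _ _ => rfl
attribute [irreducible] stp2
def je3 (v : Nat) : Nat := Nat.land (Nat.shiftRight tJ3 (Nat.mul v 27)) 134217727
def stp3 (off v : Nat) : Nat := Nat.land (Nat.add (Nat.land (Nat.shiftRight tA3 (Nat.mul v 31)) 2147483647) off) 2147745791
theorem stp3_eq : ∀ off v, stp3 off v = step par (tabs 3) off v := fun _ _ => rfl
attribute [irreducible] stp3
def je4 (v : Nat) : Nat := Nat.land (Nat.shiftRight tJ4 (Nat.mul v 27)) 134217727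
def stp4 (off v : Nat) : Nat := Nat.land (Nat.add (Nat.land (Nat.shiftRight tA4 (Nat.mul v 31)) 2147483647) off) 2147745791
theorem stp4_eq : ∀ off v, stp4 off v = step par (tabs 4) off v := fun _ _ => rfl
attribute [irreducible] stp4
def je5 (v : Nat) : Nat := Nat.land (Nat.shiftRight tJ5 (Nat.mul v 27)) 134217727
def stp5 (off v : Nat) : Nat := Nat.land (Nat.add (Nat.land (Nat.shiftRight tA5 (Nat.mul v 31)) 2147483647) off) 2147745791
theorem stp5_eq : ∀ off v, stp5 off v = step par (tabs 5) off v := fun _ _ => rfl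
attribute [irreducible] stp5
def je6 (v : Nat) : Nat := Nat.land (Nat.shiftRight tJ6 (Nat.mul v 27)) 134217727
def stp6 (off v : Nat) : Nat := Nat.land (Nat.add (Nat.land (Nat.shiftRight tA6 (Nat.mul v 31)) 2147483647) off) 2147745791
theorem stp6_eq : ∀ off v, stp6 off v = step par (tabs 6) off v := fun _ _ => rfl
attribute [irreducible] stp6
def je7 (v : Nat) : Nat := Nat.land (Nat.shiftRight tJ7 (Nat.mul v 27)) 134217727
def stp7 (off v : Nat) : Nat := Nat.land (Nat.add (Nat.land (Nat.shiftRight tA7 (Nat.mul v 31)) 2147483647) off) 2147745791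
theorem stp7_eq : ∀ off v, stp7 off v = step par (tabs 7) off v := fun _ _ => rfl
attribute [irreducible] stp7
def je8 (v : Nat) : Nat := Nat.land (Nat.shiftRight tJ8 (Nat.mul v 27)) 134217727
def stp8 (off v : Nat) : Nat := Nat.land (Nat.add (Nat.land (Nat.shiftRight tA8 (Nat.mul v 31)) 2147483647) off) 2147745791
theorem stp8_eq : ∀ off v, stp8 off v = step par (tabs 8) off v := fun _ _ => rfl
attribute [irreducible] stp8
def je : Nat → Nat → Nat
  | 0 => je0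
  | 1 => je1
  | 2 => je2
  | 3 => je3
  | 4 => je4
  | 5 => je5
  | 6 => je6
  | 7 => je7
  | 8 => je8
  | _ => fun _ => 0
def st : Nat → Nat → Nat → Nat
  | 0 => stp0
  | 1 => stp1
  | 2 => stp2
  | 3 => stp3
  | 4 => stp4
  | 5 => stp5
  | 6 => stp6
  | 7 => stp7
  | 8 => stp8
  | _ => fun off v => step par 0 off v
theorem hst : ∀ l off v, st l off v = step par (tabs l) off v := by
  intro l off v
  rcases Nat.lt_or_ge l 9 with h | h
  · interval_cases l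
    exacts [stp0_eq off v, stp1_eq off v, stp2_eq off v, stp3_eq off v, stp4_eq off v, stp5_eq off v, stp6_eq off v, stp7_eq off v, stp8_eq off v]
  · obtain ⟨k, rfl⟩ : ∃ k, l = k + 9 := ⟨l - 9, by omega⟩
    rfl
def SL : List (List (Cfsg.Spor.ON.Gen × Bool)) := [
  [(.a, true)],
  [(.b, true)],
  [(.c, true)],
  [(.d, true)],
  [(.e, true)],
  [(.f, true)]]
def S : List (List Nat) := [[2],
  [3],
  [4],
  [5],
  [6],
  [7]]
theorem hS : S = SL.map (List.map PresON.cc.colOf) := by decide +kernel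
set_option maxRecDepth 100000
def lf0_0 : Leaf (walkS st) := ⟨[1], [], 1, 0, (fun off v => (stp1 off v)), (fun _ v => v), (fun _ u _ => u), fun _ _ => rfl, fun _ _ => rfl⟩
def lf0_2 : Leaf (walkS st) := ⟨[], [1, 2, 7], 45, 1, (fun _ v => v), (fun off v => (stp7 off (stp2 off (stp1 off v)))), (fun v _ _ => v), fun _ _ => rfl, fun _ _ => rfl⟩
def lf0_3 : Leaf (walkS st) := ⟨[], [2, 7, 1], 45, 0, (fun _ v => v), (fun off v => (stp1 off (stp7 off (stp2 off v)))), (fun v _ _ => v), fun _ _ => rfl, fun _ _ => rfl⟩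
def lf0_4 : Leaf (walkS st) := ⟨[], [8, 0], 0, 0, (fun _ v => v), (fun off v => (stp0 off (stp8 off v))), (fun v _ _ => v), fun _ _ => rfl, fun _ _ => rfl⟩
def lf0_5 : Leaf (walkS st) := ⟨[], [5, 4, 5, 0, 5, 0, 4, 1, 5], 25, 7, (fun _ v => v), (fun off v => (stp5 off (stp1 off (stp4 off (stp0 off (stp5 off (stp0 off (stp5 off (stp4 off (stp5 off v)))))))))), (fun v _ _ => v), fun _ _ => rfl, fun _ _ => rfl⟩
def lf0_6 : Leaf (walkS st) := ⟨[8], [0], 0, 0, (fun off v => (stp8 off v)), (fun off v => (stp0 off v)), (fun _ _ p => p), fun _ _ => rfl, fun _ _ => rfl⟩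
def lf0_7 : Leaf (walkS st) := ⟨[], [4, 5, 4, 0, 4, 0, 5, 1, 4], 26, 7, (fun _ v => v), (fun off v => (stp4 off (stp1 off (stp5 off (stp0 off (stp4 off (stp0 off (stp4 off (stp5 off (stp4 off v)))))))))), (fun v _ _ => v), fun _ _ => rfl, fun _ _ => rfl⟩
def lf0_8 : Leaf (walkS st) := ⟨[], [6, 5, 1, 5, 6, 1, 5, 1, 5, 6], 29, 6, (fun _ v => v), (fun off v => (stp6 off (stp5 off (stp1 off (stp5 off (stp1 off (stp6 off (stp5 off (stp1 off (stp5 off (stp6 off v))))))))))), (fun v _ _ => v), fun _ _ => rfl, fun _ _ => rfl⟩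
def lf0_9 : Leaf (walkS st) := ⟨[], [3, 4, 1, 4, 3, 1, 4, 1, 4, 3], 28, 6, (fun _ v => v), (fun off v => (stp3 off (stp4 off (stp1 off (stp4 off (stp1 off (stp3 off (stp4 off (stp1 off (stp4 off (stp3 off v))))))))))), (fun v _ _ => v), fun _ _ => rfl, fun _ _ => rfl⟩
def lf0_10 : Leaf (walkS st) := ⟨[], [4, 3, 1, 4, 1, 4, 3, 1, 3, 4], 28, 3, (fun _ v => v), (fun off v => (stp4 off (stp3 off (stp1 off (stp3 off (stp4 off (stp1 off (stp4 off (stp1 off (stp3 off (stp4 off v))))))))))), (fun v _ _ => v), fun _ _ => rfl, fun _ _ => rfl⟩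
def lf0_11 : Leaf (walkS st) := ⟨[1, 8], [], 1, 0, (fun off v => (stp8 off (stp1 off v))), (fun _ v => v), (fun _ u _ => u), fun _ _ => rfl, fun _ _ => rfl⟩
def lf0_12 : Leaf (walkS st) := ⟨[], [5, 6, 1, 5, 1, 5, 6, 1, 6, 5], 29, 3, (fun _ v => v), (fun off v => (stp5 off (stp6 off (stp1 off (stp6 off (stp5 off (stp1 off (stp5 off (stp1 off (stp6 off (stp5 off v))))))))))), (fun v _ _ => v), fun _ _ => rfl, fun _ _ => rfl⟩
def lf0_13 : Leaf (walkS st) := ⟨[], [5, 1, 5, 4, 5, 0, 5, 0, 4], 25, 9, (fun _ v => v), (fun off v => (stp4 off (stp0 off (stp5 off (stp0 off (stp5 off (stp4 off (stp5 off (stp1 off (stp5 off v)))))))))), (fun v _ _ => v), fun _ _ => rfl, fun _ _ => rfl⟩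
def lf0_14 : Leaf (walkS st) := ⟨[], [4, 1, 4, 3, 1, 3, 4, 1, 4, 3], 28, 0, (fun _ v => v), (fun off v => (stp3 off (stp4 off (stp1 off (stp4 off (stp3 off (stp1 off (stp3 off (stp4 off (stp1 off (stp4 off v))))))))))), (fun v _ _ => v), fun _ _ => rfl, fun _ _ => rfl⟩
def lf0_15 : Leaf (walkS st) := ⟨[], [5, 1, 5, 6, 1, 6, 5, 1, 5, 6], 29, 0, (fun _ v => v), (fun off v => (stp6 off (stp5 off (stp1 off (stp5 off (stp6 off (stp1 off (stp6 off (stp5 off (stp1 off (stp5 off v))))))))))), (fun v _ _ => v), fun _ _ => rfl, fun _ _ => rfl⟩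
def lf0_16 : Leaf (walkS st) := ⟨[], [4, 1, 4, 5, 4, 0, 4, 0, 5], 26, 9, (fun _ v => v), (fun off v => (stp5 off (stp0 off (stp4 off (stp0 off (stp4 off (stp5 off (stp4 off (stp1 off (stp4 off v)))))))))), (fun v _ _ => v), fun _ _ => rfl, fun _ _ => rfl⟩
def lf0_17 : Leaf (walkS st) := ⟨[], [5, 6, 1, 6, 5, 1, 5, 6, 1, 5], 29, 9, (fun _ v => v), (fun off v => (stp5 off (stp1 off (stp6 off (stp5 off (stp1 off (stp5 off (stp6 off (stp1 off (stp6 off (stp5 off v))))))))))), (fun v _ _ => v), fun _ _ => rfl, fun _ _ => rfl⟩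
def lf0_18 : Leaf (walkS st) := ⟨[], [4, 3, 1, 3, 4, 1, 4, 3, 1, 4], 28, 9, (fun _ v => v), (fun off v => (stp4 off (stp1 off (stp3 off (stp4 off (stp1 off (stp4 off (stp3 off (stp1 off (stp3 off (stp4 off v))))))))))), (fun v _ _ => v), fun _ _ => rfl, fun _ _ => rfl⟩
def lf0_19 : Leaf (walkS st) := ⟨[], [5, 4, 3, 1, 5, 4, 3, 1, 5, 4, 3, 1, 5, 4, 3, 1, 5, 4, 3], 27, 3, (fun _ v => v), (fun off v => (stp3 off (stp4 off (stp5 off (stp1 off (stp3 off (stp4 off (stp5 off (stp1 off (stp3 off (stp4 off (stp5 off (stp1 off (stp3 off (stp4 off (stp5 off (stp1 off (stp3 off (stp4 off (stp5 off v)))))))))))))))))))), (fun v _ _ => v), fun _ _ => rfl, fun _ _ => rfl⟩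
def lf0_20 : Leaf (walkS st) := ⟨[1, 8, 8], [], 1, 0, (fun off v => (stp8 off (stp8 off (stp1 off v)))), (fun _ v => v), (fun _ u _ => u), fun _ _ => rfl, fun _ _ => rfl⟩
def lf0_21 : Leaf (walkS st) := ⟨[8, 8], [0], 0, 0, (fun off v => (stp8 off (stp8 off v))), (fun off v => (stp0 off v)), (fun _ _ p => p), fun _ _ => rfl, fun _ _ => rfl⟩
def lf0_22 : Leaf (walkS st) := ⟨[8, 8, 8], [0], 0, 0, (fun off v => (stp8 off (stp8 off (stp8 off v)))), (fun off v => (stp0 off v)), (fun _ _ p => p), fun _ _ => rfl, fun _ _ => rfl⟩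
def tree0 : RTree (walkS st) :=
  (.node 1 (.fork lf0_0) (.node 4 (.node 2 .tleaf (.node 3 (.fork lf0_2) (.fork lf0_3))) (.node 7 (.node 5 (.fork lf0_4) (.node 6 (.fork lf0_5) (.fork lf0_6))) (.node 10 (.node 8 (.fork lf0_7) (.node 9 (.fork lf0_8) (.fork lf0_9))) (.node 14 (.node 12 (.node 11 (.fork lf0_10) (.fork lf0_11)) (.node 13 (.fork lf0_12) (.fork lf0_13))) (.node 16 (.node 15 (.fork lf0_14) (.fork lf0_15)) (.node 18 (.node 17 (.fork lf0_16) (.fork lf0_17)) (.node 19 (.fork lf0_18) (.node 20 (.fork lf0_19) (.node 21 (.fork lf0_20) (.node 22 (.fork lf0_21) (.fork lf0_22))))))))))))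
def lf1_0 : Leaf (walkS st) := ⟨[0], [], 0, 0, (fun off v => (stp0 off v)), (fun _ v => v), (fun _ u _ => u), fun _ _ => rfl, fun _ _ => rfl⟩
def lf1_2 : Leaf (walkS st) := ⟨[], [7, 2, 0], 23, 2, (fun _ v => v), (fun off v => (stp0 off (stp2 off (stp7 off v)))), (fun v _ _ => v), fun _ _ => rfl, fun _ _ => rfl⟩
def lf1_3 : Leaf (walkS st) := ⟨[], [0, 7, 2], 23, 3, (fun _ v => v), (fun off v => (stp2 off (stp7 off (stp0 off v)))), (fun v _ _ => v), fun _ _ => rfl, fun _ _ => rfl⟩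
def lf1_4 : Leaf (walkS st) := ⟨[], [8, 1], 1, 0, (fun _ v => v), (fun off v => (stp1 off (stp8 off v))), (fun v _ _ => v), fun _ _ => rfl, fun _ _ => rfl⟩
def lf1_5 : Leaf (walkS st) := ⟨[], [5, 0, 4, 1, 5, 1, 5, 4, 5], 25, 3, (fun _ v => v), (fun off v => (stp5 off (stp4 off (stp5 off (stp1 off (stp5 off (stp1 off (stp4 off (stp0 off (stp5 off v)))))))))), (fun v _ _ => v), fun _ _ => rfl, fun _ _ => rfl⟩
def lf1_6 : Leaf (walkS st) := ⟨[8], [1], 1, 0, (fun off v => (stp8 off v)), (fun off v => (stp1 off v)), (fun _ _ p => p), fun _ _ => rfl, fun _ _ => rfl⟩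
def lf1_7 : Leaf (walkS st) := ⟨[], [6, 5, 0, 5, 0, 6, 5, 0, 5, 6], 51, 4, (fun _ v => v), (fun off v => (stp6 off (stp5 off (stp0 off (stp5 off (stp6 off (stp0 off (stp5 off (stp0 off (stp5 off (stp6 off v))))))))))), (fun v _ _ => v), fun _ _ => rfl, fun _ _ => rfl⟩
def lf1_8 : Leaf (walkS st) := ⟨[], [4, 0, 5, 1, 4, 1, 4, 5, 4], 26, 3, (fun _ v => v), (fun off v => (stp4 off (stp5 off (stp4 off (stp1 off (stp4 off (stp1 off (stp5 off (stp0 off (stp4 off v)))))))))), (fun v _ _ => v), fun _ _ => rfl, fun _ _ => rfl⟩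
def lf1_9 : Leaf (walkS st) := ⟨[], [4, 1, 5, 1, 5, 4, 5, 0, 5], 25, 1, (fun _ v => v), (fun off v => (stp5 off (stp0 off (stp5 off (stp4 off (stp5 off (stp1 off (stp5 off (stp1 off (stp4 off v)))))))))), (fun v _ _ => v), fun _ _ => rfl, fun _ _ => rfl⟩
def lf1_10 : Leaf (walkS st) := ⟨[], [3, 4, 0, 4, 0, 3, 4, 0, 4, 3], 50, 4, (fun _ v => v), (fun off v => (stp3 off (stp4 off (stp0 off (stp4 off (stp3 off (stp0 off (stp4 off (stp0 off (stp4 off (stp3 off v))))))))))), (fun v _ _ => v), fun _ _ => rfl, fun _ _ => rfl⟩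
def lf1_11 : Leaf (walkS st) := ⟨[], [5, 0, 6, 5, 0, 5, 6, 0, 6, 5], 51, 1, (fun _ v => v), (fun off v => (stp5 off (stp6 off (stp0 off (stp6 off (stp5 off (stp0 off (stp5 off (stp6 off (stp0 off (stp5 off v))))))))))), (fun v _ _ => v), fun _ _ => rfl, fun _ _ => rfl⟩
def lf1_12 : Leaf (walkS st) := ⟨[], [4, 0, 3, 4, 0, 4, 3, 0, 3, 4], 50, 1, (fun _ v => v), (fun off v => (stp4 off (stp3 off (stp0 off (stp3 off (stp4 off (stp0 off (stp4 off (stp3 off (stp0 off (stp4 off v))))))))))), (fun v _ _ => v), fun _ _ => rfl, fun _ _ => rfl⟩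
def lf1_13 : Leaf (walkS st) := ⟨[0, 8], [], 0, 0, (fun off v => (stp8 off (stp0 off v))), (fun _ v => v), (fun _ u _ => u), fun _ _ => rfl, fun _ _ => rfl⟩
def lf1_14 : Leaf (walkS st) := ⟨[], [6, 5, 0, 5, 6, 0, 6, 5, 0, 5], 51, 10, (fun _ v => v), (fun off v => (stp5 off (stp0 off (stp5 off (stp6 off (stp0 off (stp6 off (stp5 off (stp0 off (stp5 off (stp6 off v))))))))))), (fun v _ _ => v), fun _ _ => rfl, fun _ _ => rfl⟩
def lf1_15 : Leaf (walkS st) := ⟨[], [5, 1, 4, 1, 4, 5, 4, 0, 4], 26, 1, (fun _ v => v), (fun off v => (stp4 off (stp0 off (stp4 off (stp5 off (stp4 off (stp1 off (stp4 off (stp1 off (stp5 off v)))))))))), (fun v _ _ => v), fun _ _ => rfl, fun _ _ => rfl⟩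
def lf1_16 : Leaf (walkS st) := ⟨[], [3, 4, 0, 4, 3, 0, 3, 4, 0, 4], 50, 10, (fun _ v => v), (fun off v => (stp4 off (stp0 off (stp4 off (stp3 off (stp0 off (stp3 off (stp4 off (stp0 off (stp4 off (stp3 off v))))))))))), (fun v _ _ => v), fun _ _ => rfl, fun _ _ => rfl⟩
def lf1_17 : Leaf (walkS st) := ⟨[], [4, 3, 0, 3, 4, 0, 4, 0, 3, 4], 50, 7, (fun _ v => v), (fun off v => (stp4 off (stp3 off (stp0 off (stp4 off (stp0 off (stp4 off (stp3 off (stp0 off (stp3 off (stp4 off v))))))))))), (fun v _ _ => v), fun _ _ => rfl, fun _ _ => rfl⟩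
def lf1_18 : Leaf (walkS st) := ⟨[], [5, 6, 0, 6, 5, 0, 5, 0, 6, 5], 51, 7, (fun _ v => v), (fun off v => (stp5 off (stp6 off (stp0 off (stp5 off (stp0 off (stp5 off (stp6 off (stp0 off (stp6 off (stp5 off v))))))))))), (fun v _ _ => v), fun _ _ => rfl, fun _ _ => rfl⟩
def lf1_19 : Leaf (walkS st) := ⟨[], [3, 4, 5, 0, 3, 4, 5, 0, 3, 4, 5, 0, 3, 4, 5, 0, 3, 4, 5], 49, 4, (fun _ v => v), (fun off v => (stp5 off (stp4 off (stp3 off (stp0 off (stp5 off (stp4 off (stp3 off (stp0 off (stp5 off (stp4 off (stp3 off (stp0 off (stp5 off (stp4 off (stp3 off (stp0 off (stp5 off (stp4 off (stp3 off v)))))))))))))))))))), (fun v _ _ => v), fun _ _ => rfl, fun _ _ => rfl⟩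
def lf1_20 : Leaf (walkS st) := ⟨[0, 8, 8], [], 0, 0, (fun off v => (stp8 off (stp8 off (stp0 off v)))), (fun _ v => v), (fun _ u _ => u), fun _ _ => rfl, fun _ _ => rfl⟩
def lf1_21 : Leaf (walkS st) := ⟨[8, 8], [1], 1, 0, (fun off v => (stp8 off (stp8 off v))), (fun off v => (stp1 off v)), (fun _ _ p => p), fun _ _ => rfl, fun _ _ => rfl⟩
def tree1 : RTree (walkS st) :=
  (.node 2 (.node 1 (.fork lf1_0) .tleaf) (.node 5 (.node 3 (.fork lf1_2) (.node 4 (.fork lf1_3) (.fork lf1_4))) (.node 8 (.node 6 (.fork lf1_5) (.node 7 (.fork lf1_6) (.fork lf1_7))) (.node 11 (.node 9 (.fork lf1_8) (.node 10 (.fork lf1_9) (.fork lf1_10))) (.node 14 (.node 12 (.fork lf1_11) (.node 13 (.fork lf1_12) (.fork lf1_13))) (.node 16 (.node 15 (.fork lf1_14) (.fork lf1_15)) (.node 18 (.node 17 (.fork lf1_16) (.fork lf1_17)) (.node 19 (.fork lf1_18) (.node 20 (.fork lf1_19) (.node 21 (.fork lf1_20) (.fork lf1_21)))))))))))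
def lf2_0 : Leaf (walkS st) := ⟨[2], [], 2, 0, (fun off v => (stp2 off v)), (fun _ v => v), (fun _ u _ => u), fun _ _ => rfl, fun _ _ => rfl⟩
def lf2_1 : Leaf (walkS st) := ⟨[], [6, 2, 6], 11, 2, (fun _ v => v), (fun off v => (stp6 off (stp2 off (stp6 off v)))), (fun v _ _ => v), fun _ _ => rfl, fun _ _ => rfl⟩
def lf2_2 : Leaf (walkS st) := ⟨[], [5, 2, 5], 10, 2, (fun _ v => v), (fun off v => (stp5 off (stp2 off (stp5 off v)))), (fun v _ _ => v), fun _ _ => rfl, fun _ _ => rfl⟩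
def lf2_3 : Leaf (walkS st) := ⟨[], [4, 2, 4], 9, 2, (fun _ v => v), (fun off v => (stp4 off (stp2 off (stp4 off v)))), (fun v _ _ => v), fun _ _ => rfl, fun _ _ => rfl⟩
def lf2_4 : Leaf (walkS st) := ⟨[], [7, 2, 7], 12, 2, (fun _ v => v), (fun off v => (stp7 off (stp2 off (stp7 off v)))), (fun v _ _ => v), fun _ _ => rfl, fun _ _ => rfl⟩
def lf2_6 : Leaf (walkS st) := ⟨[8], [2], 2, 0, (fun off v => (stp8 off v)), (fun off v => (stp2 off v)), (fun _ _ p => p), fun _ _ => rfl, fun _ _ => rfl⟩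
def lf2_7 : Leaf (walkS st) := ⟨[], [0, 0, 7], 23, 0, (fun _ v => v), (fun off v => (stp7 off (stp0 off (stp0 off v)))), (fun v _ _ => v), fun _ _ => rfl, fun _ _ => rfl⟩
def lf2_8 : Leaf (walkS st) := ⟨[], [3, 2, 3, 2, 3], 8, 2, (fun _ v => v), (fun off v => (stp3 off (stp2 off (stp3 off (stp2 off (stp3 off v)))))), (fun v _ _ => v), fun _ _ => rfl, fun _ _ => rfl⟩
def lf2_9 : Leaf (walkS st) := ⟨[], [8, 2], 2, 0, (fun _ v => v), (fun off v => (stp2 off (stp8 off v))), (fun v _ _ => v), fun _ _ => rfl, fun _ _ => rfl⟩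
def lf2_10 : Leaf (walkS st) := ⟨[], [7, 1, 1], 45, 3, (fun _ v => v), (fun off v => (stp1 off (stp1 off (stp7 off v)))), (fun v _ _ => v), fun _ _ => rfl, fun _ _ => rfl⟩
def lf2_11 : Leaf (walkS st) := ⟨[2, 8], [], 2, 0, (fun off v => (stp8 off (stp2 off v))), (fun _ v => v), (fun _ u _ => u), fun _ _ => rfl, fun _ _ => rfl⟩
def lf2_12 : Leaf (walkS st) := ⟨[], [7, 5, 4, 5, 4, 5, 4, 5, 4], 46, 9, (fun _ v => v), (fun off v => (stp4 off (stp5 off (stp4 off (stp5 off (stp4 off (stp5 off (stp4 off (stp5 off (stp7 off v)))))))))), (fun v _ _ => v), fun _ _ => rfl, fun _ _ => rfl⟩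
def lf2_13 : Leaf (walkS st) := ⟨[2, 8, 8], [], 2, 0, (fun off v => (stp8 off (stp8 off (stp2 off v)))), (fun _ v => v), (fun _ u _ => u), fun _ _ => rfl, fun _ _ => rfl⟩
def lf2_14 : Leaf (walkS st) := ⟨[], [4, 5, 4, 5, 4, 5, 4, 5, 7], 24, 0, (fun _ v => v), (fun off v => (stp7 off (stp5 off (stp4 off (stp5 off (stp4 off (stp5 off (stp4 off (stp5 off (stp4 off v)))))))))), (fun v _ _ => v), fun _ _ => rfl, fun _ _ => rfl⟩
def lf2_15 : Leaf (walkS st) := ⟨[8, 8], [2], 2, 0, (fun off v => (stp8 off (stp8 off v))), (fun off v => (stp2 off v)), (fun _ _ p => p), fun _ _ => rfl, fun _ _ => rfl⟩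
def lf2_16 : Leaf (walkS st) := ⟨[2, 8, 8, 8], [], 2, 0, (fun off v => (stp8 off (stp8 off (stp8 off (stp2 off v))))), (fun _ v => v), (fun _ u _ => u), fun _ _ => rfl, fun _ _ => rfl⟩
def lf2_17 : Leaf (walkS st) := ⟨[], [], 0, 0, (fun _ v => v), (fun _ v => v), (fun _ _ _ => 1), fun _ _ => rfl, fun _ _ => rfl⟩
def tree2 : RTree (walkS st) :=
  (.node 2 (.node 1 (.fork lf2_0) (.fork lf2_1)) (.node 5 (.node 3 (.fork lf2_2) (.node 4 (.fork lf2_3) (.fork lf2_4))) (.node 7 (.node 6 .tleaf (.fork lf2_6)) (.node 8 (.fork lf2_7) (.node 9 (.fork lf2_8) (.node 10 (.fork lf2_9) (.node 11 (.fork lf2_10) (.node 12 (.fork lf2_11) (.node 13 (.fork lf2_12) (.node 14 (.fork lf2_13) (.node 15 (.fork lf2_14) (.node 16 (.fork lf2_15) (.node 17 (.fork lf2_16) (.sub lf2_17))))))))))))))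
def lf3_0 : Leaf (walkS st) := ⟨[3], [], 3, 0, (fun off v => (stp3 off v)), (fun _ v => v), (fun _ u _ => u), fun _ _ => rfl, fun _ _ => rfl⟩
def lf3_2 : Leaf (walkS st) := ⟨[], [6, 3, 6], 15, 2, (fun _ v => v), (fun off v => (stp6 off (stp3 off (stp6 off v)))), (fun v _ _ => v), fun _ _ => rfl, fun _ _ => rfl⟩
def lf3_3 : Leaf (walkS st) := ⟨[], [5, 3, 5], 14, 2, (fun _ v => v), (fun off v => (stp5 off (stp3 off (stp5 off v)))), (fun v _ _ => v), fun _ _ => rfl, fun _ _ => rfl⟩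
def lf3_4 : Leaf (walkS st) := ⟨[], [8, 3], 3, 0, (fun _ v => v), (fun off v => (stp3 off (stp8 off v))), (fun v _ _ => v), fun _ _ => rfl, fun _ _ => rfl⟩
def lf3_5 : Leaf (walkS st) := ⟨[], [7, 3, 7], 16, 2, (fun _ v => v), (fun off v => (stp7 off (stp3 off (stp7 off v)))), (fun v _ _ => v), fun _ _ => rfl, fun _ _ => rfl⟩
def lf3_6 : Leaf (walkS st) := ⟨[], [4, 3, 4, 3, 4], 13, 2, (fun _ v => v), (fun off v => (stp4 off (stp3 off (stp4 off (stp3 off (stp4 off v)))))), (fun v _ _ => v), fun _ _ => rfl, fun _ _ => rfl⟩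
def lf3_7 : Leaf (walkS st) := ⟨[8], [3], 3, 0, (fun off v => (stp8 off v)), (fun off v => (stp3 off v)), (fun _ _ p => p), fun _ _ => rfl, fun _ _ => rfl⟩
def lf3_8 : Leaf (walkS st) := ⟨[], [2, 3, 2, 3, 2], 8, 1, (fun _ v => v), (fun off v => (stp2 off (stp3 off (stp2 off (stp3 off (stp2 off v)))))), (fun v _ _ => v), fun _ _ => rfl, fun _ _ => rfl⟩
def lf3_9 : Leaf (walkS st) := ⟨[], [0, 3, 4, 0, 4, 0, 3, 4, 0, 4], 50, 5, (fun _ v => v), (fun off v => (stp4 off (stp0 off (stp4 off (stp3 off (stp0 off (stp4 off (stp0 off (stp4 off (stp3 off (stp0 off v))))))))))), (fun v _ _ => v), fun _ _ => rfl, fun _ _ => rfl⟩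
def lf3_10 : Leaf (walkS st) := ⟨[], [1, 4, 1, 4, 3, 1, 3, 4, 1, 4], 28, 1, (fun _ v => v), (fun off v => (stp4 off (stp1 off (stp4 off (stp3 off (stp1 off (stp3 off (stp4 off (stp1 off (stp4 off (stp1 off v))))))))))), (fun v _ _ => v), fun _ _ => rfl, fun _ _ => rfl⟩
def lf3_11 : Leaf (walkS st) := ⟨[], [4, 1, 4, 3, 1, 4, 1, 4, 3, 1], 28, 5, (fun _ v => v), (fun off v => (stp1 off (stp3 off (stp4 off (stp1 off (stp4 off (stp1 off (stp3 off (stp4 off (stp1 off (stp4 off v))))))))))), (fun v _ _ => v), fun _ _ => rfl, fun _ _ => rfl⟩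
def lf3_12 : Leaf (walkS st) := ⟨[3, 8], [], 3, 0, (fun off v => (stp8 off (stp3 off v))), (fun _ v => v), (fun _ u _ => u), fun _ _ => rfl, fun _ _ => rfl⟩
def lf3_13 : Leaf (walkS st) := ⟨[], [1, 3, 4, 1, 4, 3, 1, 4, 1, 4], 28, 7, (fun _ v => v), (fun off v => (stp4 off (stp1 off (stp4 off (stp1 off (stp3 off (stp4 off (stp1 off (stp4 off (stp3 off (stp1 off v))))))))))), (fun v _ _ => v), fun _ _ => rfl, fun _ _ => rfl⟩
def lf3_14 : Leaf (walkS st) := ⟨[], [4, 0, 4, 0, 3, 4, 0, 4, 3, 0], 50, 3, (fun _ v => v), (fun off v => (stp0 off (stp3 off (stp4 off (stp0 off (stp4 off (stp3 off (stp0 off (stp4 off (stp0 off (stp4 off v))))))))))), (fun v _ _ => v), fun _ _ => rfl, fun _ _ => rfl⟩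
def lf3_15 : Leaf (walkS st) := ⟨[], [1, 5, 4, 3, 1, 5, 4, 3, 1, 5, 4, 3, 1, 5, 4, 3, 1, 5, 4], 27, 4, (fun _ v => v), (fun off v => (stp4 off (stp5 off (stp1 off (stp3 off (stp4 off (stp5 off (stp1 off (stp3 off (stp4 off (stp5 off (stp1 off (stp3 off (stp4 off (stp5 off (stp1 off (stp3 off (stp4 off (stp5 off (stp1 off v)))))))))))))))))))), (fun v _ _ => v), fun _ _ => rfl, fun _ _ => rfl⟩
def lf3_16 : Leaf (walkS st) := ⟨[], [4, 0, 4, 3, 0, 3, 4, 0, 4, 0], 50, 9, (fun _ v => v), (fun off v => (stp0 off (stp4 off (stp0 off (stp4 off (stp3 off (stp0 off (stp3 off (stp4 off (stp0 off (stp4 off v))))))))))), (fun v _ _ => v), fun _ _ => rfl, fun _ _ => rfl⟩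
def lf3_17 : Leaf (walkS st) := ⟨[], [4, 5, 0, 3, 4, 5, 0, 3, 4, 5, 0, 3, 4, 5, 0, 3, 4, 5, 0], 49, 19, (fun _ v => v), (fun off v => (stp0 off (stp5 off (stp4 off (stp3 off (stp0 off (stp5 off (stp4 off (stp3 off (stp0 off (stp5 off (stp4 off (stp3 off (stp0 off (stp5 off (stp4 off (stp3 off (stp0 off (stp5 off (stp4 off v)))))))))))))))))))), (fun v _ _ => v), fun _ _ => rfl, fun _ _ => rfl⟩
def lf3_18 : Leaf (walkS st) := ⟨[3, 8, 8], [], 3, 0, (fun off v => (stp8 off (stp8 off (stp3 off v)))), (fun _ v => v), (fun _ u _ => u), fun _ _ => rfl, fun _ _ => rfl⟩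
def lf3_19 : Leaf (walkS st) := ⟨[8, 8], [3], 3, 0, (fun off v => (stp8 off (stp8 off v))), (fun off v => (stp3 off v)), (fun _ _ p => p), fun _ _ => rfl, fun _ _ => rfl⟩
def lf3_20 : Leaf (walkS st) := ⟨[], [], 1, 0, (fun _ v => v), (fun _ v => v), (fun _ _ _ => 1), fun _ _ => rfl, fun _ _ => rfl⟩
def lf3_21 : Leaf (walkS st) := ⟨[3, 8, 8, 8], [], 3, 0, (fun off v => (stp8 off (stp8 off (stp8 off (stp3 off v))))), (fun _ v => v), (fun _ u _ => u), fun _ _ => rfl, fun _ _ => rfl⟩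
def tree3 : RTree (walkS st) :=
  (.node 1 (.fork lf3_0) (.node 3 (.node 2 .tleaf (.fork lf3_2)) (.node 5 (.node 4 (.fork lf3_3) (.fork lf3_4)) (.node 8 (.node 6 (.fork lf3_5) (.node 7 (.fork lf3_6) (.fork lf3_7))) (.node 10 (.node 9 (.fork lf3_8) (.fork lf3_9)) (.node 12 (.node 11 (.fork lf3_10) (.fork lf3_11)) (.node 13 (.fork lf3_12) (.node 14 (.fork lf3_13) (.node 15 (.fork lf3_14) (.node 16 (.fork lf3_15) (.node 17 (.fork lf3_16) (.node 18 (.fork lf3_17) (.node 19 (.fork lf3_18) (.node 20 (.fork lf3_19) (.node 21 (.sub lf3_20) (.fork lf3_21))))))))))))))))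
def lf4_0 : Leaf (walkS st) := ⟨[4], [], 4, 0, (fun off v => (stp4 off v)), (fun _ v => v), (fun _ u _ => u), fun _ _ => rfl, fun _ _ => rfl⟩
def lf4_2 : Leaf (walkS st) := ⟨[], [6, 4, 6], 18, 2, (fun _ v => v), (fun off v => (stp6 off (stp4 off (stp6 off v)))), (fun v _ _ => v), fun _ _ => rfl, fun _ _ => rfl⟩
def lf4_3 : Leaf (walkS st) := ⟨[], [8, 4], 4, 0, (fun _ v => v), (fun off v => (stp4 off (stp8 off v))), (fun v _ _ => v), fun _ _ => rfl, fun _ _ => rfl⟩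
def lf4_4 : Leaf (walkS st) := ⟨[], [7, 4, 7], 19, 0, (fun _ v => v), (fun off v => (stp7 off (stp4 off (stp7 off v)))), (fun v _ _ => v), fun _ _ => rfl, fun _ _ => rfl⟩
def lf4_5 : Leaf (walkS st) := ⟨[], [3, 4, 3, 4, 3], 13, 1, (fun _ v => v), (fun off v => (stp3 off (stp4 off (stp3 off (stp4 off (stp3 off v)))))), (fun v _ _ => v), fun _ _ => rfl, fun _ _ => rfl⟩
def lf4_6 : Leaf (walkS st) := ⟨[8], [4], 4, 0, (fun off v => (stp8 off v)), (fun off v => (stp4 off v)), (fun _ _ p => p), fun _ _ => rfl, fun _ _ => rfl⟩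
def lf4_7 : Leaf (walkS st) := ⟨[], [5, 7, 2, 4, 5, 4, 5, 4, 5], 24, 3, (fun _ v => v), (fun off v => (stp5 off (stp4 off (stp5 off (stp4 off (stp5 off (stp4 off (stp2 off (stp7 off (stp5 off v)))))))))), (fun v _ _ => v), fun _ _ => rfl, fun _ _ => rfl⟩
def lf4_8 : Leaf (walkS st) := ⟨[], [2, 4, 2], 9, 1, (fun _ v => v), (fun off v => (stp2 off (stp4 off (stp2 off v)))), (fun v _ _ => v), fun _ _ => rfl, fun _ _ => rfl⟩
def lf4_9 : Leaf (walkS st) := ⟨[], [1, 4, 5, 4, 0, 4, 0, 5, 1], 26, 8, (fun _ v => v), (fun off v => (stp1 off (stp5 off (stp0 off (stp4 off (stp0 off (stp4 off (stp5 off (stp4 off (stp1 off v)))))))))), (fun v _ _ => v), fun _ _ => rfl, fun _ _ => rfl⟩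
def lf4_10 : Leaf (walkS st) := ⟨[], [0, 4, 0, 5, 1, 4, 1, 4, 5], 26, 4, (fun _ v => v), (fun off v => (stp5 off (stp4 off (stp1 off (stp4 off (stp1 off (stp5 off (stp0 off (stp4 off (stp0 off v)))))))))), (fun v _ _ => v), fun _ _ => rfl, fun _ _ => rfl⟩
def lf4_11 : Leaf (walkS st) := ⟨[], [1, 4, 3, 1, 4, 1, 4, 3, 1, 3], 28, 4, (fun _ v => v), (fun off v => (stp3 off (stp1 off (stp3 off (stp4 off (stp1 off (stp4 off (stp1 off (stp3 off (stp4 off (stp1 off v))))))))))), (fun v _ _ => v), fun _ _ => rfl, fun _ _ => rfl⟩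
def lf4_12 : Leaf (walkS st) := ⟨[], [1, 5, 1, 5, 4, 5, 0, 5, 0], 25, 0, (fun _ v => v), (fun off v => (stp0 off (stp5 off (stp0 off (stp5 off (stp4 off (stp5 off (stp1 off (stp5 off (stp1 off v)))))))))), (fun v _ _ => v), fun _ _ => rfl, fun _ _ => rfl⟩
def lf4_13 : Leaf (walkS st) := ⟨[], [0, 5, 1, 4, 1, 4, 5, 4, 0], 26, 2, (fun _ v => v), (fun off v => (stp0 off (stp4 off (stp5 off (stp4 off (stp1 off (stp4 off (stp1 off (stp5 off (stp0 off v)))))))))), (fun v _ _ => v), fun _ _ => rfl, fun _ _ => rfl⟩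
def lf4_14 : Leaf (walkS st) := ⟨[4, 8], [], 4, 0, (fun off v => (stp8 off (stp4 off v))), (fun _ v => v), (fun _ u _ => u), fun _ _ => rfl, fun _ _ => rfl⟩
def lf4_15 : Leaf (walkS st) := ⟨[], [3, 0, 3, 4, 0, 4, 0, 3, 4, 0], 50, 6, (fun _ v => v), (fun off v => (stp0 off (stp4 off (stp3 off (stp0 off (stp4 off (stp0 off (stp4 off (stp3 off (stp0 off (stp3 off v))))))))))), (fun v _ _ => v), fun _ _ => rfl, fun _ _ => rfl⟩
def lf4_16 : Leaf (walkS st) := ⟨[], [3, 1, 4, 1, 4, 3, 1, 3, 4, 1], 28, 2, (fun _ v => v), (fun off v => (stp1 off (stp4 off (stp3 off (stp1 off (stp3 off (stp4 off (stp1 off (stp4 off (stp1 off (stp3 off v))))))))))), (fun v _ _ => v), fun _ _ => rfl, fun _ _ => rfl⟩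
def lf4_17 : Leaf (walkS st) := ⟨[], [5, 4, 0, 4, 0, 5, 1, 4, 1], 26, 6, (fun _ v => v), (fun off v => (stp1 off (stp4 off (stp1 off (stp5 off (stp0 off (stp4 off (stp0 off (stp4 off (stp5 off v)))))))))), (fun v _ _ => v), fun _ _ => rfl, fun _ _ => rfl⟩
def lf4_18 : Leaf (walkS st) := ⟨[], [0, 4, 0, 3, 4, 0, 4, 3, 0, 3], 50, 2, (fun _ v => v), (fun off v => (stp3 off (stp0 off (stp3 off (stp4 off (stp0 off (stp4 off (stp3 off (stp0 off (stp4 off (stp0 off v))))))))))), (fun v _ _ => v), fun _ _ => rfl, fun _ _ => rfl⟩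
def lf4_19 : Leaf (walkS st) := ⟨[], [5, 4, 5, 7, 2, 4, 5, 4, 5], 24, 5, (fun _ v => v), (fun off v => (stp5 off (stp4 off (stp5 off (stp4 off (stp2 off (stp7 off (stp5 off (stp4 off (stp5 off v)))))))))), (fun v _ _ => v), fun _ _ => rfl, fun _ _ => rfl⟩
def lf4_20 : Leaf (walkS st) := ⟨[], [0, 3, 4, 0, 4, 3, 0, 3, 4, 0], 50, 0, (fun _ v => v), (fun off v => (stp0 off (stp4 off (stp3 off (stp0 off (stp3 off (stp4 off (stp0 off (stp4 off (stp3 off (stp0 off v))))))))))), (fun v _ _ => v), fun _ _ => rfl, fun _ _ => rfl⟩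
def lf4_21 : Leaf (walkS st) := ⟨[], [5, 0, 5, 0, 4, 1, 5, 1, 5], 25, 5, (fun _ v => v), (fun off v => (stp5 off (stp1 off (stp5 off (stp1 off (stp4 off (stp0 off (stp5 off (stp0 off (stp5 off v)))))))))), (fun v _ _ => v), fun _ _ => rfl, fun _ _ => rfl⟩
def lf4_22 : Leaf (walkS st) := ⟨[], [3, 1, 3, 4, 1, 4, 3, 1, 4, 1], 28, 8, (fun _ v => v), (fun off v => (stp1 off (stp4 off (stp1 off (stp3 off (stp4 off (stp1 off (stp4 off (stp3 off (stp1 off (stp3 off v))))))))))), (fun v _ _ => v), fun _ _ => rfl, fun _ _ => rfl⟩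
def lf4_23 : Leaf (walkS st) := ⟨[], [1, 4, 3, 1, 3, 4, 1, 4, 3, 1], 28, 10, (fun _ v => v), (fun off v => (stp1 off (stp3 off (stp4 off (stp1 off (stp4 off (stp3 off (stp1 off (stp3 off (stp4 off (stp1 off v))))))))))), (fun v _ _ => v), fun _ _ => rfl, fun _ _ => rfl⟩
def lf4_24 : Leaf (walkS st) := ⟨[], [0, 4, 3, 0, 3, 4, 0, 4, 0, 3], 50, 8, (fun _ v => v), (fun off v => (stp3 off (stp0 off (stp4 off (stp0 off (stp4 off (stp3 off (stp0 off (stp3 off (stp4 off (stp0 off v))))))))))), (fun v _ _ => v), fun _ _ => rfl, fun _ _ => rfl⟩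
def lf4_25 : Leaf (walkS st) := ⟨[], [5, 4, 5, 4, 5, 7, 2, 4, 5], 24, 7, (fun _ v => v), (fun off v => (stp5 off (stp4 off (stp2 off (stp7 off (stp5 off (stp4 off (stp5 off (stp4 off (stp5 off v)))))))))), (fun v _ _ => v), fun _ _ => rfl, fun _ _ => rfl⟩
def lf4_26 : Leaf (walkS st) := ⟨[], [5, 4, 5, 4, 5, 4, 5, 7, 2], 24, 9, (fun _ v => v), (fun off v => (stp2 off (stp7 off (stp5 off (stp4 off (stp5 off (stp4 off (stp5 off (stp4 off (stp5 off v)))))))))), (fun v _ _ => v), fun _ _ => rfl, fun _ _ => rfl⟩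
def lf4_27 : Leaf (walkS st) := ⟨[], [5, 0, 3, 4, 5, 0, 3, 4, 5, 0, 3, 4, 5, 0, 3, 4, 5, 0, 3], 49, 2, (fun _ v => v), (fun off v => (stp3 off (stp0 off (stp5 off (stp4 off (stp3 off (stp0 off (stp5 off (stp4 off (stp3 off (stp0 off (stp5 off (stp4 off (stp3 off (stp0 off (stp5 off (stp4 off (stp3 off (stp0 off (stp5 off v)))))))))))))))))))), (fun v _ _ => v), fun _ _ => rfl, fun _ _ => rfl⟩
def lf4_28 : Leaf (walkS st) := ⟨[], [2, 7, 5, 4, 5, 4, 5, 4, 5], 46, 0, (fun _ v => v), (fun off v => (stp5 off (stp4 off (stp5 off (stp4 off (stp5 off (stp4 off (stp5 off (stp7 off (stp2 off v)))))))))), (fun v _ _ => v), fun _ _ => rfl, fun _ _ => rfl⟩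
def lf4_29 : Leaf (walkS st) := ⟨[], [3, 1, 5, 4, 3, 1, 5, 4, 3, 1, 5, 4, 3, 1, 5, 4, 3, 1, 5], 27, 1, (fun _ v => v), (fun off v => (stp5 off (stp1 off (stp3 off (stp4 off (stp5 off (stp1 off (stp3 off (stp4 off (stp5 off (stp1 off (stp3 off (stp4 off (stp5 off (stp1 off (stp3 off (stp4 off (stp5 off (stp1 off (stp3 off v)))))))))))))))))))), (fun v _ _ => v), fun _ _ => rfl, fun _ _ => rfl⟩
def lf4_30 : Leaf (walkS st) := ⟨[4, 8, 8], [], 4, 0, (fun off v => (stp8 off (stp8 off (stp4 off v)))), (fun _ v => v), (fun _ u _ => u), fun _ _ => rfl, fun _ _ => rfl⟩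
def lf4_31 : Leaf (walkS st) := ⟨[], [5, 4, 5, 4, 5, 4, 5, 4, 5, 4, 5, 4, 5, 4, 5], 17, 8, (fun _ v => v), (fun off v => (stp5 off (stp4 off (stp5 off (stp4 off (stp5 off (stp4 off (stp5 off (stp4 off (stp5 off (stp4 off (stp5 off (stp4 off (stp5 off (stp4 off (stp5 off v)))))))))))))))), (fun v _ _ => v), fun _ _ => rfl, fun _ _ => rfl⟩
def lf4_32 : Leaf (walkS st) := ⟨[], [5, 4, 5, 4, 5, 4, 2, 7, 5], 46, 6, (fun _ v => v), (fun off v => (stp5 off (stp7 off (stp2 off (stp4 off (stp5 off (stp4 off (stp5 off (stp4 off (stp5 off v)))))))))), (fun v _ _ => v), fun _ _ => rfl, fun _ _ => rfl⟩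
def lf4_33 : Leaf (walkS st) := ⟨[], [5, 4, 2, 7, 5, 4, 5, 4, 5], 46, 2, (fun _ v => v), (fun off v => (stp5 off (stp4 off (stp5 off (stp4 off (stp5 off (stp7 off (stp2 off (stp4 off (stp5 off v)))))))))), (fun v _ _ => v), fun _ _ => rfl, fun _ _ => rfl⟩
def lf4_34 : Leaf (walkS st) := ⟨[8, 8], [4], 4, 0, (fun off v => (stp8 off (stp8 off v))), (fun off v => (stp4 off v)), (fun _ _ p => p), fun _ _ => rfl, fun _ _ => rfl⟩
def lf4_35 : Leaf (walkS st) := ⟨[], [5, 4, 5, 4, 2, 7, 5, 4, 5], 46, 4, (fun _ v => v), (fun off v => (stp5 off (stp4 off (stp5 off (stp7 off (stp2 off (stp4 off (stp5 off (stp4 off (stp5 off v)))))))))), (fun v _ _ => v), fun _ _ => rfl, fun _ _ => rfl⟩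
def lf4_36 : Leaf (walkS st) := ⟨[4, 8, 8, 8], [], 4, 0, (fun off v => (stp8 off (stp8 off (stp8 off (stp4 off v))))), (fun _ v => v), (fun _ u _ => u), fun _ _ => rfl, fun _ _ => rfl⟩
def lf4_37 : Leaf (walkS st) := ⟨[], [], 2, 0, (fun _ v => v), (fun _ v => v), (fun _ _ _ => 1), fun _ _ => rfl, fun _ _ => rfl⟩
def lf4_38 : Leaf (walkS st) := ⟨[8, 8, 8], [4], 4, 0, (fun off v => (stp8 off (stp8 off (stp8 off v)))), (fun off v => (stp4 off v)), (fun _ _ p => p), fun _ _ => rfl, fun _ _ => rfl⟩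
def tree4 : RTree (walkS st) :=
  (.node 1 (.fork lf4_0) (.node 3 (.node 2 .tleaf (.fork lf4_2)) (.node 6 (.node 4 (.fork lf4_3) (.node 5 (.fork lf4_4) (.fork lf4_5))) (.node 11 (.node 8 (.node 7 (.fork lf4_6) (.fork lf4_7)) (.node 9 (.fork lf4_8) (.node 10 (.fork lf4_9) (.fork lf4_10)))) (.node 16 (.node 13 (.node 12 (.fork lf4_11) (.fork lf4_12)) (.node 14 (.fork lf4_13) (.node 15 (.fork lf4_14) (.fork lf4_15)))) (.node 21 (.node 18 (.node 17 (.fork lf4_16) (.fork lf4_17)) (.node 19 (.fork lf4_18) (.node 20 (.fork lf4_19) (.fork lf4_20)))) (.node 24 (.node 22 (.fork lf4_21) (.node 23 (.fork lf4_22) (.fork lf4_23))) (.node 26 (.node 25 (.fork lf4_24) (.fork lf4_25)) (.node 28 (.node 27 (.fork lf4_26) (.fork lf4_27)) (.node 30 (.node 29 (.fork lf4_28) (.fork lf4_29)) (.node 32 (.node 31 (.fork lf4_30) (.fork lf4_31)) (.node 34 (.node 33 (.fork lf4_32) (.fork lf4_33)) (.node 35 (.fork lf4_34) (.node 36 (.fork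 lf4_35) (.node 37 (.fork lf4_36) (.node 38 (.sub lf4_37) (.fork lf4_38)))))))))))))))))
def lf5_0 : Leaf (walkS st) := ⟨[5], [], 5, 0, (fun off v => (stp5 off v)), (fun _ v => v), (fun _ u _ => u), fun _ _ => rfl, fun _ _ => rfl⟩
def lf5_2 : Leaf (walkS st) := ⟨[], [8, 5], 5, 0, (fun _ v => v), (fun off v => (stp5 off (stp8 off v))), (fun v _ _ => v), fun _ _ => rfl, fun _ _ => rfl⟩
def lf5_3 : Leaf (walkS st) := ⟨[], [6, 5, 6, 5, 6], 20, 2, (fun _ v => v), (fun off v => (stp6 off (stp5 off (stp6 off (stp5 off (stp6 off v)))))), (fun v _ _ => v), fun _ _ => rfl, fun _ _ => rfl⟩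
def lf5_4 : Leaf (walkS st) := ⟨[], [7, 5, 7], 21, 2, (fun _ v => v), (fun off v => (stp7 off (stp5 off (stp7 off v)))), (fun v _ _ => v), fun _ _ => rfl, fun _ _ => rfl⟩
def lf5_5 : Leaf (walkS st) := ⟨[], [3, 5, 3], 14, 1, (fun _ v => v), (fun off v => (stp3 off (stp5 off (stp3 off v)))), (fun v _ _ => v), fun _ _ => rfl, fun _ _ => rfl⟩
def lf5_6 : Leaf (walkS st) := ⟨[8], [5], 5, 0, (fun off v => (stp8 off v)), (fun off v => (stp5 off v)), (fun _ _ p => p), fun _ _ => rfl, fun _ _ => rfl⟩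
def lf5_7 : Leaf (walkS st) := ⟨[], [4, 5, 7, 2, 4, 5, 4, 5, 4], 24, 4, (fun _ v => v), (fun off v => (stp4 off (stp5 off (stp4 off (stp5 off (stp4 off (stp2 off (stp7 off (stp5 off (stp4 off v)))))))))), (fun v _ _ => v), fun _ _ => rfl, fun _ _ => rfl⟩
def lf5_8 : Leaf (walkS st) := ⟨[], [1, 5, 4, 5, 0, 5, 0, 4, 1], 25, 8, (fun _ v => v), (fun off v => (stp1 off (stp4 off (stp0 off (stp5 off (stp0 off (stp5 off (stp4 off (stp5 off (stp1 off v)))))))))), (fun v _ _ => v), fun _ _ => rfl, fun _ _ => rfl⟩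
def lf5_9 : Leaf (walkS st) := ⟨[], [0, 5, 0, 4, 1, 5, 1, 5, 4], 25, 4, (fun _ v => v), (fun off v => (stp4 off (stp5 off (stp1 off (stp5 off (stp1 off (stp4 off (stp0 off (stp5 off (stp0 off v)))))))))), (fun v _ _ => v), fun _ _ => rfl, fun _ _ => rfl⟩
def lf5_10 : Leaf (walkS st) := ⟨[], [2, 5, 2], 10, 1, (fun _ v => v), (fun off v => (stp2 off (stp5 off (stp2 off v)))), (fun v _ _ => v), fun _ _ => rfl, fun _ _ => rfl⟩
def lf5_11 : Leaf (walkS st) := ⟨[], [1, 5, 6, 1, 5, 1, 5, 6, 1, 6], 29, 4, (fun _ v => v), (fun off v => (stp6 off (stp1 off (stp6 off (stp5 off (stp1 off (stp5 off (stp1 off (stp6 off (stp5 off (stp1 off v))))))))))), (fun v _ _ => v), fun _ _ => rfl, fun _ _ => rfl⟩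
def lf5_12 : Leaf (walkS st) := ⟨[], [0, 4, 1, 5, 1, 5, 4, 5, 0], 25, 2, (fun _ v => v), (fun off v => (stp0 off (stp5 off (stp4 off (stp5 off (stp1 off (stp5 off (stp1 off (stp4 off (stp0 off v)))))))))), (fun v _ _ => v), fun _ _ => rfl, fun _ _ => rfl⟩
def lf5_13 : Leaf (walkS st) := ⟨[5, 8], [], 5, 0, (fun off v => (stp8 off (stp5 off v))), (fun _ v => v), (fun _ u _ => u), fun _ _ => rfl, fun _ _ => rfl⟩
def lf5_14 : Leaf (walkS st) := ⟨[], [6, 1, 5, 1, 5, 6, 1, 6, 5, 1], 29, 2, (fun _ v => v), (fun off v => (stp1 off (stp5 off (stp6 off (stp1 off (stp6 off (stp5 off (stp1 off (stp5 off (stp1 off (stp6 off v))))))))))), (fun v _ _ => v), fun _ _ => rfl, fun _ _ => rfl⟩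
def lf5_15 : Leaf (walkS st) := ⟨[], [6, 0, 6, 5, 0, 5, 0, 6, 5, 0], 51, 6, (fun _ v => v), (fun off v => (stp0 off (stp5 off (stp6 off (stp0 off (stp5 off (stp0 off (stp5 off (stp6 off (stp0 off (stp6 off v))))))))))), (fun v _ _ => v), fun _ _ => rfl, fun _ _ => rfl⟩
def lf5_16 : Leaf (walkS st) := ⟨[], [4, 5, 0, 5, 0, 4, 1, 5, 1], 25, 6, (fun _ v => v), (fun off v => (stp1 off (stp5 off (stp1 off (stp4 off (stp0 off (stp5 off (stp0 off (stp5 off (stp4 off v)))))))))), (fun v _ _ => v), fun _ _ => rfl, fun _ _ => rfl⟩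
def lf5_17 : Leaf (walkS st) := ⟨[], [0, 5, 0, 6, 5, 0, 5, 6, 0, 6], 51, 2, (fun _ v => v), (fun off v => (stp6 off (stp0 off (stp6 off (stp5 off (stp0 off (stp5 off (stp6 off (stp0 off (stp5 off (stp0 off v))))))))))), (fun v _ _ => v), fun _ _ => rfl, fun _ _ => rfl⟩
def lf5_18 : Leaf (walkS st) := ⟨[], [1, 4, 1, 4, 5, 4, 0, 4, 0], 26, 0, (fun _ v => v), (fun off v => (stp0 off (stp4 off (stp0 off (stp4 off (stp5 off (stp4 off (stp1 off (stp4 off (stp1 off v)))))))))), (fun v _ _ => v), fun _ _ => rfl, fun _ _ => rfl⟩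
def lf5_19 : Leaf (walkS st) := ⟨[], [0, 6, 5, 0, 5, 6, 0, 6, 5, 0], 51, 0, (fun _ v => v), (fun off v => (stp0 off (stp5 off (stp6 off (stp0 off (stp6 off (stp5 off (stp0 off (stp5 off (stp6 off (stp0 off v))))))))))), (fun v _ _ => v), fun _ _ => rfl, fun _ _ => rfl⟩
def lf5_20 : Leaf (walkS st) := ⟨[], [6, 1, 6, 5, 1, 5, 6, 1, 5, 1], 29, 8, (fun _ v => v), (fun off v => (stp1 off (stp5 off (stp1 off (stp6 off (stp5 off (stp1 off (stp5 off (stp6 off (stp1 off (stp6 off v))))))))))), (fun v _ _ => v), fun _ _ => rfl, fun _ _ => rfl⟩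
def lf5_21 : Leaf (walkS st) := ⟨[], [4, 0, 4, 0, 5, 1, 4, 1, 4], 26, 5, (fun _ v => v), (fun off v => (stp4 off (stp1 off (stp4 off (stp1 off (stp5 off (stp0 off (stp4 off (stp0 off (stp4 off v)))))))))), (fun v _ _ => v), fun _ _ => rfl, fun _ _ => rfl⟩
def lf5_22 : Leaf (walkS st) := ⟨[], [1, 5, 6, 1, 6, 5, 1, 5, 6, 1], 29, 10, (fun _ v => v), (fun off v => (stp1 off (stp6 off (stp5 off (stp1 off (stp5 off (stp6 off (stp1 off (stp6 off (stp5 off (stp1 off v))))))))))), (fun v _ _ => v), fun _ _ => rfl, fun _ _ => rfl⟩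
def lf5_23 : Leaf (walkS st) := ⟨[], [0, 5, 6, 0, 6, 5, 0, 5, 0, 6], 51, 8, (fun _ v => v), (fun off v => (stp6 off (stp0 off (stp5 off (stp0 off (stp5 off (stp6 off (stp0 off (stp6 off (stp5 off (stp0 off v))))))))))), (fun v _ _ => v), fun _ _ => rfl, fun _ _ => rfl⟩
def lf5_24 : Leaf (walkS st) := ⟨[], [0, 3, 4, 5, 0, 3, 4, 5, 0, 3, 4, 5, 0, 3, 4, 5, 0, 3, 4], 49, 1, (fun _ v => v), (fun off v => (stp4 off (stp3 off (stp0 off (stp5 off (stp4 off (stp3 off (stp0 off (stp5 off (stp4 off (stp3 off (stp0 off (stp5 off (stp4 off (stp3 off (stp0 off (stp5 off (stp4 off (stp3 off (stp0 off v)))))))))))))))))))), (fun v _ _ => v), fun _ _ => rfl, fun _ _ => rfl⟩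
def lf5_25 : Leaf (walkS st) := ⟨[], [7, 2, 4, 5, 4, 5, 4, 5, 4], 24, 2, (fun _ v => v), (fun off v => (stp4 off (stp5 off (stp4 off (stp5 off (stp4 off (stp5 off (stp4 off (stp2 off (stp7 off v)))))))))), (fun v _ _ => v), fun _ _ => rfl, fun _ _ => rfl⟩
def lf5_26 : Leaf (walkS st) := ⟨[], [4, 3, 1, 5, 4, 3, 1, 5, 4, 3, 1, 5, 4, 3, 1, 5, 4, 3, 1], 27, 2, (fun _ v => v), (fun off v => (stp1 off (stp3 off (stp4 off (stp5 off (stp1 off (stp3 off (stp4 off (stp5 off (stp1 off (stp3 off (stp4 off (stp5 off (stp1 off (stp3 off (stp4 off (stp5 off (stp1 off (stp3 off (stp4 off v)))))))))))))))))))), (fun v _ _ => v), fun _ _ => rfl, fun _ _ => rfl⟩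
def lf5_27 : Leaf (walkS st) := ⟨[], [4, 5, 4, 5, 4, 5, 7, 2, 4], 24, 8, (fun _ v => v), (fun off v => (stp4 off (stp2 off (stp7 off (stp5 off (stp4 off (stp5 off (stp4 off (stp5 off (stp4 off v)))))))))), (fun v _ _ => v), fun _ _ => rfl, fun _ _ => rfl⟩
def lf5_28 : Leaf (walkS st) := ⟨[], [4, 5, 4, 5, 7, 2, 4, 5, 4], 24, 6, (fun _ v => v), (fun off v => (stp4 off (stp5 off (stp4 off (stp2 off (stp7 off (stp5 off (stp4 off (stp5 off (stp4 off v)))))))))), (fun v _ _ => v), fun _ _ => rfl, fun _ _ => rfl⟩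
def lf5_29 : Leaf (walkS st) := ⟨[], [4, 5, 4, 5, 4, 5, 4, 2, 7], 46, 7, (fun _ v => v), (fun off v => (stp7 off (stp2 off (stp4 off (stp5 off (stp4 off (stp5 off (stp4 off (stp5 off (stp4 off v)))))))))), (fun v _ _ => v), fun _ _ => rfl, fun _ _ => rfl⟩
def lf5_30 : Leaf (walkS st) := ⟨[], [4, 2, 7, 5, 4, 5, 4, 5, 4], 46, 1, (fun _ v => v), (fun off v => (stp4 off (stp5 off (stp4 off (stp5 off (stp4 off (stp5 off (stp7 off (stp2 off (stp4 off v)))))))))), (fun v _ _ => v), fun _ _ => rfl, fun _ _ => rfl⟩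
def lf5_31 : Leaf (walkS st) := ⟨[], [4, 5, 4, 5, 4, 5, 4, 5, 4, 5, 4, 5, 4, 5, 4], 17, 9, (fun _ v => v), (fun off v => (stp4 off (stp5 off (stp4 off (stp5 off (stp4 off (stp5 off (stp4 off (stp5 off (stp4 off (stp5 off (stp4 off (stp5 off (stp4 off (stp5 off (stp4 off v)))))))))))))))), (fun v _ _ => v), fun _ _ => rfl, fun _ _ => rfl⟩
def lf5_32 : Leaf (walkS st) := ⟨[5, 8, 8], [], 5, 0, (fun off v => (stp8 off (stp8 off (stp5 off v)))), (fun _ v => v), (fun _ u _ => u), fun _ _ => rfl, fun _ _ => rfl⟩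
def lf5_33 : Leaf (walkS st) := ⟨[], [4, 5, 4, 5, 4, 2, 7, 5, 4], 46, 5, (fun _ v => v), (fun off v => (stp4 off (stp5 off (stp7 off (stp2 off (stp4 off (stp5 off (stp4 off (stp5 off (stp4 off v)))))))))), (fun v _ _ => v), fun _ _ => rfl, fun _ _ => rfl⟩
def lf5_34 : Leaf (walkS st) := ⟨[8, 8], [5], 5, 0, (fun off v => (stp8 off (stp8 off v))), (fun off v => (stp5 off v)), (fun _ _ p => p), fun _ _ => rfl, fun _ _ => rfl⟩
def lf5_35 : Leaf (walkS st) := ⟨[], [4, 5, 4, 2, 7, 5, 4, 5, 4], 46, 3, (fun _ v => v), (fun off v => (stp4 off (stp5 off (stp4 off (stp5 off (stp7 off (stp2 off (stp4 off (stp5 off (stp4 off v)))))))))), (fun v _ _ => v), fun _ _ => rfl, fun _ _ => rfl⟩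
def lf5_36 : Leaf (walkS st) := ⟨[5, 8, 8, 8], [], 5, 0, (fun off v => (stp8 off (stp8 off (stp8 off (stp5 off v))))), (fun _ v => v), (fun _ u _ => u), fun _ _ => rfl, fun _ _ => rfl⟩
def lf5_37 : Leaf (walkS st) := ⟨[], [], 3, 0, (fun _ v => v), (fun _ v => v), (fun _ _ _ => 1), fun _ _ => rfl, fun _ _ => rfl⟩
def lf5_38 : Leaf (walkS st) := ⟨[8, 8, 8], [5], 5, 0, (fun off v => (stp8 off (stp8 off (stp8 off v)))), (fun off v => (stp5 off v)), (fun _ _ p => p), fun _ _ => rfl, fun _ _ => rfl⟩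
def lf5_39 : Leaf (walkS st) := ⟨[5, 8, 8, 8, 8], [], 5, 0, (fun off v => (stp8 off (stp8 off (stp8 off (stp8 off (stp5 off v)))))), (fun _ v => v), (fun _ u _ => u), fun _ _ => rfl, fun _ _ => rfl⟩
def tree5 : RTree (walkS st) :=
  (.node 1 (.fork lf5_0) (.node 3 (.node 2 .tleaf (.fork lf5_2)) (.node 7 (.node 5 (.node 4 (.fork lf5_3) (.fork lf5_4)) (.node 6 (.fork lf5_5) (.fork lf5_6))) (.node 12 (.node 9 (.node 8 (.fork lf5_7) (.fork lf5_8)) (.node 10 (.fork lf5_9) (.node 11 (.fork lf5_10) (.fork lf5_11)))) (.node 17 (.node 14 (.node 13 (.fork lf5_12) (.fork lf5_13)) (.node 15 (.fork lf5_14) (.node 16 (.fork lf5_15) (.fork lf5_16)))) (.node 21 (.node 19 (.node 18 (.fork lf5_17) (.fork lf5_18)) (.node 20 (.fork lf5_19) (.fork lf5_20))) (.node 25 (.node 23 (.node 22 (.fork lf5_21) (.fork lf5_22)) (.node 24 (.fork lf5_23) (.fork lf5_24))) (.node 28 (.node 26 (.fork lf5_25) (.node 27 (.fork lf5_26) (.fork lf5_27)))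 (.node 30 (.node 29 (.fork lf5_28) (.fork lf5_29)) (.node 32 (.node 31 (.fork lf5_30) (.fork lf5_31)) (.node 33 (.fork lf5_32) (.node 35 (.node 34 (.fork lf5_33) (.fork lf5_34)) (.node 36 (.fork lf5_35) (.node 37 (.fork lf5_36) (.node 38 (.sub lf5_37) (.node 39 (.fork lf5_38) (.fork lf5_39)))))))))))))))))
def lf6_0 : Leaf (walkS st) := ⟨[6], [], 6, 0, (fun off v => (stp6 off v)), (fun _ v => v), (fun _ u _ => u), fun _ _ => rfl, fun _ _ => rfl⟩
def lf6_2 : Leaf (walkS st) := ⟨[], [8, 6], 6, 0, (fun _ v => v), (fun off v => (stp6 off (stp8 off v))), (fun v _ _ => v), fun _ _ => rfl, fun _ _ => rfl⟩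
def lf6_3 : Leaf (walkS st) := ⟨[], [5, 6, 5, 6, 5], 20, 1, (fun _ v => v), (fun off v => (stp5 off (stp6 off (stp5 off (stp6 off (stp5 off v)))))), (fun v _ _ => v), fun _ _ => rfl, fun _ _ => rfl⟩
def lf6_4 : Leaf (walkS st) := ⟨[], [4, 6, 4], 18, 1, (fun _ v => v), (fun off v => (stp4 off (stp6 off (stp4 off v)))), (fun v _ _ => v), fun _ _ => rfl, fun _ _ => rfl⟩
def lf6_5 : Leaf (walkS st) := ⟨[], [7, 6, 7, 6, 7], 22, 2, (fun _ v => v), (fun off v => (stp7 off (stp6 off (stp7 off (stp6 off (stp7 off v)))))), (fun v _ _ => v), fun _ _ => rfl, fun _ _ => rfl⟩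
def lf6_6 : Leaf (walkS st) := ⟨[], [3, 6, 3], 15, 1, (fun _ v => v), (fun off v => (stp3 off (stp6 off (stp3 off v)))), (fun v _ _ => v), fun _ _ => rfl, fun _ _ => rfl⟩
def lf6_7 : Leaf (walkS st) := ⟨[8], [6], 6, 0, (fun off v => (stp8 off v)), (fun off v => (stp6 off v)), (fun _ _ p => p), fun _ _ => rfl, fun _ _ => rfl⟩
def lf6_8 : Leaf (walkS st) := ⟨[], [0, 6, 5, 0, 5, 0, 6, 5, 0, 5], 51, 5, (fun _ v => v), (fun off v => (stp5 off (stp0 off (stp5 off (stp6 off (stp0 off (stp5 off (stp0 off (stp5 off (stp6 off (stp0 off v))))))))))), (fun v _ _ => v), fun _ _ => rfl, fun _ _ => rfl⟩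
def lf6_9 : Leaf (walkS st) := ⟨[], [2, 6, 2], 11, 3, (fun _ v => v), (fun off v => (stp2 off (stp6 off (stp2 off v)))), (fun v _ _ => v), fun _ _ => rfl, fun _ _ => rfl⟩
def lf6_10 : Leaf (walkS st) := ⟨[], [5, 1, 5, 6, 1, 5, 1, 5, 6, 1], 29, 5, (fun _ v => v), (fun off v => (stp1 off (stp6 off (stp5 off (stp1 off (stp5 off (stp1 off (stp6 off (stp5 off (stp1 off (stp5 off v))))))))))), (fun v _ _ => v), fun _ _ => rfl, fun _ _ => rfl⟩
def lf6_11 : Leaf (walkS st) := ⟨[], [1, 5, 1, 5, 6, 1, 6, 5, 1, 5], 29, 1, (fun _ v => v), (fun off v => (stp5 off (stp1 off (stp5 off (stp6 off (stp1 off (stp6 off (stp5 off (stp1 off (stp5 off (stp1 off v))))))))))), (fun v _ _ => v), fun _ _ => rfl, fun _ _ => rfl⟩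
def lf6_12 : Leaf (walkS st) := ⟨[], [1, 6, 5, 1, 5, 6, 1, 5, 1, 5], 29, 7, (fun _ v => v), (fun off v => (stp5 off (stp1 off (stp5 off (stp1 off (stp6 off (stp5 off (stp1 off (stp5 off (stp6 off (stp1 off v))))))))))), (fun v _ _ => v), fun _ _ => rfl, fun _ _ => rfl⟩
def lf6_13 : Leaf (walkS st) := ⟨[6, 8], [], 6, 0, (fun off v => (stp8 off (stp6 off v))), (fun _ v => v), (fun _ u _ => u), fun _ _ => rfl, fun _ _ => rfl⟩
def lf6_14 : Leaf (walkS st) := ⟨[], [5, 0, 5, 0, 6, 5, 0, 5, 6, 0], 51, 3, (fun _ v => v), (fun off v => (stp0 off (stp6 off (stp5 off (stp0 off (stp5 off (stp6 off (stp0 off (stp5 off (stp0 off (stp5 off v))))))))))), (fun v _ _ => v), fun _ _ => rfl, fun _ _ => rfl⟩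
def lf6_15 : Leaf (walkS st) := ⟨[], [5, 0, 5, 6, 0, 6, 5, 0, 5, 0], 51, 9, (fun _ v => v), (fun off v => (stp0 off (stp5 off (stp0 off (stp5 off (stp6 off (stp0 off (stp6 off (stp5 off (stp0 off (stp5 off v))))))))))), (fun v _ _ => v), fun _ _ => rfl, fun _ _ => rfl⟩
def lf6_16 : Leaf (walkS st) := ⟨[6, 8, 8], [], 6, 0, (fun off v => (stp8 off (stp8 off (stp6 off v)))), (fun _ v => v), (fun _ u _ => u), fun _ _ => rfl, fun _ _ => rfl⟩
def lf6_17 : Leaf (walkS st) := ⟨[8, 8], [6], 6, 0, (fun off v => (stp8 off (stp8 off v))), (fun off v => (stp6 off v)), (fun _ _ p => p), fun _ _ => rfl, fun _ _ => rfl⟩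
def lf6_18 : Leaf (walkS st) := ⟨[6, 8, 8, 8], [], 6, 0, (fun off v => (stp8 off (stp8 off (stp8 off (stp6 off v))))), (fun _ v => v), (fun _ u _ => u), fun _ _ => rfl, fun _ _ => rfl⟩
def lf6_19 : Leaf (walkS st) := ⟨[], [], 4, 0, (fun _ v => v), (fun _ v => v), (fun _ _ _ => 1), fun _ _ => rfl, fun _ _ => rfl⟩
def lf6_20 : Leaf (walkS st) := ⟨[8, 8, 8], [6], 6, 0, (fun off v => (stp8 off (stp8 off (stp8 off v)))), (fun off v => (stp6 off v)), (fun _ _ p => p), fun _ _ => rfl, fun _ _ => rfl⟩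
def tree6 : RTree (walkS st) :=
  (.node 1 (.fork lf6_0) (.node 3 (.node 2 .tleaf (.fork lf6_2)) (.node 6 (.node 4 (.fork lf6_3) (.node 5 (.fork lf6_4) (.fork lf6_5))) (.node 8 (.node 7 (.fork lf6_6) (.fork lf6_7)) (.node 11 (.node 9 (.fork lf6_8) (.node 10 (.fork lf6_9) (.fork lf6_10))) (.node 13 (.node 12 (.fork lf6_11) (.fork lf6_12)) (.node 14 (.fork lf6_13) (.node 15 (.fork lf6_14) (.node 16 (.fork lf6_15) (.node 17 (.fork lf6_16) (.node 18 (.fork lf6_17) (.node 19 (.fork lf6_18) (.node 20 (.sub lf6_19) (.fork lf6_20))))))))))))))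
def lf7_0 : Leaf (walkS st) := ⟨[7], [], 7, 0, (fun off v => (stp7 off v)), (fun _ v => v), (fun _ u _ => u), fun _ _ => rfl, fun _ _ => rfl⟩
def lf7_2 : Leaf (walkS st) := ⟨[], [5, 7, 5], 21, 1, (fun _ v => v), (fun off v => (stp5 off (stp7 off (stp5 off v)))), (fun v _ _ => v), fun _ _ => rfl, fun _ _ => rfl⟩
def lf7_3 : Leaf (walkS st) := ⟨[], [4, 7, 4], 19, 1, (fun _ v => v), (fun off v => (stp4 off (stp7 off (stp4 off v)))), (fun v _ _ => v), fun _ _ => rfl, fun _ _ => rfl⟩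
def lf7_4 : Leaf (walkS st) := ⟨[], [3, 7, 3], 16, 1, (fun _ v => v), (fun off v => (stp3 off (stp7 off (stp3 off v)))), (fun v _ _ => v), fun _ _ => rfl, fun _ _ => rfl⟩
def lf7_5 : Leaf (walkS st) := ⟨[8], [7], 7, 0, (fun off v => (stp8 off v)), (fun off v => (stp7 off v)), (fun _ _ p => p), fun _ _ => rfl, fun _ _ => rfl⟩
def lf7_6 : Leaf (walkS st) := ⟨[], [6, 7, 6, 7, 6], 22, 1, (fun _ v => v), (fun off v => (stp6 off (stp7 off (stp6 off (stp7 off (stp6 off v)))))), (fun v _ _ => v), fun _ _ => rfl, fun _ _ => rfl⟩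
def lf7_7 : Leaf (walkS st) := ⟨[], [2, 7, 2], 12, 1, (fun _ v => v), (fun off v => (stp2 off (stp7 off (stp2 off v)))), (fun v _ _ => v), fun _ _ => rfl, fun _ _ => rfl⟩
def lf7_8 : Leaf (walkS st) := ⟨[], [1, 1, 2], 45, 2, (fun _ v => v), (fun off v => (stp2 off (stp1 off (stp1 off v)))), (fun v _ _ => v), fun _ _ => rfl, fun _ _ => rfl⟩
def lf7_9 : Leaf (walkS st) := ⟨[], [2, 0, 0], 23, 1, (fun _ v => v), (fun off v => (stp0 off (stp0 off (stp2 off v)))), (fun v _ _ => v), fun _ _ => rfl, fun _ _ => rfl⟩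
def lf7_10 : Leaf (walkS st) := ⟨[], [8, 7], 7, 0, (fun _ v => v), (fun off v => (stp7 off (stp8 off v))), (fun v _ _ => v), fun _ _ => rfl, fun _ _ => rfl⟩
def lf7_11 : Leaf (walkS st) := ⟨[7, 8], [], 7, 0, (fun off v => (stp8 off (stp7 off v))), (fun _ v => v), (fun _ u _ => u), fun _ _ => rfl, fun _ _ => rfl⟩
def lf7_12 : Leaf (walkS st) := ⟨[], [5, 4, 5, 4, 5, 4, 5, 4, 2], 46, 8, (fun _ v => v), (fun off v => (stp2 off (stp4 off (stp5 off (stp4 off (stp5 off (stp4 off (stp5 off (stp4 off (stp5 off v)))))))))), (fun v _ _ => v), fun _ _ => rfl, fun _ _ => rfl⟩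
def lf7_13 : Leaf (walkS st) := ⟨[], [2, 4, 5, 4, 5, 4, 5, 4, 5], 24, 1, (fun _ v => v), (fun off v => (stp5 off (stp4 off (stp5 off (stp4 off (stp5 off (stp4 off (stp5 off (stp4 off (stp2 off v)))))))))), (fun v _ _ => v), fun _ _ => rfl, fun _ _ => rfl⟩
def lf7_14 : Leaf (walkS st) := ⟨[7, 8, 8], [], 7, 0, (fun off v => (stp8 off (stp8 off (stp7 off v)))), (fun _ v => v), (fun _ u _ => u), fun _ _ => rfl, fun _ _ => rfl⟩
def lf7_15 : Leaf (walkS st) := ⟨[8, 8], [7], 7, 0, (fun off v => (stp8 off (stp8 off v))), (fun off v => (stp7 off v)), (fun _ _ p => p), fun _ _ => rfl, fun _ _ => rfl⟩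
def lf7_16 : Leaf (walkS st) := ⟨[7, 8, 8, 8], [], 7, 0, (fun off v => (stp8 off (stp8 off (stp8 off (stp7 off v))))), (fun _ v => v), (fun _ u _ => u), fun _ _ => rfl, fun _ _ => rfl⟩
def lf7_17 : Leaf (walkS st) := ⟨[], [], 5, 0, (fun _ v => v), (fun _ v => v), (fun _ _ _ => 1), fun _ _ => rfl, fun _ _ => rfl⟩
def lf7_18 : Leaf (walkS st) := ⟨[8, 8, 8], [7], 7, 0, (fun off v => (stp8 off (stp8 off (stp8 off v)))), (fun off v => (stp7 off v)), (fun _ _ p => p), fun _ _ => rfl, fun _ _ => rfl⟩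
def tree7 : RTree (walkS st) :=
  (.node 1 (.fork lf7_0) (.node 4 (.node 2 .tleaf (.node 3 (.fork lf7_2) (.fork lf7_3))) (.node 7 (.node 5 (.fork lf7_4) (.node 6 (.fork lf7_5) (.fork lf7_6))) (.node 9 (.node 8 (.fork lf7_7) (.fork lf7_8)) (.node 10 (.fork lf7_9) (.node 11 (.fork lf7_10) (.node 12 (.fork lf7_11) (.node 13 (.fork lf7_12) (.node 14 (.fork lf7_13) (.node 15 (.fork lf7_14) (.node 16 (.fork lf7_15) (.node 17 (.fork lf7_16) (.node 18 (.sub lf7_17) (.fork lf7_18))))))))))))))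
def lf8_0 : Leaf (walkS st) := ⟨[5], [8, 5], 5, 0, (fun off v => (stp5 off v)), (fun off v => (stp5 off (stp8 off v))), (fun _ _ p => p), fun _ _ => rfl, fun _ _ => rfl⟩
def lf8_1 : Leaf (walkS st) := ⟨[6], [8, 6], 6, 0, (fun off v => (stp6 off v)), (fun off v => (stp6 off (stp8 off v))), (fun _ _ p => p), fun _ _ => rfl, fun _ _ => rfl⟩
def lf8_2 : Leaf (walkS st) := ⟨[4], [8, 4], 4, 0, (fun off v => (stp4 off v)), (fun off v => (stp4 off (stp8 off v))), (fun _ _ p => p), fun _ _ => rfl, fun _ _ => rfl⟩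
def lf8_3 : Leaf (walkS st) := ⟨[3], [8, 3], 3, 0, (fun off v => (stp3 off v)), (fun off v => (stp3 off (stp8 off v))), (fun _ _ p => p), fun _ _ => rfl, fun _ _ => rfl⟩
def lf8_4 : Leaf (walkS st) := ⟨[0], [8, 0], 0, 0, (fun off v => (stp0 off v)), (fun off v => (stp0 off (stp8 off v))), (fun _ _ p => p), fun _ _ => rfl, fun _ _ => rfl⟩
def lf8_5 : Leaf (walkS st) := ⟨[1], [8, 1], 1, 0, (fun off v => (stp1 off v)), (fun off v => (stp1 off (stp8 off v))), (fun _ _ p => p), fun _ _ => rfl, fun _ _ => rfl⟩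
def lf8_6 : Leaf (walkS st) := ⟨[8, 6], [6], 6, 0, (fun off v => (stp6 off (stp8 off v))), (fun off v => (stp6 off v)), (fun _ _ p => p), fun _ _ => rfl, fun _ _ => rfl⟩
def lf8_7 : Leaf (walkS st) := ⟨[8, 0], [0], 0, 0, (fun off v => (stp0 off (stp8 off v))), (fun off v => (stp0 off v)), (fun _ _ p => p), fun _ _ => rfl, fun _ _ => rfl⟩
def lf8_8 : Leaf (walkS st) := ⟨[8, 5], [5], 5, 0, (fun off v => (stp5 off (stp8 off v))), (fun off v => (stp5 off v)), (fun _ _ p => p), fun _ _ => rfl, fun _ _ => rfl⟩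
def lf8_9 : Leaf (walkS st) := ⟨[7], [8, 7], 7, 0, (fun off v => (stp7 off v)), (fun off v => (stp7 off (stp8 off v))), (fun _ _ p => p), fun _ _ => rfl, fun _ _ => rfl⟩
def lf8_10 : Leaf (walkS st) := ⟨[8, 7], [7], 7, 0, (fun off v => (stp7 off (stp8 off v))), (fun off v => (stp7 off v)), (fun _ _ p => p), fun _ _ => rfl, fun _ _ => rfl⟩
def lf8_11 : Leaf (walkS st) := ⟨[8, 1], [1], 1, 0, (fun off v => (stp1 off (stp8 off v))), (fun off v => (stp1 off v)), (fun _ _ p => p), fun _ _ => rfl, fun _ _ => rfl⟩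
def lf8_12 : Leaf (walkS st) := ⟨[8, 4], [4], 4, 0, (fun off v => (stp4 off (stp8 off v))), (fun off v => (stp4 off v)), (fun _ _ p => p), fun _ _ => rfl, fun _ _ => rfl⟩
def lf8_13 : Leaf (walkS st) := ⟨[8, 3], [3], 3, 0, (fun off v => (stp3 off (stp8 off v))), (fun off v => (stp3 off v)), (fun _ _ p => p), fun _ _ => rfl, fun _ _ => rfl⟩
def lf8_14 : Leaf (walkS st) := ⟨[2], [8, 2], 2, 0, (fun off v => (stp2 off v)), (fun off v => (stp2 off (stp8 off v))), (fun _ _ p => p), fun _ _ => rfl, fun _ _ => rfl⟩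
def lf8_15 : Leaf (walkS st) := ⟨[8, 2], [2], 2, 0, (fun off v => (stp2 off (stp8 off v))), (fun off v => (stp2 off v)), (fun _ _ p => p), fun _ _ => rfl, fun _ _ => rfl⟩
def lf8_16 : Leaf (walkS st) := ⟨[], [2, 7, 1, 1], 45, 0, (fun _ v => v), (fun off v => (stp1 off (stp1 off (stp7 off (stp2 off v))))), (fun v _ _ => v), fun _ _ => rfl, fun _ _ => rfl⟩
def lf8_17 : Leaf (walkS st) := ⟨[], [0, 0, 7, 2], 23, 0, (fun _ v => v), (fun off v => (stp2 off (stp7 off (stp0 off (stp0 off v))))), (fun v _ _ => v), fun _ _ => rfl, fun _ _ => rfl⟩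
def lf8_18 : Leaf (walkS st) := ⟨[7], [8, 7, 8], 7, 0, (fun off v => (stp7 off v)), (fun off v => (stp8 off (stp7 off (stp8 off v)))), (fun _ _ p => p), fun _ _ => rfl, fun _ _ => rfl⟩
def lf8_19 : Leaf (walkS st) := ⟨[0], [8, 0, 8], 0, 0, (fun off v => (stp0 off v)), (fun off v => (stp8 off (stp0 off (stp8 off v)))), (fun _ _ p => p), fun _ _ => rfl, fun _ _ => rfl⟩
def lf8_20 : Leaf (walkS st) := ⟨[], [2, 6, 2, 6], 11, 1, (fun _ v => v), (fun off v => (stp6 off (stp2 off (stp6 off (stp2 off v))))), (fun v _ _ => v), fun _ _ => rfl, fun _ _ => rfl⟩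
def lf8_21 : Leaf (walkS st) := ⟨[1], [8, 1, 8], 1, 0, (fun off v => (stp1 off v)), (fun off v => (stp8 off (stp1 off (stp8 off v)))), (fun _ _ p => p), fun _ _ => rfl, fun _ _ => rfl⟩
def lf8_22 : Leaf (walkS st) := ⟨[], [7, 3, 7, 3], 16, 2, (fun _ v => v), (fun off v => (stp3 off (stp7 off (stp3 off (stp7 off v))))), (fun v _ _ => v), fun _ _ => rfl, fun _ _ => rfl⟩
def lf8_23 : Leaf (walkS st) := ⟨[], [2, 5, 2, 5], 10, 1, (fun _ v => v), (fun off v => (stp5 off (stp2 off (stp5 off (stp2 off v))))), (fun v _ _ => v), fun _ _ => rfl, fun _ _ => rfl⟩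
def lf8_24 : Leaf (walkS st) := ⟨[5], [8, 5, 8], 5, 0, (fun off v => (stp5 off v)), (fun off v => (stp8 off (stp5 off (stp8 off v)))), (fun _ _ p => p), fun _ _ => rfl, fun _ _ => rfl⟩
def lf8_25 : Leaf (walkS st) := ⟨[6], [8, 6, 8], 6, 0, (fun off v => (stp6 off v)), (fun off v => (stp8 off (stp6 off (stp8 off v)))), (fun _ _ p => p), fun _ _ => rfl, fun _ _ => rfl⟩
def lf8_26 : Leaf (walkS st) := ⟨[], [7, 4, 7, 4], 19, 2, (fun _ v => v), (fun off v => (stp4 off (stp7 off (stp4 off (stp7 off v))))), (fun v _ _ => v), fun _ _ => rfl, fun _ _ => rfl⟩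
def lf8_27 : Leaf (walkS st) := ⟨[4], [8, 4, 8], 4, 0, (fun off v => (stp4 off v)), (fun off v => (stp8 off (stp4 off (stp8 off v)))), (fun _ _ p => p), fun _ _ => rfl, fun _ _ => rfl⟩
def lf8_28 : Leaf (walkS st) := ⟨[8, 7], [7, 8], 7, 0, (fun off v => (stp7 off (stp8 off v))), (fun off v => (stp8 off (stp7 off v))), (fun _ _ p => p), fun _ _ => rfl, fun _ _ => rfl⟩
def lf8_29 : Leaf (walkS st) := ⟨[], [1, 1, 2, 7], 45, 2, (fun _ v => v), (fun off v => (stp7 off (stp2 off (stp1 off (stp1 off v))))), (fun v _ _ => v), fun _ _ => rfl, fun _ _ => rfl⟩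
def lf8_30 : Leaf (walkS st) := ⟨[], [1, 2, 7, 1], 45, 1, (fun _ v => v), (fun off v => (stp1 off (stp7 off (stp2 off (stp1 off v))))), (fun v _ _ => v), fun _ _ => rfl, fun _ _ => rfl⟩
def lf8_31 : Leaf (walkS st) := ⟨[], [2, 4, 2, 4], 9, 1, (fun _ v => v), (fun off v => (stp4 off (stp2 off (stp4 off (stp2 off v))))), (fun v _ _ => v), fun _ _ => rfl, fun _ _ => rfl⟩
def lf8_32 : Leaf (walkS st) := ⟨[1, 8], [8, 1], 1, 0, (fun off v => (stp8 off (stp1 off v))), (fun off v => (stp1 off (stp8 off v))), (fun _ _ p => p), fun _ _ => rfl, fun _ _ => rfl⟩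
def lf8_33 : Leaf (walkS st) := ⟨[0, 8], [8, 0], 0, 0, (fun off v => (stp8 off (stp0 off v))), (fun off v => (stp0 off (stp8 off v))), (fun _ _ p => p), fun _ _ => rfl, fun _ _ => rfl⟩
def lf8_34 : Leaf (walkS st) := ⟨[8, 0], [0, 8], 0, 0, (fun off v => (stp0 off (stp8 off v))), (fun off v => (stp8 off (stp0 off v))), (fun _ _ p => p), fun _ _ => rfl, fun _ _ => rfl⟩
def lf8_35 : Leaf (walkS st) := ⟨[8, 1], [1, 8], 1, 0, (fun off v => (stp1 off (stp8 off v))), (fun off v => (stp8 off (stp1 off v))), (fun _ _ p => p), fun _ _ => rfl, fun _ _ => rfl⟩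
def lf8_36 : Leaf (walkS st) := ⟨[3], [8, 3, 8], 3, 0, (fun off v => (stp3 off v)), (fun off v => (stp8 off (stp3 off (stp8 off v)))), (fun _ _ p => p), fun _ _ => rfl, fun _ _ => rfl⟩
def lf8_37 : Leaf (walkS st) := ⟨[], [0, 7, 2, 0], 23, 3, (fun _ v => v), (fun off v => (stp0 off (stp2 off (stp7 off (stp0 off v))))), (fun v _ _ => v), fun _ _ => rfl, fun _ _ => rfl⟩
def lf8_38 : Leaf (walkS st) := ⟨[2], [8, 2, 8], 2, 0, (fun off v => (stp2 off v)), (fun off v => (stp8 off (stp2 off (stp8 off v)))), (fun _ _ p => p), fun _ _ => rfl, fun _ _ => rfl⟩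
def lf8_39 : Leaf (walkS st) := ⟨[8, 6], [6, 8], 6, 0, (fun off v => (stp6 off (stp8 off v))), (fun off v => (stp8 off (stp6 off v))), (fun _ _ p => p), fun _ _ => rfl, fun _ _ => rfl⟩
def lf8_40 : Leaf (walkS st) := ⟨[], [7, 5, 7, 5], 43, 1, (fun _ v => v), (fun off v => (stp5 off (stp7 off (stp5 off (stp7 off v))))), (fun v _ _ => v), fun _ _ => rfl, fun _ _ => rfl⟩
def lf8_41 : Leaf (walkS st) := ⟨[], [7, 2, 0, 0], 23, 2, (fun _ v => v), (fun off v => (stp0 off (stp0 off (stp2 off (stp7 off v))))), (fun v _ _ => v), fun _ _ => rfl, fun _ _ => rfl⟩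
def lf8_42 : Leaf (walkS st) := ⟨[5, 8], [8, 5], 5, 0, (fun off v => (stp8 off (stp5 off v))), (fun off v => (stp5 off (stp8 off v))), (fun _ _ p => p), fun _ _ => rfl, fun _ _ => rfl⟩
def lf8_43 : Leaf (walkS st) := ⟨[6, 8], [8, 6], 6, 0, (fun off v => (stp8 off (stp6 off v))), (fun off v => (stp6 off (stp8 off v))), (fun _ _ p => p), fun _ _ => rfl, fun _ _ => rfl⟩
def lf8_44 : Leaf (walkS st) := ⟨[8, 3], [3, 8], 3, 0, (fun off v => (stp3 off (stp8 off v))), (fun off v => (stp8 off (stp3 off v))), (fun _ _ p => p), fun _ _ => rfl, fun _ _ => rfl⟩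
def lf8_45 : Leaf (walkS st) := ⟨[8, 5], [5, 8], 5, 0, (fun off v => (stp5 off (stp8 off v))), (fun off v => (stp8 off (stp5 off v))), (fun _ _ p => p), fun _ _ => rfl, fun _ _ => rfl⟩
def lf8_46 : Leaf (walkS st) := ⟨[7, 8], [8, 7], 7, 0, (fun off v => (stp8 off (stp7 off v))), (fun off v => (stp7 off (stp8 off v))), (fun _ _ p => p), fun _ _ => rfl, fun _ _ => rfl⟩
def lf8_47 : Leaf (walkS st) := ⟨[8, 2], [2, 8], 2, 0, (fun off v => (stp2 off (stp8 off v))), (fun off v => (stp8 off (stp2 off v))), (fun _ _ p => p), fun _ _ => rfl, fun _ _ => rfl⟩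
def lf8_48 : Leaf (walkS st) := ⟨[4, 8], [8, 4], 4, 0, (fun off v => (stp8 off (stp4 off v))), (fun off v => (stp4 off (stp8 off v))), (fun _ _ p => p), fun _ _ => rfl, fun _ _ => rfl⟩
def lf8_49 : Leaf (walkS st) := ⟨[], [0, 6, 5, 0, 5, 0, 6, 5, 0, 5, 6], 51, 5, (fun _ v => v), (fun off v => (stp6 off (stp5 off (stp0 off (stp5 off (stp6 off (stp0 off (stp5 off (stp0 off (stp5 off (stp6 off (stp0 off v)))))))))))), (fun v _ _ => v), fun _ _ => rfl, fun _ _ => rfl⟩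
def lf8_50 : Leaf (walkS st) := ⟨[], [5, 3, 5, 3], 14, 2, (fun _ v => v), (fun off v => (stp3 off (stp5 off (stp3 off (stp5 off v))))), (fun v _ _ => v), fun _ _ => rfl, fun _ _ => rfl⟩
def lf8_51 : Leaf (walkS st) := ⟨[], [4, 6, 4, 6], 18, 1, (fun _ v => v), (fun off v => (stp6 off (stp4 off (stp6 off (stp4 off v))))), (fun v _ _ => v), fun _ _ => rfl, fun _ _ => rfl⟩
def lf8_52 : Leaf (walkS st) := ⟨[], [0, 3, 4, 0, 4, 0, 3, 4, 0, 4, 3], 50, 5, (fun _ v => v), (fun off v => (stp3 off (stp4 off (stp0 off (stp4 off (stp3 off (stp0 off (stp4 off (stp0 off (stp4 off (stp3 off (stp0 off v)))))))))))), (fun v _ _ => v), fun _ _ => rfl, fun _ _ => rfl⟩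
def lf8_53 : Leaf (walkS st) := ⟨[8, 4], [4, 8], 4, 0, (fun off v => (stp4 off (stp8 off v))), (fun off v => (stp8 off (stp4 off v))), (fun _ _ p => p), fun _ _ => rfl, fun _ _ => rfl⟩
def lf8_54 : Leaf (walkS st) := ⟨[], [1, 6, 5, 1, 5, 6, 1, 5, 1, 5, 6], 29, 7, (fun _ v => v), (fun off v => (stp6 off (stp5 off (stp1 off (stp5 off (stp1 off (stp6 off (stp5 off (stp1 off (stp5 off (stp6 off (stp1 off v)))))))))))), (fun v _ _ => v), fun _ _ => rfl, fun _ _ => rfl⟩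
def lf8_55 : Leaf (walkS st) := ⟨[8, 7, 8], [7], 7, 0, (fun off v => (stp8 off (stp7 off (stp8 off v)))), (fun off v => (stp7 off v)), (fun _ _ p => p), fun _ _ => rfl, fun _ _ => rfl⟩
def lf8_56 : Leaf (walkS st) := ⟨[], [1, 4, 5, 4, 0, 4, 0, 5, 1, 4], 26, 8, (fun _ v => v), (fun off v => (stp4 off (stp1 off (stp5 off (stp0 off (stp4 off (stp0 off (stp4 off (stp5 off (stp4 off (stp1 off v))))))))))), (fun v _ _ => v), fun _ _ => rfl, fun _ _ => rfl⟩
def lf8_57 : Leaf (walkS st) := ⟨[], [1, 3, 4, 1, 4, 3, 1, 4, 1, 4, 3], 28, 7, (fun _ v => v), (fun off v => (stp3 off (stp4 off (stp1 off (stp4 off (stp1 off (stp3 off (stp4 off (stp1 off (stp4 off (stp3 off (stp1 off v)))))))))))), (fun v _ _ => v), fun _ _ => rfl, fun _ _ => rfl⟩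
def lf8_58 : Leaf (walkS st) := ⟨[], [3, 6, 3, 6], 15, 1, (fun _ v => v), (fun off v => (stp6 off (stp3 off (stp6 off (stp3 off v))))), (fun v _ _ => v), fun _ _ => rfl, fun _ _ => rfl⟩
def lf8_59 : Leaf (walkS st) := ⟨[], [3, 4, 1, 4, 3, 1, 4, 1, 4, 3, 1], 28, 6, (fun _ v => v), (fun off v => (stp1 off (stp3 off (stp4 off (stp1 off (stp4 off (stp1 off (stp3 off (stp4 off (stp1 off (stp4 off (stp3 off v)))))))))))), (fun v _ _ => v), fun _ _ => rfl, fun _ _ => rfl⟩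
def lf8_60 : Leaf (walkS st) := ⟨[], [3, 5, 3, 5], 14, 1, (fun _ v => v), (fun off v => (stp5 off (stp3 off (stp5 off (stp3 off v))))), (fun v _ _ => v), fun _ _ => rfl, fun _ _ => rfl⟩
def lf8_61 : Leaf (walkS st) := ⟨[], [6, 3, 6, 3], 15, 2, (fun _ v => v), (fun off v => (stp3 off (stp6 off (stp3 off (stp6 off v))))), (fun v _ _ => v), fun _ _ => rfl, fun _ _ => rfl⟩
def lf8_62 : Leaf (walkS st) := ⟨[3, 8], [8, 3], 3, 0, (fun off v => (stp8 off (stp3 off v))), (fun off v => (stp3 off (stp8 off v))), (fun _ _ p => p), fun _ _ => rfl, fun _ _ => rfl⟩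
def lf8_63 : Leaf (walkS st) := ⟨[], [6, 5, 1, 5, 6, 1, 5, 1, 5, 6, 1], 29, 6, (fun _ v => v), (fun off v => (stp1 off (stp6 off (stp5 off (stp1 off (stp5 off (stp1 off (stp6 off (stp5 off (stp1 off (stp5 off (stp6 off v)))))))))))), (fun v _ _ => v), fun _ _ => rfl, fun _ _ => rfl⟩
def lf8_64 : Leaf (walkS st) := ⟨[], [1, 4, 3, 1, 4, 1, 4, 3, 1, 3, 4], 28, 4, (fun _ v => v), (fun off v => (stp4 off (stp3 off (stp1 off (stp3 off (stp4 off (stp1 off (stp4 off (stp1 off (stp3 off (stp4 off (stp1 off v)))))))))))), (fun v _ _ => v), fun _ _ => rfl, fun _ _ => rfl⟩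
def lf8_65 : Leaf (walkS st) := ⟨[2, 8], [8, 2], 2, 0, (fun off v => (stp8 off (stp2 off v))), (fun off v => (stp2 off (stp8 off v))), (fun _ _ p => p), fun _ _ => rfl, fun _ _ => rfl⟩
def lf8_66 : Leaf (walkS st) := ⟨[], [6, 4, 6, 4], 18, 2, (fun _ v => v), (fun off v => (stp4 off (stp6 off (stp4 off (stp6 off v))))), (fun v _ _ => v), fun _ _ => rfl, fun _ _ => rfl⟩
def lf8_67 : Leaf (walkS st) := ⟨[], [0, 6, 5, 0, 5, 6, 0, 6, 5, 0, 5], 51, 0, (fun _ v => v), (fun off v => (stp5 off (stp0 off (stp5 off (stp6 off (stp0 off (stp6 off (stp5 off (stp0 off (stp5 off (stp6 off (stp0 off v)))))))))))), (fun v _ _ => v), fun _ _ => rfl, fun _ _ => rfl⟩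
def lf8_68 : Leaf (walkS st) := ⟨[], [3, 4, 0, 4, 0, 3, 4, 0, 4, 3, 0], 50, 4, (fun _ v => v), (fun off v => (stp0 off (stp3 off (stp4 off (stp0 off (stp4 off (stp3 off (stp0 off (stp4 off (stp0 off (stp4 off (stp3 off v)))))))))))), (fun v _ _ => v), fun _ _ => rfl, fun _ _ => rfl⟩
def lf8_69 : Leaf (walkS st) := ⟨[], [0, 3, 4, 0, 4, 3, 0, 3, 4, 0, 4], 50, 0, (fun _ v => v), (fun off v => (stp4 off (stp0 off (stp4 off (stp3 off (stp0 off (stp3 off (stp4 off (stp0 off (stp4 off (stp3 off (stp0 off v)))))))))))), (fun v _ _ => v), fun _ _ => rfl, fun _ _ => rfl⟩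
def lf8_70 : Leaf (walkS st) := ⟨[], [3, 7, 3, 7], 16, 1, (fun _ v => v), (fun off v => (stp7 off (stp3 off (stp7 off (stp3 off v))))), (fun v _ _ => v), fun _ _ => rfl, fun _ _ => rfl⟩
def lf8_71 : Leaf (walkS st) := ⟨[], [0, 4, 3, 0, 3, 4, 0, 4, 0, 3, 4], 50, 8, (fun _ v => v), (fun off v => (stp4 off (stp3 off (stp0 off (stp4 off (stp0 off (stp4 off (stp3 off (stp0 off (stp3 off (stp4 off (stp0 off v)))))))))))), (fun v _ _ => v), fun _ _ => rfl, fun _ _ => rfl⟩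
def lf8_72 : Leaf (walkS st) := ⟨[], [4, 0, 5, 1, 4, 1, 4, 5, 4, 0], 26, 3, (fun _ v => v), (fun off v => (stp0 off (stp4 off (stp5 off (stp4 off (stp1 off (stp4 off (stp1 off (stp5 off (stp0 off (stp4 off v))))))))))), (fun v _ _ => v), fun _ _ => rfl, fun _ _ => rfl⟩
def lf8_73 : Leaf (walkS st) := ⟨[], [4, 2, 4, 2], 9, 2, (fun _ v => v), (fun off v => (stp2 off (stp4 off (stp2 off (stp4 off v))))), (fun v _ _ => v), fun _ _ => rfl, fun _ _ => rfl⟩
def lf8_74 : Leaf (walkS st) := ⟨[], [4, 7, 4, 7], 41, 2, (fun _ v => v), (fun off v => (stp7 off (stp4 off (stp7 off (stp4 off v))))), (fun v _ _ => v), fun _ _ => rfl, fun _ _ => rfl⟩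
def lf8_75 : Leaf (walkS st) := ⟨[], [5, 2, 5, 2], 10, 2, (fun _ v => v), (fun off v => (stp2 off (stp5 off (stp2 off (stp5 off v))))), (fun v _ _ => v), fun _ _ => rfl, fun _ _ => rfl⟩
def lf8_76 : Leaf (walkS st) := ⟨[], [4, 1, 4, 3, 1, 3, 4, 1, 4, 3, 1], 28, 0, (fun _ v => v), (fun off v => (stp1 off (stp3 off (stp4 off (stp1 off (stp4 off (stp3 off (stp1 off (stp3 off (stp4 off (stp1 off (stp4 off v)))))))))))), (fun v _ _ => v), fun _ _ => rfl, fun _ _ => rfl⟩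
def lf8_77 : Leaf (walkS st) := ⟨[], [1, 5, 6, 1, 5, 1, 5, 6, 1, 6, 5], 29, 4, (fun _ v => v), (fun off v => (stp5 off (stp6 off (stp1 off (stp6 off (stp5 off (stp1 off (stp5 off (stp1 off (stp6 off (stp5 off (stp1 off v)))))))))))), (fun v _ _ => v), fun _ _ => rfl, fun _ _ => rfl⟩
def lf8_78 : Leaf (walkS st) := ⟨[], [1, 5, 4, 5, 0, 5, 0, 4, 1, 5], 25, 8, (fun _ v => v), (fun off v => (stp5 off (stp1 off (stp4 off (stp0 off (stp5 off (stp0 off (stp5 off (stp4 off (stp5 off (stp1 off v))))))))))), (fun v _ _ => v), fun _ _ => rfl, fun _ _ => rfl⟩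
def lf8_79 : Leaf (walkS st) := ⟨[], [7, 6, 7, 6, 7, 6], 22, 0, (fun _ v => v), (fun off v => (stp6 off (stp7 off (stp6 off (stp7 off (stp6 off (stp7 off v))))))), (fun v _ _ => v), fun _ _ => rfl, fun _ _ => rfl⟩
def lf8_80 : Leaf (walkS st) := ⟨[], [5, 1, 4, 1, 4, 5, 4, 0, 4, 0], 26, 1, (fun _ v => v), (fun off v => (stp0 off (stp4 off (stp0 off (stp4 off (stp5 off (stp4 off (stp1 off (stp4 off (stp1 off (stp5 off v))))))))))), (fun v _ _ => v), fun _ _ => rfl, fun _ _ => rfl⟩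
def lf8_81 : Leaf (walkS st) := ⟨[], [6, 2, 6, 2], 11, 2, (fun _ v => v), (fun off v => (stp2 off (stp6 off (stp2 off (stp6 off v))))), (fun v _ _ => v), fun _ _ => rfl, fun _ _ => rfl⟩
def lf8_82 : Leaf (walkS st) := ⟨[], [1, 4, 3, 1, 3, 4, 1, 4, 3, 1, 4], 28, 10, (fun _ v => v), (fun off v => (stp4 off (stp1 off (stp3 off (stp4 off (stp1 off (stp4 off (stp3 off (stp1 off (stp3 off (stp4 off (stp1 off v)))))))))))), (fun v _ _ => v), fun _ _ => rfl, fun _ _ => rfl⟩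
def lf8_83 : Leaf (walkS st) := ⟨[], [6, 5, 0, 5, 0, 6, 5, 0, 5, 6, 0], 51, 4, (fun _ v => v), (fun off v => (stp0 off (stp6 off (stp5 off (stp0 off (stp5 off (stp6 off (stp0 off (stp5 off (stp0 off (stp5 off (stp6 off v)))))))))))), (fun v _ _ => v), fun _ _ => rfl, fun _ _ => rfl⟩
def lf8_84 : Leaf (walkS st) := ⟨[8, 0, 8], [0], 0, 0, (fun off v => (stp8 off (stp0 off (stp8 off v)))), (fun off v => (stp0 off v)), (fun _ _ p => p), fun _ _ => rfl, fun _ _ => rfl⟩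
def lf8_85 : Leaf (walkS st) := ⟨[], [4, 1, 5, 1, 5, 4, 5, 0, 5, 0], 25, 1, (fun _ v => v), (fun off v => (stp0 off (stp5 off (stp0 off (stp5 off (stp4 off (stp5 off (stp1 off (stp5 off (stp1 off (stp4 off v))))))))))), (fun v _ _ => v), fun _ _ => rfl, fun _ _ => rfl⟩
def lf8_86 : Leaf (walkS st) := ⟨[], [0, 4, 0, 3, 4, 0, 4, 3, 0, 3, 4], 50, 2, (fun _ v => v), (fun off v => (stp4 off (stp3 off (stp0 off (stp3 off (stp4 off (stp0 off (stp4 off (stp3 off (stp0 off (stp4 off (stp0 off v)))))))))))), (fun v _ _ => v), fun _ _ => rfl, fun _ _ => rfl⟩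
def lf8_87 : Leaf (walkS st) := ⟨[], [0, 0, 7, 2, 8], 23, 0, (fun _ v => v), (fun off v => (stp8 off (stp2 off (stp7 off (stp0 off (stp0 off v)))))), (fun v _ _ => v), fun _ _ => rfl, fun _ _ => rfl⟩
def lf8_88 : Leaf (walkS st) := ⟨[], [1, 5, 1, 5, 4, 5, 0, 5, 0, 4], 25, 0, (fun _ v => v), (fun off v => (stp4 off (stp0 off (stp5 off (stp0 off (stp5 off (stp4 off (stp5 off (stp1 off (stp5 off (stp1 off v))))))))))), (fun v _ _ => v), fun _ _ => rfl, fun _ _ => rfl⟩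
def lf8_89 : Leaf (walkS st) := ⟨[], [4, 0, 3, 4, 0, 4, 3, 0, 3, 4, 0], 50, 1, (fun _ v => v), (fun off v => (stp0 off (stp4 off (stp3 off (stp0 off (stp3 off (stp4 off (stp0 off (stp4 off (stp3 off (stp0 off (stp4 off v)))))))))))), (fun v _ _ => v), fun _ _ => rfl, fun _ _ => rfl⟩
def lf8_90 : Leaf (walkS st) := ⟨[], [5, 7, 5, 7], 21, 3, (fun _ v => v), (fun off v => (stp7 off (stp5 off (stp7 off (stp5 off v))))), (fun v _ _ => v), fun _ _ => rfl, fun _ _ => rfl⟩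
def lf8_91 : Leaf (walkS st) := ⟨[], [5, 6, 5, 6, 5, 6], 20, 1, (fun _ v => v), (fun off v => (stp6 off (stp5 off (stp6 off (stp5 off (stp6 off (stp5 off v))))))), (fun v _ _ => v), fun _ _ => rfl, fun _ _ => rfl⟩
def lf8_92 : Leaf (walkS st) := ⟨[], [2, 3, 2, 3, 2, 3], 30, 2, (fun _ v => v), (fun off v => (stp3 off (stp2 off (stp3 off (stp2 off (stp3 off (stp2 off v))))))), (fun v _ _ => v), fun _ _ => rfl, fun _ _ => rfl⟩
def lf8_93 : Leaf (walkS st) := ⟨[], [0, 5, 6, 0, 6, 5, 0, 5, 0, 6, 5], 51, 8, (fun _ v => v), (fun off v => (stp5 off (stp6 off (stp0 off (stp5 off (stp0 off (stp5 off (stp6 off (stp0 off (stp6 off (stp5 off (stp0 off v)))))))))))), (fun v _ _ => v), fun _ _ => rfl, fun _ _ => rfl⟩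
def lf8_94 : Leaf (walkS st) := ⟨[], [6, 5, 6, 5, 6, 5], 20, 0, (fun _ v => v), (fun off v => (stp5 off (stp6 off (stp5 off (stp6 off (stp5 off (stp6 off v))))))), (fun v _ _ => v), fun _ _ => rfl, fun _ _ => rfl⟩
def lf8_95 : Leaf (walkS st) := ⟨[], [4, 5, 4, 0, 4, 0, 5, 1, 4, 1], 48, 6, (fun _ v => v), (fun off v => (stp1 off (stp4 off (stp1 off (stp5 off (stp0 off (stp4 off (stp0 off (stp4 off (stp5 off (stp4 off v))))))))))), (fun v _ _ => v), fun _ _ => rfl, fun _ _ => rfl⟩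
def lf8_96 : Leaf (walkS st) := ⟨[], [1, 5, 1, 5, 6, 1, 6, 5, 1, 5, 6], 29, 1, (fun _ v => v), (fun off v => (stp6 off (stp5 off (stp1 off (stp5 off (stp6 off (stp1 off (stp6 off (stp5 off (stp1 off (stp5 off (stp1 off v)))))))))))), (fun v _ _ => v), fun _ _ => rfl, fun _ _ => rfl⟩
def lf8_97 : Leaf (walkS st) := ⟨[], [1, 4, 1, 4, 5, 4, 0, 4, 0, 5], 26, 0, (fun _ v => v), (fun off v => (stp5 off (stp0 off (stp4 off (stp0 off (stp4 off (stp5 off (stp4 off (stp1 off (stp4 off (stp1 off v))))))))))), (fun v _ _ => v), fun _ _ => rfl, fun _ _ => rfl⟩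
def lf8_98 : Leaf (walkS st) := ⟨[], [1, 5, 6, 1, 6, 5, 1, 5, 6, 1, 5], 29, 10, (fun _ v => v), (fun off v => (stp5 off (stp1 off (stp6 off (stp5 off (stp1 off (stp5 off (stp6 off (stp1 off (stp6 off (stp5 off (stp1 off v)))))))))))), (fun v _ _ => v), fun _ _ => rfl, fun _ _ => rfl⟩
def lf8_99 : Leaf (walkS st) := ⟨[], [0, 4, 0, 5, 1, 4, 1, 4, 5, 4], 48, 3, (fun _ v => v), (fun off v => (stp4 off (stp5 off (stp4 off (stp1 off (stp4 off (stp1 off (stp5 off (stp0 off (stp4 off (stp0 off v))))))))))), (fun v _ _ => v), fun _ _ => rfl, fun _ _ => rfl⟩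
def lf8_100 : Leaf (walkS st) := ⟨[], [5, 1, 5, 6, 1, 6, 5, 1, 5, 6, 1], 29, 0, (fun _ v => v), (fun off v => (stp1 off (stp6 off (stp5 off (stp1 off (stp5 off (stp6 off (stp1 off (stp6 off (stp5 off (stp1 off (stp5 off v)))))))))))), (fun v _ _ => v), fun _ _ => rfl, fun _ _ => rfl⟩
def lf8_101 : Leaf (walkS st) := ⟨[], [5, 0, 4, 1, 5, 1, 5, 4, 5, 0], 25, 3, (fun _ v => v), (fun off v => (stp0 off (stp5 off (stp4 off (stp5 off (stp1 off (stp5 off (stp1 off (stp4 off (stp0 off (stp5 off v))))))))))), (fun v _ _ => v), fun _ _ => rfl, fun _ _ => rfl⟩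
def lf8_102 : Leaf (walkS st) := ⟨[8, 5, 8], [5], 5, 0, (fun off v => (stp8 off (stp5 off (stp8 off v)))), (fun off v => (stp5 off v)), (fun _ _ p => p), fun _ _ => rfl, fun _ _ => rfl⟩
def lf8_103 : Leaf (walkS st) := ⟨[], [1, 4, 1, 4, 3, 1, 3, 4, 1, 4, 3], 28, 1, (fun _ v => v), (fun off v => (stp3 off (stp4 off (stp1 off (stp4 off (stp3 off (stp1 off (stp3 off (stp4 off (stp1 off (stp4 off (stp1 off v)))))))))))), (fun v _ _ => v), fun _ _ => rfl, fun _ _ => rfl⟩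
def lf8_104 : Leaf (walkS st) := ⟨[8, 1, 8], [1], 1, 0, (fun off v => (stp8 off (stp1 off (stp8 off v)))), (fun off v => (stp1 off v)), (fun _ _ p => p), fun _ _ => rfl, fun _ _ => rfl⟩
def lf8_105 : Leaf (walkS st) := ⟨[8, 4, 8], [4], 4, 0, (fun off v => (stp8 off (stp4 off (stp8 off v)))), (fun off v => (stp4 off v)), (fun _ _ p => p), fun _ _ => rfl, fun _ _ => rfl⟩
def lf8_106 : Leaf (walkS st) := ⟨[], [3, 2, 3, 2, 3, 2], 30, 5, (fun _ v => v), (fun off v => (stp2 off (stp3 off (stp2 off (stp3 off (stp2 off (stp3 off v))))))), (fun v _ _ => v), fun _ _ => rfl, fun _ _ => rfl⟩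
def lf8_107 : Leaf (walkS st) := ⟨[], [1, 1, 2, 7, 8], 45, 2, (fun _ v => v), (fun off v => (stp8 off (stp7 off (stp2 off (stp1 off (stp1 off v)))))), (fun v _ _ => v), fun _ _ => rfl, fun _ _ => rfl⟩
def lf8_108 : Leaf (walkS st) := ⟨[8, 6, 8], [6], 6, 0, (fun off v => (stp8 off (stp6 off (stp8 off v)))), (fun off v => (stp6 off v)), (fun _ _ p => p), fun _ _ => rfl, fun _ _ => rfl⟩
def lf8_109 : Leaf (walkS st) := ⟨[], [4, 3, 0, 3, 4, 0, 4, 0, 3, 4, 0], 50, 7, (fun _ v => v), (fun off v => (stp0 off (stp4 off (stp3 off (stp0 off (stp4 off (stp0 off (stp4 off (stp3 off (stp0 off (stp3 off (stp4 off v)))))))))))), (fun v _ _ => v), fun _ _ => rfl, fun _ _ => rfl⟩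
def lf8_110 : Leaf (walkS st) := ⟨[], [0, 5, 0, 6, 5, 0, 5, 6, 0, 6, 5], 51, 2, (fun _ v => v), (fun off v => (stp5 off (stp6 off (stp0 off (stp6 off (stp5 off (stp0 off (stp5 off (stp6 off (stp0 off (stp5 off (stp0 off v)))))))))))), (fun v _ _ => v), fun _ _ => rfl, fun _ _ => rfl⟩
def lf8_111 : Leaf (walkS st) := ⟨[], [4, 1, 4, 5, 4, 0, 4, 0, 5, 1], 26, 9, (fun _ v => v), (fun off v => (stp1 off (stp5 off (stp0 off (stp4 off (stp0 off (stp4 off (stp5 off (stp4 off (stp1 off (stp4 off v))))))))))), (fun v _ _ => v), fun _ _ => rfl, fun _ _ => rfl⟩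
def lf8_112 : Leaf (walkS st) := ⟨[], [4, 3, 4, 3, 4, 3], 13, 2, (fun _ v => v), (fun off v => (stp3 off (stp4 off (stp3 off (stp4 off (stp3 off (stp4 off v))))))), (fun v _ _ => v), fun _ _ => rfl, fun _ _ => rfl⟩
def lf8_113 : Leaf (walkS st) := ⟨[], [0, 5, 0, 4, 1, 5, 1, 5, 4, 5], 25, 4, (fun _ v => v), (fun off v => (stp5 off (stp4 off (stp5 off (stp1 off (stp5 off (stp1 off (stp4 off (stp0 off (stp5 off (stp0 off v))))))))))), (fun v _ _ => v), fun _ _ => rfl, fun _ _ => rfl⟩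
def lf8_114 : Leaf (walkS st) := ⟨[7, 8], [8, 7, 8], 7, 0, (fun off v => (stp8 off (stp7 off v))), (fun off v => (stp8 off (stp7 off (stp8 off v)))), (fun _ _ p => p), fun _ _ => rfl, fun _ _ => rfl⟩
def lf8_115 : Leaf (walkS st) := ⟨[], [5, 4, 5, 0, 5, 0, 4, 1, 5, 1], 25, 7, (fun _ v => v), (fun off v => (stp1 off (stp5 off (stp1 off (stp4 off (stp0 off (stp5 off (stp0 off (stp5 off (stp4 off (stp5 off v))))))))))), (fun v _ _ => v), fun _ _ => rfl, fun _ _ => rfl⟩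
def lf8_116 : Leaf (walkS st) := ⟨[], [5, 6, 0, 6, 5, 0, 5, 0, 6, 5, 0], 51, 7, (fun _ v => v), (fun off v => (stp0 off (stp5 off (stp6 off (stp0 off (stp5 off (stp0 off (stp5 off (stp6 off (stp0 off (stp6 off (stp5 off v)))))))))))), (fun v _ _ => v), fun _ _ => rfl, fun _ _ => rfl⟩
def lf8_117 : Leaf (walkS st) := ⟨[], [5, 0, 6, 5, 0, 5, 6, 0, 6, 5, 0], 51, 1, (fun _ v => v), (fun off v => (stp0 off (stp5 off (stp6 off (stp0 off (stp6 off (stp5 off (stp0 off (stp5 off (stp6 off (stp0 off (stp5 off v)))))))))))), (fun v _ _ => v), fun _ _ => rfl, fun _ _ => rfl⟩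
def lf8_118 : Leaf (walkS st) := ⟨[], [5, 6, 1, 6, 5, 1, 5, 6, 1, 5, 1], 29, 9, (fun _ v => v), (fun off v => (stp1 off (stp5 off (stp1 off (stp6 off (stp5 off (stp1 off (stp5 off (stp6 off (stp1 off (stp6 off (stp5 off v)))))))))))), (fun v _ _ => v), fun _ _ => rfl, fun _ _ => rfl⟩
def lf8_119 : Leaf (walkS st) := ⟨[], [4, 3, 1, 4, 1, 4, 3, 1, 3, 4, 1], 28, 3, (fun _ v => v), (fun off v => (stp1 off (stp4 off (stp3 off (stp1 off (stp3 off (stp4 off (stp1 off (stp4 off (stp1 off (stp3 off (stp4 off v)))))))))))), (fun v _ _ => v), fun _ _ => rfl, fun _ _ => rfl⟩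
def lf8_120 : Leaf (walkS st) := ⟨[], [3, 4, 0, 4, 3, 0, 3, 4, 0, 4, 0], 50, 10, (fun _ v => v), (fun off v => (stp0 off (stp4 off (stp0 off (stp4 off (stp3 off (stp0 off (stp3 off (stp4 off (stp0 off (stp4 off (stp3 off v)))))))))))), (fun v _ _ => v), fun _ _ => rfl, fun _ _ => rfl⟩
def lf8_121 : Leaf (walkS st) := ⟨[], [0, 5, 1, 4, 1, 4, 5, 4, 0, 4], 26, 2, (fun _ v => v), (fun off v => (stp4 off (stp0 off (stp4 off (stp5 off (stp4 off (stp1 off (stp4 off (stp1 off (stp5 off (stp0 off v))))))))))), (fun v _ _ => v), fun _ _ => rfl, fun _ _ => rfl⟩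
def lf8_122 : Leaf (walkS st) := ⟨[], [6, 7, 6, 7, 6, 7], 44, 0, (fun _ v => v), (fun off v => (stp7 off (stp6 off (stp7 off (stp6 off (stp7 off (stp6 off v))))))), (fun v _ _ => v), fun _ _ => rfl, fun _ _ => rfl⟩
def lf8_123 : Leaf (walkS st) := ⟨[], [4, 3, 1, 3, 4, 1, 4, 3, 1, 4, 1], 28, 9, (fun _ v => v), (fun off v => (stp1 off (stp4 off (stp1 off (stp3 off (stp4 off (stp1 off (stp4 off (stp3 off (stp1 off (stp3 off (stp4 off v)))))))))))), (fun v _ _ => v), fun _ _ => rfl, fun _ _ => rfl⟩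
def lf8_124 : Leaf (walkS st) := ⟨[], [5, 1, 5, 4, 5, 0, 5, 0, 4, 1], 25, 9, (fun _ v => v), (fun off v => (stp1 off (stp4 off (stp0 off (stp5 off (stp0 off (stp5 off (stp4 off (stp5 off (stp1 off (stp5 off v))))))))))), (fun v _ _ => v), fun _ _ => rfl, fun _ _ => rfl⟩
def lf8_125 : Leaf (walkS st) := ⟨[8, 8, 6], [6, 8], 6, 0, (fun off v => (stp6 off (stp8 off (stp8 off v)))), (fun off v => (stp8 off (stp6 off v))), (fun _ _ p => p), fun _ _ => rfl, fun _ _ => rfl⟩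
def lf8_126 : Leaf (walkS st) := ⟨[], [6, 0, 6, 5, 0, 5, 0, 6, 5, 0, 5], 51, 6, (fun _ v => v), (fun off v => (stp5 off (stp0 off (stp5 off (stp6 off (stp0 off (stp5 off (stp0 off (stp5 off (stp6 off (stp0 off (stp6 off v)))))))))))), (fun v _ _ => v), fun _ _ => rfl, fun _ _ => rfl⟩
def lf8_127 : Leaf (walkS st) := ⟨[], [6, 5, 0, 5, 6, 0, 6, 5, 0, 5, 0], 51, 10, (fun _ v => v), (fun off v => (stp0 off (stp5 off (stp0 off (stp5 off (stp6 off (stp0 off (stp6 off (stp5 off (stp0 off (stp5 off (stp6 off v)))))))))))), (fun v _ _ => v), fun _ _ => rfl, fun _ _ => rfl⟩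
def lf8_128 : Leaf (walkS st) := ⟨[], [3, 0, 3, 4, 0, 4, 0, 3, 4, 0, 4], 50, 6, (fun _ v => v), (fun off v => (stp4 off (stp0 off (stp4 off (stp3 off (stp0 off (stp4 off (stp0 off (stp4 off (stp3 off (stp0 off (stp3 off v)))))))))))), (fun v _ _ => v), fun _ _ => rfl, fun _ _ => rfl⟩
def lf8_129 : Leaf (walkS st) := ⟨[1, 8], [8, 1, 8], 1, 0, (fun off v => (stp8 off (stp1 off v))), (fun off v => (stp8 off (stp1 off (stp8 off v)))), (fun _ _ p => p), fun _ _ => rfl, fun _ _ => rfl⟩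
def lf8_130 : Leaf (walkS st) := ⟨[], [3, 4, 3, 4, 3, 4], 35, 4, (fun _ v => v), (fun off v => (stp4 off (stp3 off (stp4 off (stp3 off (stp4 off (stp3 off v))))))), (fun v _ _ => v), fun _ _ => rfl, fun _ _ => rfl⟩
def lf8_131 : Leaf (walkS st) := ⟨[8, 3, 8], [3], 3, 0, (fun off v => (stp8 off (stp3 off (stp8 off v)))), (fun off v => (stp3 off v)), (fun _ _ p => p), fun _ _ => rfl, fun _ _ => rfl⟩
def lf8_132 : Leaf (walkS st) := ⟨[], [0, 4, 1, 5, 1, 5, 4, 5, 0, 5], 25, 2, (fun _ v => v), (fun off v => (stp5 off (stp0 off (stp5 off (stp4 off (stp5 off (stp1 off (stp5 off (stp1 off (stp4 off (stp0 off v))))))))))), (fun v _ _ => v), fun _ _ => rfl, fun _ _ => rfl⟩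
def lf8_133 : Leaf (walkS st) := ⟨[], [5, 6, 1, 5, 1, 5, 6, 1, 6, 5, 1], 29, 3, (fun _ v => v), (fun off v => (stp1 off (stp5 off (stp6 off (stp1 off (stp6 off (stp5 off (stp1 off (stp5 off (stp1 off (stp6 off (stp5 off v)))))))))))), (fun v _ _ => v), fun _ _ => rfl, fun _ _ => rfl⟩
def lf8_134 : Leaf (walkS st) := ⟨[0, 8], [8, 0, 8], 0, 0, (fun off v => (stp8 off (stp0 off v))), (fun off v => (stp8 off (stp0 off (stp8 off v)))), (fun _ _ p => p), fun _ _ => rfl, fun _ _ => rfl⟩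
def lf8_135 : Leaf (walkS st) := ⟨[8, 2, 8], [2], 2, 0, (fun off v => (stp8 off (stp2 off (stp8 off v)))), (fun off v => (stp2 off v)), (fun _ _ p => p), fun _ _ => rfl, fun _ _ => rfl⟩
def lf8_136 : Leaf (walkS st) := ⟨[7], [8, 7, 8, 8], 7, 0, (fun off v => (stp7 off v)), (fun off v => (stp8 off (stp8 off (stp7 off (stp8 off v))))), (fun _ _ p => p), fun _ _ => rfl, fun _ _ => rfl⟩
def lf8_137 : Leaf (walkS st) := ⟨[4], [8, 8, 4], 4, 0, (fun off v => (stp4 off v)), (fun off v => (stp4 off (stp8 off (stp8 off v)))), (fun _ _ p => p), fun _ _ => rfl, fun _ _ => rfl⟩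
def lf8_138 : Leaf (walkS st) := ⟨[5], [8, 8, 5], 5, 0, (fun off v => (stp5 off v)), (fun off v => (stp5 off (stp8 off (stp8 off v)))), (fun _ _ p => p), fun _ _ => rfl, fun _ _ => rfl⟩
def lf8_139 : Leaf (walkS st) := ⟨[8, 7], [7, 8, 8], 7, 0, (fun off v => (stp7 off (stp8 off v))), (fun off v => (stp8 off (stp8 off (stp7 off v)))), (fun _ _ p => p), fun _ _ => rfl, fun _ _ => rfl⟩
def lf8_140 : Leaf (walkS st) := ⟨[8, 8, 2], [2, 8], 2, 0, (fun off v => (stp2 off (stp8 off (stp8 off v)))), (fun off v => (stp8 off (stp2 off v))), (fun _ _ p => p), fun _ _ => rfl, fun _ _ => rfl⟩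
def lf8_141 : Leaf (walkS st) := ⟨[8, 8, 3], [3, 8], 3, 0, (fun off v => (stp3 off (stp8 off (stp8 off v)))), (fun off v => (stp8 off (stp3 off v))), (fun _ _ p => p), fun _ _ => rfl, fun _ _ => rfl⟩
def lf8_142 : Leaf (walkS st) := ⟨[], [5, 0, 5, 0, 4, 1, 5, 1, 5, 4], 25, 5, (fun _ v => v), (fun off v => (stp4 off (stp5 off (stp1 off (stp5 off (stp1 off (stp4 off (stp0 off (stp5 off (stp0 off (stp5 off v))))))))))), (fun v _ _ => v), fun _ _ => rfl, fun _ _ => rfl⟩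
def lf8_143 : Leaf (walkS st) := ⟨[], [5, 4, 0, 4, 0, 5, 1, 4, 1, 4], 48, 5, (fun _ v => v), (fun off v => (stp4 off (stp1 off (stp4 off (stp1 off (stp5 off (stp0 off (stp4 off (stp0 off (stp4 off (stp5 off v))))))))))), (fun v _ _ => v), fun _ _ => rfl, fun _ _ => rfl⟩
def lf8_144 : Leaf (walkS st) := ⟨[8, 8, 1], [1, 8], 1, 0, (fun off v => (stp1 off (stp8 off (stp8 off v)))), (fun off v => (stp8 off (stp1 off v))), (fun _ _ p => p), fun _ _ => rfl, fun _ _ => rfl⟩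
def lf8_145 : Leaf (walkS st) := ⟨[], [4, 0, 4, 0, 3, 4, 0, 4, 3, 0, 3], 50, 3, (fun _ v => v), (fun off v => (stp3 off (stp0 off (stp3 off (stp4 off (stp0 off (stp4 off (stp3 off (stp0 off (stp4 off (stp0 off (stp4 off v)))))))))))), (fun v _ _ => v), fun _ _ => rfl, fun _ _ => rfl⟩
def lf8_146 : Leaf (walkS st) := ⟨[8, 8, 4], [4, 8], 4, 0, (fun off v => (stp4 off (stp8 off (stp8 off v)))), (fun off v => (stp8 off (stp4 off v))), (fun _ _ p => p), fun _ _ => rfl, fun _ _ => rfl⟩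
def lf8_147 : Leaf (walkS st) := ⟨[], [3, 1, 3, 4, 1, 4, 3, 1, 4, 1, 4], 28, 8, (fun _ v => v), (fun off v => (stp4 off (stp1 off (stp4 off (stp1 off (stp3 off (stp4 off (stp1 off (stp4 off (stp3 off (stp1 off (stp3 off v)))))))))))), (fun v _ _ => v), fun _ _ => rfl, fun _ _ => rfl⟩
def lf8_148 : Leaf (walkS st) := ⟨[8, 8, 0], [0, 8], 0, 0, (fun off v => (stp0 off (stp8 off (stp8 off v)))), (fun off v => (stp8 off (stp0 off v))), (fun _ _ p => p), fun _ _ => rfl, fun _ _ => rfl⟩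
def lf8_149 : Leaf (walkS st) := ⟨[], [4, 1, 4, 3, 1, 4, 1, 4, 3, 1, 3], 28, 5, (fun _ v => v), (fun off v => (stp3 off (stp1 off (stp3 off (stp4 off (stp1 off (stp4 off (stp1 off (stp3 off (stp4 off (stp1 off (stp4 off v)))))))))))), (fun v _ _ => v), fun _ _ => rfl, fun _ _ => rfl⟩
def lf8_150 : Leaf (walkS st) := ⟨[], [3, 1, 4, 1, 4, 3, 1, 3, 4, 1, 4], 28, 2, (fun _ v => v), (fun off v => (stp4 off (stp1 off (stp4 off (stp3 off (stp1 off (stp3 off (stp4 off (stp1 off (stp4 off (stp1 off (stp3 off v)))))))))))), (fun v _ _ => v), fun _ _ => rfl, fun _ _ => rfl⟩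
def lf8_151 : Leaf (walkS st) := ⟨[], [6, 1, 5, 1, 5, 6, 1, 6, 5, 1, 5], 29, 2, (fun _ v => v), (fun off v => (stp5 off (stp1 off (stp5 off (stp6 off (stp1 off (stp6 off (stp5 off (stp1 off (stp5 off (stp1 off (stp6 off v)))))))))))), (fun v _ _ => v), fun _ _ => rfl, fun _ _ => rfl⟩
def lf8_152 : Leaf (walkS st) := ⟨[8, 8, 7], [7, 8], 7, 0, (fun off v => (stp7 off (stp8 off (stp8 off v)))), (fun off v => (stp8 off (stp7 off v))), (fun _ _ p => p), fun _ _ => rfl, fun _ _ => rfl⟩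
def lf8_153 : Leaf (walkS st) := ⟨[], [7, 2, 7, 2], 34, 3, (fun _ v => v), (fun off v => (stp2 off (stp7 off (stp2 off (stp7 off v))))), (fun v _ _ => v), fun _ _ => rfl, fun _ _ => rfl⟩
def lf8_154 : Leaf (walkS st) := ⟨[5, 8], [8, 5, 8], 5, 0, (fun off v => (stp8 off (stp5 off v))), (fun off v => (stp8 off (stp5 off (stp8 off v)))), (fun _ _ p => p), fun _ _ => rfl, fun _ _ => rfl⟩
def lf8_155 : Leaf (walkS st) := ⟨[], [5, 1, 5, 6, 1, 5, 1, 5, 6, 1, 6], 29, 5, (fun _ v => v), (fun off v => (stp6 off (stp1 off (stp6 off (stp5 off (stp1 off (stp5 off (stp1 off (stp6 off (stp5 off (stp1 off (stp5 off v)))))))))))), (fun v _ _ => v), fun _ _ => rfl, fun _ _ => rfl⟩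
def lf8_156 : Leaf (walkS st) := ⟨[8, 8, 6], [6], 6, 0, (fun off v => (stp6 off (stp8 off (stp8 off v)))), (fun off v => (stp6 off v)), (fun _ _ p => p), fun _ _ => rfl, fun _ _ => rfl⟩
def lf8_157 : Leaf (walkS st) := ⟨[], [6, 1, 6, 5, 1, 5, 6, 1, 5, 1, 5], 29, 8, (fun _ v => v), (fun off v => (stp5 off (stp1 off (stp5 off (stp1 off (stp6 off (stp5 off (stp1 off (stp5 off (stp6 off (stp1 off (stp6 off v)))))))))))), (fun v _ _ => v), fun _ _ => rfl, fun _ _ => rfl⟩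
def lf8_158 : Leaf (walkS st) := ⟨[6], [8, 8, 6], 6, 0, (fun off v => (stp6 off v)), (fun off v => (stp6 off (stp8 off (stp8 off v)))), (fun _ _ p => p), fun _ _ => rfl, fun _ _ => rfl⟩
def lf8_159 : Leaf (walkS st) := ⟨[], [4, 5, 0, 5, 0, 4, 1, 5, 1, 5], 25, 6, (fun _ v => v), (fun off v => (stp5 off (stp1 off (stp5 off (stp1 off (stp4 off (stp0 off (stp5 off (stp0 off (stp5 off (stp4 off v))))))))))), (fun v _ _ => v), fun _ _ => rfl, fun _ _ => rfl⟩
def lf8_160 : Leaf (walkS st) := ⟨[3, 8], [8, 8, 3], 3, 0, (fun off v => (stp8 off (stp3 off v))), (fun off v => (stp3 off (stp8 off (stp8 off v)))), (fun _ _ p => p), fun _ _ => rfl, fun _ _ => rfl⟩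
def lf8_161 : Leaf (walkS st) := ⟨[3], [8, 8, 3], 3, 0, (fun off v => (stp3 off v)), (fun off v => (stp3 off (stp8 off (stp8 off v)))), (fun _ _ p => p), fun _ _ => rfl, fun _ _ => rfl⟩
def lf8_162 : Leaf (walkS st) := ⟨[8, 8, 5], [5, 8], 5, 0, (fun off v => (stp5 off (stp8 off (stp8 off v)))), (fun off v => (stp8 off (stp5 off v))), (fun _ _ p => p), fun _ _ => rfl, fun _ _ => rfl⟩
def lf8_163 : Leaf (walkS st) := ⟨[0], [8, 0, 8, 8], 0, 0, (fun off v => (stp0 off v)), (fun off v => (stp8 off (stp8 off (stp0 off (stp8 off v))))), (fun _ _ p => p), fun _ _ => rfl, fun _ _ => rfl⟩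
def lf8_164 : Leaf (walkS st) := ⟨[], [1, 5, 4, 3, 1, 5, 4, 3, 1, 5, 4, 3, 1, 5, 4, 3, 1, 5, 4, 3], 27, 16, (fun _ v => v), (fun off v => (stp3 off (stp4 off (stp5 off (stp1 off (stp3 off (stp4 off (stp5 off (stp1 off (stp3 off (stp4 off (stp5 off (stp1 off (stp3 off (stp4 off (stp5 off (stp1 off (stp3 off (stp4 off (stp5 off (stp1 off v))))))))))))))))))))), (fun v _ _ => v), fun _ _ => rfl, fun _ _ => rfl⟩
def lf8_165 : Leaf (walkS st) := ⟨[], [5, 0, 5, 6, 0, 6, 5, 0, 5, 0, 6], 51, 9, (fun _ v => v), (fun off v => (stp6 off (stp0 off (stp5 off (stp0 off (stp5 off (stp6 off (stp0 off (stp6 off (stp5 off (stp0 off (stp5 off v)))))))))))), (fun v _ _ => v), fun _ _ => rfl, fun _ _ => rfl⟩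
def lf8_166 : Leaf (walkS st) := ⟨[], [4, 0, 4, 0, 5, 1, 4, 1, 4, 5], 26, 5, (fun _ v => v), (fun off v => (stp5 off (stp4 off (stp1 off (stp4 off (stp1 off (stp5 off (stp0 off (stp4 off (stp0 off (stp4 off v))))))))))), (fun v _ _ => v), fun _ _ => rfl, fun _ _ => rfl⟩
def lf8_167 : Leaf (walkS st) := ⟨[], [5, 4, 3, 1, 5, 4, 3, 1, 5, 4, 3, 1, 5, 4, 3, 1, 5, 4, 3, 1], 27, 7, (fun _ v => v), (fun off v => (stp1 off (stp3 off (stp4 off (stp5 off (stp1 off (stp3 off (stp4 off (stp5 off (stp1 off (stp3 off (stp4 off (stp5 off (stp1 off (stp3 off (stp4 off (stp5 off (stp1 off (stp3 off (stp4 off (stp5 off v))))))))))))))))))))), (fun v _ _ => v), fun _ _ => rfl, fun _ _ => rfl⟩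
def lf8_168 : Leaf (walkS st) := ⟨[4, 8], [8, 4, 8], 4, 0, (fun off v => (stp8 off (stp4 off v))), (fun off v => (stp8 off (stp4 off (stp8 off v)))), (fun _ _ p => p), fun _ _ => rfl, fun _ _ => rfl⟩
def lf8_169 : Leaf (walkS st) := ⟨[8, 8, 4], [4], 4, 0, (fun off v => (stp4 off (stp8 off (stp8 off v)))), (fun off v => (stp4 off v)), (fun _ _ p => p), fun _ _ => rfl, fun _ _ => rfl⟩
def lf8_170 : Leaf (walkS st) := ⟨[1], [8, 8, 1], 1, 0, (fun off v => (stp1 off v)), (fun off v => (stp1 off (stp8 off (stp8 off v)))), (fun _ _ p => p), fun _ _ => rfl, fun _ _ => rfl⟩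
def lf8_171 : Leaf (walkS st) := ⟨[4, 8], [8, 8, 4], 4, 0, (fun off v => (stp8 off (stp4 off v))), (fun off v => (stp4 off (stp8 off (stp8 off v)))), (fun _ _ p => p), fun _ _ => rfl, fun _ _ => rfl⟩
def lf8_172 : Leaf (walkS st) := ⟨[], [5, 0, 5, 0, 6, 5, 0, 5, 6, 0, 6], 51, 3, (fun _ v => v), (fun off v => (stp6 off (stp0 off (stp6 off (stp5 off (stp0 off (stp5 off (stp6 off (stp0 off (stp5 off (stp0 off (stp5 off v)))))))))))), (fun v _ _ => v), fun _ _ => rfl, fun _ _ => rfl⟩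
def lf8_173 : Leaf (walkS st) := ⟨[], [2, 5, 2, 5, 8], 10, 1, (fun _ v => v), (fun off v => (stp8 off (stp5 off (stp2 off (stp5 off (stp2 off v)))))), (fun v _ _ => v), fun _ _ => rfl, fun _ _ => rfl⟩
def lf8_174 : Leaf (walkS st) := ⟨[0], [8, 8, 0], 0, 0, (fun off v => (stp0 off v)), (fun off v => (stp0 off (stp8 off (stp8 off v)))), (fun _ _ p => p), fun _ _ => rfl, fun _ _ => rfl⟩
def lf8_175 : Leaf (walkS st) := ⟨[8, 8, 5], [5], 5, 0, (fun off v => (stp5 off (stp8 off (stp8 off v)))), (fun off v => (stp5 off v)), (fun _ _ p => p), fun _ _ => rfl, fun _ _ => rfl⟩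
def lf8_176 : Leaf (walkS st) := ⟨[], [2, 7, 2, 7], 12, 3, (fun _ v => v), (fun off v => (stp7 off (stp2 off (stp7 off (stp2 off v))))), (fun v _ _ => v), fun _ _ => rfl, fun _ _ => rfl⟩
def lf8_177 : Leaf (walkS st) := ⟨[8, 2], [2, 8, 8], 2, 0, (fun off v => (stp2 off (stp8 off v))), (fun off v => (stp8 off (stp8 off (stp2 off v)))), (fun _ _ p => p), fun _ _ => rfl, fun _ _ => rfl⟩
def lf8_178 : Leaf (walkS st) := ⟨[8, 8, 3], [3], 3, 0, (fun off v => (stp3 off (stp8 off (stp8 off v)))), (fun off v => (stp3 off v)), (fun _ _ p => p), fun _ _ => rfl, fun _ _ => rfl⟩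
def lf8_179 : Leaf (walkS st) := ⟨[], [2, 7, 1, 1, 8], 45, 0, (fun _ v => v), (fun off v => (stp8 off (stp1 off (stp1 off (stp7 off (stp2 off v)))))), (fun v _ _ => v), fun _ _ => rfl, fun _ _ => rfl⟩
def lf8_180 : Leaf (walkS st) := ⟨[], [0, 3, 4, 5, 0, 3, 4, 5, 0, 3, 4, 5, 0, 3, 4, 5, 0, 3, 4, 5], 49, 1, (fun _ v => v), (fun off v => (stp5 off (stp4 off (stp3 off (stp0 off (stp5 off (stp4 off (stp3 off (stp0 off (stp5 off (stp4 off (stp3 off (stp0 off (stp5 off (stp4 off (stp3 off (stp0 off (stp5 off (stp4 off (stp3 off (stp0 off v))))))))))))))))))))), (fun v _ _ => v), fun _ _ => rfl, fun _ _ => rfl⟩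
def lf8_181 : Leaf (walkS st) := ⟨[8, 1, 8], [1, 8], 1, 0, (fun off v => (stp8 off (stp1 off (stp8 off v)))), (fun off v => (stp8 off (stp1 off v))), (fun _ _ p => p), fun _ _ => rfl, fun _ _ => rfl⟩
def lf8_182 : Leaf (walkS st) := ⟨[], [2, 6, 2, 6, 8], 11, 3, (fun _ v => v), (fun off v => (stp8 off (stp6 off (stp2 off (stp6 off (stp2 off v)))))), (fun v _ _ => v), fun _ _ => rfl, fun _ _ => rfl⟩
def lf8_183 : Leaf (walkS st) := ⟨[], [3, 7, 3, 7, 8], 16, 1, (fun _ v => v), (fun off v => (stp8 off (stp7 off (stp3 off (stp7 off (stp3 off v)))))), (fun v _ _ => v), fun _ _ => rfl, fun _ _ => rfl⟩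
def lf8_184 : Leaf (walkS st) := ⟨[], [2, 0, 0, 7], 23, 1, (fun _ v => v), (fun off v => (stp7 off (stp0 off (stp0 off (stp2 off v))))), (fun v _ _ => v), fun _ _ => rfl, fun _ _ => rfl⟩
def lf8_185 : Leaf (walkS st) := ⟨[], [3, 4, 5, 0, 3, 4, 5, 0, 3, 4, 5, 0, 3, 4, 5, 0, 3, 4, 5, 0], 49, 0, (fun _ v => v), (fun off v => (stp0 off (stp5 off (stp4 off (stp3 off (stp0 off (stp5 off (stp4 off (stp3 off (stp0 off (stp5 off (stp4 off (stp3 off (stp0 off (stp5 off (stp4 off (stp3 off (stp0 off (stp5 off (stp4 off (stp3 off v))))))))))))))))))))), (fun v _ _ => v), fun _ _ => rfl, fun _ _ => rfl⟩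
def lf8_186 : Leaf (walkS st) := ⟨[8, 8, 7], [7], 7, 0, (fun off v => (stp7 off (stp8 off (stp8 off v)))), (fun off v => (stp7 off v)), (fun _ _ p => p), fun _ _ => rfl, fun _ _ => rfl⟩
def lf8_187 : Leaf (walkS st) := ⟨[7], [8, 8, 7], 7, 0, (fun off v => (stp7 off v)), (fun off v => (stp7 off (stp8 off (stp8 off v)))), (fun _ _ p => p), fun _ _ => rfl, fun _ _ => rfl⟩
def lf8_188 : Leaf (walkS st) := ⟨[1, 8], [8, 8, 1], 1, 0, (fun off v => (stp8 off (stp1 off v))), (fun off v => (stp1 off (stp8 off (stp8 off v)))), (fun _ _ p => p), fun _ _ => rfl, fun _ _ => rfl⟩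
def lf8_189 : Leaf (walkS st) := ⟨[], [4, 0, 4, 3, 0, 3, 4, 0, 4, 0, 3], 50, 9, (fun _ v => v), (fun off v => (stp3 off (stp0 off (stp4 off (stp0 off (stp4 off (stp3 off (stp0 off (stp3 off (stp4 off (stp0 off (stp4 off v)))))))))))), (fun v _ _ => v), fun _ _ => rfl, fun _ _ => rfl⟩
def lf8_190 : Leaf (walkS st) := ⟨[1], [8, 1, 8, 8], 1, 0, (fun off v => (stp1 off v)), (fun off v => (stp8 off (stp8 off (stp1 off (stp8 off v))))), (fun _ _ p => p), fun _ _ => rfl, fun _ _ => rfl⟩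
def lf8_191 : Leaf (walkS st) := ⟨[], [7, 4, 7, 4, 8], 19, 0, (fun _ v => v), (fun off v => (stp8 off (stp4 off (stp7 off (stp4 off (stp7 off v)))))), (fun v _ _ => v), fun _ _ => rfl, fun _ _ => rfl⟩
def lf8_192 : Leaf (walkS st) := ⟨[], [7, 5, 7, 5, 8], 43, 1, (fun _ v => v), (fun off v => (stp8 off (stp5 off (stp7 off (stp5 off (stp7 off v)))))), (fun v _ _ => v), fun _ _ => rfl, fun _ _ => rfl⟩
def lf8_193 : Leaf (walkS st) := ⟨[2], [8, 8, 2], 2, 0, (fun off v => (stp2 off v)), (fun off v => (stp2 off (stp8 off (stp8 off v)))), (fun _ _ p => p), fun _ _ => rfl, fun _ _ => rfl⟩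
def lf8_194 : Leaf (walkS st) := ⟨[], [5, 7, 2, 4, 5, 4, 5, 4, 5, 4], 24, 3, (fun _ v => v), (fun off v => (stp4 off (stp5 off (stp4 off (stp5 off (stp4 off (stp5 off (stp4 off (stp2 off (stp7 off (stp5 off v))))))))))), (fun v _ _ => v), fun _ _ => rfl, fun _ _ => rfl⟩
def lf8_195 : Leaf (walkS st) := ⟨[2, 8], [8, 2, 8], 2, 0, (fun off v => (stp8 off (stp2 off v))), (fun off v => (stp8 off (stp2 off (stp8 off v)))), (fun _ _ p => p), fun _ _ => rfl, fun _ _ => rfl⟩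
def lf8_196 : Leaf (walkS st) := ⟨[], [7, 3, 7, 3, 8], 16, 2, (fun _ v => v), (fun off v => (stp8 off (stp3 off (stp7 off (stp3 off (stp7 off v)))))), (fun v _ _ => v), fun _ _ => rfl, fun _ _ => rfl⟩
def lf8_197 : Leaf (walkS st) := ⟨[8, 8, 0], [0], 0, 0, (fun off v => (stp0 off (stp8 off (stp8 off v)))), (fun off v => (stp0 off v)), (fun _ _ p => p), fun _ _ => rfl, fun _ _ => rfl⟩
def lf8_198 : Leaf (walkS st) := ⟨[8, 8, 1], [1], 1, 0, (fun off v => (stp1 off (stp8 off (stp8 off v)))), (fun off v => (stp1 off v)), (fun _ _ p => p), fun _ _ => rfl, fun _ _ => rfl⟩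
def lf8_199 : Leaf (walkS st) := ⟨[], [0, 3, 4, 0, 4, 0, 3, 4, 0, 4, 3, 8], 50, 5, (fun _ v => v), (fun off v => (stp8 off (stp3 off (stp4 off (stp0 off (stp4 off (stp3 off (stp0 off (stp4 off (stp0 off (stp4 off (stp3 off (stp0 off v))))))))))))), (fun v _ _ => v), fun _ _ => rfl, fun _ _ => rfl⟩
def lf8_200 : Leaf (walkS st) := ⟨[], [7, 1, 1, 2], 45, 3, (fun _ v => v), (fun off v => (stp2 off (stp1 off (stp1 off (stp7 off v))))), (fun v _ _ => v), fun _ _ => rfl, fun _ _ => rfl⟩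
def lf8_201 : Leaf (walkS st) := ⟨[8, 3], [3, 8, 8], 3, 0, (fun off v => (stp3 off (stp8 off v))), (fun off v => (stp8 off (stp8 off (stp3 off v)))), (fun _ _ p => p), fun _ _ => rfl, fun _ _ => rfl⟩
def lf8_202 : Leaf (walkS st) := ⟨[8, 7, 8], [7, 8], 7, 0, (fun off v => (stp8 off (stp7 off (stp8 off v)))), (fun off v => (stp8 off (stp7 off v))), (fun _ _ p => p), fun _ _ => rfl, fun _ _ => rfl⟩
def lf8_203 : Leaf (walkS st) := ⟨[8, 1], [1, 8, 8], 1, 0, (fun off v => (stp1 off (stp8 off v))), (fun off v => (stp8 off (stp8 off (stp1 off v)))), (fun _ _ p => p), fun _ _ => rfl, fun _ _ => rfl⟩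
def lf8_204 : Leaf (walkS st) := ⟨[], [0, 6, 5, 0, 5, 0, 6, 5, 0, 5, 6, 8], 51, 5, (fun _ v => v), (fun off v => (stp8 off (stp6 off (stp5 off (stp0 off (stp5 off (stp6 off (stp0 off (stp5 off (stp0 off (stp5 off (stp6 off (stp0 off v))))))))))))), (fun v _ _ => v), fun _ _ => rfl, fun _ _ => rfl⟩
def lf8_205 : Leaf (walkS st) := ⟨[], [1, 5, 4, 5, 0, 5, 0, 4, 1, 5, 8], 25, 8, (fun _ v => v), (fun off v => (stp8 off (stp5 off (stp1 off (stp4 off (stp0 off (stp5 off (stp0 off (stp5 off (stp4 off (stp5 off (stp1 off v)))))))))))), (fun v _ _ => v), fun _ _ => rfl, fun _ _ => rfl⟩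
def lf8_206 : Leaf (walkS st) := ⟨[2], [8, 2, 8, 8], 2, 0, (fun off v => (stp2 off v)), (fun off v => (stp8 off (stp8 off (stp2 off (stp8 off v))))), (fun _ _ p => p), fun _ _ => rfl, fun _ _ => rfl⟩
def lf8_207 : Leaf (walkS st) := ⟨[2, 8], [8, 8, 2], 2, 0, (fun off v => (stp8 off (stp2 off v))), (fun off v => (stp2 off (stp8 off (stp8 off v)))), (fun _ _ p => p), fun _ _ => rfl, fun _ _ => rfl⟩
def lf8_208 : Leaf (walkS st) := ⟨[], [2, 4, 2, 4, 8], 9, 3, (fun _ v => v), (fun off v => (stp8 off (stp4 off (stp2 off (stp4 off (stp2 off v)))))), (fun v _ _ => v), fun _ _ => rfl, fun _ _ => rfl⟩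
def lf8_209 : Leaf (walkS st) := ⟨[], [6, 5, 1, 5, 6, 1, 5, 1, 5, 6, 1, 8], 29, 6, (fun _ v => v), (fun off v => (stp8 off (stp1 off (stp6 off (stp5 off (stp1 off (stp5 off (stp1 off (stp6 off (stp5 off (stp1 off (stp5 off (stp6 off v))))))))))))), (fun v _ _ => v), fun _ _ => rfl, fun _ _ => rfl⟩
def lf8_210 : Leaf (walkS st) := ⟨[8, 8, 2], [2], 2, 0, (fun off v => (stp2 off (stp8 off (stp8 off v)))), (fun off v => (stp2 off v)), (fun _ _ p => p), fun _ _ => rfl, fun _ _ => rfl⟩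
def lf8_211 : Leaf (walkS st) := ⟨[], [4, 5, 7, 2, 4, 5, 4, 5, 4, 5], 24, 4, (fun _ v => v), (fun off v => (stp5 off (stp4 off (stp5 off (stp4 off (stp5 off (stp4 off (stp2 off (stp7 off (stp5 off (stp4 off v))))))))))), (fun v _ _ => v), fun _ _ => rfl, fun _ _ => rfl⟩
def lf8_212 : Leaf (walkS st) := ⟨[], [0, 7, 2, 0, 8], 23, 3, (fun _ v => v), (fun off v => (stp8 off (stp0 off (stp2 off (stp7 off (stp0 off v)))))), (fun v _ _ => v), fun _ _ => rfl, fun _ _ => rfl⟩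
def lf8_213 : Leaf (walkS st) := ⟨[], [1, 5, 6, 1, 6, 5, 1, 5, 6, 1, 5, 8], 29, 10, (fun _ v => v), (fun off v => (stp8 off (stp5 off (stp1 off (stp6 off (stp5 off (stp1 off (stp5 off (stp6 off (stp1 off (stp6 off (stp5 off (stp1 off v))))))))))))), (fun v _ _ => v), fun _ _ => rfl, fun _ _ => rfl⟩
def lf8_214 : Leaf (walkS st) := ⟨[], [1, 5, 1, 5, 4, 5, 0, 5, 0, 4, 8], 25, 0, (fun _ v => v), (fun off v => (stp8 off (stp4 off (stp0 off (stp5 off (stp0 off (stp5 off (stp4 off (stp5 off (stp1 off (stp5 off (stp1 off v)))))))))))), (fun v _ _ => v), fun _ _ => rfl, fun _ _ => rfl⟩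
def lf8_215 : Leaf (walkS st) := ⟨[8, 0], [0, 8, 8], 0, 0, (fun off v => (stp0 off (stp8 off v))), (fun off v => (stp8 off (stp8 off (stp0 off v)))), (fun _ _ p => p), fun _ _ => rfl, fun _ _ => rfl⟩
def lf8_216 : Leaf (walkS st) := ⟨[6, 8], [8, 8, 6], 6, 0, (fun off v => (stp8 off (stp6 off v))), (fun off v => (stp6 off (stp8 off (stp8 off v)))), (fun _ _ p => p), fun _ _ => rfl, fun _ _ => rfl⟩
def lf8_217 : Leaf (walkS st) := ⟨[4], [8, 4, 8, 8], 4, 0, (fun off v => (stp4 off v)), (fun off v => (stp8 off (stp8 off (stp4 off (stp8 off v))))), (fun _ _ p => p), fun _ _ => rfl, fun _ _ => rfl⟩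
def lf8_218 : Leaf (walkS st) := ⟨[0, 8], [8, 8, 0], 0, 0, (fun off v => (stp8 off (stp0 off v))), (fun off v => (stp0 off (stp8 off (stp8 off v)))), (fun _ _ p => p), fun _ _ => rfl, fun _ _ => rfl⟩
def lf8_219 : Leaf (walkS st) := ⟨[8, 0, 8], [0, 8], 0, 0, (fun off v => (stp8 off (stp0 off (stp8 off v)))), (fun off v => (stp8 off (stp0 off v))), (fun _ _ p => p), fun _ _ => rfl, fun _ _ => rfl⟩
def lf8_220 : Leaf (walkS st) := ⟨[], [4, 2, 7, 5, 4, 5, 4, 5, 4, 5], 46, 1, (fun _ v => v), (fun off v => (stp5 off (stp4 off (stp5 off (stp4 off (stp5 off (stp4 off (stp5 off (stp7 off (stp2 off (stp4 off v))))))))))), (fun v _ _ => v), fun _ _ => rfl, fun _ _ => rfl⟩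
def lf8_221 : Leaf (walkS st) := ⟨[], [1, 5, 1, 5, 6, 1, 6, 5, 1, 5, 6, 8], 29, 1, (fun _ v => v), (fun off v => (stp8 off (stp6 off (stp5 off (stp1 off (stp5 off (stp6 off (stp1 off (stp6 off (stp5 off (stp1 off (stp5 off (stp1 off v))))))))))))), (fun v _ _ => v), fun _ _ => rfl, fun _ _ => rfl⟩
def lf8_222 : Leaf (walkS st) := ⟨[], [6, 2, 6, 2, 8], 11, 2, (fun _ v => v), (fun off v => (stp8 off (stp2 off (stp6 off (stp2 off (stp6 off v)))))), (fun v _ _ => v), fun _ _ => rfl, fun _ _ => rfl⟩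
def lf8_223 : Leaf (walkS st) := ⟨[7, 8], [8, 8, 7], 7, 0, (fun off v => (stp8 off (stp7 off v))), (fun off v => (stp7 off (stp8 off (stp8 off v)))), (fun _ _ p => p), fun _ _ => rfl, fun _ _ => rfl⟩
def lf8_224 : Leaf (walkS st) := ⟨[], [5, 4, 5, 4, 5, 4, 2, 7, 5, 4], 46, 6, (fun _ v => v), (fun off v => (stp4 off (stp5 off (stp7 off (stp2 off (stp4 off (stp5 off (stp4 off (stp5 off (stp4 off (stp5 off v))))))))))), (fun v _ _ => v), fun _ _ => rfl, fun _ _ => rfl⟩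
def lf8_225 : Leaf (walkS st) := ⟨[], [5, 2, 5, 2, 8], 10, 2, (fun _ v => v), (fun off v => (stp8 off (stp2 off (stp5 off (stp2 off (stp5 off v)))))), (fun v _ _ => v), fun _ _ => rfl, fun _ _ => rfl⟩
def lf8_226 : Leaf (walkS st) := ⟨[], [5, 0, 3, 4, 5, 0, 3, 4, 5, 0, 3, 4, 5, 0, 3, 4, 5, 0, 3, 4], 49, 18, (fun _ v => v), (fun off v => (stp4 off (stp3 off (stp0 off (stp5 off (stp4 off (stp3 off (stp0 off (stp5 off (stp4 off (stp3 off (stp0 off (stp5 off (stp4 off (stp3 off (stp0 off (stp5 off (stp4 off (stp3 off (stp0 off (stp5 off v))))))))))))))))))))), (fun v _ _ => v), fun _ _ => rfl, fun _ _ => rfl⟩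
def lf8_227 : Leaf (walkS st) := ⟨[], [0, 5, 6, 0, 6, 5, 0, 5, 0, 6, 5, 8], 51, 8, (fun _ v => v), (fun off v => (stp8 off (stp5 off (stp6 off (stp0 off (stp5 off (stp0 off (stp5 off (stp6 off (stp0 off (stp6 off (stp5 off (stp0 off v))))))))))))), (fun v _ _ => v), fun _ _ => rfl, fun _ _ => rfl⟩
def lf8_228 : Leaf (walkS st) := ⟨[5], [8, 5, 8, 8], 5, 0, (fun off v => (stp5 off v)), (fun off v => (stp8 off (stp8 off (stp5 off (stp8 off v))))), (fun _ _ p => p), fun _ _ => rfl, fun _ _ => rfl⟩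
def lf8_229 : Leaf (walkS st) := ⟨[3, 8], [8, 3, 8], 3, 0, (fun off v => (stp8 off (stp3 off v))), (fun off v => (stp8 off (stp3 off (stp8 off v)))), (fun _ _ p => p), fun _ _ => rfl, fun _ _ => rfl⟩
def lf8_230 : Leaf (walkS st) := ⟨[1, 8, 8], [8, 1], 1, 0, (fun off v => (stp8 off (stp8 off (stp1 off v)))), (fun off v => (stp1 off (stp8 off v))), (fun _ _ p => p), fun _ _ => rfl, fun _ _ => rfl⟩
def lf8_231 : Leaf (walkS st) := ⟨[], [4, 5, 4, 5, 7, 2, 4, 5, 4, 5], 24, 6, (fun _ v => v), (fun off v => (stp5 off (stp4 off (stp5 off (stp4 off (stp2 off (stp7 off (stp5 off (stp4 off (stp5 off (stp4 off v))))))))))), (fun v _ _ => v), fun _ _ => rfl, fun _ _ => rfl⟩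
def lf8_232 : Leaf (walkS st) := ⟨[6, 8], [8, 6, 8], 6, 0, (fun off v => (stp8 off (stp6 off v))), (fun off v => (stp8 off (stp6 off (stp8 off v)))), (fun _ _ p => p), fun _ _ => rfl, fun _ _ => rfl⟩
def lf8_233 : Leaf (walkS st) := ⟨[], [7, 2, 0, 0, 8], 23, 2, (fun _ v => v), (fun off v => (stp8 off (stp0 off (stp0 off (stp2 off (stp7 off v)))))), (fun v _ _ => v), fun _ _ => rfl, fun _ _ => rfl⟩
def lf8_234 : Leaf (walkS st) := ⟨[], [6, 5, 0, 5, 0, 6, 5, 0, 5, 6, 0, 8], 51, 4, (fun _ v => v), (fun off v => (stp8 off (stp0 off (stp6 off (stp5 off (stp0 off (stp5 off (stp6 off (stp0 off (stp5 off (stp0 off (stp5 off (stp6 off v))))))))))))), (fun v _ _ => v), fun _ _ => rfl, fun _ _ => rfl⟩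
def lf8_235 : Leaf (walkS st) := ⟨[7, 8, 8], [8, 7], 7, 0, (fun off v => (stp8 off (stp8 off (stp7 off v)))), (fun off v => (stp7 off (stp8 off v))), (fun _ _ p => p), fun _ _ => rfl, fun _ _ => rfl⟩
def lf8_236 : Leaf (walkS st) := ⟨[8, 2, 8], [2, 8], 2, 0, (fun off v => (stp8 off (stp2 off (stp8 off v)))), (fun off v => (stp8 off (stp2 off v))), (fun _ _ p => p), fun _ _ => rfl, fun _ _ => rfl⟩
def lf8_237 : Leaf (walkS st) := ⟨[3, 8, 8], [8, 3], 3, 0, (fun off v => (stp8 off (stp8 off (stp3 off v)))), (fun off v => (stp3 off (stp8 off v))), (fun _ _ p => p), fun _ _ => rfl, fun _ _ => rfl⟩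
def lf8_238 : Leaf (walkS st) := ⟨[8, 6], [6, 8, 8], 6, 0, (fun off v => (stp6 off (stp8 off v))), (fun off v => (stp8 off (stp8 off (stp6 off v)))), (fun _ _ p => p), fun _ _ => rfl, fun _ _ => rfl⟩
def lf8_239 : Leaf (walkS st) := ⟨[6], [8, 6, 8, 8], 6, 0, (fun off v => (stp6 off v)), (fun off v => (stp8 off (stp8 off (stp6 off (stp8 off v))))), (fun _ _ p => p), fun _ _ => rfl, fun _ _ => rfl⟩
def lf8_240 : Leaf (walkS st) := ⟨[2, 8], [8, 8, 2, 8], 2, 0, (fun off v => (stp8 off (stp2 off v))), (fun off v => (stp8 off (stp2 off (stp8 off (stp8 off v))))), (fun _ _ p => p), fun _ _ => rfl, fun _ _ => rfl⟩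
def lf8_241 : Leaf (walkS st) := ⟨[], [6, 5, 6, 5, 6, 5, 8], 20, 0, (fun _ v => v), (fun off v => (stp8 off (stp5 off (stp6 off (stp5 off (stp6 off (stp5 off (stp6 off v)))))))), (fun v _ _ => v), fun _ _ => rfl, fun _ _ => rfl⟩
def lf8_242 : Leaf (walkS st) := ⟨[], [1, 4, 3, 1, 4, 1, 4, 3, 1, 3, 4, 8], 28, 4, (fun _ v => v), (fun off v => (stp8 off (stp4 off (stp3 off (stp1 off (stp3 off (stp4 off (stp1 off (stp4 off (stp1 off (stp3 off (stp4 off (stp1 off v))))))))))))), (fun v _ _ => v), fun _ _ => rfl, fun _ _ => rfl⟩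
def lf8_243 : Leaf (walkS st) := ⟨[], [0, 5, 0, 4, 1, 5, 1, 5, 4, 5, 8], 47, 3, (fun _ v => v), (fun off v => (stp8 off (stp5 off (stp4 off (stp5 off (stp1 off (stp5 off (stp1 off (stp4 off (stp0 off (stp5 off (stp0 off v)))))))))))), (fun v _ _ => v), fun _ _ => rfl, fun _ _ => rfl⟩
def lf8_244 : Leaf (walkS st) := ⟨[], [1, 3, 4, 1, 4, 3, 1, 4, 1, 4, 3, 8], 28, 7, (fun _ v => v), (fun off v => (stp8 off (stp3 off (stp4 off (stp1 off (stp4 off (stp1 off (stp3 off (stp4 off (stp1 off (stp4 off (stp3 off (stp1 off v))))))))))))), (fun v _ _ => v), fun _ _ => rfl, fun _ _ => rfl⟩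
def lf8_245 : Leaf (walkS st) := ⟨[], [7, 6, 7, 6, 7, 6, 8], 22, 0, (fun _ v => v), (fun off v => (stp8 off (stp6 off (stp7 off (stp6 off (stp7 off (stp6 off (stp7 off v)))))))), (fun v _ _ => v), fun _ _ => rfl, fun _ _ => rfl⟩
def lf8_246 : Leaf (walkS st) := ⟨[], [1, 6, 5, 1, 5, 6, 1, 5, 1, 5, 6, 8], 29, 7, (fun _ v => v), (fun off v => (stp8 off (stp6 off (stp5 off (stp1 off (stp5 off (stp1 off (stp6 off (stp5 off (stp1 off (stp5 off (stp6 off (stp1 off v))))))))))))), (fun v _ _ => v), fun _ _ => rfl, fun _ _ => rfl⟩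
def lf8_247 : Leaf (walkS st) := ⟨[], [1, 4, 5, 4, 0, 4, 0, 5, 1, 4, 8], 48, 7, (fun _ v => v), (fun off v => (stp8 off (stp4 off (stp1 off (stp5 off (stp0 off (stp4 off (stp0 off (stp4 off (stp5 off (stp4 off (stp1 off v)))))))))))), (fun v _ _ => v), fun _ _ => rfl, fun _ _ => rfl⟩
def lf8_248 : Leaf (walkS st) := ⟨[5], [8, 8, 5, 8], 5, 0, (fun off v => (stp5 off v)), (fun off v => (stp8 off (stp5 off (stp8 off (stp8 off v))))), (fun _ _ p => p), fun _ _ => rfl, fun _ _ => rfl⟩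
def lf8_249 : Leaf (walkS st) := ⟨[], [4, 5, 4, 5, 4, 5, 4, 2, 7, 5], 46, 7, (fun _ v => v), (fun off v => (stp5 off (stp7 off (stp2 off (stp4 off (stp5 off (stp4 off (stp5 off (stp4 off (stp5 off (stp4 off v))))))))))), (fun v _ _ => v), fun _ _ => rfl, fun _ _ => rfl⟩
def lf8_250 : Leaf (walkS st) := ⟨[], [7, 5, 4, 5, 4, 5, 4, 5, 4, 2], 46, 9, (fun _ v => v), (fun off v => (stp2 off (stp4 off (stp5 off (stp4 off (stp5 off (stp4 off (stp5 off (stp4 off (stp5 off (stp7 off v))))))))))), (fun v _ _ => v), fun _ _ => rfl, fun _ _ => rfl⟩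
def lf8_251 : Leaf (walkS st) := ⟨[0, 8, 8], [8, 0], 0, 0, (fun off v => (stp8 off (stp8 off (stp0 off v)))), (fun off v => (stp0 off (stp8 off v))), (fun _ _ p => p), fun _ _ => rfl, fun _ _ => rfl⟩
def lf8_252 : Leaf (walkS st) := ⟨[], [3, 2, 3, 2, 3, 2, 8], 8, 2, (fun _ v => v), (fun off v => (stp8 off (stp2 off (stp3 off (stp2 off (stp3 off (stp2 off (stp3 off v)))))))), (fun v _ _ => v), fun _ _ => rfl, fun _ _ => rfl⟩
def lf8_253 : Leaf (walkS st) := ⟨[], [6, 3, 6, 3, 8], 37, 1, (fun _ v => v), (fun off v => (stp8 off (stp3 off (stp6 off (stp3 off (stp6 off v)))))), (fun v _ _ => v), fun _ _ => rfl, fun _ _ => rfl⟩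
def lf8_254 : Leaf (walkS st) := ⟨[5, 8], [8, 8, 5], 5, 0, (fun off v => (stp8 off (stp5 off v))), (fun off v => (stp5 off (stp8 off (stp8 off v)))), (fun _ _ p => p), fun _ _ => rfl, fun _ _ => rfl⟩
def lf8_255 : Leaf (walkS st) := ⟨[6, 8, 8], [8, 6], 6, 0, (fun off v => (stp8 off (stp8 off (stp6 off v)))), (fun off v => (stp6 off (stp8 off v))), (fun _ _ p => p), fun _ _ => rfl, fun _ _ => rfl⟩
def lf8_256 : Leaf (walkS st) := ⟨[8, 4], [4, 8, 8], 4, 0, (fun off v => (stp4 off (stp8 off v))), (fun off v => (stp8 off (stp8 off (stp4 off v)))), (fun _ _ p => p), fun _ _ => rfl, fun _ _ => rfl⟩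
def lf8_257 : Leaf (walkS st) := ⟨[], [1, 4, 3, 1, 3, 4, 1, 4, 3, 1, 4, 8], 28, 10, (fun _ v => v), (fun off v => (stp8 off (stp4 off (stp1 off (stp3 off (stp4 off (stp1 off (stp4 off (stp3 off (stp1 off (stp3 off (stp4 off (stp1 off v))))))))))))), (fun v _ _ => v), fun _ _ => rfl, fun _ _ => rfl⟩
def lf8_258 : Leaf (walkS st) := ⟨[], [1, 4, 1, 4, 3, 1, 3, 4, 1, 4, 3, 8], 28, 1, (fun _ v => v), (fun off v => (stp8 off (stp3 off (stp4 off (stp1 off (stp4 off (stp3 off (stp1 off (stp3 off (stp4 off (stp1 off (stp4 off (stp1 off v))))))))))))), (fun v _ _ => v), fun _ _ => rfl, fun _ _ => rfl⟩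
def lf8_259 : Leaf (walkS st) := ⟨[], [2, 3, 2, 3, 2, 3, 8], 8, 3, (fun _ v => v), (fun off v => (stp8 off (stp3 off (stp2 off (stp3 off (stp2 off (stp3 off (stp2 off v)))))))), (fun v _ _ => v), fun _ _ => rfl, fun _ _ => rfl⟩
def lf8_260 : Leaf (walkS st) := ⟨[], [1, 2, 7, 1, 8], 45, 1, (fun _ v => v), (fun off v => (stp8 off (stp1 off (stp7 off (stp2 off (stp1 off v)))))), (fun v _ _ => v), fun _ _ => rfl, fun _ _ => rfl⟩
def lf8_261 : Leaf (walkS st) := ⟨[], [3, 0, 3, 4, 0, 4, 0, 3, 4, 0, 4, 8], 50, 6, (fun _ v => v), (fun off v => (stp8 off (stp4 off (stp0 off (stp4 off (stp3 off (stp0 off (stp4 off (stp0 off (stp4 off (stp3 off (stp0 off (stp3 off v))))))))))))), (fun v _ _ => v), fun _ _ => rfl, fun _ _ => rfl⟩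
def lf8_262 : Leaf (walkS st) := ⟨[], [1, 4, 1, 4, 5, 4, 0, 4, 0, 5, 8], 26, 0, (fun _ v => v), (fun off v => (stp8 off (stp5 off (stp0 off (stp4 off (stp0 off (stp4 off (stp5 off (stp4 off (stp1 off (stp4 off (stp1 off v)))))))))))), (fun v _ _ => v), fun _ _ => rfl, fun _ _ => rfl⟩
def lf8_263 : Leaf (walkS st) := ⟨[], [4, 2, 4, 2, 8], 9, 2, (fun _ v => v), (fun off v => (stp8 off (stp2 off (stp4 off (stp2 off (stp4 off v)))))), (fun v _ _ => v), fun _ _ => rfl, fun _ _ => rfl⟩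
def lf8_264 : Leaf (walkS st) := ⟨[], [3, 5, 3, 5, 8], 36, 2, (fun _ v => v), (fun off v => (stp8 off (stp5 off (stp3 off (stp5 off (stp3 off v)))))), (fun v _ _ => v), fun _ _ => rfl, fun _ _ => rfl⟩
def lf8_265 : Leaf (walkS st) := ⟨[], [3, 6, 3, 6, 8], 37, 2, (fun _ v => v), (fun off v => (stp8 off (stp6 off (stp3 off (stp6 off (stp3 off v)))))), (fun v _ _ => v), fun _ _ => rfl, fun _ _ => rfl⟩
def lf8_266 : Leaf (walkS st) := ⟨[], [0, 4, 3, 0, 3, 4, 0, 4, 0, 3, 4, 8], 50, 8, (fun _ v => v), (fun off v => (stp8 off (stp4 off (stp3 off (stp0 off (stp4 off (stp0 off (stp4 off (stp3 off (stp0 off (stp3 off (stp4 off (stp0 off v))))))))))))), (fun v _ _ => v), fun _ _ => rfl, fun _ _ => rfl⟩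
def lf8_267 : Leaf (walkS st) := ⟨[], [0, 4, 0, 5, 1, 4, 1, 4, 5, 4, 8], 26, 4, (fun _ v => v), (fun off v => (stp8 off (stp4 off (stp5 off (stp4 off (stp1 off (stp4 off (stp1 off (stp5 off (stp0 off (stp4 off (stp0 off v)))))))))))), (fun v _ _ => v), fun _ _ => rfl, fun _ _ => rfl⟩
def lf8_268 : Leaf (walkS st) := ⟨[3], [8, 3, 8, 8], 3, 0, (fun off v => (stp3 off v)), (fun off v => (stp8 off (stp8 off (stp3 off (stp8 off v))))), (fun _ _ p => p), fun _ _ => rfl, fun _ _ => rfl⟩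
def lf8_269 : Leaf (walkS st) := ⟨[8, 5], [5, 8, 8], 5, 0, (fun off v => (stp5 off (stp8 off v))), (fun off v => (stp8 off (stp8 off (stp5 off v)))), (fun _ _ p => p), fun _ _ => rfl, fun _ _ => rfl⟩
def lf8_270 : Leaf (walkS st) := ⟨[], [0, 5, 0, 6, 5, 0, 5, 6, 0, 6, 5, 8], 51, 2, (fun _ v => v), (fun off v => (stp8 off (stp5 off (stp6 off (stp0 off (stp6 off (stp5 off (stp0 off (stp5 off (stp6 off (stp0 off (stp5 off (stp0 off v))))))))))))), (fun v _ _ => v), fun _ _ => rfl, fun _ _ => rfl⟩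
def lf8_271 : Leaf (walkS st) := ⟨[], [5, 4, 5, 7, 2, 4, 5, 4, 5, 4], 24, 5, (fun _ v => v), (fun off v => (stp4 off (stp5 off (stp4 off (stp5 off (stp4 off (stp2 off (stp7 off (stp5 off (stp4 off (stp5 off v))))))))))), (fun v _ _ => v), fun _ _ => rfl, fun _ _ => rfl⟩
def lf8_272 : Leaf (walkS st) := ⟨[], [5, 4, 5, 4, 5, 4, 5, 4, 2, 7], 46, 8, (fun _ v => v), (fun off v => (stp7 off (stp2 off (stp4 off (stp5 off (stp4 off (stp5 off (stp4 off (stp5 off (stp4 off (stp5 off v))))))))))), (fun v _ _ => v), fun _ _ => rfl, fun _ _ => rfl⟩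
def lf8_273 : Leaf (walkS st) := ⟨[], [7, 2, 4, 5, 4, 5, 4, 5, 4, 5], 24, 2, (fun _ v => v), (fun off v => (stp5 off (stp4 off (stp5 off (stp4 off (stp5 off (stp4 off (stp5 off (stp4 off (stp2 off (stp7 off v))))))))))), (fun v _ _ => v), fun _ _ => rfl, fun _ _ => rfl⟩
def lf8_274 : Leaf (walkS st) := ⟨[], [4, 5, 0, 3, 4, 5, 0, 3, 4, 5, 0, 3, 4, 5, 0, 3, 4, 5, 0, 3], 49, 15, (fun _ v => v), (fun off v => (stp3 off (stp0 off (stp5 off (stp4 off (stp3 off (stp0 off (stp5 off (stp4 off (stp3 off (stp0 off (stp5 off (stp4 off (stp3 off (stp0 off (stp5 off (stp4 off (stp3 off (stp0 off (stp5 off (stp4 off v))))))))))))))))))))), (fun v _ _ => v), fun _ _ => rfl, fun _ _ => rfl⟩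
def lf8_275 : Leaf (walkS st) := ⟨[], [6, 0, 6, 5, 0, 5, 0, 6, 5, 0, 5, 8], 51, 6, (fun _ v => v), (fun off v => (stp8 off (stp5 off (stp0 off (stp5 off (stp6 off (stp0 off (stp5 off (stp0 off (stp5 off (stp6 off (stp0 off (stp6 off v))))))))))))), (fun v _ _ => v), fun _ _ => rfl, fun _ _ => rfl⟩
def lf8_276 : Leaf (walkS st) := ⟨[], [5, 3, 5, 3, 8], 14, 2, (fun _ v => v), (fun off v => (stp8 off (stp3 off (stp5 off (stp3 off (stp5 off v)))))), (fun v _ _ => v), fun _ _ => rfl, fun _ _ => rfl⟩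
def lf8_277 : Leaf (walkS st) := ⟨[], [0, 3, 4, 0, 4, 3, 0, 3, 4, 0, 4, 8], 50, 0, (fun _ v => v), (fun off v => (stp8 off (stp4 off (stp0 off (stp4 off (stp3 off (stp0 off (stp3 off (stp4 off (stp0 off (stp4 off (stp3 off (stp0 off v))))))))))))), (fun v _ _ => v), fun _ _ => rfl, fun _ _ => rfl⟩
def lf8_278 : Leaf (walkS st) := ⟨[7], [8, 8, 7, 8], 7, 0, (fun off v => (stp7 off v)), (fun off v => (stp8 off (stp7 off (stp8 off (stp8 off v))))), (fun _ _ p => p), fun _ _ => rfl, fun _ _ => rfl⟩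
def lf8_279 : Leaf (walkS st) := ⟨[1, 8], [8, 8, 1, 8], 1, 0, (fun off v => (stp8 off (stp1 off v))), (fun off v => (stp8 off (stp1 off (stp8 off (stp8 off v))))), (fun _ _ p => p), fun _ _ => rfl, fun _ _ => rfl⟩
def lf8_280 : Leaf (walkS st) := ⟨[], [5, 4, 5, 4, 5, 7, 2, 4, 5, 4], 24, 7, (fun _ v => v), (fun off v => (stp4 off (stp5 off (stp4 off (stp2 off (stp7 off (stp5 off (stp4 off (stp5 off (stp4 off (stp5 off v))))))))))), (fun v _ _ => v), fun _ _ => rfl, fun _ _ => rfl⟩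
def lf8_281 : Leaf (walkS st) := ⟨[], [4, 5, 4, 5, 4, 5, 4, 5, 7, 2], 24, 0, (fun _ v => v), (fun off v => (stp2 off (stp7 off (stp5 off (stp4 off (stp5 off (stp4 off (stp5 off (stp4 off (stp5 off (stp4 off v))))))))))), (fun v _ _ => v), fun _ _ => rfl, fun _ _ => rfl⟩
def lf8_282 : Leaf (walkS st) := ⟨[], [5, 0, 6, 5, 0, 5, 6, 0, 6, 5, 0, 8], 51, 1, (fun _ v => v), (fun off v => (stp8 off (stp0 off (stp5 off (stp6 off (stp0 off (stp6 off (stp5 off (stp0 off (stp5 off (stp6 off (stp0 off (stp5 off v))))))))))))), (fun v _ _ => v), fun _ _ => rfl, fun _ _ => rfl⟩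
def lf8_283 : Leaf (walkS st) := ⟨[], [5, 4, 5, 4, 5, 4, 5, 4, 5, 4, 5, 4, 5, 4, 5, 4], 39, 7, (fun _ v => v), (fun off v => (stp4 off (stp5 off (stp4 off (stp5 off (stp4 off (stp5 off (stp4 off (stp5 off (stp4 off (stp5 off (stp4 off (stp5 off (stp4 off (stp5 off (stp4 off (stp5 off v))))))))))))))))), (fun v _ _ => v), fun _ _ => rfl, fun _ _ => rfl⟩
def lf8_284 : Leaf (walkS st) := ⟨[], [4, 1, 5, 1, 5, 4, 5, 0, 5, 0, 8], 25, 1, (fun _ v => v), (fun off v => (stp8 off (stp0 off (stp5 off (stp0 off (stp5 off (stp4 off (stp5 off (stp1 off (stp5 off (stp1 off (stp4 off v)))))))))))), (fun v _ _ => v), fun _ _ => rfl, fun _ _ => rfl⟩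
def lf8_285 : Leaf (walkS st) := ⟨[], [4, 7, 4, 7, 8], 19, 1, (fun _ v => v), (fun off v => (stp8 off (stp7 off (stp4 off (stp7 off (stp4 off v)))))), (fun v _ _ => v), fun _ _ => rfl, fun _ _ => rfl⟩
def lf8_286 : Leaf (walkS st) := ⟨[], [6, 7, 6, 7, 6, 7, 8], 22, 1, (fun _ v => v), (fun off v => (stp8 off (stp7 off (stp6 off (stp7 off (stp6 off (stp7 off (stp6 off v)))))))), (fun v _ _ => v), fun _ _ => rfl, fun _ _ => rfl⟩
def lf8_287 : Leaf (walkS st) := ⟨[], [1, 5, 6, 1, 5, 1, 5, 6, 1, 6, 5, 8], 29, 4, (fun _ v => v), (fun off v => (stp8 off (stp5 off (stp6 off (stp1 off (stp6 off (stp5 off (stp1 off (stp5 off (stp1 off (stp6 off (stp5 off (stp1 off v))))))))))))), (fun v _ _ => v), fun _ _ => rfl, fun _ _ => rfl⟩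
def lf8_288 : Leaf (walkS st) := ⟨[], [2, 7, 5, 4, 5, 4, 5, 4, 5, 4], 46, 0, (fun _ v => v), (fun off v => (stp4 off (stp5 off (stp4 off (stp5 off (stp4 off (stp5 off (stp4 off (stp5 off (stp7 off (stp2 off v))))))))))), (fun v _ _ => v), fun _ _ => rfl, fun _ _ => rfl⟩
def lf8_289 : Leaf (walkS st) := ⟨[], [0, 4, 0, 3, 4, 0, 4, 3, 0, 3, 4, 8], 50, 2, (fun _ v => v), (fun off v => (stp8 off (stp4 off (stp3 off (stp0 off (stp3 off (stp4 off (stp0 off (stp4 off (stp3 off (stp0 off (stp4 off (stp0 off v))))))))))))), (fun v _ _ => v), fun _ _ => rfl, fun _ _ => rfl⟩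
def lf8_290 : Leaf (walkS st) := ⟨[], [5, 7, 5, 7, 8], 21, 3, (fun _ v => v), (fun off v => (stp8 off (stp7 off (stp5 off (stp7 off (stp5 off v)))))), (fun v _ _ => v), fun _ _ => rfl, fun _ _ => rfl⟩
def lf8_291 : Leaf (walkS st) := ⟨[], [6, 1, 6, 5, 1, 5, 6, 1, 5, 1, 5, 8], 29, 8, (fun _ v => v), (fun off v => (stp8 off (stp5 off (stp1 off (stp5 off (stp1 off (stp6 off (stp5 off (stp1 off (stp5 off (stp6 off (stp1 off (stp6 off v))))))))))))), (fun v _ _ => v), fun _ _ => rfl, fun _ _ => rfl⟩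
def lf8_292 : Leaf (walkS st) := ⟨[], [6, 4, 6, 4, 8], 18, 2, (fun _ v => v), (fun off v => (stp8 off (stp4 off (stp6 off (stp4 off (stp6 off v)))))), (fun v _ _ => v), fun _ _ => rfl, fun _ _ => rfl⟩
def lf8_293 : Leaf (walkS st) := ⟨[6], [8, 8, 6, 8], 6, 0, (fun off v => (stp6 off v)), (fun off v => (stp8 off (stp6 off (stp8 off (stp8 off v))))), (fun _ _ p => p), fun _ _ => rfl, fun _ _ => rfl⟩
def lf8_294 : Leaf (walkS st) := ⟨[0], [8, 8, 0, 8], 0, 0, (fun off v => (stp0 off v)), (fun off v => (stp8 off (stp0 off (stp8 off (stp8 off v))))), (fun _ _ p => p), fun _ _ => rfl, fun _ _ => rfl⟩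
def lf8_295 : Leaf (walkS st) := ⟨[4, 8], [8, 8, 4, 8], 4, 0, (fun off v => (stp8 off (stp4 off v))), (fun off v => (stp8 off (stp4 off (stp8 off (stp8 off v))))), (fun _ _ p => p), fun _ _ => rfl, fun _ _ => rfl⟩
def lf8_296 : Leaf (walkS st) := ⟨[], [5, 6, 5, 6, 5, 6, 8], 20, 1, (fun _ v => v), (fun off v => (stp8 off (stp6 off (stp5 off (stp6 off (stp5 off (stp6 off (stp5 off v)))))))), (fun v _ _ => v), fun _ _ => rfl, fun _ _ => rfl⟩
def lf8_297 : Leaf (walkS st) := ⟨[], [5, 4, 2, 7, 5, 4, 5, 4, 5, 4], 46, 2, (fun _ v => v), (fun off v => (stp4 off (stp5 off (stp4 off (stp5 off (stp4 off (stp5 off (stp7 off (stp2 off (stp4 off (stp5 off v))))))))))), (fun v _ _ => v), fun _ _ => rfl, fun _ _ => rfl⟩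
def lf8_298 : Leaf (walkS st) := ⟨[], [3, 4, 3, 4, 3, 4, 8], 13, 5, (fun _ v => v), (fun off v => (stp8 off (stp4 off (stp3 off (stp4 off (stp3 off (stp4 off (stp3 off v)))))))), (fun v _ _ => v), fun _ _ => rfl, fun _ _ => rfl⟩
def lf8_299 : Leaf (walkS st) := ⟨[], [4, 5, 4, 5, 4, 5, 4, 5, 4, 5, 4, 5, 4, 5, 4, 5], 17, 9, (fun _ v => v), (fun off v => (stp5 off (stp4 off (stp5 off (stp4 off (stp5 off (stp4 off (stp5 off (stp4 off (stp5 off (stp4 off (stp5 off (stp4 off (stp5 off (stp4 off (stp5 off (stp4 off v))))))))))))))))), (fun v _ _ => v), fun _ _ => rfl, fun _ _ => rfl⟩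
def lf8_300 : Leaf (walkS st) := ⟨[], [4, 0, 5, 1, 4, 1, 4, 5, 4, 0, 8], 26, 3, (fun _ v => v), (fun off v => (stp8 off (stp0 off (stp4 off (stp5 off (stp4 off (stp1 off (stp4 off (stp1 off (stp5 off (stp0 off (stp4 off v)))))))))))), (fun v _ _ => v), fun _ _ => rfl, fun _ _ => rfl⟩
def lf8_301 : Leaf (walkS st) := ⟨[], [3, 1, 3, 4, 1, 4, 3, 1, 4, 1, 4, 8], 28, 8, (fun _ v => v), (fun off v => (stp8 off (stp4 off (stp1 off (stp4 off (stp1 off (stp3 off (stp4 off (stp1 off (stp4 off (stp3 off (stp1 off (stp3 off v))))))))))))), (fun v _ _ => v), fun _ _ => rfl, fun _ _ => rfl⟩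
def lf8_302 : Leaf (walkS st) := ⟨[], [5, 6, 0, 6, 5, 0, 5, 0, 6, 5, 0, 8], 51, 7, (fun _ v => v), (fun off v => (stp8 off (stp0 off (stp5 off (stp6 off (stp0 off (stp5 off (stp0 off (stp5 off (stp6 off (stp0 off (stp6 off (stp5 off v))))))))))))), (fun v _ _ => v), fun _ _ => rfl, fun _ _ => rfl⟩
def lf8_303 : Leaf (walkS st) := ⟨[], [3, 4, 1, 4, 3, 1, 4, 1, 4, 3, 1, 8], 28, 6, (fun _ v => v), (fun off v => (stp8 off (stp1 off (stp3 off (stp4 off (stp1 off (stp4 off (stp1 off (stp3 off (stp4 off (stp1 off (stp4 off (stp3 off v))))))))))))), (fun v _ _ => v), fun _ _ => rfl, fun _ _ => rfl⟩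
def lf8_304 : Leaf (walkS st) := ⟨[8, 7, 8, 8], [7], 7, 0, (fun off v => (stp8 off (stp8 off (stp7 off (stp8 off v))))), (fun off v => (stp7 off v)), (fun _ _ p => p), fun _ _ => rfl, fun _ _ => rfl⟩
def lf8_305 : Leaf (walkS st) := ⟨[], [4, 3, 1, 5, 4, 3, 1, 5, 4, 3, 1, 5, 4, 3, 1, 5, 4, 3, 1, 5], 27, 2, (fun _ v => v), (fun off v => (stp5 off (stp1 off (stp3 off (stp4 off (stp5 off (stp1 off (stp3 off (stp4 off (stp5 off (stp1 off (stp3 off (stp4 off (stp5 off (stp1 off (stp3 off (stp4 off (stp5 off (stp1 off (stp3 off (stp4 off v))))))))))))))))))))), (fun v _ _ => v), fun _ _ => rfl, fun _ _ => rfl⟩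
def lf8_306 : Leaf (walkS st) := ⟨[8, 3, 8], [3, 8], 3, 0, (fun off v => (stp8 off (stp3 off (stp8 off v)))), (fun off v => (stp8 off (stp3 off v))), (fun _ _ p => p), fun _ _ => rfl, fun _ _ => rfl⟩
def lf8_307 : Leaf (walkS st) := ⟨[8, 6, 8, 8], [6], 6, 0, (fun off v => (stp8 off (stp8 off (stp6 off (stp8 off v))))), (fun off v => (stp6 off v)), (fun _ _ p => p), fun _ _ => rfl, fun _ _ => rfl⟩
def lf8_308 : Leaf (walkS st) := ⟨[], [3, 4, 0, 4, 0, 3, 4, 0, 4, 3, 0, 8], 50, 4, (fun _ v => v), (fun off v => (stp8 off (stp0 off (stp3 off (stp4 off (stp0 off (stp4 off (stp3 off (stp0 off (stp4 off (stp0 off (stp4 off (stp3 off v))))))))))))), (fun v _ _ => v), fun _ _ => rfl, fun _ _ => rfl⟩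
def lf8_309 : Leaf (walkS st) := ⟨[], [4, 6, 4, 6, 8], 40, 2, (fun _ v => v), (fun off v => (stp8 off (stp6 off (stp4 off (stp6 off (stp4 off v)))))), (fun v _ _ => v), fun _ _ => rfl, fun _ _ => rfl⟩
def lf8_310 : Leaf (walkS st) := ⟨[], [5, 0, 4, 1, 5, 1, 5, 4, 5, 0, 8], 25, 3, (fun _ v => v), (fun off v => (stp8 off (stp0 off (stp5 off (stp4 off (stp5 off (stp1 off (stp5 off (stp1 off (stp4 off (stp0 off (stp5 off v)))))))))))), (fun v _ _ => v), fun _ _ => rfl, fun _ _ => rfl⟩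
def lf8_311 : Leaf (walkS st) := ⟨[], [6, 1, 5, 1, 5, 6, 1, 6, 5, 1, 5, 8], 29, 2, (fun _ v => v), (fun off v => (stp8 off (stp5 off (stp1 off (stp5 off (stp6 off (stp1 off (stp6 off (stp5 off (stp1 off (stp5 off (stp1 off (stp6 off v))))))))))))), (fun v _ _ => v), fun _ _ => rfl, fun _ _ => rfl⟩
def lf8_312 : Leaf (walkS st) := ⟨[], [4, 5, 4, 5, 4, 5, 7, 2, 4, 5], 24, 8, (fun _ v => v), (fun off v => (stp5 off (stp4 off (stp2 off (stp7 off (stp5 off (stp4 off (stp5 off (stp4 off (stp5 off (stp4 off v))))))))))), (fun v _ _ => v), fun _ _ => rfl, fun _ _ => rfl⟩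
def lf8_313 : Leaf (walkS st) := ⟨[7, 8, 8], [8, 7, 8], 7, 0, (fun off v => (stp8 off (stp8 off (stp7 off v)))), (fun off v => (stp8 off (stp7 off (stp8 off v)))), (fun _ _ p => p), fun _ _ => rfl, fun _ _ => rfl⟩
def lf8_314 : Leaf (walkS st) := ⟨[], [0, 6, 5, 0, 5, 6, 0, 6, 5, 0, 5, 8], 51, 0, (fun _ v => v), (fun off v => (stp8 off (stp5 off (stp0 off (stp5 off (stp6 off (stp0 off (stp6 off (stp5 off (stp0 off (stp5 off (stp6 off (stp0 off v))))))))))))), (fun v _ _ => v), fun _ _ => rfl, fun _ _ => rfl⟩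
def lf8_315 : Leaf (walkS st) := ⟨[], [5, 1, 4, 1, 4, 5, 4, 0, 4, 0, 8], 26, 1, (fun _ v => v), (fun off v => (stp8 off (stp0 off (stp4 off (stp0 off (stp4 off (stp5 off (stp4 off (stp1 off (stp4 off (stp1 off (stp5 off v)))))))))))), (fun v _ _ => v), fun _ _ => rfl, fun _ _ => rfl⟩
def lf8_316 : Leaf (walkS st) := ⟨[5, 8, 8], [8, 5], 5, 0, (fun off v => (stp8 off (stp8 off (stp5 off v)))), (fun off v => (stp5 off (stp8 off v))), (fun _ _ p => p), fun _ _ => rfl, fun _ _ => rfl⟩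
def lf8_317 : Leaf (walkS st) := ⟨[2], [8, 8, 2, 8], 2, 0, (fun off v => (stp2 off v)), (fun off v => (stp8 off (stp2 off (stp8 off (stp8 off v))))), (fun _ _ p => p), fun _ _ => rfl, fun _ _ => rfl⟩
def lf8_318 : Leaf (walkS st) := ⟨[8, 4, 8], [4, 8], 4, 0, (fun off v => (stp8 off (stp4 off (stp8 off v)))), (fun off v => (stp8 off (stp4 off v))), (fun _ _ p => p), fun _ _ => rfl, fun _ _ => rfl⟩
def lf8_319 : Leaf (walkS st) := ⟨[4, 8, 8], [8, 4], 4, 0, (fun off v => (stp8 off (stp8 off (stp4 off v)))), (fun off v => (stp4 off (stp8 off v))), (fun _ _ p => p), fun _ _ => rfl, fun _ _ => rfl⟩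
def lf8_320 : Leaf (walkS st) := ⟨[], [5, 4, 5, 4, 2, 7, 5, 4, 5, 4], 46, 4, (fun _ v => v), (fun off v => (stp4 off (stp5 off (stp4 off (stp5 off (stp7 off (stp2 off (stp4 off (stp5 off (stp4 off (stp5 off v))))))))))), (fun v _ _ => v), fun _ _ => rfl, fun _ _ => rfl⟩
def lf8_321 : Leaf (walkS st) := ⟨[], [4, 5, 4, 2, 7, 5, 4, 5, 4, 5], 46, 3, (fun _ v => v), (fun off v => (stp5 off (stp4 off (stp5 off (stp4 off (stp5 off (stp7 off (stp2 off (stp4 off (stp5 off (stp4 off v))))))))))), (fun v _ _ => v), fun _ _ => rfl, fun _ _ => rfl⟩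
def lf8_322 : Leaf (walkS st) := ⟨[], [3, 1, 4, 1, 4, 3, 1, 3, 4, 1, 4, 8], 28, 2, (fun _ v => v), (fun off v => (stp8 off (stp4 off (stp1 off (stp4 off (stp3 off (stp1 off (stp3 off (stp4 off (stp1 off (stp4 off (stp1 off (stp3 off v))))))))))))), (fun v _ _ => v), fun _ _ => rfl, fun _ _ => rfl⟩
def lf8_323 : Leaf (walkS st) := ⟨[], [3, 1, 5, 4, 3, 1, 5, 4, 3, 1, 5, 4, 3, 1, 5, 4, 3, 1, 5, 4], 27, 9, (fun _ v => v), (fun off v => (stp4 off (stp5 off (stp1 off (stp3 off (stp4 off (stp5 off (stp1 off (stp3 off (stp4 off (stp5 off (stp1 off (stp3 off (stp4 off (stp5 off (stp1 off (stp3 off (stp4 off (stp5 off (stp1 off (stp3 off v))))))))))))))))))))), (fun v _ _ => v), fun _ _ => rfl, fun _ _ => rfl⟩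
def lf8_324 : Leaf (walkS st) := ⟨[], [4, 5, 4, 5, 4, 2, 7, 5, 4, 5], 46, 5, (fun _ v => v), (fun off v => (stp5 off (stp4 off (stp5 off (stp7 off (stp2 off (stp4 off (stp5 off (stp4 off (stp5 off (stp4 off v))))))))))), (fun v _ _ => v), fun _ _ => rfl, fun _ _ => rfl⟩
def lf8_325 : Leaf (walkS st) := ⟨[], [6, 5, 0, 5, 6, 0, 6, 5, 0, 5, 0, 8], 51, 10, (fun _ v => v), (fun off v => (stp8 off (stp0 off (stp5 off (stp0 off (stp5 off (stp6 off (stp0 off (stp6 off (stp5 off (stp0 off (stp5 off (stp6 off v))))))))))))), (fun v _ _ => v), fun _ _ => rfl, fun _ _ => rfl⟩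
def lf8_326 : Leaf (walkS st) := ⟨[], [2, 7, 2, 7, 8], 12, 1, (fun _ v => v), (fun off v => (stp8 off (stp7 off (stp2 off (stp7 off (stp2 off v)))))), (fun v _ _ => v), fun _ _ => rfl, fun _ _ => rfl⟩
def lf8_327 : Leaf (walkS st) := ⟨[8, 5, 8], [5, 8], 5, 0, (fun off v => (stp8 off (stp5 off (stp8 off v)))), (fun off v => (stp8 off (stp5 off v))), (fun _ _ p => p), fun _ _ => rfl, fun _ _ => rfl⟩
def lf8_328 : Leaf (walkS st) := ⟨[], [5, 0, 5, 6, 0, 6, 5, 0, 5, 0, 6, 8], 51, 9, (fun _ v => v), (fun off v => (stp8 off (stp6 off (stp0 off (stp5 off (stp0 off (stp5 off (stp6 off (stp0 off (stp6 off (stp5 off (stp0 off (stp5 off v))))))))))))), (fun v _ _ => v), fun _ _ => rfl, fun _ _ => rfl⟩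
def lf8_329 : Leaf (walkS st) := ⟨[], [4, 0, 4, 0, 3, 4, 0, 4, 3, 0, 3, 8], 50, 3, (fun _ v => v), (fun off v => (stp8 off (stp3 off (stp0 off (stp3 off (stp4 off (stp0 off (stp4 off (stp3 off (stp0 off (stp4 off (stp0 off (stp4 off v))))))))))))), (fun v _ _ => v), fun _ _ => rfl, fun _ _ => rfl⟩
def lf8_330 : Leaf (walkS st) := ⟨[], [0, 0, 7, 2, 8, 8], 23, 0, (fun _ v => v), (fun off v => (stp8 off (stp8 off (stp2 off (stp7 off (stp0 off (stp0 off v))))))), (fun v _ _ => v), fun _ _ => rfl, fun _ _ => rfl⟩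
def lf8_331 : Leaf (walkS st) := ⟨[], [0, 3, 4, 5, 0, 3, 4, 5, 0, 3, 4, 5, 0, 3, 4, 5, 0, 3, 4, 5, 8], 49, 17, (fun _ v => v), (fun off v => (stp8 off (stp5 off (stp4 off (stp3 off (stp0 off (stp5 off (stp4 off (stp3 off (stp0 off (stp5 off (stp4 off (stp3 off (stp0 off (stp5 off (stp4 off (stp3 off (stp0 off (stp5 off (stp4 off (stp3 off (stp0 off v)))))))))))))))))))))), (fun v _ _ => v), fun _ _ => rfl, fun _ _ => rfl⟩
def lf8_332 : Leaf (walkS st) := ⟨[0, 8], [8, 8, 0, 8], 0, 0, (fun off v => (stp8 off (stp0 off v))), (fun off v => (stp8 off (stp0 off (stp8 off (stp8 off v))))), (fun _ _ p => p), fun _ _ => rfl, fun _ _ => rfl⟩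
def lf8_333 : Leaf (walkS st) := ⟨[2, 8, 8], [8, 2], 2, 0, (fun off v => (stp8 off (stp8 off (stp2 off v)))), (fun off v => (stp2 off (stp8 off v))), (fun _ _ p => p), fun _ _ => rfl, fun _ _ => rfl⟩
def lf8_334 : Leaf (walkS st) := ⟨[8, 8, 3], [3, 8, 8], 3, 0, (fun off v => (stp3 off (stp8 off (stp8 off v)))), (fun off v => (stp8 off (stp8 off (stp3 off v)))), (fun _ _ p => p), fun _ _ => rfl, fun _ _ => rfl⟩
def lf8_335 : Leaf (walkS st) := ⟨[2, 8, 8], [8, 2, 8], 2, 0, (fun off v => (stp8 off (stp8 off (stp2 off v)))), (fun off v => (stp8 off (stp2 off (stp8 off v)))), (fun _ _ p => p), fun _ _ => rfl, fun _ _ => rfl⟩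
def lf8_336 : Leaf (walkS st) := ⟨[8, 5, 8, 8], [5], 5, 0, (fun off v => (stp8 off (stp8 off (stp5 off (stp8 off v))))), (fun off v => (stp5 off v)), (fun _ _ p => p), fun _ _ => rfl, fun _ _ => rfl⟩
def lf8_337 : Leaf (walkS st) := ⟨[8, 8, 0], [0, 8, 8], 0, 0, (fun off v => (stp0 off (stp8 off (stp8 off v)))), (fun off v => (stp8 off (stp8 off (stp0 off v)))), (fun _ _ p => p), fun _ _ => rfl, fun _ _ => rfl⟩
def lf8_338 : Leaf (walkS st) := ⟨[], [4, 1, 4, 3, 1, 3, 4, 1, 4, 3, 1, 8], 28, 0, (fun _ v => v), (fun off v => (stp8 off (stp1 off (stp3 off (stp4 off (stp1 off (stp4 off (stp3 off (stp1 off (stp3 off (stp4 off (stp1 off (stp4 off v))))))))))))), (fun v _ _ => v), fun _ _ => rfl, fun _ _ => rfl⟩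
def lf8_339 : Leaf (walkS st) := ⟨[], [5, 4, 5, 4, 5, 4, 5, 4, 5, 4, 5, 4, 5, 4, 5, 4, 8], 17, 10, (fun _ v => v), (fun off v => (stp8 off (stp4 off (stp5 off (stp4 off (stp5 off (stp4 off (stp5 off (stp4 off (stp5 off (stp4 off (stp5 off (stp4 off (stp5 off (stp4 off (stp5 off (stp4 off (stp5 off v)))))))))))))))))), (fun v _ _ => v), fun _ _ => rfl, fun _ _ => rfl⟩
def lf8_340 : Leaf (walkS st) := ⟨[], [5, 4, 5, 4, 5, 4, 5, 7, 2, 4], 24, 9, (fun _ v => v), (fun off v => (stp4 off (stp2 off (stp7 off (stp5 off (stp4 off (stp5 off (stp4 off (stp5 off (stp4 off (stp5 off v))))))))))), (fun v _ _ => v), fun _ _ => rfl, fun _ _ => rfl⟩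
def lf8_341 : Leaf (walkS st) := ⟨[], [4, 0, 3, 4, 0, 4, 3, 0, 3, 4, 0, 8], 50, 1, (fun _ v => v), (fun off v => (stp8 off (stp0 off (stp4 off (stp3 off (stp0 off (stp3 off (stp4 off (stp0 off (stp4 off (stp3 off (stp0 off (stp4 off v))))))))))))), (fun v _ _ => v), fun _ _ => rfl, fun _ _ => rfl⟩
def lf8_342 : Leaf (walkS st) := ⟨[], [4, 3, 4, 3, 4, 3, 8], 13, 4, (fun _ v => v), (fun off v => (stp8 off (stp3 off (stp4 off (stp3 off (stp4 off (stp3 off (stp4 off v)))))))), (fun v _ _ => v), fun _ _ => rfl, fun _ _ => rfl⟩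
def lf8_343 : Leaf (walkS st) := ⟨[8, 8, 4], [4, 8, 8], 4, 0, (fun off v => (stp4 off (stp8 off (stp8 off v)))), (fun off v => (stp8 off (stp8 off (stp4 off v)))), (fun _ _ p => p), fun _ _ => rfl, fun _ _ => rfl⟩
def lf8_344 : Leaf (walkS st) := ⟨[], [4, 3, 0, 3, 4, 0, 4, 0, 3, 4, 0, 8], 50, 7, (fun _ v => v), (fun off v => (stp8 off (stp0 off (stp4 off (stp3 off (stp0 off (stp4 off (stp0 off (stp4 off (stp3 off (stp0 off (stp3 off (stp4 off v))))))))))))), (fun v _ _ => v), fun _ _ => rfl, fun _ _ => rfl⟩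
def lf8_345 : Leaf (walkS st) := ⟨[], [4, 3, 1, 4, 1, 4, 3, 1, 3, 4, 1, 8], 28, 3, (fun _ v => v), (fun off v => (stp8 off (stp1 off (stp4 off (stp3 off (stp1 off (stp3 off (stp4 off (stp1 off (stp4 off (stp1 off (stp3 off (stp4 off v))))))))))))), (fun v _ _ => v), fun _ _ => rfl, fun _ _ => rfl⟩
def lf8_346 : Leaf (walkS st) := ⟨[], [2, 0, 0, 7, 8], 23, 1, (fun _ v => v), (fun off v => (stp8 off (stp7 off (stp0 off (stp0 off (stp2 off v)))))), (fun v _ _ => v), fun _ _ => rfl, fun _ _ => rfl⟩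
def lf8_347 : Leaf (walkS st) := ⟨[7, 8], [8, 7, 8, 8], 7, 0, (fun off v => (stp8 off (stp7 off v))), (fun off v => (stp8 off (stp8 off (stp7 off (stp8 off v))))), (fun _ _ p => p), fun _ _ => rfl, fun _ _ => rfl⟩
def lf8_348 : Leaf (walkS st) := ⟨[], [4, 5, 0, 5, 0, 4, 1, 5, 1, 5, 8], 25, 6, (fun _ v => v), (fun off v => (stp8 off (stp5 off (stp1 off (stp5 off (stp1 off (stp4 off (stp0 off (stp5 off (stp0 off (stp5 off (stp4 off v)))))))))))), (fun v _ _ => v), fun _ _ => rfl, fun _ _ => rfl⟩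
def lf8_349 : Leaf (walkS st) := ⟨[], [6, 2, 6, 2, 8, 8], 11, 2, (fun _ v => v), (fun off v => (stp8 off (stp8 off (stp2 off (stp6 off (stp2 off (stp6 off v))))))), (fun v _ _ => v), fun _ _ => rfl, fun _ _ => rfl⟩
def lf8_350 : Leaf (walkS st) := ⟨[4], [8, 8, 4, 8], 4, 0, (fun off v => (stp4 off v)), (fun off v => (stp8 off (stp4 off (stp8 off (stp8 off v))))), (fun _ _ p => p), fun _ _ => rfl, fun _ _ => rfl⟩
def lf8_351 : Leaf (walkS st) := ⟨[1], [8, 8, 1, 8], 1, 0, (fun off v => (stp1 off v)), (fun off v => (stp8 off (stp1 off (stp8 off (stp8 off v))))), (fun _ _ p => p), fun _ _ => rfl, fun _ _ => rfl⟩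
def lf8_352 : Leaf (walkS st) := ⟨[8, 8, 7, 8], [7, 8], 7, 0, (fun off v => (stp8 off (stp7 off (stp8 off (stp8 off v))))), (fun off v => (stp8 off (stp7 off v))), (fun _ _ p => p), fun _ _ => rfl, fun _ _ => rfl⟩
def lf8_353 : Leaf (walkS st) := ⟨[2, 8], [8, 8, 8, 2], 2, 0, (fun off v => (stp8 off (stp2 off v))), (fun off v => (stp2 off (stp8 off (stp8 off (stp8 off v))))), (fun _ _ p => p), fun _ _ => rfl, fun _ _ => rfl⟩
def lf8_354 : Leaf (walkS st) := ⟨[8, 8, 1, 8], [1, 8], 1, 0, (fun off v => (stp8 off (stp1 off (stp8 off (stp8 off v))))), (fun off v => (stp8 off (stp1 off v))), (fun _ _ p => p), fun _ _ => rfl, fun _ _ => rfl⟩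
def lf8_355 : Leaf (walkS st) := ⟨[8, 1, 8, 8], [1], 1, 0, (fun off v => (stp8 off (stp8 off (stp1 off (stp8 off v))))), (fun off v => (stp1 off v)), (fun _ _ p => p), fun _ _ => rfl, fun _ _ => rfl⟩
def lf8_356 : Leaf (walkS st) := ⟨[8, 8, 7], [7, 8, 8], 7, 0, (fun off v => (stp7 off (stp8 off (stp8 off v)))), (fun off v => (stp8 off (stp8 off (stp7 off v)))), (fun _ _ p => p), fun _ _ => rfl, fun _ _ => rfl⟩
def lf8_357 : Leaf (walkS st) := ⟨[], [5, 1, 5, 6, 1, 6, 5, 1, 5, 6, 1, 8], 29, 0, (fun _ v => v), (fun off v => (stp8 off (stp1 off (stp6 off (stp5 off (stp1 off (stp5 off (stp6 off (stp1 off (stp6 off (stp5 off (stp1 off (stp5 off v))))))))))))), (fun v _ _ => v), fun _ _ => rfl, fun _ _ => rfl⟩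
def lf8_358 : Leaf (walkS st) := ⟨[], [0, 4, 1, 5, 1, 5, 4, 5, 0, 5, 8], 25, 2, (fun _ v => v), (fun off v => (stp8 off (stp5 off (stp0 off (stp5 off (stp4 off (stp5 off (stp1 off (stp5 off (stp1 off (stp4 off (stp0 off v)))))))))))), (fun v _ _ => v), fun _ _ => rfl, fun _ _ => rfl⟩
def lf8_359 : Leaf (walkS st) := ⟨[], [4, 5, 4, 0, 4, 0, 5, 1, 4, 1, 8], 48, 6, (fun _ v => v), (fun off v => (stp8 off (stp1 off (stp4 off (stp1 off (stp5 off (stp0 off (stp4 off (stp0 off (stp4 off (stp5 off (stp4 off v)))))))))))), (fun v _ _ => v), fun _ _ => rfl, fun _ _ => rfl⟩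
def lf8_360 : Leaf (walkS st) := ⟨[], [5, 4, 3, 1, 5, 4, 3, 1, 5, 4, 3, 1, 5, 4, 3, 1, 5, 4, 3, 1, 8], 27, 7, (fun _ v => v), (fun off v => (stp8 off (stp1 off (stp3 off (stp4 off (stp5 off (stp1 off (stp3 off (stp4 off (stp5 off (stp1 off (stp3 off (stp4 off (stp5 off (stp1 off (stp3 off (stp4 off (stp5 off (stp1 off (stp3 off (stp4 off (stp5 off v)))))))))))))))))))))), (fun v _ _ => v), fun _ _ => rfl, fun _ _ => rfl⟩
def lf8_361 : Leaf (walkS st) := ⟨[], [5, 0, 5, 0, 6, 5, 0, 5, 6, 0, 6, 8], 51, 3, (fun _ v => v), (fun off v => (stp8 off (stp6 off (stp0 off (stp6 off (stp5 off (stp0 off (stp5 off (stp6 off (stp0 off (stp5 off (stp0 off (stp5 off v))))))))))))), (fun v _ _ => v), fun _ _ => rfl, fun _ _ => rfl⟩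
def lf8_362 : Leaf (walkS st) := ⟨[], [0, 5, 1, 4, 1, 4, 5, 4, 0, 4, 8], 26, 2, (fun _ v => v), (fun off v => (stp8 off (stp4 off (stp0 off (stp4 off (stp5 off (stp4 off (stp1 off (stp4 off (stp1 off (stp5 off (stp0 off v)))))))))))), (fun v _ _ => v), fun _ _ => rfl, fun _ _ => rfl⟩
def lf8_363 : Leaf (walkS st) := ⟨[], [1, 3, 4, 1, 4, 3, 1, 4, 1, 4, 3, 8, 8], 28, 7, (fun _ v => v), (fun off v => (stp8 off (stp8 off (stp3 off (stp4 off (stp1 off (stp4 off (stp1 off (stp3 off (stp4 off (stp1 off (stp4 off (stp3 off (stp1 off v)))))))))))))), (fun v _ _ => v), fun _ _ => rfl, fun _ _ => rfl⟩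
def lf8_364 : Leaf (walkS st) := ⟨[8, 8, 5], [5, 8, 8], 5, 0, (fun off v => (stp5 off (stp8 off (stp8 off v)))), (fun off v => (stp8 off (stp8 off (stp5 off v)))), (fun _ _ p => p), fun _ _ => rfl, fun _ _ => rfl⟩
def lf8_365 : Leaf (walkS st) := ⟨[2], [8, 2, 8, 8, 8], 2, 0, (fun off v => (stp2 off v)), (fun off v => (stp8 off (stp8 off (stp8 off (stp2 off (stp8 off v)))))), (fun _ _ p => p), fun _ _ => rfl, fun _ _ => rfl⟩
def lf8_366 : Leaf (walkS st) := ⟨[8, 8, 0, 8], [0, 8], 0, 0, (fun off v => (stp8 off (stp0 off (stp8 off (stp8 off v))))), (fun off v => (stp8 off (stp0 off v))), (fun _ _ p => p), fun _ _ => rfl, fun _ _ => rfl⟩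
def lf8_367 : Leaf (walkS st) := ⟨[0, 8, 8], [8, 8, 0, 8], 0, 0, (fun off v => (stp8 off (stp8 off (stp0 off v)))), (fun off v => (stp8 off (stp0 off (stp8 off (stp8 off v))))), (fun _ _ p => p), fun _ _ => rfl, fun _ _ => rfl⟩
def lf8_368 : Leaf (walkS st) := ⟨[4], [8, 8, 8, 4], 4, 0, (fun off v => (stp4 off v)), (fun off v => (stp4 off (stp8 off (stp8 off (stp8 off v))))), (fun _ _ p => p), fun _ _ => rfl, fun _ _ => rfl⟩
def lf8_369 : Leaf (walkS st) := ⟨[1, 8, 8], [8, 1, 8], 1, 0, (fun off v => (stp8 off (stp8 off (stp1 off v)))), (fun off v => (stp8 off (stp1 off (stp8 off v)))), (fun _ _ p => p), fun _ _ => rfl, fun _ _ => rfl⟩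
def lf8_370 : Leaf (walkS st) := ⟨[8, 8, 2], [2, 8, 8], 2, 0, (fun off v => (stp2 off (stp8 off (stp8 off v)))), (fun off v => (stp8 off (stp8 off (stp2 off v)))), (fun _ _ p => p), fun _ _ => rfl, fun _ _ => rfl⟩
def lf8_371 : Leaf (walkS st) := ⟨[1, 8], [8, 1, 8, 8], 1, 0, (fun off v => (stp8 off (stp1 off v))), (fun off v => (stp8 off (stp8 off (stp1 off (stp8 off v))))), (fun _ _ p => p), fun _ _ => rfl, fun _ _ => rfl⟩
def lf8_372 : Leaf (walkS st) := ⟨[8, 8, 7, 8], [7], 7, 0, (fun off v => (stp8 off (stp7 off (stp8 off (stp8 off v))))), (fun off v => (stp7 off v)), (fun _ _ p => p), fun _ _ => rfl, fun _ _ => rfl⟩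
def lf8_373 : Leaf (walkS st) := ⟨[3], [8, 8, 3, 8], 3, 0, (fun off v => (stp3 off v)), (fun off v => (stp8 off (stp3 off (stp8 off (stp8 off v))))), (fun _ _ p => p), fun _ _ => rfl, fun _ _ => rfl⟩
def lf8_374 : Leaf (walkS st) := ⟨[8, 2], [2, 8, 8, 8], 2, 0, (fun off v => (stp2 off (stp8 off v))), (fun off v => (stp8 off (stp8 off (stp8 off (stp2 off v))))), (fun _ _ p => p), fun _ _ => rfl, fun _ _ => rfl⟩
def lf8_375 : Leaf (walkS st) := ⟨[8, 2, 8, 8], [2], 2, 0, (fun off v => (stp8 off (stp8 off (stp2 off (stp8 off v))))), (fun off v => (stp2 off v)), (fun _ _ p => p), fun _ _ => rfl, fun _ _ => rfl⟩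
def lf8_376 : Leaf (walkS st) := ⟨[8, 8, 8, 0], [0, 8], 0, 0, (fun off v => (stp0 off (stp8 off (stp8 off (stp8 off v))))), (fun off v => (stp8 off (stp0 off v))), (fun _ _ p => p), fun _ _ => rfl, fun _ _ => rfl⟩
def lf8_377 : Leaf (walkS st) := ⟨[8, 0, 8, 8], [0], 0, 0, (fun off v => (stp8 off (stp8 off (stp0 off (stp8 off v))))), (fun off v => (stp0 off v)), (fun _ _ p => p), fun _ _ => rfl, fun _ _ => rfl⟩
def lf8_378 : Leaf (walkS st) := ⟨[], [4, 0, 4, 0, 5, 1, 4, 1, 4, 5, 8], 26, 5, (fun _ v => v), (fun off v => (stp8 off (stp5 off (stp4 off (stp1 off (stp4 off (stp1 off (stp5 off (stp0 off (stp4 off (stp0 off (stp4 off v)))))))))))), (fun v _ _ => v), fun _ _ => rfl, fun _ _ => rfl⟩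
def lf8_379 : Leaf (walkS st) := ⟨[], [5, 7, 5, 7, 8, 8], 21, 3, (fun _ v => v), (fun off v => (stp8 off (stp8 off (stp7 off (stp5 off (stp7 off (stp5 off v))))))), (fun v _ _ => v), fun _ _ => rfl, fun _ _ => rfl⟩
def lf8_380 : Leaf (walkS st) := ⟨[], [4, 5, 0, 3, 4, 5, 0, 3, 4, 5, 0, 3, 4, 5, 0, 3, 4, 5, 0, 3, 8], 49, 15, (fun _ v => v), (fun off v => (stp8 off (stp3 off (stp0 off (stp5 off (stp4 off (stp3 off (stp0 off (stp5 off (stp4 off (stp3 off (stp0 off (stp5 off (stp4 off (stp3 off (stp0 off (stp5 off (stp4 off (stp3 off (stp0 off (stp5 off (stp4 off v)))))))))))))))))))))), (fun v _ _ => v), fun _ _ => rfl, fun _ _ => rfl⟩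
def lf8_381 : Leaf (walkS st) := ⟨[], [2, 6, 2, 6, 8, 8], 11, 3, (fun _ v => v), (fun off v => (stp8 off (stp8 off (stp6 off (stp2 off (stp6 off (stp2 off v))))))), (fun v _ _ => v), fun _ _ => rfl, fun _ _ => rfl⟩
def lf8_382 : Leaf (walkS st) := ⟨[], [3, 7, 3, 7, 8, 8], 16, 1, (fun _ v => v), (fun off v => (stp8 off (stp8 off (stp7 off (stp3 off (stp7 off (stp3 off v))))))), (fun v _ _ => v), fun _ _ => rfl, fun _ _ => rfl⟩
def lf8_383 : Leaf (walkS st) := ⟨[], [5, 1, 5, 4, 5, 0, 5, 0, 4, 1, 8], 25, 9, (fun _ v => v), (fun off v => (stp8 off (stp1 off (stp4 off (stp0 off (stp5 off (stp0 off (stp5 off (stp4 off (stp5 off (stp1 off (stp5 off v)))))))))))), (fun v _ _ => v), fun _ _ => rfl, fun _ _ => rfl⟩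
def lf8_384 : Leaf (walkS st) := ⟨[], [4, 5, 4, 5, 4, 2, 7, 5, 4, 5, 8], 46, 5, (fun _ v => v), (fun off v => (stp8 off (stp5 off (stp4 off (stp5 off (stp7 off (stp2 off (stp4 off (stp5 off (stp4 off (stp5 off (stp4 off v)))))))))))), (fun v _ _ => v), fun _ _ => rfl, fun _ _ => rfl⟩
def lf8_385 : Leaf (walkS st) := ⟨[], [0, 5, 0, 4, 1, 5, 1, 5, 4, 5, 8, 8], 25, 4, (fun _ v => v), (fun off v => (stp8 off (stp8 off (stp5 off (stp4 off (stp5 off (stp1 off (stp5 off (stp1 off (stp4 off (stp0 off (stp5 off (stp0 off v))))))))))))), (fun v _ _ => v), fun _ _ => rfl, fun _ _ => rfl⟩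
def lf8_386 : Leaf (walkS st) := ⟨[], [3, 4, 0, 4, 3, 0, 3, 4, 0, 4, 0, 8], 50, 10, (fun _ v => v), (fun off v => (stp8 off (stp0 off (stp4 off (stp0 off (stp4 off (stp3 off (stp0 off (stp3 off (stp4 off (stp0 off (stp4 off (stp3 off v))))))))))))), (fun v _ _ => v), fun _ _ => rfl, fun _ _ => rfl⟩
def lf8_387 : Leaf (walkS st) := ⟨[], [4, 1, 4, 5, 4, 0, 4, 0, 5, 1, 8], 48, 8, (fun _ v => v), (fun off v => (stp8 off (stp1 off (stp5 off (stp0 off (stp4 off (stp0 off (stp4 off (stp5 off (stp4 off (stp1 off (stp4 off v)))))))))))), (fun v _ _ => v), fun _ _ => rfl, fun _ _ => rfl⟩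
def lf8_388 : Leaf (walkS st) := ⟨[], [4, 0, 4, 3, 0, 3, 4, 0, 4, 0, 3, 8], 50, 9, (fun _ v => v), (fun off v => (stp8 off (stp3 off (stp0 off (stp4 off (stp0 off (stp4 off (stp3 off (stp0 off (stp3 off (stp4 off (stp0 off (stp4 off v))))))))))))), (fun v _ _ => v), fun _ _ => rfl, fun _ _ => rfl⟩
def lf8_389 : Leaf (walkS st) := ⟨[], [4, 0, 5, 1, 4, 1, 4, 5, 4, 0, 8, 8], 48, 2, (fun _ v => v), (fun off v => (stp8 off (stp8 off (stp0 off (stp4 off (stp5 off (stp4 off (stp1 off (stp4 off (stp1 off (stp5 off (stp0 off (stp4 off v))))))))))))), (fun v _ _ => v), fun _ _ => rfl, fun _ _ => rfl⟩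
def lf8_390 : Leaf (walkS st) := ⟨[], [5, 4, 5, 0, 5, 0, 4, 1, 5, 1, 8], 25, 7, (fun _ v => v), (fun off v => (stp8 off (stp1 off (stp5 off (stp1 off (stp4 off (stp0 off (stp5 off (stp0 off (stp5 off (stp4 off (stp5 off v)))))))))))), (fun v _ _ => v), fun _ _ => rfl, fun _ _ => rfl⟩
def lf8_391 : Leaf (walkS st) := ⟨[], [2, 7, 5, 4, 5, 4, 5, 4, 5, 4, 8], 46, 0, (fun _ v => v), (fun off v => (stp8 off (stp4 off (stp5 off (stp4 off (stp5 off (stp4 off (stp5 off (stp4 off (stp5 off (stp7 off (stp2 off v)))))))))))), (fun v _ _ => v), fun _ _ => rfl, fun _ _ => rfl⟩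
def lf8_392 : Leaf (walkS st) := ⟨[8, 4], [4, 8, 8, 8], 4, 0, (fun off v => (stp4 off (stp8 off v))), (fun off v => (stp8 off (stp8 off (stp8 off (stp4 off v))))), (fun _ _ p => p), fun _ _ => rfl, fun _ _ => rfl⟩
def lf8_393 : Leaf (walkS st) := ⟨[], [4, 1, 4, 3, 1, 4, 1, 4, 3, 1, 3, 8], 28, 5, (fun _ v => v), (fun off v => (stp8 off (stp3 off (stp1 off (stp3 off (stp4 off (stp1 off (stp4 off (stp1 off (stp3 off (stp4 off (stp1 off (stp4 off v))))))))))))), (fun v _ _ => v), fun _ _ => rfl, fun _ _ => rfl⟩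
def lf8_394 : Leaf (walkS st) := ⟨[], [7, 3, 7, 3, 8, 8], 38, 1, (fun _ v => v), (fun off v => (stp8 off (stp8 off (stp3 off (stp7 off (stp3 off (stp7 off v))))))), (fun v _ _ => v), fun _ _ => rfl, fun _ _ => rfl⟩
def lf8_395 : Leaf (walkS st) := ⟨[8, 8, 1], [1, 8, 8], 1, 0, (fun off v => (stp1 off (stp8 off (stp8 off v)))), (fun off v => (stp8 off (stp8 off (stp1 off v)))), (fun _ _ p => p), fun _ _ => rfl, fun _ _ => rfl⟩
def lf8_396 : Leaf (walkS st) := ⟨[2, 8, 8], [8, 8, 2], 2, 0, (fun off v => (stp8 off (stp8 off (stp2 off v)))), (fun off v => (stp2 off (stp8 off (stp8 off v)))), (fun _ _ p => p), fun _ _ => rfl, fun _ _ => rfl⟩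
def lf8_397 : Leaf (walkS st) := ⟨[4, 8, 8], [8, 8, 4, 8], 4, 0, (fun off v => (stp8 off (stp8 off (stp4 off v)))), (fun off v => (stp8 off (stp4 off (stp8 off (stp8 off v))))), (fun _ _ p => p), fun _ _ => rfl, fun _ _ => rfl⟩
def lf8_398 : Leaf (walkS st) := ⟨[5], [8, 8, 5, 8, 8], 5, 0, (fun off v => (stp5 off v)), (fun off v => (stp8 off (stp8 off (stp5 off (stp8 off (stp8 off v)))))), (fun _ _ p => p), fun _ _ => rfl, fun _ _ => rfl⟩
def lf8_399 : Leaf (walkS st) := ⟨[5, 8], [8, 8, 5, 8], 5, 0, (fun off v => (stp8 off (stp5 off v))), (fun off v => (stp8 off (stp5 off (stp8 off (stp8 off v))))), (fun _ _ p => p), fun _ _ => rfl, fun _ _ => rfl⟩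
def lf8_400 : Leaf (walkS st) := ⟨[0], [8, 0, 8, 8, 8], 0, 0, (fun off v => (stp0 off v)), (fun off v => (stp8 off (stp8 off (stp8 off (stp0 off (stp8 off v)))))), (fun _ _ p => p), fun _ _ => rfl, fun _ _ => rfl⟩
def lf8_401 : Leaf (walkS st) := ⟨[0, 8, 8], [8, 8, 8, 0], 0, 0, (fun off v => (stp8 off (stp8 off (stp0 off v)))), (fun off v => (stp0 off (stp8 off (stp8 off (stp8 off v))))), (fun _ _ p => p), fun _ _ => rfl, fun _ _ => rfl⟩
def lf8_402 : Leaf (walkS st) := ⟨[1, 8], [8, 8, 8, 1], 1, 0, (fun off v => (stp8 off (stp1 off v))), (fun off v => (stp1 off (stp8 off (stp8 off (stp8 off v))))), (fun _ _ p => p), fun _ _ => rfl, fun _ _ => rfl⟩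
def lf8_403 : Leaf (walkS st) := ⟨[3, 8], [8, 8, 8, 3], 3, 0, (fun off v => (stp8 off (stp3 off v))), (fun off v => (stp3 off (stp8 off (stp8 off (stp8 off v))))), (fun _ _ p => p), fun _ _ => rfl, fun _ _ => rfl⟩
def lf8_404 : Leaf (walkS st) := ⟨[5, 8], [8, 8, 8, 5], 5, 0, (fun off v => (stp8 off (stp5 off v))), (fun off v => (stp5 off (stp8 off (stp8 off (stp8 off v))))), (fun _ _ p => p), fun _ _ => rfl, fun _ _ => rfl⟩
def lf8_405 : Leaf (walkS st) := ⟨[4], [8, 8, 4, 8, 8], 4, 0, (fun off v => (stp4 off v)), (fun off v => (stp8 off (stp8 off (stp4 off (stp8 off (stp8 off v)))))), (fun _ _ p => p), fun _ _ => rfl, fun _ _ => rfl⟩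
def lf8_406 : Leaf (walkS st) := ⟨[0, 8], [8, 0, 8, 8], 0, 0, (fun off v => (stp8 off (stp0 off v))), (fun off v => (stp8 off (stp8 off (stp0 off (stp8 off v))))), (fun _ _ p => p), fun _ _ => rfl, fun _ _ => rfl⟩
def lf8_407 : Leaf (walkS st) := ⟨[3, 8], [8, 8, 3, 8], 3, 0, (fun off v => (stp8 off (stp3 off v))), (fun off v => (stp8 off (stp3 off (stp8 off (stp8 off v))))), (fun _ _ p => p), fun _ _ => rfl, fun _ _ => rfl⟩
def lf8_408 : Leaf (walkS st) := ⟨[3, 8, 8, 8], [8, 3, 8], 3, 0, (fun off v => (stp8 off (stp8 off (stp8 off (stp3 off v))))), (fun off v => (stp8 off (stp3 off (stp8 off v)))), (fun _ _ p => p), fun _ _ => rfl, fun _ _ => rfl⟩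
def lf8_409 : Leaf (walkS st) := ⟨[5, 8], [8, 5, 8, 8], 5, 0, (fun off v => (stp8 off (stp5 off v))), (fun off v => (stp8 off (stp8 off (stp5 off (stp8 off v))))), (fun _ _ p => p), fun _ _ => rfl, fun _ _ => rfl⟩
def lf8_410 : Leaf (walkS st) := ⟨[3, 8, 8], [8, 3, 8], 3, 0, (fun off v => (stp8 off (stp8 off (stp3 off v)))), (fun off v => (stp8 off (stp3 off (stp8 off v)))), (fun _ _ p => p), fun _ _ => rfl, fun _ _ => rfl⟩
def lf8_411 : Leaf (walkS st) := ⟨[8, 8, 4, 8], [4], 4, 0, (fun off v => (stp8 off (stp4 off (stp8 off (stp8 off v))))), (fun off v => (stp4 off v)), (fun _ _ p => p), fun _ _ => rfl, fun _ _ => rfl⟩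
def lf8_412 : Leaf (walkS st) := ⟨[8, 8, 1, 8], [1], 1, 0, (fun off v => (stp8 off (stp1 off (stp8 off (stp8 off v))))), (fun off v => (stp1 off v)), (fun _ _ p => p), fun _ _ => rfl, fun _ _ => rfl⟩
def lf8_413 : Leaf (walkS st) := ⟨[8, 8, 0, 8], [0], 0, 0, (fun off v => (stp8 off (stp0 off (stp8 off (stp8 off v))))), (fun off v => (stp0 off v)), (fun _ _ p => p), fun _ _ => rfl, fun _ _ => rfl⟩
def lf8_414 : Leaf (walkS st) := ⟨[8, 5, 8, 8], [5, 8], 5, 0, (fun off v => (stp8 off (stp8 off (stp5 off (stp8 off v))))), (fun off v => (stp8 off (stp5 off v))), (fun _ _ p => p), fun _ _ => rfl, fun _ _ => rfl⟩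
def lf8_415 : Leaf (walkS st) := ⟨[8, 3, 8], [3, 8, 8], 3, 0, (fun off v => (stp8 off (stp3 off (stp8 off v)))), (fun off v => (stp8 off (stp8 off (stp3 off v)))), (fun _ _ p => p), fun _ _ => rfl, fun _ _ => rfl⟩
def lf8_416 : Leaf (walkS st) := ⟨[3], [8, 3, 8, 8, 8], 3, 0, (fun off v => (stp3 off v)), (fun off v => (stp8 off (stp8 off (stp8 off (stp3 off (stp8 off v)))))), (fun _ _ p => p), fun _ _ => rfl, fun _ _ => rfl⟩
def lf8_417 : Leaf (walkS st) := ⟨[8, 4, 8, 8], [4], 4, 0, (fun off v => (stp8 off (stp8 off (stp4 off (stp8 off v))))), (fun off v => (stp4 off v)), (fun _ _ p => p), fun _ _ => rfl, fun _ _ => rfl⟩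
def lf8_418 : Leaf (walkS st) := ⟨[5, 8], [8, 5, 8, 8, 8], 5, 0, (fun off v => (stp8 off (stp5 off v))), (fun off v => (stp8 off (stp8 off (stp8 off (stp5 off (stp8 off v)))))), (fun _ _ p => p), fun _ _ => rfl, fun _ _ => rfl⟩
def lf8_419 : Leaf (walkS st) := ⟨[1], [8, 1, 8, 8, 8], 1, 0, (fun off v => (stp1 off v)), (fun off v => (stp8 off (stp8 off (stp8 off (stp1 off (stp8 off v)))))), (fun _ _ p => p), fun _ _ => rfl, fun _ _ => rfl⟩
def lf8_420 : Leaf (walkS st) := ⟨[8, 8, 6, 8], [6], 6, 0, (fun off v => (stp8 off (stp6 off (stp8 off (stp8 off v))))), (fun off v => (stp6 off v)), (fun _ _ p => p), fun _ _ => rfl, fun _ _ => rfl⟩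
def lf8_421 : Leaf (walkS st) := ⟨[8, 8, 2, 8], [2], 2, 0, (fun off v => (stp8 off (stp2 off (stp8 off (stp8 off v))))), (fun off v => (stp2 off v)), (fun _ _ p => p), fun _ _ => rfl, fun _ _ => rfl⟩
def lf8_422 : Leaf (walkS st) := ⟨[8, 3], [3, 8, 8, 8], 3, 0, (fun off v => (stp3 off (stp8 off v))), (fun off v => (stp8 off (stp8 off (stp8 off (stp3 off v))))), (fun _ _ p => p), fun _ _ => rfl, fun _ _ => rfl⟩
def lf8_423 : Leaf (walkS st) := ⟨[7, 8, 8], [8, 7, 8, 8], 7, 0, (fun off v => (stp8 off (stp8 off (stp7 off v)))), (fun off v => (stp8 off (stp8 off (stp7 off (stp8 off v))))), (fun _ _ p => p), fun _ _ => rfl, fun _ _ => rfl⟩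
def lf8_424 : Leaf (walkS st) := ⟨[5, 8, 8], [8, 8, 5], 5, 0, (fun off v => (stp8 off (stp8 off (stp5 off v)))), (fun off v => (stp5 off (stp8 off (stp8 off v)))), (fun _ _ p => p), fun _ _ => rfl, fun _ _ => rfl⟩
def lf8_425 : Leaf (walkS st) := ⟨[0, 8, 8], [8, 8, 0], 0, 0, (fun off v => (stp8 off (stp8 off (stp0 off v)))), (fun off v => (stp0 off (stp8 off (stp8 off v)))), (fun _ _ p => p), fun _ _ => rfl, fun _ _ => rfl⟩
def lf8_426 : Leaf (walkS st) := ⟨[0, 8], [8, 8, 8, 0], 0, 0, (fun off v => (stp8 off (stp0 off v))), (fun off v => (stp0 off (stp8 off (stp8 off (stp8 off v))))), (fun _ _ p => p), fun _ _ => rfl, fun _ _ => rfl⟩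
def lf8_427 : Leaf (walkS st) := ⟨[2], [8, 8, 8, 2], 2, 0, (fun off v => (stp2 off v)), (fun off v => (stp2 off (stp8 off (stp8 off (stp8 off v))))), (fun _ _ p => p), fun _ _ => rfl, fun _ _ => rfl⟩
def lf8_428 : Leaf (walkS st) := ⟨[8, 8, 7, 8, 8], [7], 7, 0, (fun off v => (stp8 off (stp8 off (stp7 off (stp8 off (stp8 off v)))))), (fun off v => (stp7 off v)), (fun _ _ p => p), fun _ _ => rfl, fun _ _ => rfl⟩
def lf8_429 : Leaf (walkS st) := ⟨[8, 8, 7], [7, 8, 8, 8], 7, 0, (fun off v => (stp7 off (stp8 off (stp8 off v)))), (fun off v => (stp8 off (stp8 off (stp8 off (stp7 off v))))), (fun _ _ p => p), fun _ _ => rfl, fun _ _ => rfl⟩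
def lf8_430 : Leaf (walkS st) := ⟨[8, 8, 5, 8], [5, 8], 5, 0, (fun off v => (stp8 off (stp5 off (stp8 off (stp8 off v))))), (fun off v => (stp8 off (stp5 off v))), (fun _ _ p => p), fun _ _ => rfl, fun _ _ => rfl⟩
def lf8_431 : Leaf (walkS st) := ⟨[8, 0], [0, 8, 8, 8], 0, 0, (fun off v => (stp0 off (stp8 off v))), (fun off v => (stp8 off (stp8 off (stp8 off (stp0 off v))))), (fun _ _ p => p), fun _ _ => rfl, fun _ _ => rfl⟩
def lf8_432 : Leaf (walkS st) := ⟨[2, 8], [8, 2, 8, 8], 2, 0, (fun off v => (stp8 off (stp2 off v))), (fun off v => (stp8 off (stp8 off (stp2 off (stp8 off v))))), (fun _ _ p => p), fun _ _ => rfl, fun _ _ => rfl⟩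
def lf8_433 : Leaf (walkS st) := ⟨[8, 8, 8, 1], [1, 8, 8], 1, 0, (fun off v => (stp1 off (stp8 off (stp8 off (stp8 off v))))), (fun off v => (stp8 off (stp8 off (stp1 off v)))), (fun _ _ p => p), fun _ _ => rfl, fun _ _ => rfl⟩
def lf8_434 : Leaf (walkS st) := ⟨[8, 8, 6, 8], [6, 8, 8], 6, 0, (fun off v => (stp8 off (stp6 off (stp8 off (stp8 off v))))), (fun off v => (stp8 off (stp8 off (stp6 off v)))), (fun _ _ p => p), fun _ _ => rfl, fun _ _ => rfl⟩
def lf8_435 : Leaf (walkS st) := ⟨[8, 6, 8], [6, 8], 6, 0, (fun off v => (stp8 off (stp6 off (stp8 off v)))), (fun off v => (stp8 off (stp6 off v))), (fun _ _ p => p), fun _ _ => rfl, fun _ _ => rfl⟩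
def lf8_436 : Leaf (walkS st) := ⟨[5, 8, 8], [8, 5, 8], 5, 0, (fun off v => (stp8 off (stp8 off (stp5 off v)))), (fun off v => (stp8 off (stp5 off (stp8 off v)))), (fun _ _ p => p), fun _ _ => rfl, fun _ _ => rfl⟩
def lf8_437 : Leaf (walkS st) := ⟨[6, 8, 8, 8], [8, 6], 6, 0, (fun off v => (stp8 off (stp8 off (stp8 off (stp6 off v))))), (fun off v => (stp6 off (stp8 off v))), (fun _ _ p => p), fun _ _ => rfl, fun _ _ => rfl⟩
def lf8_438 : Leaf (walkS st) := ⟨[4, 8, 8], [8, 8, 4], 4, 0, (fun off v => (stp8 off (stp8 off (stp4 off v)))), (fun off v => (stp4 off (stp8 off (stp8 off v)))), (fun _ _ p => p), fun _ _ => rfl, fun _ _ => rfl⟩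
def lf8_439 : Leaf (walkS st) := ⟨[8, 8, 8, 1], [1, 8], 1, 0, (fun off v => (stp1 off (stp8 off (stp8 off (stp8 off v))))), (fun off v => (stp8 off (stp1 off v))), (fun _ _ p => p), fun _ _ => rfl, fun _ _ => rfl⟩
def lf8_440 : Leaf (walkS st) := ⟨[8, 8, 8, 2], [2], 2, 0, (fun off v => (stp2 off (stp8 off (stp8 off (stp8 off v))))), (fun off v => (stp2 off v)), (fun _ _ p => p), fun _ _ => rfl, fun _ _ => rfl⟩
def lf8_441 : Leaf (walkS st) := ⟨[8, 8, 8, 5], [5], 5, 0, (fun off v => (stp5 off (stp8 off (stp8 off (stp8 off v))))), (fun off v => (stp5 off v)), (fun _ _ p => p), fun _ _ => rfl, fun _ _ => rfl⟩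
def lf8_442 : Leaf (walkS st) := ⟨[], [0, 6, 5, 0, 5, 6, 0, 6, 5, 0, 5, 8, 8], 51, 0, (fun _ v => v), (fun off v => (stp8 off (stp8 off (stp5 off (stp0 off (stp5 off (stp6 off (stp0 off (stp6 off (stp5 off (stp0 off (stp5 off (stp6 off (stp0 off v)))))))))))))), (fun v _ _ => v), fun _ _ => rfl, fun _ _ => rfl⟩
def lf8_443 : Leaf (walkS st) := ⟨[], [0, 7, 2, 0, 8, 8], 23, 3, (fun _ v => v), (fun off v => (stp8 off (stp8 off (stp0 off (stp2 off (stp7 off (stp0 off v))))))), (fun v _ _ => v), fun _ _ => rfl, fun _ _ => rfl⟩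
def lf8_444 : Leaf (walkS st) := ⟨[], [4, 5, 4, 5, 4, 5, 4, 5, 4, 5, 4, 5, 4, 5, 4, 5, 8], 39, 8, (fun _ v => v), (fun off v => (stp8 off (stp5 off (stp4 off (stp5 off (stp4 off (stp5 off (stp4 off (stp5 off (stp4 off (stp5 off (stp4 off (stp5 off (stp4 off (stp5 off (stp4 off (stp5 off (stp4 off v)))))))))))))))))), (fun v _ _ => v), fun _ _ => rfl, fun _ _ => rfl⟩
def lf8_445 : Leaf (walkS st) := ⟨[], [4, 5, 4, 5, 4, 5, 4, 5, 7, 2, 8], 24, 0, (fun _ v => v), (fun off v => (stp8 off (stp2 off (stp7 off (stp5 off (stp4 off (stp5 off (stp4 off (stp5 off (stp4 off (stp5 off (stp4 off v)))))))))))), (fun v _ _ => v), fun _ _ => rfl, fun _ _ => rfl⟩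
def lf8_446 : Leaf (walkS st) := ⟨[], [0, 3, 4, 5, 0, 3, 4, 5, 0, 3, 4, 5, 0, 3, 4, 5, 0, 3, 4, 5, 8, 8], 49, 5, (fun _ v => v), (fun off v => (stp8 off (stp8 off (stp5 off (stp4 off (stp3 off (stp0 off (stp5 off (stp4 off (stp3 off (stp0 off (stp5 off (stp4 off (stp3 off (stp0 off (stp5 off (stp4 off (stp3 off (stp0 off (stp5 off (stp4 off (stp3 off (stp0 off v))))))))))))))))))))))), (fun v _ _ => v), fun _ _ => rfl, fun _ _ => rfl⟩
def lf8_447 : Leaf (walkS st) := ⟨[], [6, 5, 1, 5, 6, 1, 5, 1, 5, 6, 1, 8, 8], 29, 6, (fun _ v => v), (fun off v => (stp8 off (stp8 off (stp1 off (stp6 off (stp5 off (stp1 off (stp5 off (stp1 off (stp6 off (stp5 off (stp1 off (stp5 off (stp6 off v)))))))))))))), (fun v _ _ => v), fun _ _ => rfl, fun _ _ => rfl⟩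
def lf8_448 : Leaf (walkS st) := ⟨[], [2, 4, 5, 4, 5, 4, 5, 4, 5, 7], 24, 1, (fun _ v => v), (fun off v => (stp7 off (stp5 off (stp4 off (stp5 off (stp4 off (stp5 off (stp4 off (stp5 off (stp4 off (stp2 off v))))))))))), (fun v _ _ => v), fun _ _ => rfl, fun _ _ => rfl⟩
def lf8_449 : Leaf (walkS st) := ⟨[], [5, 7, 2, 4, 5, 4, 5, 4, 5, 4, 8], 24, 3, (fun _ v => v), (fun off v => (stp8 off (stp4 off (stp5 off (stp4 off (stp5 off (stp4 off (stp5 off (stp4 off (stp2 off (stp7 off (stp5 off v)))))))))))), (fun v _ _ => v), fun _ _ => rfl, fun _ _ => rfl⟩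
def lf8_450 : Leaf (walkS st) := ⟨[], [5, 1, 5, 6, 1, 5, 1, 5, 6, 1, 6, 8], 29, 5, (fun _ v => v), (fun off v => (stp8 off (stp6 off (stp1 off (stp6 off (stp5 off (stp1 off (stp5 off (stp1 off (stp6 off (stp5 off (stp1 off (stp5 off v))))))))))))), (fun v _ _ => v), fun _ _ => rfl, fun _ _ => rfl⟩
def lf8_451 : Leaf (walkS st) := ⟨[], [5, 3, 5, 3, 8, 8], 36, 1, (fun _ v => v), (fun off v => (stp8 off (stp8 off (stp3 off (stp5 off (stp3 off (stp5 off v))))))), (fun v _ _ => v), fun _ _ => rfl, fun _ _ => rfl⟩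
def lf8_452 : Leaf (walkS st) := ⟨[], [4, 2, 7, 5, 4, 5, 4, 5, 4, 5, 8], 46, 1, (fun _ v => v), (fun off v => (stp8 off (stp5 off (stp4 off (stp5 off (stp4 off (stp5 off (stp4 off (stp5 off (stp7 off (stp2 off (stp4 off v)))))))))))), (fun v _ _ => v), fun _ _ => rfl, fun _ _ => rfl⟩
def lf8_453 : Leaf (walkS st) := ⟨[], [2, 3, 2, 3, 2, 3, 8, 8], 30, 4, (fun _ v => v), (fun off v => (stp8 off (stp8 off (stp3 off (stp2 off (stp3 off (stp2 off (stp3 off (stp2 off v))))))))), (fun v _ _ => v), fun _ _ => rfl, fun _ _ => rfl⟩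
def lf8_454 : Leaf (walkS st) := ⟨[], [0, 4, 0, 3, 4, 0, 4, 3, 0, 3, 4, 8, 8], 50, 2, (fun _ v => v), (fun off v => (stp8 off (stp8 off (stp4 off (stp3 off (stp0 off (stp3 off (stp4 off (stp0 off (stp4 off (stp3 off (stp0 off (stp4 off (stp0 off v)))))))))))))), (fun v _ _ => v), fun _ _ => rfl, fun _ _ => rfl⟩
def lf8_455 : Leaf (walkS st) := ⟨[], [4, 5, 7, 2, 4, 5, 4, 5, 4, 5, 8], 24, 4, (fun _ v => v), (fun off v => (stp8 off (stp5 off (stp4 off (stp5 off (stp4 off (stp5 off (stp4 off (stp2 off (stp7 off (stp5 off (stp4 off v)))))))))))), (fun v _ _ => v), fun _ _ => rfl, fun _ _ => rfl⟩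
def lf8_456 : Leaf (walkS st) := ⟨[], [3, 4, 0, 4, 0, 3, 4, 0, 4, 3, 0, 8, 8], 50, 4, (fun _ v => v), (fun off v => (stp8 off (stp8 off (stp0 off (stp3 off (stp4 off (stp0 off (stp4 off (stp3 off (stp0 off (stp4 off (stp0 off (stp4 off (stp3 off v)))))))))))))), (fun v _ _ => v), fun _ _ => rfl, fun _ _ => rfl⟩
def lf8_457 : Leaf (walkS st) := ⟨[], [3, 1, 5, 4, 3, 1, 5, 4, 3, 1, 5, 4, 3, 1, 5, 4, 3, 1, 5, 4, 8], 27, 17, (fun _ v => v), (fun off v => (stp8 off (stp4 off (stp5 off (stp1 off (stp3 off (stp4 off (stp5 off (stp1 off (stp3 off (stp4 off (stp5 off (stp1 off (stp3 off (stp4 off (stp5 off (stp1 off (stp3 off (stp4 off (stp5 off (stp1 off (stp3 off v)))))))))))))))))))))), (fun v _ _ => v), fun _ _ => rfl, fun _ _ => rfl⟩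
def lf8_458 : Leaf (walkS st) := ⟨[], [5, 0, 5, 6, 0, 6, 5, 0, 5, 0, 6, 8, 8], 51, 9, (fun _ v => v), (fun off v => (stp8 off (stp8 off (stp6 off (stp0 off (stp5 off (stp0 off (stp5 off (stp6 off (stp0 off (stp6 off (stp5 off (stp0 off (stp5 off v)))))))))))))), (fun v _ _ => v), fun _ _ => rfl, fun _ _ => rfl⟩
def lf8_459 : Leaf (walkS st) := ⟨[], [5, 6, 1, 5, 1, 5, 6, 1, 6, 5, 1, 8], 29, 3, (fun _ v => v), (fun off v => (stp8 off (stp1 off (stp5 off (stp6 off (stp1 off (stp6 off (stp5 off (stp1 off (stp5 off (stp1 off (stp6 off (stp5 off v))))))))))))), (fun v _ _ => v), fun _ _ => rfl, fun _ _ => rfl⟩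
def lf8_460 : Leaf (walkS st) := ⟨[], [7, 2, 4, 5, 4, 5, 4, 5, 4, 5, 8], 24, 2, (fun _ v => v), (fun off v => (stp8 off (stp5 off (stp4 off (stp5 off (stp4 off (stp5 off (stp4 off (stp5 off (stp4 off (stp2 off (stp7 off v)))))))))))), (fun v _ _ => v), fun _ _ => rfl, fun _ _ => rfl⟩
def lf8_461 : Leaf (walkS st) := ⟨[], [3, 6, 3, 6, 8, 8], 15, 1, (fun _ v => v), (fun off v => (stp8 off (stp8 off (stp6 off (stp3 off (stp6 off (stp3 off v))))))), (fun v _ _ => v), fun _ _ => rfl, fun _ _ => rfl⟩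
def lf8_462 : Leaf (walkS st) := ⟨[], [5, 6, 1, 6, 5, 1, 5, 6, 1, 5, 1, 8], 29, 9, (fun _ v => v), (fun off v => (stp8 off (stp1 off (stp5 off (stp1 off (stp6 off (stp5 off (stp1 off (stp5 off (stp6 off (stp1 off (stp6 off (stp5 off v))))))))))))), (fun v _ _ => v), fun _ _ => rfl, fun _ _ => rfl⟩
def lf8_463 : Leaf (walkS st) := ⟨[], [5, 6, 1, 5, 1, 5, 6, 1, 6, 5, 1, 8, 8], 29, 3, (fun _ v => v), (fun off v => (stp8 off (stp8 off (stp1 off (stp5 off (stp6 off (stp1 off (stp6 off (stp5 off (stp1 off (stp5 off (stp1 off (stp6 off (stp5 off v)))))))))))))), (fun v _ _ => v), fun _ _ => rfl, fun _ _ => rfl⟩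
def lf8_464 : Leaf (walkS st) := ⟨[], [4, 6, 4, 6, 8, 8], 18, 1, (fun _ v => v), (fun off v => (stp8 off (stp8 off (stp6 off (stp4 off (stp6 off (stp4 off v))))))), (fun v _ _ => v), fun _ _ => rfl, fun _ _ => rfl⟩
def lf8_465 : Leaf (walkS st) := ⟨[], [5, 0, 5, 0, 4, 1, 5, 1, 5, 4, 8], 25, 5, (fun _ v => v), (fun off v => (stp8 off (stp4 off (stp5 off (stp1 off (stp5 off (stp1 off (stp4 off (stp0 off (stp5 off (stp0 off (stp5 off v)))))))))))), (fun v _ _ => v), fun _ _ => rfl, fun _ _ => rfl⟩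
def lf8_466 : Leaf (walkS st) := ⟨[], [1, 2, 7, 1, 8, 8], 45, 1, (fun _ v => v), (fun off v => (stp8 off (stp8 off (stp1 off (stp7 off (stp2 off (stp1 off v))))))), (fun v _ _ => v), fun _ _ => rfl, fun _ _ => rfl⟩
def lf8_467 : Leaf (walkS st) := ⟨[], [4, 5, 4, 2, 7, 5, 4, 5, 4, 5, 8], 46, 3, (fun _ v => v), (fun off v => (stp8 off (stp5 off (stp4 off (stp5 off (stp4 off (stp5 off (stp7 off (stp2 off (stp4 off (stp5 off (stp4 off v)))))))))))), (fun v _ _ => v), fun _ _ => rfl, fun _ _ => rfl⟩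
def lf8_468 : Leaf (walkS st) := ⟨[], [2, 7, 1, 1, 8, 8], 45, 0, (fun _ v => v), (fun off v => (stp8 off (stp8 off (stp1 off (stp1 off (stp7 off (stp2 off v))))))), (fun v _ _ => v), fun _ _ => rfl, fun _ _ => rfl⟩
def lf8_469 : Leaf (walkS st) := ⟨[], [0, 5, 6, 0, 6, 5, 0, 5, 0, 6, 5, 8, 8], 51, 8, (fun _ v => v), (fun off v => (stp8 off (stp8 off (stp5 off (stp6 off (stp0 off (stp5 off (stp0 off (stp5 off (stp6 off (stp0 off (stp6 off (stp5 off (stp0 off v)))))))))))))), (fun v _ _ => v), fun _ _ => rfl, fun _ _ => rfl⟩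
def lf8_470 : Leaf (walkS st) := ⟨[], [5, 4, 5, 4, 5, 4, 2, 7, 5, 4, 8], 46, 6, (fun _ v => v), (fun off v => (stp8 off (stp4 off (stp5 off (stp7 off (stp2 off (stp4 off (stp5 off (stp4 off (stp5 off (stp4 off (stp5 off v)))))))))))), (fun v _ _ => v), fun _ _ => rfl, fun _ _ => rfl⟩
def lf8_471 : Leaf (walkS st) := ⟨[], [6, 5, 6, 5, 6, 5, 8, 8], 42, 5, (fun _ v => v), (fun off v => (stp8 off (stp8 off (stp5 off (stp6 off (stp5 off (stp6 off (stp5 off (stp6 off v))))))))), (fun v _ _ => v), fun _ _ => rfl, fun _ _ => rfl⟩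
def lf8_472 : Leaf (walkS st) := ⟨[], [6, 7, 6, 7, 6, 7, 8, 8], 22, 1, (fun _ v => v), (fun off v => (stp8 off (stp8 off (stp7 off (stp6 off (stp7 off (stp6 off (stp7 off (stp6 off v))))))))), (fun v _ _ => v), fun _ _ => rfl, fun _ _ => rfl⟩
def lf8_473 : Leaf (walkS st) := ⟨[], [0, 3, 4, 0, 4, 0, 3, 4, 0, 4, 3, 8, 8], 50, 5, (fun _ v => v), (fun off v => (stp8 off (stp8 off (stp3 off (stp4 off (stp0 off (stp4 off (stp3 off (stp0 off (stp4 off (stp0 off (stp4 off (stp3 off (stp0 off v)))))))))))))), (fun v _ _ => v), fun _ _ => rfl, fun _ _ => rfl⟩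
def lf8_474 : Leaf (walkS st) := ⟨[], [6, 5, 0, 5, 6, 0, 6, 5, 0, 5, 0, 8, 8], 51, 10, (fun _ v => v), (fun off v => (stp8 off (stp8 off (stp0 off (stp5 off (stp0 off (stp5 off (stp6 off (stp0 off (stp6 off (stp5 off (stp0 off (stp5 off (stp6 off v)))))))))))))), (fun v _ _ => v), fun _ _ => rfl, fun _ _ => rfl⟩
def lf8_475 : Leaf (walkS st) := ⟨[], [1, 5, 6, 1, 5, 1, 5, 6, 1, 6, 5, 8, 8], 29, 4, (fun _ v => v), (fun off v => (stp8 off (stp8 off (stp5 off (stp6 off (stp1 off (stp6 off (stp5 off (stp1 off (stp5 off (stp1 off (stp6 off (stp5 off (stp1 off v)))))))))))))), (fun v _ _ => v), fun _ _ => rfl, fun _ _ => rfl⟩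
def lf8_476 : Leaf (walkS st) := ⟨[], [4, 3, 1, 3, 4, 1, 4, 3, 1, 4, 1, 8], 28, 9, (fun _ v => v), (fun off v => (stp8 off (stp1 off (stp4 off (stp1 off (stp3 off (stp4 off (stp1 off (stp4 off (stp3 off (stp1 off (stp3 off (stp4 off v))))))))))))), (fun v _ _ => v), fun _ _ => rfl, fun _ _ => rfl⟩
def tree8 : RTree (walkS st) :=
  (.node 9 (.node 3 (.node 1 (.fork lf8_0) (.node 2 (.fork lf8_1) (.fork lf8_2))) (.node 5 (.node 4 (.fork lf8_3) (.fork lf8_4)) (.node 7 (.node 6 (.fork lf8_5) (.fork lf8_6)) (.node 8 (.fork lf8_7) (.fork lf8_8))))) (.node 26 (.node 13 (.node 11 (.node 10 (.fork lf8_9) (.fork lf8_10)) (.node 12 (.fork lf8_11) (.fork lf8_12))) (.node 16 (.node 14 (.fork lf8_13) (.node 15 (.fork lf8_14) (.fork lf8_15))) (.node 20 (.node 18 (.node 17 (.fork lf8_16) (.fork lf8_17)) (.node 19 (.fork lf8_18) (.fork lf8_19))) (.node 23 (.node 21 (.fork lf8_20) (.node 22 (.fork lf8_21) (.fork lf8_22))) (.node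 24 (.fork lf8_23) (.node 25 (.fork lf8_24) (.fork lf8_25))))))) (.node 64 (.node 41 (.node 33 (.node 29 (.node 27 (.fork lf8_26) (.node 28 (.fork lf8_27) (.fork lf8_28))) (.node 31 (.node 30 (.fork lf8_29) (.fork lf8_30)) (.node 32 (.fork lf8_31) (.fork lf8_32)))) (.node 37 (.node 35 (.node 34 (.fork lf8_33) (.fork lf8_34)) (.node 36 (.fork lf8_35) (.fork lf8_36))) (.node 39 (.node 38 (.fork lf8_37) (.fork lf8_38)) (.node 40 (.fork lf8_39) (.fork lf8_40))))) (.node 51 (.node 46 (.node 43 (.node 42 (.fork lf8_41) (.fork lf8_42)) (.node 44 (.fork lf8_43) (.node 45 (.fork lf8_44) (.fork lf8_45)))) (.node 48 (.node 47 (.fork lf8_46) (.fork lf8_47)) (.node 49 (.fork lf8_48) (.node 50 (.fork lf8_49) (.fork lf8_50))))) (.node 57 (.node 54 (.node 52 (.fork lf8_51) (.node 53 (.fork lf8_52) (.fork lf8_53))) (.node 55 (.fork lf8_54) (.node 56 (.fork lf8_55) (.fork lf8_56)))) (.node 60 (.node 58 (.fork lf8_57) (.node 59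 (.fork lf8_58) (.fork lf8_59))) (.node 62 (.node 61 (.fork lf8_60) (.fork lf8_61)) (.node 63 (.fork lf8_62) (.fork lf8_63))))))) (.node 113 (.node 85 (.node 74 (.node 69 (.node 66 (.node 65 (.fork lf8_64) (.fork lf8_65)) (.node 67 (.fork lf8_66) (.node 68 (.fork lf8_67) (.fork lf8_68)))) (.node 71 (.node 70 (.fork lf8_69) (.fork lf8_70)) (.node 72 (.fork lf8_71) (.node 73 (.fork lf8_72) (.fork lf8_73))))) (.node 79 (.node 76 (.node 75 (.fork lf8_74) (.fork lf8_75)) (.node 77 (.fork lf8_76) (.node 78 (.fork lf8_77) (.fork lf8_78)))) (.node 82 (.node 80 (.fork lf8_79) (.node 81 (.fork lf8_80) (.fork lf8_81))) (.node 83 (.fork lf8_82) (.node 84 (.fork lf8_83) (.fork lf8_84)))))) (.node 98 (.node 91 (.node 88 (.node 86 (.fork lf8_85) (.node 87 (.fork lf8_86) (.fork lf8_87))) (.node 89 (.fork lf8_88) (.node 90 (.fork lf8_89) (.fork lf8_90)))) (.node 94 (.node 92 (.fork lf8_91) (.node 93 (.fork lf8_92) (.fork lf8_93)))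 (.node 96 (.node 95 (.fork lf8_94) (.fork lf8_95)) (.node 97 (.fork lf8_96) (.fork lf8_97))))) (.node 105 (.node 101 (.node 99 (.fork lf8_98) (.node 100 (.fork lf8_99) (.fork lf8_100))) (.node 103 (.node 102 (.fork lf8_101) (.fork lf8_102)) (.node 104 (.fork lf8_103) (.fork lf8_104)))) (.node 109 (.node 107 (.node 106 (.fork lf8_105) (.fork lf8_106)) (.node 108 (.fork lf8_107) (.fork lf8_108))) (.node 111 (.node 110 (.fork lf8_109) (.fork lf8_110)) (.node 112 (.fork lf8_111) (.fork lf8_112))))))) (.node 165 (.node 134 (.node 123 (.node 118 (.node 115 (.node 114 (.fork lf8_113) (.fork lf8_114)) (.node 116 (.fork lf8_115) (.node 117 (.fork lf8_116) (.fork lf8_117)))) (.node 120 (.node 119 (.fork lf8_118) (.fork lf8_119)) (.node 121 (.fork lf8_120) (.node 122 (.fork lf8_121) (.fork lf8_122))))) (.node 128 (.node 125 (.node 124 (.fork lf8_123) (.fork lf8_124)) (.node 126 (.fork lf8_125) (.node 127 (.fork lf8_126)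 (.fork lf8_127)))) (.node 131 (.node 129 (.fork lf8_128) (.node 130 (.fork lf8_129) (.fork lf8_130))) (.node 132 (.fork lf8_131) (.node 133 (.fork lf8_132) (.fork lf8_133)))))) (.node 148 (.node 141 (.node 137 (.node 135 (.fork lf8_134) (.node 136 (.fork lf8_135) (.fork lf8_136))) (.node 139 (.node 138 (.fork lf8_137) (.fork lf8_138)) (.node 140 (.fork lf8_139) (.fork lf8_140)))) (.node 144 (.node 142 (.fork lf8_141) (.node 143 (.fork lf8_142) (.fork lf8_143))) (.node 146 (.node 145 (.fork lf8_144) (.fork lf8_145)) (.node 147 (.fork lf8_146) (.fork lf8_147))))) (.node 156 (.node 152 (.node 150 (.node 149 (.fork lf8_148) (.fork lf8_149)) (.node 151 (.fork lf8_150) (.fork lf8_151))) (.node 154 (.node 153 (.fork lf8_152) (.fork lf8_153)) (.node 155 (.fork lf8_154) (.fork lf8_155)))) (.node 160 (.node 158 (.node 157 (.fork lf8_156) (.fork lf8_157)) (.node 159 (.fork lf8_158) (.fork lf8_159))) (.node 162 (.node 161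 (.fork lf8_160) (.fork lf8_161)) (.node 163 (.fork lf8_162) (.node 164 (.fork lf8_163) (.fork lf8_164)))))))) (.node 220 (.node 188 (.node 175 (.node 170 (.node 167 (.node 166 (.fork lf8_165) (.fork lf8_166)) (.node 168 (.fork lf8_167) (.node 169 (.fork lf8_168) (.fork lf8_169)))) (.node 172 (.node 171 (.fork lf8_170) (.fork lf8_171)) (.node 173 (.fork lf8_172) (.node 174 (.fork lf8_173) (.fork lf8_174))))) (.node 181 (.node 178 (.node 176 (.fork lf8_175) (.node 177 (.fork lf8_176) (.fork lf8_177))) (.node 179 (.fork lf8_178) (.node 180 (.fork lf8_179) (.fork lf8_180)))) (.node 184 (.node 182 (.fork lf8_181) (.node 183 (.fork lf8_182) (.fork lf8_183))) (.node 186 (.node 185 (.fork lf8_184) (.fork lf8_185)) (.node 187 (.fork lf8_186) (.fork lf8_187)))))) (.node 202 (.node 195 (.node 191 (.node 189 (.fork lf8_188) (.node 190 (.fork lf8_189) (.fork lf8_190))) (.node 193 (.node 192 (.fork lf8_191) (.fork lf8_192))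 (.node 194 (.fork lf8_193) (.fork lf8_194)))) (.node 198 (.node 196 (.fork lf8_195) (.node 197 (.fork lf8_196) (.fork lf8_197))) (.node 200 (.node 199 (.fork lf8_198) (.fork lf8_199)) (.node 201 (.fork lf8_200) (.fork lf8_201))))) (.node 210 (.node 206 (.node 204 (.node 203 (.fork lf8_202) (.fork lf8_203)) (.node 205 (.fork lf8_204) (.fork lf8_205))) (.node 208 (.node 207 (.fork lf8_206) (.fork lf8_207)) (.node 209 (.fork lf8_208) (.fork lf8_209)))) (.node 215 (.node 212 (.node 211 (.fork lf8_210) (.fork lf8_211)) (.node 213 (.fork lf8_212) (.node 214 (.fork lf8_213) (.fork lf8_214)))) (.node 217 (.node 216 (.fork lf8_215) (.fork lf8_216)) (.node 218 (.fork lf8_217) (.node 219 (.fork lf8_218) (.fork lf8_219)))))))) (.node 275 (.node 244 (.node 231 (.node 225 (.node 222 (.node 221 (.fork lf8_220) (.fork lf8_221)) (.node 223 (.fork lf8_222) (.node 224 (.fork lf8_223) (.fork lf8_224)))) (.node 228 (.node 226 (.fork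 lf8_225) (.node 227 (.fork lf8_226) (.fork lf8_227))) (.node 229 (.fork lf8_228) (.node 230 (.fork lf8_229) (.fork lf8_230))))) (.node 237 (.node 234 (.node 232 (.fork lf8_231) (.node 233 (.fork lf8_232) (.fork lf8_233))) (.node 235 (.fork lf8_234) (.node 236 (.fork lf8_235) (.fork lf8_236)))) (.node 240 (.node 238 (.fork lf8_237) (.node 239 (.fork lf8_238) (.fork lf8_239))) (.node 242 (.node 241 (.fork lf8_240) (.fork lf8_241)) (.node 243 (.fork lf8_242) (.fork lf8_243)))))) (.node 258 (.node 251 (.node 247 (.node 245 (.fork lf8_244) (.node 246 (.fork lf8_245) (.fork lf8_246))) (.node 249 (.node 248 (.fork lf8_247) (.fork lf8_248)) (.node 250 (.fork lf8_249) (.fork lf8_250)))) (.node 254 (.node 252 (.fork lf8_251) (.node 253 (.fork lf8_252) (.fork lf8_253))) (.node 256 (.node 255 (.fork lf8_254) (.fork lf8_255)) (.node 257 (.fork lf8_256) (.fork lf8_257))))) (.node 266 (.node 262 (.node 260 (.node 259 (.fork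 lf8_258) (.fork lf8_259)) (.node 261 (.fork lf8_260) (.fork lf8_261))) (.node 264 (.node 263 (.fork lf8_262) (.fork lf8_263)) (.node 265 (.fork lf8_264) (.fork lf8_265)))) (.node 270 (.node 268 (.node 267 (.fork lf8_266) (.fork lf8_267)) (.node 269 (.fork lf8_268) (.fork lf8_269))) (.node 272 (.node 271 (.fork lf8_270) (.fork lf8_271)) (.node 273 (.fork lf8_272) (.node 274 (.fork lf8_273) (.fork lf8_274)))))))) (.node 320 (.node 295 (.node 284 (.node 279 (.node 277 (.node 276 (.fork lf8_275) (.fork lf8_276)) (.node 278 (.fork lf8_277) (.fork lf8_278))) (.node 281 (.node 280 (.fork lf8_279) (.fork lf8_280)) (.node 282 (.fork lf8_281) (.node 283 (.fork lf8_282) (.fork lf8_283))))) (.node 289 (.node 286 (.node 285 (.fork lf8_284) (.fork lf8_285)) (.node 287 (.fork lf8_286) (.node 288 (.fork lf8_287) (.fork lf8_288)))) (.node 292 (.node 290 (.fork lf8_289) (.node 291 (.fork lf8_290) (.fork lf8_291))) (.node 293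 (.fork lf8_292) (.node 294 (.fork lf8_293) (.fork lf8_294)))))) (.node 306 (.node 300 (.node 297 (.node 296 (.fork lf8_295) (.fork lf8_296)) (.node 298 (.fork lf8_297) (.node 299 (.fork lf8_298) (.fork lf8_299)))) (.node 303 (.node 301 (.fork lf8_300) (.node 302 (.fork lf8_301) (.fork lf8_302))) (.node 304 (.fork lf8_303) (.node 305 (.fork lf8_304) (.fork lf8_305))))) (.node 312 (.node 309 (.node 307 (.fork lf8_306) (.node 308 (.fork lf8_307) (.fork lf8_308))) (.node 310 (.fork lf8_309) (.node 311 (.fork lf8_310) (.fork lf8_311)))) (.node 316 (.node 314 (.node 313 (.fork lf8_312) (.fork lf8_313)) (.node 315 (.fork lf8_314) (.fork lf8_315))) (.node 318 (.node 317 (.fork lf8_316) (.fork lf8_317)) (.node 319 (.fork lf8_318) (.fork lf8_319))))))) (.node 360 (.node 337 (.node 328 (.node 324 (.node 322 (.node 321 (.fork lf8_320) (.fork lf8_321)) (.node 323 (.fork lf8_322) (.fork lf8_323))) (.node 326 (.node 325 (.fork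 lf8_324) (.fork lf8_325)) (.node 327 (.fork lf8_326) (.fork lf8_327)))) (.node 332 (.node 330 (.node 329 (.fork lf8_328) (.fork lf8_329)) (.node 331 (.fork lf8_330) (.fork lf8_331))) (.node 334 (.node 333 (.fork lf8_332) (.fork lf8_333)) (.node 335 (.fork lf8_334) (.node 336 (.fork lf8_335) (.fork lf8_336)))))) (.node 347 (.node 341 (.node 339 (.node 338 (.fork lf8_337) (.fork lf8_338)) (.node 340 (.fork lf8_339) (.fork lf8_340))) (.node 344 (.node 342 (.fork lf8_341) (.node 343 (.fork lf8_342) (.fork lf8_343))) (.node 345 (.fork lf8_344) (.node 346 (.fork lf8_345) (.fork lf8_346))))) (.node 353 (.node 350 (.node 348 (.fork lf8_347) (.node 349 (.fork lf8_348) (.fork lf8_349))) (.node 351 (.fork lf8_350) (.node 352 (.fork lf8_351) (.fork lf8_352)))) (.node 356 (.node 354 (.fork lf8_353) (.node 355 (.fork lf8_354) (.fork lf8_355))) (.node 358 (.node 357 (.fork lf8_356) (.fork lf8_357)) (.node 359 (.fork lf8_358)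 (.fork lf8_359))))))) (.node 401 (.node 377 (.node 368 (.node 363 (.node 361 (.fork lf8_360) (.node 362 (.fork lf8_361) (.fork lf8_362))) (.node 365 (.node 364 (.fork lf8_363) (.fork lf8_364)) (.node 366 (.fork lf8_365) (.node 367 (.fork lf8_366) (.fork lf8_367))))) (.node 372 (.node 370 (.node 369 (.fork lf8_368) (.fork lf8_369)) (.node 371 (.fork lf8_370) (.fork lf8_371))) (.node 374 (.node 373 (.fork lf8_372) (.fork lf8_373)) (.node 375 (.fork lf8_374) (.node 376 (.fork lf8_375) (.fork lf8_376)))))) (.node 387 (.node 382 (.node 379 (.node 378 (.fork lf8_377) (.fork lf8_378)) (.node 380 (.fork lf8_379) (.node 381 (.fork lf8_380) (.fork lf8_381)))) (.node 384 (.node 383 (.fork lf8_382) (.fork lf8_383)) (.node 385 (.fork lf8_384) (.node 386 (.fork lf8_385) (.fork lf8_386))))) (.node 392 (.node 389 (.node 388 (.fork lf8_387) (.fork lf8_388)) (.node 390 (.fork lf8_389) (.node 391 (.fork lf8_390) (.fork lf8_391))))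 (.node 396 (.node 394 (.node 393 (.fork lf8_392) (.fork lf8_393)) (.node 395 (.fork lf8_394) (.fork lf8_395))) (.node 398 (.node 397 (.fork lf8_396) (.fork lf8_397)) (.node 399 (.fork lf8_398) (.node 400 (.fork lf8_399) (.fork lf8_400)))))))) (.node 439 (.node 420 (.node 410 (.node 405 (.node 403 (.node 402 (.fork lf8_401) (.fork lf8_402)) (.node 404 (.fork lf8_403) (.fork lf8_404))) (.node 407 (.node 406 (.fork lf8_405) (.fork lf8_406)) (.node 408 (.fork lf8_407) (.node 409 (.fork lf8_408) (.fork lf8_409))))) (.node 415 (.node 412 (.node 411 (.fork lf8_410) (.fork lf8_411)) (.node 413 (.fork lf8_412) (.node 414 (.fork lf8_413) (.fork lf8_414)))) (.node 417 (.node 416 (.fork lf8_415) (.fork lf8_416)) (.node 418 (.fork lf8_417) (.node 419 (.fork lf8_418) (.fork lf8_419)))))) (.node 429 (.node 424 (.node 422 (.node 421 (.fork lf8_420) (.fork lf8_421)) (.node 423 (.fork lf8_422) (.fork lf8_423))) (.node 426 (.node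 425 (.fork lf8_424) (.fork lf8_425)) (.node 427 (.fork lf8_426) (.node 428 (.fork lf8_427) (.fork lf8_428))))) (.node 434 (.node 431 (.node 430 (.fork lf8_429) (.fork lf8_430)) (.node 432 (.fork lf8_431) (.node 433 (.fork lf8_432) (.fork lf8_433)))) (.node 436 (.node 435 (.fork lf8_434) (.fork lf8_435)) (.node 437 (.fork lf8_436) (.node 438 (.fork lf8_437) (.fork lf8_438))))))) (.node 458 (.node 448 (.node 443 (.node 441 (.node 440 (.fork lf8_439) (.fork lf8_440)) (.node 442 (.fork lf8_441) (.fork lf8_442))) (.node 445 (.node 444 (.fork lf8_443) (.fork lf8_444)) (.node 446 (.fork lf8_445) (.node 447 (.fork lf8_446) (.fork lf8_447))))) (.node 453 (.node 450 (.node 449 (.fork lf8_448) (.fork lf8_449)) (.node 451 (.fork lf8_450) (.node 452 (.fork lf8_451) (.fork lf8_452)))) (.node 455 (.node 454 (.fork lf8_453) (.fork lf8_454)) (.node 456 (.fork lf8_455) (.node 457 (.fork lf8_456) (.fork lf8_457)))))) (.node 467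 (.node 462 (.node 460 (.node 459 (.fork lf8_458) (.fork lf8_459)) (.node 461 (.fork lf8_460) (.fork lf8_461))) (.node 464 (.node 463 (.fork lf8_462) (.fork lf8_463)) (.node 465 (.fork lf8_464) (.node 466 (.fork lf8_465) (.fork lf8_466))))) (.node 472 (.node 469 (.node 468 (.fork lf8_467) (.fork lf8_468)) (.node 470 (.fork lf8_469) (.node 471 (.fork lf8_470) (.fork lf8_471)))) (.node 474 (.node 473 (.fork lf8_472) (.fork lf8_473)) (.node 475 (.fork lf8_474) (.node 476 (.fork lf8_475) (.fork lf8_476))))))))))))))))))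
def trees : Nat → RTree (walkS st)
  | 0 => tree0
  | 1 => tree1
  | 2 => tree2
  | 3 => tree3
  | 4 => tree4
  | 5 => tree5
  | 6 => tree6
  | 7 => tree7
  | 8 => tree8
  | _ => .tleaf
noncomputable def fs0 (v : Nat) : Bool := chkSlot par tA0 je0 pe 9 511 16 (deadF par tA8) (fun _ => 201582) tree0 0 v
noncomputable def fs1 (v : Nat) : Bool := chkSlot par tA1 je1 pe 9 511 16 (deadF par tA8) (fun _ => 201582) tree1 1 v
noncomputable def fs2 (v : Nat) : Bool := chkSlot par tA2 je2 pe 9 511 16 (deadF par tA8) (fun _ => 201582) tree2 2 v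
noncomputable def fs3 (v : Nat) : Bool := chkSlot par tA3 je3 pe 9 511 16 (deadF par tA8) (fun _ => 201582) tree3 3 v
noncomputable def fs4 (v : Nat) : Bool := chkSlot par tA4 je4 pe 9 511 16 (deadF par tA8) (fun _ => 201582) tree4 4 v
noncomputable def fs5 (v : Nat) : Bool := chkSlot par tA5 je5 pe 9 511 16 (deadF par tA8) (fun _ => 201582) tree5 5 v
noncomputable def fs6 (v : Nat) : Bool := chkSlot par tA6 je6 pe 9 511 16 (deadF par tA8) (fun _ => 201582) tree6 6 v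
noncomputable def fs7 (v : Nat) : Bool := chkSlot par tA7 je7 pe 9 511 16 (deadF par tA8) (fun _ => 201582) tree7 7 v
noncomputable def fs8 (v : Nat) : Bool := chkSlot par tA8 je8 pe 9 511 16 (fun _ => true) (fun v => Nat.pred v) tree8 8 v
def gl (k : Nat) : Bool := liveF par tA8 (Nat.succ k)

end

end Cfsg.Agent.Lib.Helper35.ON122760
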