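import Cfsg.Agent.Lib.Helper35.ON122760.PData

set_option Elab.async false

namespace Cfsg.Agent.Lib.Helper35.ON122760

open Cfsg.Agent.Lib.Helper35

theorem rc0 : allBelow (fun k => fr (Nat.add 0 k)) 49 = true := by decide +kernel
theorem rc1 : allBelow (fun k => fr (Nat.add 49 k)) 49 = true := by decide +kernel
theorem rc2 : allBelow (fun k => fr (Nat.add 98 k)) 49 = true := by decide +kernel
theorem rc3 : allBelow (fun k => fr (Nat.add 147 k)) 49 = true := by decide +kernel
theorem rc4 : allBelow (fun k => fr (Nat.add 196 k)) 49 = true := by decide +kernel
theorem rc5 : allBelow (fun k => fr (Nat.add 245 k)) 49 = true := by decide +kernel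
theorem rc6 : allBelow (fun k => fr (Nat.add 294 k)) 49 = true := by decide +kernel
theorem rc7 : allBelow (fun k => fr (Nat.add 343 k)) 49 = true := by decide +kernel
theorem rc8 : allBelow (fun k => fr (Nat.add 392 k)) 49 = true := by decide +kernel
theorem rc9 : allBelow (fun k => fr (Nat.add 441 k)) 49 = true := by decide +kernel
theorem rc10 : allBelow (fun k => fr (Nat.add 490 k)) 49 = true := by decide +kernel
theorem rc11 : allBelow (fun k => fr (Nat.add 539 k)) 49 = true := by decide +kernel
theorem rc12 : allBelow (fun k => fr (Nat.add 588 k)) 49 = true := by decide +kernel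
theorem rc13 : allBelow (fun k => fr (Nat.add 637 k)) 49 = true := by decide +kernel
theorem rc14 : allBelow (fun k => fr (Nat.add 686 k)) 49 = true := by decide +kernel
theorem rc15 : allBelow (fun k => fr (Nat.add 735 k)) 49 = true := by decide +kernel
theorem rc16 : allBelow (fun k => fr (Nat.add 784 k)) 49 = true := by decide +kernel
theorem rc17 : allBelow (fun k => fr (Nat.add 833 k)) 49 = true := by decide +kernel
theorem rc18 : allBelow (fun k => fr (Nat.add 882 k)) 49 = true := by decide +kernel
theorem rc19 : allBelow (fun k => fr (Nat.add 931 k)) 49 = true := by decide +kernel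
theorem rc20 : allBelow (fun k => fr (Nat.add 980 k)) 49 = true := by decide +kernel
theorem rc21 : allBelow (fun k => fr (Nat.add 1029 k)) 49 = true := by decide +kernel
theorem rc22 : allBelow (fun k => fr (Nat.add 1078 k)) 49 = true := by decide +kernel
theorem rc23 : allBelow (fun k => fr (Nat.add 1127 k)) 49 = true := by decide +kernel
theorem rc24 : allBelow (fun k => fr (Nat.add 1176 k)) 49 = true := by decide +kernel
theorem rc25 : allBelow (fun k => fr (Nat.add 1225 k)) 49 = true := by decide +kernel
theorem rc26 : allBelow (fun k => fr (Nat.add 1274 k)) 49 = true := by decide +kernel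
theorem rc27 : allBelow (fun k => fr (Nat.add 1323 k)) 49 = true := by decide +kernel
theorem rc28 : allBelow (fun k => fr (Nat.add 1372 k)) 49 = true := by decide +kernel
theorem rc29 : allBelow (fun k => fr (Nat.add 1421 k)) 49 = true := by decide +kernel
theorem rc30 : allBelow (fun k => fr (Nat.add 1470 k)) 49 = true := by decide +kernel
theorem rc31 : allBelow (fun k => fr (Nat.add 1519 k)) 49 = true := by decide +kernel
theorem rc32 : allBelow (fun k => fr (Nat.add 1568 k)) 49 = true := by decide +kernel
theorem rc33 : allBelow (fun k => fr (Nat.add 1617 k)) 49 = true := by decide +kernel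
theorem rc34 : allBelow (fun k => fr (Nat.add 1666 k)) 49 = true := by decide +kernel
theorem rc35 : allBelow (fun k => fr (Nat.add 1715 k)) 49 = true := by decide +kernel
theorem rc36 : allBelow (fun k => fr (Nat.add 1764 k)) 49 = true := by decide +kernel
theorem rc37 : allBelow (fun k => fr (Nat.add 1813 k)) 49 = true := by decide +kernel
theorem rc38 : allBelow (fun k => fr (Nat.add 1862 k)) 49 = true := by decide +kernel
theorem rc39 : allBelow (fun k => fr (Nat.add 1911 k)) 49 = true := by decide +kernel
theorem rc40 : allBelow (fun k => fr (Nat.add 1960 k)) 49 = true := by decide +kernel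
theorem rc41 : allBelow (fun k => fr (Nat.add 2009 k)) 49 = true := by decide +kernel
theorem rc42 : allBelow (fun k => fr (Nat.add 2058 k)) 49 = true := by decide +kernel
theorem rc43 : allBelow (fun k => fr (Nat.add 2107 k)) 49 = true := by decide +kernel
theorem rc44 : allBelow (fun k => fr (Nat.add 2156 k)) 49 = true := by decide +kernel
theorem rc45 : allBelow (fun k => fr (Nat.add 2205 k)) 49 = true := by decide +kernel
theorem rc46 : allBelow (fun k => fr (Nat.add 2254 k)) 49 = true := by decide +kernel
theorem rc47 : allBelow (fun k => fr (Nat.add 2303 k)) 49 = true := by decide +kernel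
theorem rc48 : allBelow (fun k => fr (Nat.add 2352 k)) 49 = true := by decide +kernel
theorem rc49 : allBelow (fun k => fr (Nat.add 2401 k)) 49 = true := by decide +kernel
theorem rc50 : allBelow (fun k => fr (Nat.add 2450 k)) 49 = true := by decide +kernel
theorem rc51 : allBelow (fun k => fr (Nat.add 2499 k)) 49 = true := by decide +kernel
theorem rc52 : allBelow (fun k => fr (Nat.add 2548 k)) 49 = true := by decide +kernel
theorem rc53 : allBelow (fun k => fr (Nat.add 2597 k)) 49 = true := by decide +kernel
theorem rc54 : allBelow (fun k => fr (Nat.add 2646 k)) 49 = true := by decide +kernel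
theorem rc55 : allBelow (fun k => fr (Nat.add 2695 k)) 49 = true := by decide +kernel
theorem rc56 : allBelow (fun k => fr (Nat.add 2744 k)) 49 = true := by decide +kernel
theorem rc57 : allBelow (fun k => fr (Nat.add 2793 k)) 49 = true := by decide +kernel
theorem rc58 : allBelow (fun k => fr (Nat.add 2842 k)) 49 = true := by decide +kernel
theorem rc59 : allBelow (fun k => fr (Nat.add 2891 k)) 49 = true := by decide +kernel
theorem rc60 : allBelow (fun k => fr (Nat.add 2940 k)) 49 = true := by decide +kernel
theorem rc61 : allBelow (fun k => fr (Nat.add 2989 k)) 49 = true := by decide +kernel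
theorem rc62 : allBelow (fun k => fr (Nat.add 3038 k)) 49 = true := by decide +kernel
theorem rc63 : allBelow (fun k => fr (Nat.add 3087 k)) 49 = true := by decide +kernel
theorem rc64 : allBelow (fun k => fr (Nat.add 3136 k)) 49 = true := by decide +kernel
theorem rc65 : allBelow (fun k => fr (Nat.add 3185 k)) 49 = true := by decide +kernel
theorem rc66 : allBelow (fun k => fr (Nat.add 3234 k)) 49 = true := by decide +kernel
theorem rc67 : allBelow (fun k => fr (Nat.add 3283 k)) 49 = true := by decide +kernel
theorem rc68 : allBelow (fun k => fr (Nat.add 3332 k)) 49 = true := by decide +kernel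
theorem rc69 : allBelow (fun k => fr (Nat.add 3381 k)) 49 = true := by decide +kernel
theorem rc70 : allBelow (fun k => fr (Nat.add 3430 k)) 49 = true := by decide +kernel
theorem rc71 : allBelow (fun k => fr (Nat.add 3479 k)) 49 = true := by decide +kernel
theorem rc72 : allBelow (fun k => fr (Nat.add 3528 k)) 49 = true := by decide +kernel
theorem rc73 : allBelow (fun k => fr (Nat.add 3577 k)) 49 = true := by decide +kernel
theorem rc74 : allBelow (fun k => fr (Nat.add 3626 k)) 49 = true := by decide +kernel
theorem rc75 : allBelow (fun k => fr (Nat.add 3675 k)) 49 = true := by decide +kernel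
theorem rc76 : allBelow (fun k => fr (Nat.add 3724 k)) 49 = true := by decide +kernel
theorem rc77 : allBelow (fun k => fr (Nat.add 3773 k)) 49 = true := by decide +kernel
theorem rc78 : allBelow (fun k => fr (Nat.add 3822 k)) 49 = true := by decide +kernel
theorem rc79 : allBelow (fun k => fr (Nat.add 3871 k)) 49 = true := by decide +kernel
theorem rc80 : allBelow (fun k => fr (Nat.add 3920 k)) 49 = true := by decide +kernel
theorem rc81 : allBelow (fun k => fr (Nat.add 3969 k)) 49 = true := by decide +kernel
theorem rc82 : allBelow (fun k => fr (Nat.add 4018 k)) 49 = true := by decide +kernel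
theorem rc83 : allBelow (fun k => fr (Nat.add 4067 k)) 49 = true := by decide +kernel
theorem rc84 : allBelow (fun k => fr (Nat.add 4116 k)) 49 = true := by decide +kernel
theorem rc85 : allBelow (fun k => fr (Nat.add 4165 k)) 49 = true := by decide +kernel
theorem rc86 : allBelow (fun k => fr (Nat.add 4214 k)) 49 = true := by decide +kernel
theorem rc87 : allBelow (fun k => fr (Nat.add 4263 k)) 49 = true := by decide +kernel
theorem rc88 : allBelow (fun k => fr (Nat.add 4312 k)) 49 = true := by decide +kernel
theorem rc89 : allBelow (fun k => fr (Nat.add 4361 k)) 49 = true := by decide +kernel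
theorem rc90 : allBelow (fun k => fr (Nat.add 4410 k)) 49 = true := by decide +kernel
theorem rc91 : allBelow (fun k => fr (Nat.add 4459 k)) 49 = true := by decide +kernel
theorem rc92 : allBelow (fun k => fr (Nat.add 4508 k)) 49 = true := by decide +kernel
theorem rc93 : allBelow (fun k => fr (Nat.add 4557 k)) 49 = true := by decide +kernel
theorem rc94 : allBelow (fun k => fr (Nat.add 4606 k)) 49 = true := by decide +kernel
theorem rc95 : allBelow (fun k => fr (Nat.add 4655 k)) 49 = true := by decide +kernel
theorem rc96 : allBelow (fun k => fr (Nat.add 4704 k)) 49 = true := by decide +kernel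
theorem rc97 : allBelow (fun k => fr (Nat.add 4753 k)) 49 = true := by decide +kernel
theorem rc98 : allBelow (fun k => fr (Nat.add 4802 k)) 49 = true := by decide +kernel
theorem rc99 : allBelow (fun k => fr (Nat.add 4851 k)) 49 = true := by decide +kernel
theorem rc100 : allBelow (fun k => fr (Nat.add 4900 k)) 49 = true := by decide +kernel
theorem rc101 : allBelow (fun k => fr (Nat.add 4949 k)) 49 = true := by decide +kernel
theorem rc102 : allBelow (fun k => fr (Nat.add 4998 k)) 49 = true := by decide +kernel
theorem rc103 : allBelow (fun k => fr (Nat.add 5047 k)) 49 = true := by decide +kernel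
theorem rc104 : allBelow (fun k => fr (Nat.add 5096 k)) 49 = true := by decide +kernel
theorem rc105 : allBelow (fun k => fr (Nat.add 5145 k)) 49 = true := by decide +kernel
theorem rc106 : allBelow (fun k => fr (Nat.add 5194 k)) 49 = true := by decide +kernel
theorem rc107 : allBelow (fun k => fr (Nat.add 5243 k)) 49 = true := by decide +kernel
theorem rc108 : allBelow (fun k => fr (Nat.add 5292 k)) 49 = true := by decide +kernel
theorem rc109 : allBelow (fun k => fr (Nat.add 5341 k)) 49 = true := by decide +kernel
theorem rc110 : allBelow (fun k => fr (Nat.add 5390 k)) 49 = true := by decide +kernel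
theorem rc111 : allBelow (fun k => fr (Nat.add 5439 k)) 49 = true := by decide +kernel
theorem rc112 : allBelow (fun k => fr (Nat.add 5488 k)) 49 = true := by decide +kernel
theorem rc113 : allBelow (fun k => fr (Nat.add 5537 k)) 49 = true := by decide +kernel
theorem rc114 : allBelow (fun k => fr (Nat.add 5586 k)) 49 = true := by decide +kernel
theorem rc115 : allBelow (fun k => fr (Nat.add 5635 k)) 49 = true := by decide +kernel
theorem rc116 : allBelow (fun k => fr (Nat.add 5684 k)) 49 = true := by decide +kernel
theorem rc117 : allBelow (fun k => fr (Nat.add 5733 k)) 49 = true := by decide +kernel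
theorem rc118 : allBelow (fun k => fr (Nat.add 5782 k)) 49 = true := by decide +kernel
theorem rc119 : allBelow (fun k => fr (Nat.add 5831 k)) 49 = true := by decide +kernel
theorem rc120 : allBelow (fun k => fr (Nat.add 5880 k)) 49 = true := by decide +kernel
theorem rc121 : allBelow (fun k => fr (Nat.add 5929 k)) 49 = true := by decide +kernel
theorem rc122 : allBelow (fun k => fr (Nat.add 5978 k)) 49 = true := by decide +kernel
theorem rc123 : allBelow (fun k => fr (Nat.add 6027 k)) 49 = true := by decide +kernel
theorem rc124 : allBelow (fun k => fr (Nat.add 6076 k)) 49 = true := by decide +kernel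
theorem rc125 : allBelow (fun k => fr (Nat.add 6125 k)) 49 = true := by decide +kernel
theorem rc126 : allBelow (fun k => fr (Nat.add 6174 k)) 49 = true := by decide +kernel
theorem rc127 : allBelow (fun k => fr (Nat.add 6223 k)) 49 = true := by decide +kernel
theorem rc128 : allBelow (fun k => fr (Nat.add 6272 k)) 49 = true := by decide +kernel
theorem rc129 : allBelow (fun k => fr (Nat.add 6321 k)) 49 = true := by decide +kernel
theorem rc130 : allBelow (fun k => fr (Nat.add 6370 k)) 49 = true := by decide +kernel
theorem rc131 : allBelow (fun k => fr (Nat.add 6419 k)) 49 = true := by decide +kernel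
theorem rc132 : allBelow (fun k => fr (Nat.add 6468 k)) 49 = true := by decide +kernel
theorem rc133 : allBelow (fun k => fr (Nat.add 6517 k)) 49 = true := by decide +kernel
theorem rc134 : allBelow (fun k => fr (Nat.add 6566 k)) 49 = true := by decide +kernel
theorem rc135 : allBelow (fun k => fr (Nat.add 6615 k)) 49 = true := by decide +kernel
theorem rc136 : allBelow (fun k => fr (Nat.add 6664 k)) 49 = true := by decide +kernel
theorem rc137 : allBelow (fun k => fr (Nat.add 6713 k)) 49 = true := by decide +kernel
theorem rc138 : allBelow (fun k => fr (Nat.add 6762 k)) 49 = true := by decide +kernel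
theorem rc139 : allBelow (fun k => fr (Nat.add 6811 k)) 49 = true := by decide +kernel
theorem rc140 : allBelow (fun k => fr (Nat.add 6860 k)) 49 = true := by decide +kernel
theorem rc141 : allBelow (fun k => fr (Nat.add 6909 k)) 49 = true := by decide +kernel
theorem rc142 : allBelow (fun k => fr (Nat.add 6958 k)) 49 = true := by decide +kernel
theorem rc143 : allBelow (fun k => fr (Nat.add 7007 k)) 49 = true := by decide +kernel
theorem rc144 : allBelow (fun k => fr (Nat.add 7056 k)) 49 = true := by decide +kernel
theorem rc145 : allBelow (fun k => fr (Nat.add 7105 k)) 49 = true := by decide +kernel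
theorem rc146 : allBelow (fun k => fr (Nat.add 7154 k)) 49 = true := by decide +kernel
theorem rc147 : allBelow (fun k => fr (Nat.add 7203 k)) 49 = true := by decide +kernel
theorem rc148 : allBelow (fun k => fr (Nat.add 7252 k)) 49 = true := by decide +kernel
theorem rc149 : allBelow (fun k => fr (Nat.add 7301 k)) 49 = true := by decide +kernel
theorem rc150 : allBelow (fun k => fr (Nat.add 7350 k)) 49 = true := by decide +kernel
theorem rc151 : allBelow (fun k => fr (Nat.add 7399 k)) 49 = true := by decide +kernel
theorem rc152 : allBelow (fun k => fr (Nat.add 7448 k)) 49 = true := by decide +kernel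
theorem rc153 : allBelow (fun k => fr (Nat.add 7497 k)) 49 = true := by decide +kernel
theorem rc154 : allBelow (fun k => fr (Nat.add 7546 k)) 49 = true := by decide +kernel
theorem rc155 : allBelow (fun k => fr (Nat.add 7595 k)) 49 = true := by decide +kernel
theorem rc156 : allBelow (fun k => fr (Nat.add 7644 k)) 49 = true := by decide +kernel
theorem rc157 : allBelow (fun k => fr (Nat.add 7693 k)) 49 = true := by decide +kernel
theorem rc158 : allBelow (fun k => fr (Nat.add 7742 k)) 49 = true := by decide +kernel
theorem rc159 : allBelow (fun k => fr (Nat.add 7791 k)) 49 = true := by decide +kernel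
theorem rc160 : allBelow (fun k => fr (Nat.add 7840 k)) 49 = true := by decide +kernel
theorem rc161 : allBelow (fun k => fr (Nat.add 7889 k)) 49 = true := by decide +kernel
theorem rc162 : allBelow (fun k => fr (Nat.add 7938 k)) 49 = true := by decide +kernel
theorem rc163 : allBelow (fun k => fr (Nat.add 7987 k)) 49 = true := by decide +kernel
theorem rc164 : allBelow (fun k => fr (Nat.add 8036 k)) 49 = true := by decide +kernel
theorem rc165 : allBelow (fun k => fr (Nat.add 8085 k)) 49 = true := by decide +kernel
theorem rc166 : allBelow (fun k => fr (Nat.add 8134 k)) 49 = true := by decide +kernel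
theorem rc167 : allBelow (fun k => fr (Nat.add 8183 k)) 49 = true := by decide +kernel
theorem rc168 : allBelow (fun k => fr (Nat.add 8232 k)) 49 = true := by decide +kernel
theorem rc169 : allBelow (fun k => fr (Nat.add 8281 k)) 49 = true := by decide +kernel
theorem rc170 : allBelow (fun k => fr (Nat.add 8330 k)) 49 = true := by decide +kernel
theorem rc171 : allBelow (fun k => fr (Nat.add 8379 k)) 49 = true := by decide +kernel
theorem rc172 : allBelow (fun k => fr (Nat.add 8428 k)) 49 = true := by decide +kernel
theorem rc173 : allBelow (fun k => fr (Nat.add 8477 k)) 49 = true := by decide +kernel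
theorem rc174 : allBelow (fun k => fr (Nat.add 8526 k)) 49 = true := by decide +kernel
theorem rc175 : allBelow (fun k => fr (Nat.add 8575 k)) 49 = true := by decide +kernel
theorem rc176 : allBelow (fun k => fr (Nat.add 8624 k)) 49 = true := by decide +kernel
theorem rc177 : allBelow (fun k => fr (Nat.add 8673 k)) 49 = true := by decide +kernel
theorem rc178 : allBelow (fun k => fr (Nat.add 8722 k)) 49 = true := by decide +kernel
theorem rc179 : allBelow (fun k => fr (Nat.add 8771 k)) 49 = true := by decide +kernel
theorem rc180 : allBelow (fun k => fr (Nat.add 8820 k)) 49 = true := by decide +kernel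
theorem rc181 : allBelow (fun k => fr (Nat.add 8869 k)) 49 = true := by decide +kernel
theorem rc182 : allBelow (fun k => fr (Nat.add 8918 k)) 49 = true := by decide +kernel
theorem rc183 : allBelow (fun k => fr (Nat.add 8967 k)) 49 = true := by decide +kernel
theorem rc184 : allBelow (fun k => fr (Nat.add 9016 k)) 49 = true := by decide +kernel
theorem rc185 : allBelow (fun k => fr (Nat.add 9065 k)) 49 = true := by decide +kernel
theorem rc186 : allBelow (fun k => fr (Nat.add 9114 k)) 49 = true := by decide +kernel
theorem rc187 : allBelow (fun k => fr (Nat.add 9163 k)) 49 = true := by decide +kernel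
theorem rc188 : allBelow (fun k => fr (Nat.add 9212 k)) 49 = true := by decide +kernel
theorem rc189 : allBelow (fun k => fr (Nat.add 9261 k)) 49 = true := by decide +kernel
theorem rc190 : allBelow (fun k => fr (Nat.add 9310 k)) 49 = true := by decide +kernel
theorem rc191 : allBelow (fun k => fr (Nat.add 9359 k)) 49 = true := by decide +kernel
theorem rc192 : allBelow (fun k => fr (Nat.add 9408 k)) 49 = true := by decide +kernel
theorem rc193 : allBelow (fun k => fr (Nat.add 9457 k)) 49 = true := by decide +kernel
theorem rc194 : allBelow (fun k => fr (Nat.add 9506 k)) 49 = true := by decide +kernel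
theorem rc195 : allBelow (fun k => fr (Nat.add 9555 k)) 49 = true := by decide +kernel
theorem rc196 : allBelow (fun k => fr (Nat.add 9604 k)) 49 = true := by decide +kernel
theorem rc197 : allBelow (fun k => fr (Nat.add 9653 k)) 49 = true := by decide +kernel
theorem rc198 : allBelow (fun k => fr (Nat.add 9702 k)) 49 = true := by decide +kernel
theorem rc199 : allBelow (fun k => fr (Nat.add 9751 k)) 49 = true := by decide +kernel
theorem rc200 : allBelow (fun k => fr (Nat.add 9800 k)) 49 = true := by decide +kernel
theorem rc201 : allBelow (fun k => fr (Nat.add 9849 k)) 49 = true := by decide +kernel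
theorem rc202 : allBelow (fun k => fr (Nat.add 9898 k)) 49 = true := by decide +kernel
theorem rc203 : allBelow (fun k => fr (Nat.add 9947 k)) 49 = true := by decide +kernel
theorem rc204 : allBelow (fun k => fr (Nat.add 9996 k)) 49 = true := by decide +kernel
theorem rc205 : allBelow (fun k => fr (Nat.add 10045 k)) 49 = true := by decide +kernel
theorem rc206 : allBelow (fun k => fr (Nat.add 10094 k)) 49 = true := by decide +kernel
theorem rc207 : allBelow (fun k => fr (Nat.add 10143 k)) 49 = true := by decide +kernel
theorem rc208 : allBelow (fun k => fr (Nat.add 10192 k)) 49 = true := by decide +kernel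
theorem rc209 : allBelow (fun k => fr (Nat.add 10241 k)) 49 = true := by decide +kernel
theorem rc210 : allBelow (fun k => fr (Nat.add 10290 k)) 49 = true := by decide +kernel
theorem rc211 : allBelow (fun k => fr (Nat.add 10339 k)) 49 = true := by decide +kernel
theorem rc212 : allBelow (fun k => fr (Nat.add 10388 k)) 49 = true := by decide +kernel
theorem rc213 : allBelow (fun k => fr (Nat.add 10437 k)) 49 = true := by decide +kernel
theorem rc214 : allBelow (fun k => fr (Nat.add 10486 k)) 49 = true := by decide +kernel
theorem rc215 : allBelow (fun k => fr (Nat.add 10535 k)) 49 = true := by decide +kernel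
theorem rc216 : allBelow (fun k => fr (Nat.add 10584 k)) 49 = true := by decide +kernel
theorem rc217 : allBelow (fun k => fr (Nat.add 10633 k)) 49 = true := by decide +kernel
theorem rc218 : allBelow (fun k => fr (Nat.add 10682 k)) 49 = true := by decide +kernel
theorem rc219 : allBelow (fun k => fr (Nat.add 10731 k)) 49 = true := by decide +kernel
theorem rc220 : allBelow (fun k => fr (Nat.add 10780 k)) 49 = true := by decide +kernel
theorem rc221 : allBelow (fun k => fr (Nat.add 10829 k)) 49 = true := by decide +kernel
theorem rc222 : allBelow (fun k => fr (Nat.add 10878 k)) 49 = true := by decide +kernel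
theorem rc223 : allBelow (fun k => fr (Nat.add 10927 k)) 49 = true := by decide +kernel
theorem rc224 : allBelow (fun k => fr (Nat.add 10976 k)) 49 = true := by decide +kernel
theorem rc225 : allBelow (fun k => fr (Nat.add 11025 k)) 49 = true := by decide +kernel
theorem rc226 : allBelow (fun k => fr (Nat.add 11074 k)) 49 = true := by decide +kernel
theorem rc227 : allBelow (fun k => fr (Nat.add 11123 k)) 49 = true := by decide +kernel
theorem rc228 : allBelow (fun k => fr (Nat.add 11172 k)) 49 = true := by decide +kernel
theorem rc229 : allBelow (fun k => fr (Nat.add 11221 k)) 49 = true := by decide +kernel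
theorem rc230 : allBelow (fun k => fr (Nat.add 11270 k)) 49 = true := by decide +kernel
theorem rc231 : allBelow (fun k => fr (Nat.add 11319 k)) 49 = true := by decide +kernel
theorem rc232 : allBelow (fun k => fr (Nat.add 11368 k)) 49 = true := by decide +kernel
theorem rc233 : allBelow (fun k => fr (Nat.add 11417 k)) 49 = true := by decide +kernel
theorem rc234 : allBelow (fun k => fr (Nat.add 11466 k)) 49 = true := by decide +kernel
theorem rc235 : allBelow (fun k => fr (Nat.add 11515 k)) 49 = true := by decide +kernel
theorem rc236 : allBelow (fun k => fr (Nat.add 11564 k)) 49 = true := by decide +kernel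
theorem rc237 : allBelow (fun k => fr (Nat.add 11613 k)) 49 = true := by decide +kernel
theorem rc238 : allBelow (fun k => fr (Nat.add 11662 k)) 49 = true := by decide +kernel
theorem rc239 : allBelow (fun k => fr (Nat.add 11711 k)) 49 = true := by decide +kernel
theorem rc240 : allBelow (fun k => fr (Nat.add 11760 k)) 49 = true := by decide +kernel
theorem rc241 : allBelow (fun k => fr (Nat.add 11809 k)) 49 = true := by decide +kernel
theorem rc242 : allBelow (fun k => fr (Nat.add 11858 k)) 49 = true := by decide +kernel
theorem rc243 : allBelow (fun k => fr (Nat.add 11907 k)) 49 = true := by decide +kernel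
theorem rc244 : allBelow (fun k => fr (Nat.add 11956 k)) 49 = true := by decide +kernel
theorem rc245 : allBelow (fun k => fr (Nat.add 12005 k)) 49 = true := by decide +kernel
theorem rc246 : allBelow (fun k => fr (Nat.add 12054 k)) 49 = true := by decide +kernel
theorem rc247 : allBelow (fun k => fr (Nat.add 12103 k)) 49 = true := by decide +kernel
theorem rc248 : allBelow (fun k => fr (Nat.add 12152 k)) 49 = true := by decide +kernel
theorem rc249 : allBelow (fun k => fr (Nat.add 12201 k)) 49 = true := by decide +kernel
theorem rc250 : allBelow (fun k => fr (Nat.add 12250 k)) 49 = true := by decide +kernel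
theorem rc251 : allBelow (fun k => fr (Nat.add 12299 k)) 49 = true := by decide +kernel
theorem rc252 : allBelow (fun k => fr (Nat.add 12348 k)) 49 = true := by decide +kernel
theorem rc253 : allBelow (fun k => fr (Nat.add 12397 k)) 49 = true := by decide +kernel
theorem rc254 : allBelow (fun k => fr (Nat.add 12446 k)) 49 = true := by decide +kernel
theorem rc255 : allBelow (fun k => fr (Nat.add 12495 k)) 49 = true := by decide +kernel
theorem rc256 : allBelow (fun k => fr (Nat.add 12544 k)) 49 = true := by decide +kernel
theorem rc257 : allBelow (fun k => fr (Nat.add 12593 k)) 49 = true := by decide +kernel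
theorem rc258 : allBelow (fun k => fr (Nat.add 12642 k)) 49 = true := by decide +kernel
theorem rc259 : allBelow (fun k => fr (Nat.add 12691 k)) 49 = true := by decide +kernel
theorem rc260 : allBelow (fun k => fr (Nat.add 12740 k)) 49 = true := by decide +kernel
theorem rc261 : allBelow (fun k => fr (Nat.add 12789 k)) 49 = true := by decide +kernel
theorem rc262 : allBelow (fun k => fr (Nat.add 12838 k)) 49 = true := by decide +kernel
theorem rc263 : allBelow (fun k => fr (Nat.add 12887 k)) 49 = true := by decide +kernel
theorem rc264 : allBelow (fun k => fr (Nat.add 12936 k)) 49 = true := by decide +kernel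
theorem rc265 : allBelow (fun k => fr (Nat.add 12985 k)) 49 = true := by decide +kernel
theorem rc266 : allBelow (fun k => fr (Nat.add 13034 k)) 49 = true := by decide +kernel
theorem rc267 : allBelow (fun k => fr (Nat.add 13083 k)) 49 = true := by decide +kernel
theorem rc268 : allBelow (fun k => fr (Nat.add 13132 k)) 49 = true := by decide +kernel
theorem rc269 : allBelow (fun k => fr (Nat.add 13181 k)) 49 = true := by decide +kernel
theorem rc270 : allBelow (fun k => fr (Nat.add 13230 k)) 49 = true := by decide +kernel
theorem rc271 : allBelow (fun k => fr (Nat.add 13279 k)) 49 = true := by decide +kernel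
theorem rc272 : allBelow (fun k => fr (Nat.add 13328 k)) 49 = true := by decide +kernel
theorem rc273 : allBelow (fun k => fr (Nat.add 13377 k)) 49 = true := by decide +kernel
theorem rc274 : allBelow (fun k => fr (Nat.add 13426 k)) 49 = true := by decide +kernel
theorem rc275 : allBelow (fun k => fr (Nat.add 13475 k)) 49 = true := by decide +kernel
theorem rc276 : allBelow (fun k => fr (Nat.add 13524 k)) 49 = true := by decide +kernel
theorem rc277 : allBelow (fun k => fr (Nat.add 13573 k)) 49 = true := by decide +kernel
theorem rc278 : allBelow (fun k => fr (Nat.add 13622 k)) 49 = true := by decide +kernel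
theorem rc279 : allBelow (fun k => fr (Nat.add 13671 k)) 49 = true := by decide +kernel
theorem rc280 : allBelow (fun k => fr (Nat.add 13720 k)) 49 = true := by decide +kernel
theorem rc281 : allBelow (fun k => fr (Nat.add 13769 k)) 49 = true := by decide +kernel
theorem rc282 : allBelow (fun k => fr (Nat.add 13818 k)) 49 = true := by decide +kernel
theorem rc283 : allBelow (fun k => fr (Nat.add 13867 k)) 49 = true := by decide +kernel
theorem rc284 : allBelow (fun k => fr (Nat.add 13916 k)) 49 = true := by decide +kernel
theorem rc285 : allBelow (fun k => fr (Nat.add 13965 k)) 49 = true := by decide +kernel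
theorem rc286 : allBelow (fun k => fr (Nat.add 14014 k)) 49 = true := by decide +kernel
theorem rc287 : allBelow (fun k => fr (Nat.add 14063 k)) 49 = true := by decide +kernel
theorem rc288 : allBelow (fun k => fr (Nat.add 14112 k)) 49 = true := by decide +kernel
theorem rc289 : allBelow (fun k => fr (Nat.add 14161 k)) 49 = true := by decide +kernel
theorem rc290 : allBelow (fun k => fr (Nat.add 14210 k)) 49 = true := by decide +kernel
theorem rc291 : allBelow (fun k => fr (Nat.add 14259 k)) 49 = true := by decide +kernel
theorem rc292 : allBelow (fun k => fr (Nat.add 14308 k)) 49 = true := by decide +kernel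
theorem rc293 : allBelow (fun k => fr (Nat.add 14357 k)) 49 = true := by decide +kernel
theorem rc294 : allBelow (fun k => fr (Nat.add 14406 k)) 49 = true := by decide +kernel
theorem rc295 : allBelow (fun k => fr (Nat.add 14455 k)) 49 = true := by decide +kernel
theorem rc296 : allBelow (fun k => fr (Nat.add 14504 k)) 49 = true := by decide +kernel
theorem rc297 : allBelow (fun k => fr (Nat.add 14553 k)) 49 = true := by decide +kernel
theorem rc298 : allBelow (fun k => fr (Nat.add 14602 k)) 49 = true := by decide +kernel
theorem rc299 : allBelow (fun k => fr (Nat.add 14651 k)) 49 = true := by decide +kernel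
theorem rc300 : allBelow (fun k => fr (Nat.add 14700 k)) 49 = true := by decide +kernel
theorem rc301 : allBelow (fun k => fr (Nat.add 14749 k)) 49 = true := by decide +kernel
theorem rc302 : allBelow (fun k => fr (Nat.add 14798 k)) 49 = true := by decide +kernel
theorem rc303 : allBelow (fun k => fr (Nat.add 14847 k)) 49 = true := by decide +kernel
theorem rc304 : allBelow (fun k => fr (Nat.add 14896 k)) 49 = true := by decide +kernel
theorem rc305 : allBelow (fun k => fr (Nat.add 14945 k)) 49 = true := by decide +kernel
theorem rc306 : allBelow (fun k => fr (Nat.add 14994 k)) 49 = true := by decide +kernel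
theorem rc307 : allBelow (fun k => fr (Nat.add 15043 k)) 49 = true := by decide +kernel
theorem rc308 : allBelow (fun k => fr (Nat.add 15092 k)) 49 = true := by decide +kernel
theorem rc309 : allBelow (fun k => fr (Nat.add 15141 k)) 49 = true := by decide +kernel
theorem rc310 : allBelow (fun k => fr (Nat.add 15190 k)) 49 = true := by decide +kernel
theorem rc311 : allBelow (fun k => fr (Nat.add 15239 k)) 49 = true := by decide +kernel
theorem rc312 : allBelow (fun k => fr (Nat.add 15288 k)) 49 = true := by decide +kernel
theorem rc313 : allBelow (fun k => fr (Nat.add 15337 k)) 49 = true := by decide +kernel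
theorem rc314 : allBelow (fun k => fr (Nat.add 15386 k)) 49 = true := by decide +kernel
theorem rc315 : allBelow (fun k => fr (Nat.add 15435 k)) 49 = true := by decide +kernel
theorem rc316 : allBelow (fun k => fr (Nat.add 15484 k)) 49 = true := by decide +kernel
theorem rc317 : allBelow (fun k => fr (Nat.add 15533 k)) 49 = true := by decide +kernel
theorem rc318 : allBelow (fun k => fr (Nat.add 15582 k)) 49 = true := by decide +kernel
theorem rc319 : allBelow (fun k => fr (Nat.add 15631 k)) 49 = true := by decide +kernel
theorem rc320 : allBelow (fun k => fr (Nat.add 15680 k)) 49 = true := by decide +kernel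
theorem rc321 : allBelow (fun k => fr (Nat.add 15729 k)) 49 = true := by decide +kernel
theorem rc322 : allBelow (fun k => fr (Nat.add 15778 k)) 49 = true := by decide +kernel
theorem rc323 : allBelow (fun k => fr (Nat.add 15827 k)) 49 = true := by decide +kernel
theorem rc324 : allBelow (fun k => fr (Nat.add 15876 k)) 49 = true := by decide +kernel
theorem rc325 : allBelow (fun k => fr (Nat.add 15925 k)) 49 = true := by decide +kernel
theorem rc326 : allBelow (fun k => fr (Nat.add 15974 k)) 49 = true := by decide +kernel
theorem rc327 : allBelow (fun k => fr (Nat.add 16023 k)) 49 = true := by decide +kernel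
theorem rc328 : allBelow (fun k => fr (Nat.add 16072 k)) 49 = true := by decide +kernel
theorem rc329 : allBelow (fun k => fr (Nat.add 16121 k)) 49 = true := by decide +kernel
theorem rc330 : allBelow (fun k => fr (Nat.add 16170 k)) 49 = true := by decide +kernel
theorem rc331 : allBelow (fun k => fr (Nat.add 16219 k)) 49 = true := by decide +kernel
theorem rc332 : allBelow (fun k => fr (Nat.add 16268 k)) 49 = true := by decide +kernel
theorem rc333 : allBelow (fun k => fr (Nat.add 16317 k)) 49 = true := by decide +kernel
theorem rc334 : allBelow (fun k => fr (Nat.add 16366 k)) 49 = true := by decide +kernel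
theorem rc335 : allBelow (fun k => fr (Nat.add 16415 k)) 49 = true := by decide +kernel
theorem rc336 : allBelow (fun k => fr (Nat.add 16464 k)) 49 = true := by decide +kernel
theorem rc337 : allBelow (fun k => fr (Nat.add 16513 k)) 49 = true := by decide +kernel
theorem rc338 : allBelow (fun k => fr (Nat.add 16562 k)) 49 = true := by decide +kernel
theorem rc339 : allBelow (fun k => fr (Nat.add 16611 k)) 49 = true := by decide +kernel
theorem rc340 : allBelow (fun k => fr (Nat.add 16660 k)) 49 = true := by decide +kernel
theorem rc341 : allBelow (fun k => fr (Nat.add 16709 k)) 49 = true := by decide +kernel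
theorem rc342 : allBelow (fun k => fr (Nat.add 16758 k)) 49 = true := by decide +kernel
theorem rc343 : allBelow (fun k => fr (Nat.add 16807 k)) 49 = true := by decide +kernel
theorem rc344 : allBelow (fun k => fr (Nat.add 16856 k)) 49 = true := by decide +kernel
theorem rc345 : allBelow (fun k => fr (Nat.add 16905 k)) 49 = true := by decide +kernel
theorem rc346 : allBelow (fun k => fr (Nat.add 16954 k)) 49 = true := by decide +kernel
theorem rc347 : allBelow (fun k => fr (Nat.add 17003 k)) 49 = true := by decide +kernel
theorem rc348 : allBelow (fun k => fr (Nat.add 17052 k)) 49 = true := by decide +kernel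
theorem rc349 : allBelow (fun k => fr (Nat.add 17101 k)) 49 = true := by decide +kernel
theorem rc350 : allBelow (fun k => fr (Nat.add 17150 k)) 49 = true := by decide +kernel

end Cfsg.Agent.Lib.Helper35.ON122760
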