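import Cfsg.Agent.Lib.Helper35.ON122760.PData

set_option Elab.async false

namespace Cfsg.Agent.Lib.Helper35.ON122760

open Cfsg.Agent.Lib.Helper35

theorem rc351 : allBelow (fun k => fr (Nat.add 17199 k)) 49 = true := by decide +kernel
theorem rc352 : allBelow (fun k => fr (Nat.add 17248 k)) 49 = true := by decide +kernel
theorem rc353 : allBelow (fun k => fr (Nat.add 17297 k)) 49 = true := by decide +kernel
theorem rc354 : allBelow (fun k => fr (Nat.add 17346 k)) 49 = true := by decide +kernel
theorem rc355 : allBelow (fun k => fr (Nat.add 17395 k)) 49 = true := by decide +kernel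
theorem rc356 : allBelow (fun k => fr (Nat.add 17444 k)) 49 = true := by decide +kernel
theorem rc357 : allBelow (fun k => fr (Nat.add 17493 k)) 49 = true := by decide +kernel
theorem rc358 : allBelow (fun k => fr (Nat.add 17542 k)) 49 = true := by decide +kernel
theorem rc359 : allBelow (fun k => fr (Nat.add 17591 k)) 49 = true := by decide +kernel
theorem rc360 : allBelow (fun k => fr (Nat.add 17640 k)) 49 = true := by decide +kernel
theorem rc361 : allBelow (fun k => fr (Nat.add 17689 k)) 49 = true := by decide +kernel
theorem rc362 : allBelow (fun k => fr (Nat.add 17738 k)) 49 = true := by decide +kernel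
theorem rc363 : allBelow (fun k => fr (Nat.add 17787 k)) 49 = true := by decide +kernel
theorem rc364 : allBelow (fun k => fr (Nat.add 17836 k)) 49 = true := by decide +kernel
theorem rc365 : allBelow (fun k => fr (Nat.add 17885 k)) 49 = true := by decide +kernel
theorem rc366 : allBelow (fun k => fr (Nat.add 17934 k)) 49 = true := by decide +kernel
theorem rc367 : allBelow (fun k => fr (Nat.add 17983 k)) 49 = true := by decide +kernel
theorem rc368 : allBelow (fun k => fr (Nat.add 18032 k)) 49 = true := by decide +kernel
theorem rc369 : allBelow (fun k => fr (Nat.add 18081 k)) 49 = true := by decide +kernel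
theorem rc370 : allBelow (fun k => fr (Nat.add 18130 k)) 49 = true := by decide +kernel
theorem rc371 : allBelow (fun k => fr (Nat.add 18179 k)) 49 = true := by decide +kernel
theorem rc372 : allBelow (fun k => fr (Nat.add 18228 k)) 49 = true := by decide +kernel
theorem rc373 : allBelow (fun k => fr (Nat.add 18277 k)) 49 = true := by decide +kernel
theorem rc374 : allBelow (fun k => fr (Nat.add 18326 k)) 49 = true := by decide +kernel
theorem rc375 : allBelow (fun k => fr (Nat.add 18375 k)) 49 = true := by decide +kernel
theorem rc376 : allBelow (fun k => fr (Nat.add 18424 k)) 49 = true := by decide +kernel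
theorem rc377 : allBelow (fun k => fr (Nat.add 18473 k)) 49 = true := by decide +kernel
theorem rc378 : allBelow (fun k => fr (Nat.add 18522 k)) 49 = true := by decide +kernel
theorem rc379 : allBelow (fun k => fr (Nat.add 18571 k)) 49 = true := by decide +kernel
theorem rc380 : allBelow (fun k => fr (Nat.add 18620 k)) 49 = true := by decide +kernel
theorem rc381 : allBelow (fun k => fr (Nat.add 18669 k)) 49 = true := by decide +kernel
theorem rc382 : allBelow (fun k => fr (Nat.add 18718 k)) 49 = true := by decide +kernel
theorem rc383 : allBelow (fun k => fr (Nat.add 18767 k)) 49 = true := by decide +kernel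
theorem rc384 : allBelow (fun k => fr (Nat.add 18816 k)) 49 = true := by decide +kernel
theorem rc385 : allBelow (fun k => fr (Nat.add 18865 k)) 49 = true := by decide +kernel
theorem rc386 : allBelow (fun k => fr (Nat.add 18914 k)) 49 = true := by decide +kernel
theorem rc387 : allBelow (fun k => fr (Nat.add 18963 k)) 49 = true := by decide +kernel
theorem rc388 : allBelow (fun k => fr (Nat.add 19012 k)) 49 = true := by decide +kernel
theorem rc389 : allBelow (fun k => fr (Nat.add 19061 k)) 49 = true := by decide +kernel
theorem rc390 : allBelow (fun k => fr (Nat.add 19110 k)) 49 = true := by decide +kernel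
theorem rc391 : allBelow (fun k => fr (Nat.add 19159 k)) 49 = true := by decide +kernel
theorem rc392 : allBelow (fun k => fr (Nat.add 19208 k)) 49 = true := by decide +kernel
theorem rc393 : allBelow (fun k => fr (Nat.add 19257 k)) 49 = true := by decide +kernel
theorem rc394 : allBelow (fun k => fr (Nat.add 19306 k)) 49 = true := by decide +kernel
theorem rc395 : allBelow (fun k => fr (Nat.add 19355 k)) 49 = true := by decide +kernel
theorem rc396 : allBelow (fun k => fr (Nat.add 19404 k)) 49 = true := by decide +kernel
theorem rc397 : allBelow (fun k => fr (Nat.add 19453 k)) 49 = true := by decide +kernel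
theorem rc398 : allBelow (fun k => fr (Nat.add 19502 k)) 49 = true := by decide +kernel
theorem rc399 : allBelow (fun k => fr (Nat.add 19551 k)) 49 = true := by decide +kernel
theorem rc400 : allBelow (fun k => fr (Nat.add 19600 k)) 49 = true := by decide +kernel
theorem rc401 : allBelow (fun k => fr (Nat.add 19649 k)) 49 = true := by decide +kernel
theorem rc402 : allBelow (fun k => fr (Nat.add 19698 k)) 49 = true := by decide +kernel
theorem rc403 : allBelow (fun k => fr (Nat.add 19747 k)) 49 = true := by decide +kernel
theorem rc404 : allBelow (fun k => fr (Nat.add 19796 k)) 49 = true := by decide +kernel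
theorem rc405 : allBelow (fun k => fr (Nat.add 19845 k)) 49 = true := by decide +kernel
theorem rc406 : allBelow (fun k => fr (Nat.add 19894 k)) 49 = true := by decide +kernel
theorem rc407 : allBelow (fun k => fr (Nat.add 19943 k)) 49 = true := by decide +kernel
theorem rc408 : allBelow (fun k => fr (Nat.add 19992 k)) 49 = true := by decide +kernel
theorem rc409 : allBelow (fun k => fr (Nat.add 20041 k)) 49 = true := by decide +kernel
theorem rc410 : allBelow (fun k => fr (Nat.add 20090 k)) 49 = true := by decide +kernel
theorem rc411 : allBelow (fun k => fr (Nat.add 20139 k)) 49 = true := by decide +kernel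
theorem rc412 : allBelow (fun k => fr (Nat.add 20188 k)) 49 = true := by decide +kernel
theorem rc413 : allBelow (fun k => fr (Nat.add 20237 k)) 49 = true := by decide +kernel
theorem rc414 : allBelow (fun k => fr (Nat.add 20286 k)) 49 = true := by decide +kernel
theorem rc415 : allBelow (fun k => fr (Nat.add 20335 k)) 49 = true := by decide +kernel
theorem rc416 : allBelow (fun k => fr (Nat.add 20384 k)) 49 = true := by decide +kernel
theorem rc417 : allBelow (fun k => fr (Nat.add 20433 k)) 49 = true := by decide +kernel
theorem rc418 : allBelow (fun k => fr (Nat.add 20482 k)) 49 = true := by decide +kernel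
theorem rc419 : allBelow (fun k => fr (Nat.add 20531 k)) 49 = true := by decide +kernel
theorem rc420 : allBelow (fun k => fr (Nat.add 20580 k)) 49 = true := by decide +kernel
theorem rc421 : allBelow (fun k => fr (Nat.add 20629 k)) 49 = true := by decide +kernel
theorem rc422 : allBelow (fun k => fr (Nat.add 20678 k)) 49 = true := by decide +kernel
theorem rc423 : allBelow (fun k => fr (Nat.add 20727 k)) 49 = true := by decide +kernel
theorem rc424 : allBelow (fun k => fr (Nat.add 20776 k)) 49 = true := by decide +kernel
theorem rc425 : allBelow (fun k => fr (Nat.add 20825 k)) 49 = true := by decide +kernel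
theorem rc426 : allBelow (fun k => fr (Nat.add 20874 k)) 49 = true := by decide +kernel
theorem rc427 : allBelow (fun k => fr (Nat.add 20923 k)) 49 = true := by decide +kernel
theorem rc428 : allBelow (fun k => fr (Nat.add 20972 k)) 49 = true := by decide +kernel
theorem rc429 : allBelow (fun k => fr (Nat.add 21021 k)) 49 = true := by decide +kernel
theorem rc430 : allBelow (fun k => fr (Nat.add 21070 k)) 49 = true := by decide +kernel
theorem rc431 : allBelow (fun k => fr (Nat.add 21119 k)) 49 = true := by decide +kernel
theorem rc432 : allBelow (fun k => fr (Nat.add 21168 k)) 49 = true := by decide +kernel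
theorem rc433 : allBelow (fun k => fr (Nat.add 21217 k)) 49 = true := by decide +kernel
theorem rc434 : allBelow (fun k => fr (Nat.add 21266 k)) 49 = true := by decide +kernel
theorem rc435 : allBelow (fun k => fr (Nat.add 21315 k)) 49 = true := by decide +kernel
theorem rc436 : allBelow (fun k => fr (Nat.add 21364 k)) 49 = true := by decide +kernel
theorem rc437 : allBelow (fun k => fr (Nat.add 21413 k)) 49 = true := by decide +kernel
theorem rc438 : allBelow (fun k => fr (Nat.add 21462 k)) 49 = true := by decide +kernel
theorem rc439 : allBelow (fun k => fr (Nat.add 21511 k)) 49 = true := by decide +kernel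
theorem rc440 : allBelow (fun k => fr (Nat.add 21560 k)) 49 = true := by decide +kernel
theorem rc441 : allBelow (fun k => fr (Nat.add 21609 k)) 49 = true := by decide +kernel
theorem rc442 : allBelow (fun k => fr (Nat.add 21658 k)) 49 = true := by decide +kernel
theorem rc443 : allBelow (fun k => fr (Nat.add 21707 k)) 49 = true := by decide +kernel
theorem rc444 : allBelow (fun k => fr (Nat.add 21756 k)) 49 = true := by decide +kernel
theorem rc445 : allBelow (fun k => fr (Nat.add 21805 k)) 49 = true := by decide +kernel
theorem rc446 : allBelow (fun k => fr (Nat.add 21854 k)) 49 = true := by decide +kernel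
theorem rc447 : allBelow (fun k => fr (Nat.add 21903 k)) 49 = true := by decide +kernel
theorem rc448 : allBelow (fun k => fr (Nat.add 21952 k)) 49 = true := by decide +kernel
theorem rc449 : allBelow (fun k => fr (Nat.add 22001 k)) 49 = true := by decide +kernel
theorem rc450 : allBelow (fun k => fr (Nat.add 22050 k)) 49 = true := by decide +kernel
theorem rc451 : allBelow (fun k => fr (Nat.add 22099 k)) 49 = true := by decide +kernel
theorem rc452 : allBelow (fun k => fr (Nat.add 22148 k)) 49 = true := by decide +kernel
theorem rc453 : allBelow (fun k => fr (Nat.add 22197 k)) 49 = true := by decide +kernel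
theorem rc454 : allBelow (fun k => fr (Nat.add 22246 k)) 49 = true := by decide +kernel
theorem rc455 : allBelow (fun k => fr (Nat.add 22295 k)) 49 = true := by decide +kernel
theorem rc456 : allBelow (fun k => fr (Nat.add 22344 k)) 49 = true := by decide +kernel
theorem rc457 : allBelow (fun k => fr (Nat.add 22393 k)) 49 = true := by decide +kernel
theorem rc458 : allBelow (fun k => fr (Nat.add 22442 k)) 49 = true := by decide +kernel
theorem rc459 : allBelow (fun k => fr (Nat.add 22491 k)) 49 = true := by decide +kernel
theorem rc460 : allBelow (fun k => fr (Nat.add 22540 k)) 49 = true := by decide +kernel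
theorem rc461 : allBelow (fun k => fr (Nat.add 22589 k)) 49 = true := by decide +kernel
theorem rc462 : allBelow (fun k => fr (Nat.add 22638 k)) 49 = true := by decide +kernel
theorem rc463 : allBelow (fun k => fr (Nat.add 22687 k)) 49 = true := by decide +kernel
theorem rc464 : allBelow (fun k => fr (Nat.add 22736 k)) 49 = true := by decide +kernel
theorem rc465 : allBelow (fun k => fr (Nat.add 22785 k)) 49 = true := by decide +kernel
theorem rc466 : allBelow (fun k => fr (Nat.add 22834 k)) 49 = true := by decide +kernel
theorem rc467 : allBelow (fun k => fr (Nat.add 22883 k)) 49 = true := by decide +kernel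
theorem rc468 : allBelow (fun k => fr (Nat.add 22932 k)) 49 = true := by decide +kernel
theorem rc469 : allBelow (fun k => fr (Nat.add 22981 k)) 49 = true := by decide +kernel
theorem rc470 : allBelow (fun k => fr (Nat.add 23030 k)) 49 = true := by decide +kernel
theorem rc471 : allBelow (fun k => fr (Nat.add 23079 k)) 49 = true := by decide +kernel
theorem rc472 : allBelow (fun k => fr (Nat.add 23128 k)) 49 = true := by decide +kernel
theorem rc473 : allBelow (fun k => fr (Nat.add 23177 k)) 49 = true := by decide +kernel
theorem rc474 : allBelow (fun k => fr (Nat.add 23226 k)) 49 = true := by decide +kernel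
theorem rc475 : allBelow (fun k => fr (Nat.add 23275 k)) 49 = true := by decide +kernel
theorem rc476 : allBelow (fun k => fr (Nat.add 23324 k)) 49 = true := by decide +kernel
theorem rc477 : allBelow (fun k => fr (Nat.add 23373 k)) 49 = true := by decide +kernel
theorem rc478 : allBelow (fun k => fr (Nat.add 23422 k)) 49 = true := by decide +kernel
theorem rc479 : allBelow (fun k => fr (Nat.add 23471 k)) 49 = true := by decide +kernel
theorem rc480 : allBelow (fun k => fr (Nat.add 23520 k)) 49 = true := by decide +kernel
theorem rc481 : allBelow (fun k => fr (Nat.add 23569 k)) 49 = true := by decide +kernel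
theorem rc482 : allBelow (fun k => fr (Nat.add 23618 k)) 49 = true := by decide +kernel
theorem rc483 : allBelow (fun k => fr (Nat.add 23667 k)) 49 = true := by decide +kernel
theorem rc484 : allBelow (fun k => fr (Nat.add 23716 k)) 49 = true := by decide +kernel
theorem rc485 : allBelow (fun k => fr (Nat.add 23765 k)) 49 = true := by decide +kernel
theorem rc486 : allBelow (fun k => fr (Nat.add 23814 k)) 49 = true := by decide +kernel
theorem rc487 : allBelow (fun k => fr (Nat.add 23863 k)) 49 = true := by decide +kernel
theorem rc488 : allBelow (fun k => fr (Nat.add 23912 k)) 49 = true := by decide +kernel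
theorem rc489 : allBelow (fun k => fr (Nat.add 23961 k)) 49 = true := by decide +kernel
theorem rc490 : allBelow (fun k => fr (Nat.add 24010 k)) 49 = true := by decide +kernel
theorem rc491 : allBelow (fun k => fr (Nat.add 24059 k)) 49 = true := by decide +kernel
theorem rc492 : allBelow (fun k => fr (Nat.add 24108 k)) 49 = true := by decide +kernel
theorem rc493 : allBelow (fun k => fr (Nat.add 24157 k)) 49 = true := by decide +kernel
theorem rc494 : allBelow (fun k => fr (Nat.add 24206 k)) 49 = true := by decide +kernel
theorem rc495 : allBelow (fun k => fr (Nat.add 24255 k)) 49 = true := by decide +kernel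
theorem rc496 : allBelow (fun k => fr (Nat.add 24304 k)) 49 = true := by decide +kernel
theorem rc497 : allBelow (fun k => fr (Nat.add 24353 k)) 49 = true := by decide +kernel
theorem rc498 : allBelow (fun k => fr (Nat.add 24402 k)) 49 = true := by decide +kernel
theorem rc499 : allBelow (fun k => fr (Nat.add 24451 k)) 49 = true := by decide +kernel
theorem rc500 : allBelow (fun k => fr (Nat.add 24500 k)) 49 = true := by decide +kernel
theorem rc501 : allBelow (fun k => fr (Nat.add 24549 k)) 49 = true := by decide +kernel
theorem rc502 : allBelow (fun k => fr (Nat.add 24598 k)) 49 = true := by decide +kernel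
theorem rc503 : allBelow (fun k => fr (Nat.add 24647 k)) 49 = true := by decide +kernel
theorem rc504 : allBelow (fun k => fr (Nat.add 24696 k)) 49 = true := by decide +kernel
theorem rc505 : allBelow (fun k => fr (Nat.add 24745 k)) 49 = true := by decide +kernel
theorem rc506 : allBelow (fun k => fr (Nat.add 24794 k)) 49 = true := by decide +kernel
theorem rc507 : allBelow (fun k => fr (Nat.add 24843 k)) 49 = true := by decide +kernel
theorem rc508 : allBelow (fun k => fr (Nat.add 24892 k)) 49 = true := by decide +kernel
theorem rc509 : allBelow (fun k => fr (Nat.add 24941 k)) 49 = true := by decide +kernel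
theorem rc510 : allBelow (fun k => fr (Nat.add 24990 k)) 49 = true := by decide +kernel
theorem rc511 : allBelow (fun k => fr (Nat.add 25039 k)) 49 = true := by decide +kernel
theorem rc512 : allBelow (fun k => fr (Nat.add 25088 k)) 49 = true := by decide +kernel
theorem rc513 : allBelow (fun k => fr (Nat.add 25137 k)) 49 = true := by decide +kernel
theorem rc514 : allBelow (fun k => fr (Nat.add 25186 k)) 49 = true := by decide +kernel
theorem rc515 : allBelow (fun k => fr (Nat.add 25235 k)) 49 = true := by decide +kernel
theorem rc516 : allBelow (fun k => fr (Nat.add 25284 k)) 49 = true := by decide +kernel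
theorem rc517 : allBelow (fun k => fr (Nat.add 25333 k)) 49 = true := by decide +kernel
theorem rc518 : allBelow (fun k => fr (Nat.add 25382 k)) 49 = true := by decide +kernel
theorem rc519 : allBelow (fun k => fr (Nat.add 25431 k)) 49 = true := by decide +kernel
theorem rc520 : allBelow (fun k => fr (Nat.add 25480 k)) 49 = true := by decide +kernel
theorem rc521 : allBelow (fun k => fr (Nat.add 25529 k)) 49 = true := by decide +kernel
theorem rc522 : allBelow (fun k => fr (Nat.add 25578 k)) 49 = true := by decide +kernel
theorem rc523 : allBelow (fun k => fr (Nat.add 25627 k)) 49 = true := by decide +kernel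
theorem rc524 : allBelow (fun k => fr (Nat.add 25676 k)) 49 = true := by decide +kernel
theorem rc525 : allBelow (fun k => fr (Nat.add 25725 k)) 49 = true := by decide +kernel
theorem rc526 : allBelow (fun k => fr (Nat.add 25774 k)) 49 = true := by decide +kernel
theorem rc527 : allBelow (fun k => fr (Nat.add 25823 k)) 49 = true := by decide +kernel
theorem rc528 : allBelow (fun k => fr (Nat.add 25872 k)) 49 = true := by decide +kernel
theorem rc529 : allBelow (fun k => fr (Nat.add 25921 k)) 49 = true := by decide +kernel
theorem rc530 : allBelow (fun k => fr (Nat.add 25970 k)) 49 = true := by decide +kernel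
theorem rc531 : allBelow (fun k => fr (Nat.add 26019 k)) 49 = true := by decide +kernel
theorem rc532 : allBelow (fun k => fr (Nat.add 26068 k)) 49 = true := by decide +kernel
theorem rc533 : allBelow (fun k => fr (Nat.add 26117 k)) 49 = true := by decide +kernel
theorem rc534 : allBelow (fun k => fr (Nat.add 26166 k)) 49 = true := by decide +kernel
theorem rc535 : allBelow (fun k => fr (Nat.add 26215 k)) 49 = true := by decide +kernel
theorem rc536 : allBelow (fun k => fr (Nat.add 26264 k)) 49 = true := by decide +kernel
theorem rc537 : allBelow (fun k => fr (Nat.add 26313 k)) 49 = true := by decide +kernel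
theorem rc538 : allBelow (fun k => fr (Nat.add 26362 k)) 49 = true := by decide +kernel
theorem rc539 : allBelow (fun k => fr (Nat.add 26411 k)) 49 = true := by decide +kernel
theorem rc540 : allBelow (fun k => fr (Nat.add 26460 k)) 49 = true := by decide +kernel
theorem rc541 : allBelow (fun k => fr (Nat.add 26509 k)) 49 = true := by decide +kernel
theorem rc542 : allBelow (fun k => fr (Nat.add 26558 k)) 49 = true := by decide +kernel
theorem rc543 : allBelow (fun k => fr (Nat.add 26607 k)) 49 = true := by decide +kernel
theorem rc544 : allBelow (fun k => fr (Nat.add 26656 k)) 49 = true := by decide +kernel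
theorem rc545 : allBelow (fun k => fr (Nat.add 26705 k)) 49 = true := by decide +kernel
theorem rc546 : allBelow (fun k => fr (Nat.add 26754 k)) 49 = true := by decide +kernel
theorem rc547 : allBelow (fun k => fr (Nat.add 26803 k)) 49 = true := by decide +kernel
theorem rc548 : allBelow (fun k => fr (Nat.add 26852 k)) 49 = true := by decide +kernel
theorem rc549 : allBelow (fun k => fr (Nat.add 26901 k)) 49 = true := by decide +kernel
theorem rc550 : allBelow (fun k => fr (Nat.add 26950 k)) 49 = true := by decide +kernel
theorem rc551 : allBelow (fun k => fr (Nat.add 26999 k)) 49 = true := by decide +kernel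
theorem rc552 : allBelow (fun k => fr (Nat.add 27048 k)) 49 = true := by decide +kernel
theorem rc553 : allBelow (fun k => fr (Nat.add 27097 k)) 49 = true := by decide +kernel
theorem rc554 : allBelow (fun k => fr (Nat.add 27146 k)) 49 = true := by decide +kernel
theorem rc555 : allBelow (fun k => fr (Nat.add 27195 k)) 49 = true := by decide +kernel
theorem rc556 : allBelow (fun k => fr (Nat.add 27244 k)) 49 = true := by decide +kernel
theorem rc557 : allBelow (fun k => fr (Nat.add 27293 k)) 49 = true := by decide +kernel
theorem rc558 : allBelow (fun k => fr (Nat.add 27342 k)) 49 = true := by decide +kernel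
theorem rc559 : allBelow (fun k => fr (Nat.add 27391 k)) 49 = true := by decide +kernel
theorem rc560 : allBelow (fun k => fr (Nat.add 27440 k)) 49 = true := by decide +kernel
theorem rc561 : allBelow (fun k => fr (Nat.add 27489 k)) 49 = true := by decide +kernel
theorem rc562 : allBelow (fun k => fr (Nat.add 27538 k)) 49 = true := by decide +kernel
theorem rc563 : allBelow (fun k => fr (Nat.add 27587 k)) 49 = true := by decide +kernel
theorem rc564 : allBelow (fun k => fr (Nat.add 27636 k)) 49 = true := by decide +kernel
theorem rc565 : allBelow (fun k => fr (Nat.add 27685 k)) 49 = true := by decide +kernel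
theorem rc566 : allBelow (fun k => fr (Nat.add 27734 k)) 49 = true := by decide +kernel
theorem rc567 : allBelow (fun k => fr (Nat.add 27783 k)) 49 = true := by decide +kernel
theorem rc568 : allBelow (fun k => fr (Nat.add 27832 k)) 49 = true := by decide +kernel
theorem rc569 : allBelow (fun k => fr (Nat.add 27881 k)) 49 = true := by decide +kernel
theorem rc570 : allBelow (fun k => fr (Nat.add 27930 k)) 49 = true := by decide +kernel
theorem rc571 : allBelow (fun k => fr (Nat.add 27979 k)) 49 = true := by decide +kernel
theorem rc572 : allBelow (fun k => fr (Nat.add 28028 k)) 49 = true := by decide +kernel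
theorem rc573 : allBelow (fun k => fr (Nat.add 28077 k)) 49 = true := by decide +kernel
theorem rc574 : allBelow (fun k => fr (Nat.add 28126 k)) 49 = true := by decide +kernel
theorem rc575 : allBelow (fun k => fr (Nat.add 28175 k)) 49 = true := by decide +kernel
theorem rc576 : allBelow (fun k => fr (Nat.add 28224 k)) 49 = true := by decide +kernel
theorem rc577 : allBelow (fun k => fr (Nat.add 28273 k)) 49 = true := by decide +kernel
theorem rc578 : allBelow (fun k => fr (Nat.add 28322 k)) 49 = true := by decide +kernel
theorem rc579 : allBelow (fun k => fr (Nat.add 28371 k)) 49 = true := by decide +kernel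
theorem rc580 : allBelow (fun k => fr (Nat.add 28420 k)) 49 = true := by decide +kernel
theorem rc581 : allBelow (fun k => fr (Nat.add 28469 k)) 49 = true := by decide +kernel
theorem rc582 : allBelow (fun k => fr (Nat.add 28518 k)) 49 = true := by decide +kernel
theorem rc583 : allBelow (fun k => fr (Nat.add 28567 k)) 49 = true := by decide +kernel
theorem rc584 : allBelow (fun k => fr (Nat.add 28616 k)) 49 = true := by decide +kernel
theorem rc585 : allBelow (fun k => fr (Nat.add 28665 k)) 49 = true := by decide +kernel
theorem rc586 : allBelow (fun k => fr (Nat.add 28714 k)) 49 = true := by decide +kernel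
theorem rc587 : allBelow (fun k => fr (Nat.add 28763 k)) 49 = true := by decide +kernel
theorem rc588 : allBelow (fun k => fr (Nat.add 28812 k)) 49 = true := by decide +kernel
theorem rc589 : allBelow (fun k => fr (Nat.add 28861 k)) 49 = true := by decide +kernel
theorem rc590 : allBelow (fun k => fr (Nat.add 28910 k)) 49 = true := by decide +kernel
theorem rc591 : allBelow (fun k => fr (Nat.add 28959 k)) 49 = true := by decide +kernel
theorem rc592 : allBelow (fun k => fr (Nat.add 29008 k)) 49 = true := by decide +kernel
theorem rc593 : allBelow (fun k => fr (Nat.add 29057 k)) 49 = true := by decide +kernel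
theorem rc594 : allBelow (fun k => fr (Nat.add 29106 k)) 49 = true := by decide +kernel
theorem rc595 : allBelow (fun k => fr (Nat.add 29155 k)) 49 = true := by decide +kernel
theorem rc596 : allBelow (fun k => fr (Nat.add 29204 k)) 49 = true := by decide +kernel
theorem rc597 : allBelow (fun k => fr (Nat.add 29253 k)) 49 = true := by decide +kernel
theorem rc598 : allBelow (fun k => fr (Nat.add 29302 k)) 49 = true := by decide +kernel
theorem rc599 : allBelow (fun k => fr (Nat.add 29351 k)) 49 = true := by decide +kernel
theorem rc600 : allBelow (fun k => fr (Nat.add 29400 k)) 49 = true := by decide +kernel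
theorem rc601 : allBelow (fun k => fr (Nat.add 29449 k)) 49 = true := by decide +kernel
theorem rc602 : allBelow (fun k => fr (Nat.add 29498 k)) 49 = true := by decide +kernel
theorem rc603 : allBelow (fun k => fr (Nat.add 29547 k)) 49 = true := by decide +kernel
theorem rc604 : allBelow (fun k => fr (Nat.add 29596 k)) 49 = true := by decide +kernel
theorem rc605 : allBelow (fun k => fr (Nat.add 29645 k)) 49 = true := by decide +kernel
theorem rc606 : allBelow (fun k => fr (Nat.add 29694 k)) 49 = true := by decide +kernel
theorem rc607 : allBelow (fun k => fr (Nat.add 29743 k)) 49 = true := by decide +kernel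
theorem rc608 : allBelow (fun k => fr (Nat.add 29792 k)) 49 = true := by decide +kernel
theorem rc609 : allBelow (fun k => fr (Nat.add 29841 k)) 49 = true := by decide +kernel
theorem rc610 : allBelow (fun k => fr (Nat.add 29890 k)) 49 = true := by decide +kernel
theorem rc611 : allBelow (fun k => fr (Nat.add 29939 k)) 49 = true := by decide +kernel
theorem rc612 : allBelow (fun k => fr (Nat.add 29988 k)) 49 = true := by decide +kernel
theorem rc613 : allBelow (fun k => fr (Nat.add 30037 k)) 49 = true := by decide +kernel
theorem rc614 : allBelow (fun k => fr (Nat.add 30086 k)) 49 = true := by decide +kernel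
theorem rc615 : allBelow (fun k => fr (Nat.add 30135 k)) 49 = true := by decide +kernel
theorem rc616 : allBelow (fun k => fr (Nat.add 30184 k)) 49 = true := by decide +kernel
theorem rc617 : allBelow (fun k => fr (Nat.add 30233 k)) 49 = true := by decide +kernel
theorem rc618 : allBelow (fun k => fr (Nat.add 30282 k)) 49 = true := by decide +kernel
theorem rc619 : allBelow (fun k => fr (Nat.add 30331 k)) 49 = true := by decide +kernel
theorem rc620 : allBelow (fun k => fr (Nat.add 30380 k)) 49 = true := by decide +kernel
theorem rc621 : allBelow (fun k => fr (Nat.add 30429 k)) 49 = true := by decide +kernel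
theorem rc622 : allBelow (fun k => fr (Nat.add 30478 k)) 49 = true := by decide +kernel
theorem rc623 : allBelow (fun k => fr (Nat.add 30527 k)) 49 = true := by decide +kernel
theorem rc624 : allBelow (fun k => fr (Nat.add 30576 k)) 49 = true := by decide +kernel
theorem rc625 : allBelow (fun k => fr (Nat.add 30625 k)) 49 = true := by decide +kernel
theorem rc626 : allBelow (fun k => fr (Nat.add 30674 k)) 49 = true := by decide +kernel
theorem rc627 : allBelow (fun k => fr (Nat.add 30723 k)) 49 = true := by decide +kernel
theorem rc628 : allBelow (fun k => fr (Nat.add 30772 k)) 49 = true := by decide +kernel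
theorem rc629 : allBelow (fun k => fr (Nat.add 30821 k)) 49 = true := by decide +kernel
theorem rc630 : allBelow (fun k => fr (Nat.add 30870 k)) 49 = true := by decide +kernel
theorem rc631 : allBelow (fun k => fr (Nat.add 30919 k)) 49 = true := by decide +kernel
theorem rc632 : allBelow (fun k => fr (Nat.add 30968 k)) 49 = true := by decide +kernel
theorem rc633 : allBelow (fun k => fr (Nat.add 31017 k)) 49 = true := by decide +kernel
theorem rc634 : allBelow (fun k => fr (Nat.add 31066 k)) 49 = true := by decide +kernel
theorem rc635 : allBelow (fun k => fr (Nat.add 31115 k)) 49 = true := by decide +kernel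
theorem rc636 : allBelow (fun k => fr (Nat.add 31164 k)) 49 = true := by decide +kernel
theorem rc637 : allBelow (fun k => fr (Nat.add 31213 k)) 49 = true := by decide +kernel
theorem rc638 : allBelow (fun k => fr (Nat.add 31262 k)) 49 = true := by decide +kernel
theorem rc639 : allBelow (fun k => fr (Nat.add 31311 k)) 49 = true := by decide +kernel
theorem rc640 : allBelow (fun k => fr (Nat.add 31360 k)) 49 = true := by decide +kernel
theorem rc641 : allBelow (fun k => fr (Nat.add 31409 k)) 49 = true := by decide +kernel
theorem rc642 : allBelow (fun k => fr (Nat.add 31458 k)) 49 = true := by decide +kernel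
theorem rc643 : allBelow (fun k => fr (Nat.add 31507 k)) 49 = true := by decide +kernel
theorem rc644 : allBelow (fun k => fr (Nat.add 31556 k)) 49 = true := by decide +kernel
theorem rc645 : allBelow (fun k => fr (Nat.add 31605 k)) 49 = true := by decide +kernel
theorem rc646 : allBelow (fun k => fr (Nat.add 31654 k)) 49 = true := by decide +kernel
theorem rc647 : allBelow (fun k => fr (Nat.add 31703 k)) 49 = true := by decide +kernel
theorem rc648 : allBelow (fun k => fr (Nat.add 31752 k)) 49 = true := by decide +kernel
theorem rc649 : allBelow (fun k => fr (Nat.add 31801 k)) 49 = true := by decide +kernel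
theorem rc650 : allBelow (fun k => fr (Nat.add 31850 k)) 49 = true := by decide +kernel
theorem rc651 : allBelow (fun k => fr (Nat.add 31899 k)) 49 = true := by decide +kernel
theorem rc652 : allBelow (fun k => fr (Nat.add 31948 k)) 49 = true := by decide +kernel
theorem rc653 : allBelow (fun k => fr (Nat.add 31997 k)) 49 = true := by decide +kernel
theorem rc654 : allBelow (fun k => fr (Nat.add 32046 k)) 49 = true := by decide +kernel
theorem rc655 : allBelow (fun k => fr (Nat.add 32095 k)) 49 = true := by decide +kernel
theorem rc656 : allBelow (fun k => fr (Nat.add 32144 k)) 49 = true := by decide +kernel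
theorem rc657 : allBelow (fun k => fr (Nat.add 32193 k)) 49 = true := by decide +kernel
theorem rc658 : allBelow (fun k => fr (Nat.add 32242 k)) 49 = true := by decide +kernel
theorem rc659 : allBelow (fun k => fr (Nat.add 32291 k)) 49 = true := by decide +kernel
theorem rc660 : allBelow (fun k => fr (Nat.add 32340 k)) 49 = true := by decide +kernel
theorem rc661 : allBelow (fun k => fr (Nat.add 32389 k)) 49 = true := by decide +kernel
theorem rc662 : allBelow (fun k => fr (Nat.add 32438 k)) 49 = true := by decide +kernel
theorem rc663 : allBelow (fun k => fr (Nat.add 32487 k)) 49 = true := by decide +kernel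
theorem rc664 : allBelow (fun k => fr (Nat.add 32536 k)) 49 = true := by decide +kernel
theorem rc665 : allBelow (fun k => fr (Nat.add 32585 k)) 49 = true := by decide +kernel
theorem rc666 : allBelow (fun k => fr (Nat.add 32634 k)) 49 = true := by decide +kernel
theorem rc667 : allBelow (fun k => fr (Nat.add 32683 k)) 49 = true := by decide +kernel
theorem rc668 : allBelow (fun k => fr (Nat.add 32732 k)) 49 = true := by decide +kernel
theorem rc669 : allBelow (fun k => fr (Nat.add 32781 k)) 49 = true := by decide +kernel
theorem rc670 : allBelow (fun k => fr (Nat.add 32830 k)) 49 = true := by decide +kernel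
theorem rc671 : allBelow (fun k => fr (Nat.add 32879 k)) 49 = true := by decide +kernel
theorem rc672 : allBelow (fun k => fr (Nat.add 32928 k)) 49 = true := by decide +kernel
theorem rc673 : allBelow (fun k => fr (Nat.add 32977 k)) 49 = true := by decide +kernel
theorem rc674 : allBelow (fun k => fr (Nat.add 33026 k)) 49 = true := by decide +kernel
theorem rc675 : allBelow (fun k => fr (Nat.add 33075 k)) 49 = true := by decide +kernel
theorem rc676 : allBelow (fun k => fr (Nat.add 33124 k)) 49 = true := by decide +kernel
theorem rc677 : allBelow (fun k => fr (Nat.add 33173 k)) 49 = true := by decide +kernel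
theorem rc678 : allBelow (fun k => fr (Nat.add 33222 k)) 49 = true := by decide +kernel
theorem rc679 : allBelow (fun k => fr (Nat.add 33271 k)) 49 = true := by decide +kernel
theorem rc680 : allBelow (fun k => fr (Nat.add 33320 k)) 49 = true := by decide +kernel
theorem rc681 : allBelow (fun k => fr (Nat.add 33369 k)) 49 = true := by decide +kernel
theorem rc682 : allBelow (fun k => fr (Nat.add 33418 k)) 49 = true := by decide +kernel
theorem rc683 : allBelow (fun k => fr (Nat.add 33467 k)) 49 = true := by decide +kernel
theorem rc684 : allBelow (fun k => fr (Nat.add 33516 k)) 49 = true := by decide +kernel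
theorem rc685 : allBelow (fun k => fr (Nat.add 33565 k)) 49 = true := by decide +kernel
theorem rc686 : allBelow (fun k => fr (Nat.add 33614 k)) 49 = true := by decide +kernel
theorem rc687 : allBelow (fun k => fr (Nat.add 33663 k)) 49 = true := by decide +kernel
theorem rc688 : allBelow (fun k => fr (Nat.add 33712 k)) 49 = true := by decide +kernel
theorem rc689 : allBelow (fun k => fr (Nat.add 33761 k)) 49 = true := by decide +kernel
theorem rc690 : allBelow (fun k => fr (Nat.add 33810 k)) 49 = true := by decide +kernel
theorem rc691 : allBelow (fun k => fr (Nat.add 33859 k)) 49 = true := by decide +kernel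
theorem rc692 : allBelow (fun k => fr (Nat.add 33908 k)) 49 = true := by decide +kernel
theorem rc693 : allBelow (fun k => fr (Nat.add 33957 k)) 49 = true := by decide +kernel
theorem rc694 : allBelow (fun k => fr (Nat.add 34006 k)) 49 = true := by decide +kernel
theorem rc695 : allBelow (fun k => fr (Nat.add 34055 k)) 49 = true := by decide +kernel
theorem rc696 : allBelow (fun k => fr (Nat.add 34104 k)) 49 = true := by decide +kernel
theorem rc697 : allBelow (fun k => fr (Nat.add 34153 k)) 49 = true := by decide +kernel
theorem rc698 : allBelow (fun k => fr (Nat.add 34202 k)) 49 = true := by decide +kernel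
theorem rc699 : allBelow (fun k => fr (Nat.add 34251 k)) 49 = true := by decide +kernel
theorem rc700 : allBelow (fun k => fr (Nat.add 34300 k)) 49 = true := by decide +kernel
theorem rc701 : allBelow (fun k => fr (Nat.add 34349 k)) 49 = true := by decide +kernel

end Cfsg.Agent.Lib.Helper35.ON122760
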