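import Cfsg.Agent.Lib.Helper35.ON122760.PData

set_option Elab.async false

namespace Cfsg.Agent.Lib.Helper35.ON122760

open Cfsg.Agent.Lib.Helper35

theorem rc702 : allBelow (fun k => fr (Nat.add 34398 k)) 49 = true := by decide +kernel
theorem rc703 : allBelow (fun k => fr (Nat.add 34447 k)) 49 = true := by decide +kernel
theorem rc704 : allBelow (fun k => fr (Nat.add 34496 k)) 49 = true := by decide +kernel
theorem rc705 : allBelow (fun k => fr (Nat.add 34545 k)) 49 = true := by decide +kernel
theorem rc706 : allBelow (fun k => fr (Nat.add 34594 k)) 49 = true := by decide +kernel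
theorem rc707 : allBelow (fun k => fr (Nat.add 34643 k)) 49 = true := by decide +kernel
theorem rc708 : allBelow (fun k => fr (Nat.add 34692 k)) 49 = true := by decide +kernel
theorem rc709 : allBelow (fun k => fr (Nat.add 34741 k)) 49 = true := by decide +kernel
theorem rc710 : allBelow (fun k => fr (Nat.add 34790 k)) 49 = true := by decide +kernel
theorem rc711 : allBelow (fun k => fr (Nat.add 34839 k)) 49 = true := by decide +kernel
theorem rc712 : allBelow (fun k => fr (Nat.add 34888 k)) 49 = true := by decide +kernel
theorem rc713 : allBelow (fun k => fr (Nat.add 34937 k)) 49 = true := by decide +kernel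
theorem rc714 : allBelow (fun k => fr (Nat.add 34986 k)) 49 = true := by decide +kernel
theorem rc715 : allBelow (fun k => fr (Nat.add 35035 k)) 49 = true := by decide +kernel
theorem rc716 : allBelow (fun k => fr (Nat.add 35084 k)) 49 = true := by decide +kernel
theorem rc717 : allBelow (fun k => fr (Nat.add 35133 k)) 49 = true := by decide +kernel
theorem rc718 : allBelow (fun k => fr (Nat.add 35182 k)) 49 = true := by decide +kernel
theorem rc719 : allBelow (fun k => fr (Nat.add 35231 k)) 49 = true := by decide +kernel
theorem rc720 : allBelow (fun k => fr (Nat.add 35280 k)) 49 = true := by decide +kernel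
theorem rc721 : allBelow (fun k => fr (Nat.add 35329 k)) 49 = true := by decide +kernel
theorem rc722 : allBelow (fun k => fr (Nat.add 35378 k)) 49 = true := by decide +kernel
theorem rc723 : allBelow (fun k => fr (Nat.add 35427 k)) 49 = true := by decide +kernel
theorem rc724 : allBelow (fun k => fr (Nat.add 35476 k)) 49 = true := by decide +kernel
theorem rc725 : allBelow (fun k => fr (Nat.add 35525 k)) 49 = true := by decide +kernel
theorem rc726 : allBelow (fun k => fr (Nat.add 35574 k)) 49 = true := by decide +kernel
theorem rc727 : allBelow (fun k => fr (Nat.add 35623 k)) 49 = true := by decide +kernel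
theorem rc728 : allBelow (fun k => fr (Nat.add 35672 k)) 49 = true := by decide +kernel
theorem rc729 : allBelow (fun k => fr (Nat.add 35721 k)) 49 = true := by decide +kernel
theorem rc730 : allBelow (fun k => fr (Nat.add 35770 k)) 49 = true := by decide +kernel
theorem rc731 : allBelow (fun k => fr (Nat.add 35819 k)) 49 = true := by decide +kernel
theorem rc732 : allBelow (fun k => fr (Nat.add 35868 k)) 49 = true := by decide +kernel
theorem rc733 : allBelow (fun k => fr (Nat.add 35917 k)) 49 = true := by decide +kernel
theorem rc734 : allBelow (fun k => fr (Nat.add 35966 k)) 49 = true := by decide +kernel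
theorem rc735 : allBelow (fun k => fr (Nat.add 36015 k)) 49 = true := by decide +kernel
theorem rc736 : allBelow (fun k => fr (Nat.add 36064 k)) 49 = true := by decide +kernel
theorem rc737 : allBelow (fun k => fr (Nat.add 36113 k)) 49 = true := by decide +kernel
theorem rc738 : allBelow (fun k => fr (Nat.add 36162 k)) 49 = true := by decide +kernel
theorem rc739 : allBelow (fun k => fr (Nat.add 36211 k)) 49 = true := by decide +kernel
theorem rc740 : allBelow (fun k => fr (Nat.add 36260 k)) 49 = true := by decide +kernel
theorem rc741 : allBelow (fun k => fr (Nat.add 36309 k)) 49 = true := by decide +kernel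
theorem rc742 : allBelow (fun k => fr (Nat.add 36358 k)) 49 = true := by decide +kernel
theorem rc743 : allBelow (fun k => fr (Nat.add 36407 k)) 49 = true := by decide +kernel
theorem rc744 : allBelow (fun k => fr (Nat.add 36456 k)) 49 = true := by decide +kernel
theorem rc745 : allBelow (fun k => fr (Nat.add 36505 k)) 49 = true := by decide +kernel
theorem rc746 : allBelow (fun k => fr (Nat.add 36554 k)) 49 = true := by decide +kernel
theorem rc747 : allBelow (fun k => fr (Nat.add 36603 k)) 49 = true := by decide +kernel
theorem rc748 : allBelow (fun k => fr (Nat.add 36652 k)) 49 = true := by decide +kernel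
theorem rc749 : allBelow (fun k => fr (Nat.add 36701 k)) 49 = true := by decide +kernel
theorem rc750 : allBelow (fun k => fr (Nat.add 36750 k)) 49 = true := by decide +kernel
theorem rc751 : allBelow (fun k => fr (Nat.add 36799 k)) 49 = true := by decide +kernel
theorem rc752 : allBelow (fun k => fr (Nat.add 36848 k)) 49 = true := by decide +kernel
theorem rc753 : allBelow (fun k => fr (Nat.add 36897 k)) 49 = true := by decide +kernel
theorem rc754 : allBelow (fun k => fr (Nat.add 36946 k)) 49 = true := by decide +kernel
theorem rc755 : allBelow (fun k => fr (Nat.add 36995 k)) 49 = true := by decide +kernel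
theorem rc756 : allBelow (fun k => fr (Nat.add 37044 k)) 49 = true := by decide +kernel
theorem rc757 : allBelow (fun k => fr (Nat.add 37093 k)) 49 = true := by decide +kernel
theorem rc758 : allBelow (fun k => fr (Nat.add 37142 k)) 49 = true := by decide +kernel
theorem rc759 : allBelow (fun k => fr (Nat.add 37191 k)) 49 = true := by decide +kernel
theorem rc760 : allBelow (fun k => fr (Nat.add 37240 k)) 49 = true := by decide +kernel
theorem rc761 : allBelow (fun k => fr (Nat.add 37289 k)) 49 = true := by decide +kernel
theorem rc762 : allBelow (fun k => fr (Nat.add 37338 k)) 49 = true := by decide +kernel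
theorem rc763 : allBelow (fun k => fr (Nat.add 37387 k)) 49 = true := by decide +kernel
theorem rc764 : allBelow (fun k => fr (Nat.add 37436 k)) 49 = true := by decide +kernel
theorem rc765 : allBelow (fun k => fr (Nat.add 37485 k)) 49 = true := by decide +kernel
theorem rc766 : allBelow (fun k => fr (Nat.add 37534 k)) 49 = true := by decide +kernel
theorem rc767 : allBelow (fun k => fr (Nat.add 37583 k)) 49 = true := by decide +kernel
theorem rc768 : allBelow (fun k => fr (Nat.add 37632 k)) 49 = true := by decide +kernel
theorem rc769 : allBelow (fun k => fr (Nat.add 37681 k)) 49 = true := by decide +kernel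
theorem rc770 : allBelow (fun k => fr (Nat.add 37730 k)) 49 = true := by decide +kernel
theorem rc771 : allBelow (fun k => fr (Nat.add 37779 k)) 49 = true := by decide +kernel
theorem rc772 : allBelow (fun k => fr (Nat.add 37828 k)) 49 = true := by decide +kernel
theorem rc773 : allBelow (fun k => fr (Nat.add 37877 k)) 49 = true := by decide +kernel
theorem rc774 : allBelow (fun k => fr (Nat.add 37926 k)) 49 = true := by decide +kernel
theorem rc775 : allBelow (fun k => fr (Nat.add 37975 k)) 49 = true := by decide +kernel
theorem rc776 : allBelow (fun k => fr (Nat.add 38024 k)) 49 = true := by decide +kernel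
theorem rc777 : allBelow (fun k => fr (Nat.add 38073 k)) 49 = true := by decide +kernel
theorem rc778 : allBelow (fun k => fr (Nat.add 38122 k)) 49 = true := by decide +kernel
theorem rc779 : allBelow (fun k => fr (Nat.add 38171 k)) 49 = true := by decide +kernel
theorem rc780 : allBelow (fun k => fr (Nat.add 38220 k)) 49 = true := by decide +kernel
theorem rc781 : allBelow (fun k => fr (Nat.add 38269 k)) 49 = true := by decide +kernel
theorem rc782 : allBelow (fun k => fr (Nat.add 38318 k)) 49 = true := by decide +kernel
theorem rc783 : allBelow (fun k => fr (Nat.add 38367 k)) 49 = true := by decide +kernel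
theorem rc784 : allBelow (fun k => fr (Nat.add 38416 k)) 49 = true := by decide +kernel
theorem rc785 : allBelow (fun k => fr (Nat.add 38465 k)) 49 = true := by decide +kernel
theorem rc786 : allBelow (fun k => fr (Nat.add 38514 k)) 49 = true := by decide +kernel
theorem rc787 : allBelow (fun k => fr (Nat.add 38563 k)) 49 = true := by decide +kernel
theorem rc788 : allBelow (fun k => fr (Nat.add 38612 k)) 49 = true := by decide +kernel
theorem rc789 : allBelow (fun k => fr (Nat.add 38661 k)) 49 = true := by decide +kernel
theorem rc790 : allBelow (fun k => fr (Nat.add 38710 k)) 49 = true := by decide +kernel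
theorem rc791 : allBelow (fun k => fr (Nat.add 38759 k)) 49 = true := by decide +kernel
theorem rc792 : allBelow (fun k => fr (Nat.add 38808 k)) 49 = true := by decide +kernel
theorem rc793 : allBelow (fun k => fr (Nat.add 38857 k)) 49 = true := by decide +kernel
theorem rc794 : allBelow (fun k => fr (Nat.add 38906 k)) 49 = true := by decide +kernel
theorem rc795 : allBelow (fun k => fr (Nat.add 38955 k)) 49 = true := by decide +kernel
theorem rc796 : allBelow (fun k => fr (Nat.add 39004 k)) 49 = true := by decide +kernel
theorem rc797 : allBelow (fun k => fr (Nat.add 39053 k)) 49 = true := by decide +kernel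
theorem rc798 : allBelow (fun k => fr (Nat.add 39102 k)) 49 = true := by decide +kernel
theorem rc799 : allBelow (fun k => fr (Nat.add 39151 k)) 49 = true := by decide +kernel
theorem rc800 : allBelow (fun k => fr (Nat.add 39200 k)) 49 = true := by decide +kernel
theorem rc801 : allBelow (fun k => fr (Nat.add 39249 k)) 49 = true := by decide +kernel
theorem rc802 : allBelow (fun k => fr (Nat.add 39298 k)) 49 = true := by decide +kernel
theorem rc803 : allBelow (fun k => fr (Nat.add 39347 k)) 49 = true := by decide +kernel
theorem rc804 : allBelow (fun k => fr (Nat.add 39396 k)) 49 = true := by decide +kernel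
theorem rc805 : allBelow (fun k => fr (Nat.add 39445 k)) 49 = true := by decide +kernel
theorem rc806 : allBelow (fun k => fr (Nat.add 39494 k)) 49 = true := by decide +kernel
theorem rc807 : allBelow (fun k => fr (Nat.add 39543 k)) 49 = true := by decide +kernel
theorem rc808 : allBelow (fun k => fr (Nat.add 39592 k)) 49 = true := by decide +kernel
theorem rc809 : allBelow (fun k => fr (Nat.add 39641 k)) 49 = true := by decide +kernel
theorem rc810 : allBelow (fun k => fr (Nat.add 39690 k)) 49 = true := by decide +kernel
theorem rc811 : allBelow (fun k => fr (Nat.add 39739 k)) 49 = true := by decide +kernel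
theorem rc812 : allBelow (fun k => fr (Nat.add 39788 k)) 49 = true := by decide +kernel
theorem rc813 : allBelow (fun k => fr (Nat.add 39837 k)) 49 = true := by decide +kernel
theorem rc814 : allBelow (fun k => fr (Nat.add 39886 k)) 49 = true := by decide +kernel
theorem rc815 : allBelow (fun k => fr (Nat.add 39935 k)) 49 = true := by decide +kernel
theorem rc816 : allBelow (fun k => fr (Nat.add 39984 k)) 49 = true := by decide +kernel
theorem rc817 : allBelow (fun k => fr (Nat.add 40033 k)) 49 = true := by decide +kernel
theorem rc818 : allBelow (fun k => fr (Nat.add 40082 k)) 49 = true := by decide +kernel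
theorem rc819 : allBelow (fun k => fr (Nat.add 40131 k)) 49 = true := by decide +kernel
theorem rc820 : allBelow (fun k => fr (Nat.add 40180 k)) 49 = true := by decide +kernel
theorem rc821 : allBelow (fun k => fr (Nat.add 40229 k)) 49 = true := by decide +kernel
theorem rc822 : allBelow (fun k => fr (Nat.add 40278 k)) 49 = true := by decide +kernel
theorem rc823 : allBelow (fun k => fr (Nat.add 40327 k)) 49 = true := by decide +kernel
theorem rc824 : allBelow (fun k => fr (Nat.add 40376 k)) 49 = true := by decide +kernel
theorem rc825 : allBelow (fun k => fr (Nat.add 40425 k)) 49 = true := by decide +kernel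
theorem rc826 : allBelow (fun k => fr (Nat.add 40474 k)) 49 = true := by decide +kernel
theorem rc827 : allBelow (fun k => fr (Nat.add 40523 k)) 49 = true := by decide +kernel
theorem rc828 : allBelow (fun k => fr (Nat.add 40572 k)) 49 = true := by decide +kernel
theorem rc829 : allBelow (fun k => fr (Nat.add 40621 k)) 49 = true := by decide +kernel
theorem rc830 : allBelow (fun k => fr (Nat.add 40670 k)) 49 = true := by decide +kernel
theorem rc831 : allBelow (fun k => fr (Nat.add 40719 k)) 49 = true := by decide +kernel
theorem rc832 : allBelow (fun k => fr (Nat.add 40768 k)) 49 = true := by decide +kernel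
theorem rc833 : allBelow (fun k => fr (Nat.add 40817 k)) 49 = true := by decide +kernel
theorem rc834 : allBelow (fun k => fr (Nat.add 40866 k)) 49 = true := by decide +kernel
theorem rc835 : allBelow (fun k => fr (Nat.add 40915 k)) 49 = true := by decide +kernel
theorem rc836 : allBelow (fun k => fr (Nat.add 40964 k)) 49 = true := by decide +kernel
theorem rc837 : allBelow (fun k => fr (Nat.add 41013 k)) 49 = true := by decide +kernel
theorem rc838 : allBelow (fun k => fr (Nat.add 41062 k)) 49 = true := by decide +kernel
theorem rc839 : allBelow (fun k => fr (Nat.add 41111 k)) 49 = true := by decide +kernel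
theorem rc840 : allBelow (fun k => fr (Nat.add 41160 k)) 49 = true := by decide +kernel
theorem rc841 : allBelow (fun k => fr (Nat.add 41209 k)) 49 = true := by decide +kernel
theorem rc842 : allBelow (fun k => fr (Nat.add 41258 k)) 49 = true := by decide +kernel
theorem rc843 : allBelow (fun k => fr (Nat.add 41307 k)) 49 = true := by decide +kernel
theorem rc844 : allBelow (fun k => fr (Nat.add 41356 k)) 49 = true := by decide +kernel
theorem rc845 : allBelow (fun k => fr (Nat.add 41405 k)) 49 = true := by decide +kernel
theorem rc846 : allBelow (fun k => fr (Nat.add 41454 k)) 49 = true := by decide +kernel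
theorem rc847 : allBelow (fun k => fr (Nat.add 41503 k)) 49 = true := by decide +kernel
theorem rc848 : allBelow (fun k => fr (Nat.add 41552 k)) 49 = true := by decide +kernel
theorem rc849 : allBelow (fun k => fr (Nat.add 41601 k)) 49 = true := by decide +kernel
theorem rc850 : allBelow (fun k => fr (Nat.add 41650 k)) 49 = true := by decide +kernel
theorem rc851 : allBelow (fun k => fr (Nat.add 41699 k)) 49 = true := by decide +kernel
theorem rc852 : allBelow (fun k => fr (Nat.add 41748 k)) 49 = true := by decide +kernel
theorem rc853 : allBelow (fun k => fr (Nat.add 41797 k)) 49 = true := by decide +kernel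
theorem rc854 : allBelow (fun k => fr (Nat.add 41846 k)) 49 = true := by decide +kernel
theorem rc855 : allBelow (fun k => fr (Nat.add 41895 k)) 49 = true := by decide +kernel
theorem rc856 : allBelow (fun k => fr (Nat.add 41944 k)) 49 = true := by decide +kernel
theorem rc857 : allBelow (fun k => fr (Nat.add 41993 k)) 49 = true := by decide +kernel
theorem rc858 : allBelow (fun k => fr (Nat.add 42042 k)) 49 = true := by decide +kernel
theorem rc859 : allBelow (fun k => fr (Nat.add 42091 k)) 49 = true := by decide +kernel
theorem rc860 : allBelow (fun k => fr (Nat.add 42140 k)) 49 = true := by decide +kernel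
theorem rc861 : allBelow (fun k => fr (Nat.add 42189 k)) 49 = true := by decide +kernel
theorem rc862 : allBelow (fun k => fr (Nat.add 42238 k)) 49 = true := by decide +kernel
theorem rc863 : allBelow (fun k => fr (Nat.add 42287 k)) 49 = true := by decide +kernel
theorem rc864 : allBelow (fun k => fr (Nat.add 42336 k)) 49 = true := by decide +kernel
theorem rc865 : allBelow (fun k => fr (Nat.add 42385 k)) 49 = true := by decide +kernel
theorem rc866 : allBelow (fun k => fr (Nat.add 42434 k)) 49 = true := by decide +kernel
theorem rc867 : allBelow (fun k => fr (Nat.add 42483 k)) 49 = true := by decide +kernel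
theorem rc868 : allBelow (fun k => fr (Nat.add 42532 k)) 49 = true := by decide +kernel
theorem rc869 : allBelow (fun k => fr (Nat.add 42581 k)) 49 = true := by decide +kernel
theorem rc870 : allBelow (fun k => fr (Nat.add 42630 k)) 49 = true := by decide +kernel
theorem rc871 : allBelow (fun k => fr (Nat.add 42679 k)) 49 = true := by decide +kernel
theorem rc872 : allBelow (fun k => fr (Nat.add 42728 k)) 49 = true := by decide +kernel
theorem rc873 : allBelow (fun k => fr (Nat.add 42777 k)) 49 = true := by decide +kernel
theorem rc874 : allBelow (fun k => fr (Nat.add 42826 k)) 49 = true := by decide +kernel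
theorem rc875 : allBelow (fun k => fr (Nat.add 42875 k)) 49 = true := by decide +kernel
theorem rc876 : allBelow (fun k => fr (Nat.add 42924 k)) 49 = true := by decide +kernel
theorem rc877 : allBelow (fun k => fr (Nat.add 42973 k)) 49 = true := by decide +kernel
theorem rc878 : allBelow (fun k => fr (Nat.add 43022 k)) 49 = true := by decide +kernel
theorem rc879 : allBelow (fun k => fr (Nat.add 43071 k)) 49 = true := by decide +kernel
theorem rc880 : allBelow (fun k => fr (Nat.add 43120 k)) 49 = true := by decide +kernel
theorem rc881 : allBelow (fun k => fr (Nat.add 43169 k)) 49 = true := by decide +kernel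
theorem rc882 : allBelow (fun k => fr (Nat.add 43218 k)) 49 = true := by decide +kernel
theorem rc883 : allBelow (fun k => fr (Nat.add 43267 k)) 49 = true := by decide +kernel
theorem rc884 : allBelow (fun k => fr (Nat.add 43316 k)) 49 = true := by decide +kernel
theorem rc885 : allBelow (fun k => fr (Nat.add 43365 k)) 49 = true := by decide +kernel
theorem rc886 : allBelow (fun k => fr (Nat.add 43414 k)) 49 = true := by decide +kernel
theorem rc887 : allBelow (fun k => fr (Nat.add 43463 k)) 49 = true := by decide +kernel
theorem rc888 : allBelow (fun k => fr (Nat.add 43512 k)) 49 = true := by decide +kernel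
theorem rc889 : allBelow (fun k => fr (Nat.add 43561 k)) 49 = true := by decide +kernel
theorem rc890 : allBelow (fun k => fr (Nat.add 43610 k)) 49 = true := by decide +kernel
theorem rc891 : allBelow (fun k => fr (Nat.add 43659 k)) 49 = true := by decide +kernel
theorem rc892 : allBelow (fun k => fr (Nat.add 43708 k)) 49 = true := by decide +kernel
theorem rc893 : allBelow (fun k => fr (Nat.add 43757 k)) 49 = true := by decide +kernel
theorem rc894 : allBelow (fun k => fr (Nat.add 43806 k)) 49 = true := by decide +kernel
theorem rc895 : allBelow (fun k => fr (Nat.add 43855 k)) 49 = true := by decide +kernel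
theorem rc896 : allBelow (fun k => fr (Nat.add 43904 k)) 49 = true := by decide +kernel
theorem rc897 : allBelow (fun k => fr (Nat.add 43953 k)) 49 = true := by decide +kernel
theorem rc898 : allBelow (fun k => fr (Nat.add 44002 k)) 49 = true := by decide +kernel
theorem rc899 : allBelow (fun k => fr (Nat.add 44051 k)) 49 = true := by decide +kernel
theorem rc900 : allBelow (fun k => fr (Nat.add 44100 k)) 49 = true := by decide +kernel
theorem rc901 : allBelow (fun k => fr (Nat.add 44149 k)) 49 = true := by decide +kernel
theorem rc902 : allBelow (fun k => fr (Nat.add 44198 k)) 49 = true := by decide +kernel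
theorem rc903 : allBelow (fun k => fr (Nat.add 44247 k)) 49 = true := by decide +kernel
theorem rc904 : allBelow (fun k => fr (Nat.add 44296 k)) 49 = true := by decide +kernel
theorem rc905 : allBelow (fun k => fr (Nat.add 44345 k)) 49 = true := by decide +kernel
theorem rc906 : allBelow (fun k => fr (Nat.add 44394 k)) 49 = true := by decide +kernel
theorem rc907 : allBelow (fun k => fr (Nat.add 44443 k)) 49 = true := by decide +kernel
theorem rc908 : allBelow (fun k => fr (Nat.add 44492 k)) 49 = true := by decide +kernel
theorem rc909 : allBelow (fun k => fr (Nat.add 44541 k)) 49 = true := by decide +kernel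
theorem rc910 : allBelow (fun k => fr (Nat.add 44590 k)) 49 = true := by decide +kernel
theorem rc911 : allBelow (fun k => fr (Nat.add 44639 k)) 49 = true := by decide +kernel
theorem rc912 : allBelow (fun k => fr (Nat.add 44688 k)) 49 = true := by decide +kernel
theorem rc913 : allBelow (fun k => fr (Nat.add 44737 k)) 49 = true := by decide +kernel
theorem rc914 : allBelow (fun k => fr (Nat.add 44786 k)) 49 = true := by decide +kernel
theorem rc915 : allBelow (fun k => fr (Nat.add 44835 k)) 49 = true := by decide +kernel
theorem rc916 : allBelow (fun k => fr (Nat.add 44884 k)) 49 = true := by decide +kernel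
theorem rc917 : allBelow (fun k => fr (Nat.add 44933 k)) 49 = true := by decide +kernel
theorem rc918 : allBelow (fun k => fr (Nat.add 44982 k)) 49 = true := by decide +kernel
theorem rc919 : allBelow (fun k => fr (Nat.add 45031 k)) 49 = true := by decide +kernel
theorem rc920 : allBelow (fun k => fr (Nat.add 45080 k)) 49 = true := by decide +kernel
theorem rc921 : allBelow (fun k => fr (Nat.add 45129 k)) 49 = true := by decide +kernel
theorem rc922 : allBelow (fun k => fr (Nat.add 45178 k)) 49 = true := by decide +kernel
theorem rc923 : allBelow (fun k => fr (Nat.add 45227 k)) 49 = true := by decide +kernel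
theorem rc924 : allBelow (fun k => fr (Nat.add 45276 k)) 49 = true := by decide +kernel
theorem rc925 : allBelow (fun k => fr (Nat.add 45325 k)) 49 = true := by decide +kernel
theorem rc926 : allBelow (fun k => fr (Nat.add 45374 k)) 49 = true := by decide +kernel
theorem rc927 : allBelow (fun k => fr (Nat.add 45423 k)) 49 = true := by decide +kernel
theorem rc928 : allBelow (fun k => fr (Nat.add 45472 k)) 49 = true := by decide +kernel
theorem rc929 : allBelow (fun k => fr (Nat.add 45521 k)) 49 = true := by decide +kernel
theorem rc930 : allBelow (fun k => fr (Nat.add 45570 k)) 49 = true := by decide +kernel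
theorem rc931 : allBelow (fun k => fr (Nat.add 45619 k)) 49 = true := by decide +kernel
theorem rc932 : allBelow (fun k => fr (Nat.add 45668 k)) 49 = true := by decide +kernel
theorem rc933 : allBelow (fun k => fr (Nat.add 45717 k)) 49 = true := by decide +kernel
theorem rc934 : allBelow (fun k => fr (Nat.add 45766 k)) 49 = true := by decide +kernel
theorem rc935 : allBelow (fun k => fr (Nat.add 45815 k)) 49 = true := by decide +kernel
theorem rc936 : allBelow (fun k => fr (Nat.add 45864 k)) 49 = true := by decide +kernel
theorem rc937 : allBelow (fun k => fr (Nat.add 45913 k)) 49 = true := by decide +kernel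
theorem rc938 : allBelow (fun k => fr (Nat.add 45962 k)) 49 = true := by decide +kernel
theorem rc939 : allBelow (fun k => fr (Nat.add 46011 k)) 49 = true := by decide +kernel
theorem rc940 : allBelow (fun k => fr (Nat.add 46060 k)) 49 = true := by decide +kernel
theorem rc941 : allBelow (fun k => fr (Nat.add 46109 k)) 49 = true := by decide +kernel
theorem rc942 : allBelow (fun k => fr (Nat.add 46158 k)) 49 = true := by decide +kernel
theorem rc943 : allBelow (fun k => fr (Nat.add 46207 k)) 49 = true := by decide +kernel
theorem rc944 : allBelow (fun k => fr (Nat.add 46256 k)) 49 = true := by decide +kernel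
theorem rc945 : allBelow (fun k => fr (Nat.add 46305 k)) 49 = true := by decide +kernel
theorem rc946 : allBelow (fun k => fr (Nat.add 46354 k)) 49 = true := by decide +kernel
theorem rc947 : allBelow (fun k => fr (Nat.add 46403 k)) 49 = true := by decide +kernel
theorem rc948 : allBelow (fun k => fr (Nat.add 46452 k)) 49 = true := by decide +kernel
theorem rc949 : allBelow (fun k => fr (Nat.add 46501 k)) 49 = true := by decide +kernel
theorem rc950 : allBelow (fun k => fr (Nat.add 46550 k)) 49 = true := by decide +kernel
theorem rc951 : allBelow (fun k => fr (Nat.add 46599 k)) 49 = true := by decide +kernel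
theorem rc952 : allBelow (fun k => fr (Nat.add 46648 k)) 49 = true := by decide +kernel
theorem rc953 : allBelow (fun k => fr (Nat.add 46697 k)) 49 = true := by decide +kernel
theorem rc954 : allBelow (fun k => fr (Nat.add 46746 k)) 49 = true := by decide +kernel
theorem rc955 : allBelow (fun k => fr (Nat.add 46795 k)) 49 = true := by decide +kernel
theorem rc956 : allBelow (fun k => fr (Nat.add 46844 k)) 49 = true := by decide +kernel
theorem rc957 : allBelow (fun k => fr (Nat.add 46893 k)) 49 = true := by decide +kernel
theorem rc958 : allBelow (fun k => fr (Nat.add 46942 k)) 49 = true := by decide +kernel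
theorem rc959 : allBelow (fun k => fr (Nat.add 46991 k)) 49 = true := by decide +kernel
theorem rc960 : allBelow (fun k => fr (Nat.add 47040 k)) 49 = true := by decide +kernel
theorem rc961 : allBelow (fun k => fr (Nat.add 47089 k)) 49 = true := by decide +kernel
theorem rc962 : allBelow (fun k => fr (Nat.add 47138 k)) 49 = true := by decide +kernel
theorem rc963 : allBelow (fun k => fr (Nat.add 47187 k)) 49 = true := by decide +kernel
theorem rc964 : allBelow (fun k => fr (Nat.add 47236 k)) 49 = true := by decide +kernel
theorem rc965 : allBelow (fun k => fr (Nat.add 47285 k)) 49 = true := by decide +kernel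
theorem rc966 : allBelow (fun k => fr (Nat.add 47334 k)) 49 = true := by decide +kernel
theorem rc967 : allBelow (fun k => fr (Nat.add 47383 k)) 49 = true := by decide +kernel
theorem rc968 : allBelow (fun k => fr (Nat.add 47432 k)) 49 = true := by decide +kernel
theorem rc969 : allBelow (fun k => fr (Nat.add 47481 k)) 49 = true := by decide +kernel
theorem rc970 : allBelow (fun k => fr (Nat.add 47530 k)) 49 = true := by decide +kernel
theorem rc971 : allBelow (fun k => fr (Nat.add 47579 k)) 49 = true := by decide +kernel
theorem rc972 : allBelow (fun k => fr (Nat.add 47628 k)) 49 = true := by decide +kernel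
theorem rc973 : allBelow (fun k => fr (Nat.add 47677 k)) 49 = true := by decide +kernel
theorem rc974 : allBelow (fun k => fr (Nat.add 47726 k)) 49 = true := by decide +kernel
theorem rc975 : allBelow (fun k => fr (Nat.add 47775 k)) 49 = true := by decide +kernel
theorem rc976 : allBelow (fun k => fr (Nat.add 47824 k)) 49 = true := by decide +kernel
theorem rc977 : allBelow (fun k => fr (Nat.add 47873 k)) 49 = true := by decide +kernel
theorem rc978 : allBelow (fun k => fr (Nat.add 47922 k)) 49 = true := by decide +kernel
theorem rc979 : allBelow (fun k => fr (Nat.add 47971 k)) 49 = true := by decide +kernel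
theorem rc980 : allBelow (fun k => fr (Nat.add 48020 k)) 49 = true := by decide +kernel
theorem rc981 : allBelow (fun k => fr (Nat.add 48069 k)) 49 = true := by decide +kernel
theorem rc982 : allBelow (fun k => fr (Nat.add 48118 k)) 49 = true := by decide +kernel
theorem rc983 : allBelow (fun k => fr (Nat.add 48167 k)) 49 = true := by decide +kernel
theorem rc984 : allBelow (fun k => fr (Nat.add 48216 k)) 49 = true := by decide +kernel
theorem rc985 : allBelow (fun k => fr (Nat.add 48265 k)) 49 = true := by decide +kernel
theorem rc986 : allBelow (fun k => fr (Nat.add 48314 k)) 49 = true := by decide +kernel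
theorem rc987 : allBelow (fun k => fr (Nat.add 48363 k)) 49 = true := by decide +kernel
theorem rc988 : allBelow (fun k => fr (Nat.add 48412 k)) 49 = true := by decide +kernel
theorem rc989 : allBelow (fun k => fr (Nat.add 48461 k)) 49 = true := by decide +kernel
theorem rc990 : allBelow (fun k => fr (Nat.add 48510 k)) 49 = true := by decide +kernel
theorem rc991 : allBelow (fun k => fr (Nat.add 48559 k)) 49 = true := by decide +kernel
theorem rc992 : allBelow (fun k => fr (Nat.add 48608 k)) 49 = true := by decide +kernel
theorem rc993 : allBelow (fun k => fr (Nat.add 48657 k)) 49 = true := by decide +kernel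
theorem rc994 : allBelow (fun k => fr (Nat.add 48706 k)) 49 = true := by decide +kernel
theorem rc995 : allBelow (fun k => fr (Nat.add 48755 k)) 49 = true := by decide +kernel
theorem rc996 : allBelow (fun k => fr (Nat.add 48804 k)) 49 = true := by decide +kernel
theorem rc997 : allBelow (fun k => fr (Nat.add 48853 k)) 49 = true := by decide +kernel
theorem rc998 : allBelow (fun k => fr (Nat.add 48902 k)) 49 = true := by decide +kernel
theorem rc999 : allBelow (fun k => fr (Nat.add 48951 k)) 49 = true := by decide +kernel
theorem rc1000 : allBelow (fun k => fr (Nat.add 49000 k)) 49 = true := by decide +kernel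
theorem rc1001 : allBelow (fun k => fr (Nat.add 49049 k)) 49 = true := by decide +kernel
theorem rc1002 : allBelow (fun k => fr (Nat.add 49098 k)) 49 = true := by decide +kernel
theorem rc1003 : allBelow (fun k => fr (Nat.add 49147 k)) 49 = true := by decide +kernel
theorem rc1004 : allBelow (fun k => fr (Nat.add 49196 k)) 49 = true := by decide +kernel
theorem rc1005 : allBelow (fun k => fr (Nat.add 49245 k)) 49 = true := by decide +kernel
theorem rc1006 : allBelow (fun k => fr (Nat.add 49294 k)) 49 = true := by decide +kernel
theorem rc1007 : allBelow (fun k => fr (Nat.add 49343 k)) 49 = true := by decide +kernel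
theorem rc1008 : allBelow (fun k => fr (Nat.add 49392 k)) 49 = true := by decide +kernel
theorem rc1009 : allBelow (fun k => fr (Nat.add 49441 k)) 49 = true := by decide +kernel
theorem rc1010 : allBelow (fun k => fr (Nat.add 49490 k)) 49 = true := by decide +kernel
theorem rc1011 : allBelow (fun k => fr (Nat.add 49539 k)) 49 = true := by decide +kernel
theorem rc1012 : allBelow (fun k => fr (Nat.add 49588 k)) 49 = true := by decide +kernel
theorem rc1013 : allBelow (fun k => fr (Nat.add 49637 k)) 49 = true := by decide +kernel
theorem rc1014 : allBelow (fun k => fr (Nat.add 49686 k)) 49 = true := by decide +kernel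
theorem rc1015 : allBelow (fun k => fr (Nat.add 49735 k)) 49 = true := by decide +kernel
theorem rc1016 : allBelow (fun k => fr (Nat.add 49784 k)) 49 = true := by decide +kernel
theorem rc1017 : allBelow (fun k => fr (Nat.add 49833 k)) 49 = true := by decide +kernel
theorem rc1018 : allBelow (fun k => fr (Nat.add 49882 k)) 49 = true := by decide +kernel
theorem rc1019 : allBelow (fun k => fr (Nat.add 49931 k)) 49 = true := by decide +kernel
theorem rc1020 : allBelow (fun k => fr (Nat.add 49980 k)) 49 = true := by decide +kernel
theorem rc1021 : allBelow (fun k => fr (Nat.add 50029 k)) 49 = true := by decide +kernel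
theorem rc1022 : allBelow (fun k => fr (Nat.add 50078 k)) 49 = true := by decide +kernel
theorem rc1023 : allBelow (fun k => fr (Nat.add 50127 k)) 49 = true := by decide +kernel
theorem rc1024 : allBelow (fun k => fr (Nat.add 50176 k)) 49 = true := by decide +kernel
theorem rc1025 : allBelow (fun k => fr (Nat.add 50225 k)) 49 = true := by decide +kernel
theorem rc1026 : allBelow (fun k => fr (Nat.add 50274 k)) 49 = true := by decide +kernel
theorem rc1027 : allBelow (fun k => fr (Nat.add 50323 k)) 49 = true := by decide +kernel
theorem rc1028 : allBelow (fun k => fr (Nat.add 50372 k)) 49 = true := by decide +kernel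
theorem rc1029 : allBelow (fun k => fr (Nat.add 50421 k)) 49 = true := by decide +kernel
theorem rc1030 : allBelow (fun k => fr (Nat.add 50470 k)) 49 = true := by decide +kernel
theorem rc1031 : allBelow (fun k => fr (Nat.add 50519 k)) 49 = true := by decide +kernel
theorem rc1032 : allBelow (fun k => fr (Nat.add 50568 k)) 49 = true := by decide +kernel
theorem rc1033 : allBelow (fun k => fr (Nat.add 50617 k)) 49 = true := by decide +kernel
theorem rc1034 : allBelow (fun k => fr (Nat.add 50666 k)) 49 = true := by decide +kernel
theorem rc1035 : allBelow (fun k => fr (Nat.add 50715 k)) 49 = true := by decide +kernel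
theorem rc1036 : allBelow (fun k => fr (Nat.add 50764 k)) 49 = true := by decide +kernel
theorem rc1037 : allBelow (fun k => fr (Nat.add 50813 k)) 49 = true := by decide +kernel
theorem rc1038 : allBelow (fun k => fr (Nat.add 50862 k)) 49 = true := by decide +kernel
theorem rc1039 : allBelow (fun k => fr (Nat.add 50911 k)) 49 = true := by decide +kernel
theorem rc1040 : allBelow (fun k => fr (Nat.add 50960 k)) 49 = true := by decide +kernel
theorem rc1041 : allBelow (fun k => fr (Nat.add 51009 k)) 49 = true := by decide +kernel
theorem rc1042 : allBelow (fun k => fr (Nat.add 51058 k)) 49 = true := by decide +kernel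
theorem rc1043 : allBelow (fun k => fr (Nat.add 51107 k)) 49 = true := by decide +kernel
theorem rc1044 : allBelow (fun k => fr (Nat.add 51156 k)) 49 = true := by decide +kernel
theorem rc1045 : allBelow (fun k => fr (Nat.add 51205 k)) 49 = true := by decide +kernel
theorem rc1046 : allBelow (fun k => fr (Nat.add 51254 k)) 49 = true := by decide +kernel
theorem rc1047 : allBelow (fun k => fr (Nat.add 51303 k)) 49 = true := by decide +kernel
theorem rc1048 : allBelow (fun k => fr (Nat.add 51352 k)) 49 = true := by decide +kernel
theorem rc1049 : allBelow (fun k => fr (Nat.add 51401 k)) 49 = true := by decide +kernel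
theorem rc1050 : allBelow (fun k => fr (Nat.add 51450 k)) 49 = true := by decide +kernel
theorem rc1051 : allBelow (fun k => fr (Nat.add 51499 k)) 49 = true := by decide +kernel
theorem rc1052 : allBelow (fun k => fr (Nat.add 51548 k)) 49 = true := by decide +kernel

end Cfsg.Agent.Lib.Helper35.ON122760
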