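import Cfsg.Agent.Lib.Helper35.ON122760.PData

set_option Elab.async false

namespace Cfsg.Agent.Lib.Helper35.ON122760

open Cfsg.Agent.Lib.Helper35

theorem rc1053 : allBelow (fun k => fr (Nat.add 51597 k)) 49 = true := by decide +kernel
theorem rc1054 : allBelow (fun k => fr (Nat.add 51646 k)) 49 = true := by decide +kernel
theorem rc1055 : allBelow (fun k => fr (Nat.add 51695 k)) 49 = true := by decide +kernel
theorem rc1056 : allBelow (fun k => fr (Nat.add 51744 k)) 49 = true := by decide +kernel
theorem rc1057 : allBelow (fun k => fr (Nat.add 51793 k)) 49 = true := by decide +kernel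
theorem rc1058 : allBelow (fun k => fr (Nat.add 51842 k)) 49 = true := by decide +kernel
theorem rc1059 : allBelow (fun k => fr (Nat.add 51891 k)) 49 = true := by decide +kernel
theorem rc1060 : allBelow (fun k => fr (Nat.add 51940 k)) 49 = true := by decide +kernel
theorem rc1061 : allBelow (fun k => fr (Nat.add 51989 k)) 49 = true := by decide +kernel
theorem rc1062 : allBelow (fun k => fr (Nat.add 52038 k)) 49 = true := by decide +kernel
theorem rc1063 : allBelow (fun k => fr (Nat.add 52087 k)) 49 = true := by decide +kernel
theorem rc1064 : allBelow (fun k => fr (Nat.add 52136 k)) 49 = true := by decide +kernel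
theorem rc1065 : allBelow (fun k => fr (Nat.add 52185 k)) 49 = true := by decide +kernel
theorem rc1066 : allBelow (fun k => fr (Nat.add 52234 k)) 49 = true := by decide +kernel
theorem rc1067 : allBelow (fun k => fr (Nat.add 52283 k)) 49 = true := by decide +kernel
theorem rc1068 : allBelow (fun k => fr (Nat.add 52332 k)) 49 = true := by decide +kernel
theorem rc1069 : allBelow (fun k => fr (Nat.add 52381 k)) 49 = true := by decide +kernel
theorem rc1070 : allBelow (fun k => fr (Nat.add 52430 k)) 49 = true := by decide +kernel
theorem rc1071 : allBelow (fun k => fr (Nat.add 52479 k)) 49 = true := by decide +kernel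
theorem rc1072 : allBelow (fun k => fr (Nat.add 52528 k)) 49 = true := by decide +kernel
theorem rc1073 : allBelow (fun k => fr (Nat.add 52577 k)) 49 = true := by decide +kernel
theorem rc1074 : allBelow (fun k => fr (Nat.add 52626 k)) 49 = true := by decide +kernel
theorem rc1075 : allBelow (fun k => fr (Nat.add 52675 k)) 49 = true := by decide +kernel
theorem rc1076 : allBelow (fun k => fr (Nat.add 52724 k)) 49 = true := by decide +kernel
theorem rc1077 : allBelow (fun k => fr (Nat.add 52773 k)) 49 = true := by decide +kernel
theorem rc1078 : allBelow (fun k => fr (Nat.add 52822 k)) 49 = true := by decide +kernel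
theorem rc1079 : allBelow (fun k => fr (Nat.add 52871 k)) 49 = true := by decide +kernel
theorem rc1080 : allBelow (fun k => fr (Nat.add 52920 k)) 49 = true := by decide +kernel
theorem rc1081 : allBelow (fun k => fr (Nat.add 52969 k)) 49 = true := by decide +kernel
theorem rc1082 : allBelow (fun k => fr (Nat.add 53018 k)) 49 = true := by decide +kernel
theorem rc1083 : allBelow (fun k => fr (Nat.add 53067 k)) 49 = true := by decide +kernel
theorem rc1084 : allBelow (fun k => fr (Nat.add 53116 k)) 49 = true := by decide +kernel
theorem rc1085 : allBelow (fun k => fr (Nat.add 53165 k)) 49 = true := by decide +kernel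
theorem rc1086 : allBelow (fun k => fr (Nat.add 53214 k)) 49 = true := by decide +kernel
theorem rc1087 : allBelow (fun k => fr (Nat.add 53263 k)) 49 = true := by decide +kernel
theorem rc1088 : allBelow (fun k => fr (Nat.add 53312 k)) 49 = true := by decide +kernel
theorem rc1089 : allBelow (fun k => fr (Nat.add 53361 k)) 49 = true := by decide +kernel
theorem rc1090 : allBelow (fun k => fr (Nat.add 53410 k)) 49 = true := by decide +kernel
theorem rc1091 : allBelow (fun k => fr (Nat.add 53459 k)) 49 = true := by decide +kernel
theorem rc1092 : allBelow (fun k => fr (Nat.add 53508 k)) 49 = true := by decide +kernel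
theorem rc1093 : allBelow (fun k => fr (Nat.add 53557 k)) 49 = true := by decide +kernel
theorem rc1094 : allBelow (fun k => fr (Nat.add 53606 k)) 49 = true := by decide +kernel
theorem rc1095 : allBelow (fun k => fr (Nat.add 53655 k)) 49 = true := by decide +kernel
theorem rc1096 : allBelow (fun k => fr (Nat.add 53704 k)) 49 = true := by decide +kernel
theorem rc1097 : allBelow (fun k => fr (Nat.add 53753 k)) 49 = true := by decide +kernel
theorem rc1098 : allBelow (fun k => fr (Nat.add 53802 k)) 49 = true := by decide +kernel
theorem rc1099 : allBelow (fun k => fr (Nat.add 53851 k)) 49 = true := by decide +kernel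
theorem rc1100 : allBelow (fun k => fr (Nat.add 53900 k)) 49 = true := by decide +kernel
theorem rc1101 : allBelow (fun k => fr (Nat.add 53949 k)) 49 = true := by decide +kernel
theorem rc1102 : allBelow (fun k => fr (Nat.add 53998 k)) 49 = true := by decide +kernel
theorem rc1103 : allBelow (fun k => fr (Nat.add 54047 k)) 49 = true := by decide +kernel
theorem rc1104 : allBelow (fun k => fr (Nat.add 54096 k)) 49 = true := by decide +kernel
theorem rc1105 : allBelow (fun k => fr (Nat.add 54145 k)) 49 = true := by decide +kernel
theorem rc1106 : allBelow (fun k => fr (Nat.add 54194 k)) 49 = true := by decide +kernel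
theorem rc1107 : allBelow (fun k => fr (Nat.add 54243 k)) 49 = true := by decide +kernel
theorem rc1108 : allBelow (fun k => fr (Nat.add 54292 k)) 49 = true := by decide +kernel
theorem rc1109 : allBelow (fun k => fr (Nat.add 54341 k)) 49 = true := by decide +kernel
theorem rc1110 : allBelow (fun k => fr (Nat.add 54390 k)) 49 = true := by decide +kernel
theorem rc1111 : allBelow (fun k => fr (Nat.add 54439 k)) 49 = true := by decide +kernel
theorem rc1112 : allBelow (fun k => fr (Nat.add 54488 k)) 49 = true := by decide +kernel
theorem rc1113 : allBelow (fun k => fr (Nat.add 54537 k)) 49 = true := by decide +kernel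
theorem rc1114 : allBelow (fun k => fr (Nat.add 54586 k)) 49 = true := by decide +kernel
theorem rc1115 : allBelow (fun k => fr (Nat.add 54635 k)) 49 = true := by decide +kernel
theorem rc1116 : allBelow (fun k => fr (Nat.add 54684 k)) 49 = true := by decide +kernel
theorem rc1117 : allBelow (fun k => fr (Nat.add 54733 k)) 49 = true := by decide +kernel
theorem rc1118 : allBelow (fun k => fr (Nat.add 54782 k)) 49 = true := by decide +kernel
theorem rc1119 : allBelow (fun k => fr (Nat.add 54831 k)) 49 = true := by decide +kernel
theorem rc1120 : allBelow (fun k => fr (Nat.add 54880 k)) 49 = true := by decide +kernel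
theorem rc1121 : allBelow (fun k => fr (Nat.add 54929 k)) 49 = true := by decide +kernel
theorem rc1122 : allBelow (fun k => fr (Nat.add 54978 k)) 49 = true := by decide +kernel
theorem rc1123 : allBelow (fun k => fr (Nat.add 55027 k)) 49 = true := by decide +kernel
theorem rc1124 : allBelow (fun k => fr (Nat.add 55076 k)) 49 = true := by decide +kernel
theorem rc1125 : allBelow (fun k => fr (Nat.add 55125 k)) 49 = true := by decide +kernel
theorem rc1126 : allBelow (fun k => fr (Nat.add 55174 k)) 49 = true := by decide +kernel
theorem rc1127 : allBelow (fun k => fr (Nat.add 55223 k)) 49 = true := by decide +kernel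
theorem rc1128 : allBelow (fun k => fr (Nat.add 55272 k)) 49 = true := by decide +kernel
theorem rc1129 : allBelow (fun k => fr (Nat.add 55321 k)) 49 = true := by decide +kernel
theorem rc1130 : allBelow (fun k => fr (Nat.add 55370 k)) 49 = true := by decide +kernel
theorem rc1131 : allBelow (fun k => fr (Nat.add 55419 k)) 49 = true := by decide +kernel
theorem rc1132 : allBelow (fun k => fr (Nat.add 55468 k)) 49 = true := by decide +kernel
theorem rc1133 : allBelow (fun k => fr (Nat.add 55517 k)) 49 = true := by decide +kernel
theorem rc1134 : allBelow (fun k => fr (Nat.add 55566 k)) 49 = true := by decide +kernel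
theorem rc1135 : allBelow (fun k => fr (Nat.add 55615 k)) 49 = true := by decide +kernel
theorem rc1136 : allBelow (fun k => fr (Nat.add 55664 k)) 49 = true := by decide +kernel
theorem rc1137 : allBelow (fun k => fr (Nat.add 55713 k)) 49 = true := by decide +kernel
theorem rc1138 : allBelow (fun k => fr (Nat.add 55762 k)) 49 = true := by decide +kernel
theorem rc1139 : allBelow (fun k => fr (Nat.add 55811 k)) 49 = true := by decide +kernel
theorem rc1140 : allBelow (fun k => fr (Nat.add 55860 k)) 49 = true := by decide +kernel
theorem rc1141 : allBelow (fun k => fr (Nat.add 55909 k)) 49 = true := by decide +kernel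
theorem rc1142 : allBelow (fun k => fr (Nat.add 55958 k)) 49 = true := by decide +kernel
theorem rc1143 : allBelow (fun k => fr (Nat.add 56007 k)) 49 = true := by decide +kernel
theorem rc1144 : allBelow (fun k => fr (Nat.add 56056 k)) 49 = true := by decide +kernel
theorem rc1145 : allBelow (fun k => fr (Nat.add 56105 k)) 49 = true := by decide +kernel
theorem rc1146 : allBelow (fun k => fr (Nat.add 56154 k)) 49 = true := by decide +kernel
theorem rc1147 : allBelow (fun k => fr (Nat.add 56203 k)) 49 = true := by decide +kernel
theorem rc1148 : allBelow (fun k => fr (Nat.add 56252 k)) 49 = true := by decide +kernel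
theorem rc1149 : allBelow (fun k => fr (Nat.add 56301 k)) 49 = true := by decide +kernel
theorem rc1150 : allBelow (fun k => fr (Nat.add 56350 k)) 49 = true := by decide +kernel
theorem rc1151 : allBelow (fun k => fr (Nat.add 56399 k)) 49 = true := by decide +kernel
theorem rc1152 : allBelow (fun k => fr (Nat.add 56448 k)) 49 = true := by decide +kernel
theorem rc1153 : allBelow (fun k => fr (Nat.add 56497 k)) 49 = true := by decide +kernel
theorem rc1154 : allBelow (fun k => fr (Nat.add 56546 k)) 49 = true := by decide +kernel
theorem rc1155 : allBelow (fun k => fr (Nat.add 56595 k)) 49 = true := by decide +kernel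
theorem rc1156 : allBelow (fun k => fr (Nat.add 56644 k)) 49 = true := by decide +kernel
theorem rc1157 : allBelow (fun k => fr (Nat.add 56693 k)) 49 = true := by decide +kernel
theorem rc1158 : allBelow (fun k => fr (Nat.add 56742 k)) 49 = true := by decide +kernel
theorem rc1159 : allBelow (fun k => fr (Nat.add 56791 k)) 49 = true := by decide +kernel
theorem rc1160 : allBelow (fun k => fr (Nat.add 56840 k)) 49 = true := by decide +kernel
theorem rc1161 : allBelow (fun k => fr (Nat.add 56889 k)) 49 = true := by decide +kernel
theorem rc1162 : allBelow (fun k => fr (Nat.add 56938 k)) 49 = true := by decide +kernel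
theorem rc1163 : allBelow (fun k => fr (Nat.add 56987 k)) 49 = true := by decide +kernel
theorem rc1164 : allBelow (fun k => fr (Nat.add 57036 k)) 49 = true := by decide +kernel
theorem rc1165 : allBelow (fun k => fr (Nat.add 57085 k)) 49 = true := by decide +kernel
theorem rc1166 : allBelow (fun k => fr (Nat.add 57134 k)) 49 = true := by decide +kernel
theorem rc1167 : allBelow (fun k => fr (Nat.add 57183 k)) 49 = true := by decide +kernel
theorem rc1168 : allBelow (fun k => fr (Nat.add 57232 k)) 49 = true := by decide +kernel
theorem rc1169 : allBelow (fun k => fr (Nat.add 57281 k)) 49 = true := by decide +kernel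
theorem rc1170 : allBelow (fun k => fr (Nat.add 57330 k)) 49 = true := by decide +kernel
theorem rc1171 : allBelow (fun k => fr (Nat.add 57379 k)) 49 = true := by decide +kernel
theorem rc1172 : allBelow (fun k => fr (Nat.add 57428 k)) 49 = true := by decide +kernel
theorem rc1173 : allBelow (fun k => fr (Nat.add 57477 k)) 49 = true := by decide +kernel
theorem rc1174 : allBelow (fun k => fr (Nat.add 57526 k)) 49 = true := by decide +kernel
theorem rc1175 : allBelow (fun k => fr (Nat.add 57575 k)) 49 = true := by decide +kernel
theorem rc1176 : allBelow (fun k => fr (Nat.add 57624 k)) 49 = true := by decide +kernel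
theorem rc1177 : allBelow (fun k => fr (Nat.add 57673 k)) 49 = true := by decide +kernel
theorem rc1178 : allBelow (fun k => fr (Nat.add 57722 k)) 49 = true := by decide +kernel
theorem rc1179 : allBelow (fun k => fr (Nat.add 57771 k)) 49 = true := by decide +kernel
theorem rc1180 : allBelow (fun k => fr (Nat.add 57820 k)) 49 = true := by decide +kernel
theorem rc1181 : allBelow (fun k => fr (Nat.add 57869 k)) 49 = true := by decide +kernel
theorem rc1182 : allBelow (fun k => fr (Nat.add 57918 k)) 49 = true := by decide +kernel
theorem rc1183 : allBelow (fun k => fr (Nat.add 57967 k)) 49 = true := by decide +kernel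
theorem rc1184 : allBelow (fun k => fr (Nat.add 58016 k)) 49 = true := by decide +kernel
theorem rc1185 : allBelow (fun k => fr (Nat.add 58065 k)) 49 = true := by decide +kernel
theorem rc1186 : allBelow (fun k => fr (Nat.add 58114 k)) 49 = true := by decide +kernel
theorem rc1187 : allBelow (fun k => fr (Nat.add 58163 k)) 49 = true := by decide +kernel
theorem rc1188 : allBelow (fun k => fr (Nat.add 58212 k)) 49 = true := by decide +kernel
theorem rc1189 : allBelow (fun k => fr (Nat.add 58261 k)) 49 = true := by decide +kernel
theorem rc1190 : allBelow (fun k => fr (Nat.add 58310 k)) 49 = true := by decide +kernel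
theorem rc1191 : allBelow (fun k => fr (Nat.add 58359 k)) 49 = true := by decide +kernel
theorem rc1192 : allBelow (fun k => fr (Nat.add 58408 k)) 49 = true := by decide +kernel
theorem rc1193 : allBelow (fun k => fr (Nat.add 58457 k)) 49 = true := by decide +kernel
theorem rc1194 : allBelow (fun k => fr (Nat.add 58506 k)) 49 = true := by decide +kernel
theorem rc1195 : allBelow (fun k => fr (Nat.add 58555 k)) 49 = true := by decide +kernel
theorem rc1196 : allBelow (fun k => fr (Nat.add 58604 k)) 49 = true := by decide +kernel
theorem rc1197 : allBelow (fun k => fr (Nat.add 58653 k)) 49 = true := by decide +kernel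
theorem rc1198 : allBelow (fun k => fr (Nat.add 58702 k)) 49 = true := by decide +kernel
theorem rc1199 : allBelow (fun k => fr (Nat.add 58751 k)) 49 = true := by decide +kernel
theorem rc1200 : allBelow (fun k => fr (Nat.add 58800 k)) 49 = true := by decide +kernel
theorem rc1201 : allBelow (fun k => fr (Nat.add 58849 k)) 49 = true := by decide +kernel
theorem rc1202 : allBelow (fun k => fr (Nat.add 58898 k)) 49 = true := by decide +kernel
theorem rc1203 : allBelow (fun k => fr (Nat.add 58947 k)) 49 = true := by decide +kernel
theorem rc1204 : allBelow (fun k => fr (Nat.add 58996 k)) 49 = true := by decide +kernel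
theorem rc1205 : allBelow (fun k => fr (Nat.add 59045 k)) 49 = true := by decide +kernel
theorem rc1206 : allBelow (fun k => fr (Nat.add 59094 k)) 49 = true := by decide +kernel
theorem rc1207 : allBelow (fun k => fr (Nat.add 59143 k)) 49 = true := by decide +kernel
theorem rc1208 : allBelow (fun k => fr (Nat.add 59192 k)) 49 = true := by decide +kernel
theorem rc1209 : allBelow (fun k => fr (Nat.add 59241 k)) 49 = true := by decide +kernel
theorem rc1210 : allBelow (fun k => fr (Nat.add 59290 k)) 49 = true := by decide +kernel
theorem rc1211 : allBelow (fun k => fr (Nat.add 59339 k)) 49 = true := by decide +kernel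
theorem rc1212 : allBelow (fun k => fr (Nat.add 59388 k)) 49 = true := by decide +kernel
theorem rc1213 : allBelow (fun k => fr (Nat.add 59437 k)) 49 = true := by decide +kernel
theorem rc1214 : allBelow (fun k => fr (Nat.add 59486 k)) 49 = true := by decide +kernel
theorem rc1215 : allBelow (fun k => fr (Nat.add 59535 k)) 49 = true := by decide +kernel
theorem rc1216 : allBelow (fun k => fr (Nat.add 59584 k)) 49 = true := by decide +kernel
theorem rc1217 : allBelow (fun k => fr (Nat.add 59633 k)) 49 = true := by decide +kernel
theorem rc1218 : allBelow (fun k => fr (Nat.add 59682 k)) 49 = true := by decide +kernel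
theorem rc1219 : allBelow (fun k => fr (Nat.add 59731 k)) 49 = true := by decide +kernel
theorem rc1220 : allBelow (fun k => fr (Nat.add 59780 k)) 49 = true := by decide +kernel
theorem rc1221 : allBelow (fun k => fr (Nat.add 59829 k)) 49 = true := by decide +kernel
theorem rc1222 : allBelow (fun k => fr (Nat.add 59878 k)) 49 = true := by decide +kernel
theorem rc1223 : allBelow (fun k => fr (Nat.add 59927 k)) 49 = true := by decide +kernel
theorem rc1224 : allBelow (fun k => fr (Nat.add 59976 k)) 49 = true := by decide +kernel
theorem rc1225 : allBelow (fun k => fr (Nat.add 60025 k)) 49 = true := by decide +kernel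
theorem rc1226 : allBelow (fun k => fr (Nat.add 60074 k)) 49 = true := by decide +kernel
theorem rc1227 : allBelow (fun k => fr (Nat.add 60123 k)) 49 = true := by decide +kernel
theorem rc1228 : allBelow (fun k => fr (Nat.add 60172 k)) 49 = true := by decide +kernel
theorem rc1229 : allBelow (fun k => fr (Nat.add 60221 k)) 49 = true := by decide +kernel
theorem rc1230 : allBelow (fun k => fr (Nat.add 60270 k)) 49 = true := by decide +kernel
theorem rc1231 : allBelow (fun k => fr (Nat.add 60319 k)) 49 = true := by decide +kernel
theorem rc1232 : allBelow (fun k => fr (Nat.add 60368 k)) 49 = true := by decide +kernel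
theorem rc1233 : allBelow (fun k => fr (Nat.add 60417 k)) 49 = true := by decide +kernel
theorem rc1234 : allBelow (fun k => fr (Nat.add 60466 k)) 49 = true := by decide +kernel
theorem rc1235 : allBelow (fun k => fr (Nat.add 60515 k)) 49 = true := by decide +kernel
theorem rc1236 : allBelow (fun k => fr (Nat.add 60564 k)) 49 = true := by decide +kernel
theorem rc1237 : allBelow (fun k => fr (Nat.add 60613 k)) 49 = true := by decide +kernel
theorem rc1238 : allBelow (fun k => fr (Nat.add 60662 k)) 49 = true := by decide +kernel
theorem rc1239 : allBelow (fun k => fr (Nat.add 60711 k)) 49 = true := by decide +kernel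
theorem rc1240 : allBelow (fun k => fr (Nat.add 60760 k)) 49 = true := by decide +kernel
theorem rc1241 : allBelow (fun k => fr (Nat.add 60809 k)) 49 = true := by decide +kernel
theorem rc1242 : allBelow (fun k => fr (Nat.add 60858 k)) 49 = true := by decide +kernel
theorem rc1243 : allBelow (fun k => fr (Nat.add 60907 k)) 49 = true := by decide +kernel
theorem rc1244 : allBelow (fun k => fr (Nat.add 60956 k)) 49 = true := by decide +kernel
theorem rc1245 : allBelow (fun k => fr (Nat.add 61005 k)) 49 = true := by decide +kernel
theorem rc1246 : allBelow (fun k => fr (Nat.add 61054 k)) 49 = true := by decide +kernel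
theorem rc1247 : allBelow (fun k => fr (Nat.add 61103 k)) 49 = true := by decide +kernel
theorem rc1248 : allBelow (fun k => fr (Nat.add 61152 k)) 49 = true := by decide +kernel
theorem rc1249 : allBelow (fun k => fr (Nat.add 61201 k)) 49 = true := by decide +kernel
theorem rc1250 : allBelow (fun k => fr (Nat.add 61250 k)) 49 = true := by decide +kernel
theorem rc1251 : allBelow (fun k => fr (Nat.add 61299 k)) 49 = true := by decide +kernel
theorem rc1252 : allBelow (fun k => fr (Nat.add 61348 k)) 49 = true := by decide +kernel
theorem rc1253 : allBelow (fun k => fr (Nat.add 61397 k)) 49 = true := by decide +kernel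
theorem rc1254 : allBelow (fun k => fr (Nat.add 61446 k)) 49 = true := by decide +kernel
theorem rc1255 : allBelow (fun k => fr (Nat.add 61495 k)) 49 = true := by decide +kernel
theorem rc1256 : allBelow (fun k => fr (Nat.add 61544 k)) 49 = true := by decide +kernel
theorem rc1257 : allBelow (fun k => fr (Nat.add 61593 k)) 49 = true := by decide +kernel
theorem rc1258 : allBelow (fun k => fr (Nat.add 61642 k)) 49 = true := by decide +kernel
theorem rc1259 : allBelow (fun k => fr (Nat.add 61691 k)) 49 = true := by decide +kernel
theorem rc1260 : allBelow (fun k => fr (Nat.add 61740 k)) 49 = true := by decide +kernel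
theorem rc1261 : allBelow (fun k => fr (Nat.add 61789 k)) 49 = true := by decide +kernel
theorem rc1262 : allBelow (fun k => fr (Nat.add 61838 k)) 49 = true := by decide +kernel
theorem rc1263 : allBelow (fun k => fr (Nat.add 61887 k)) 49 = true := by decide +kernel
theorem rc1264 : allBelow (fun k => fr (Nat.add 61936 k)) 49 = true := by decide +kernel
theorem rc1265 : allBelow (fun k => fr (Nat.add 61985 k)) 49 = true := by decide +kernel
theorem rc1266 : allBelow (fun k => fr (Nat.add 62034 k)) 49 = true := by decide +kernel
theorem rc1267 : allBelow (fun k => fr (Nat.add 62083 k)) 49 = true := by decide +kernel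
theorem rc1268 : allBelow (fun k => fr (Nat.add 62132 k)) 49 = true := by decide +kernel
theorem rc1269 : allBelow (fun k => fr (Nat.add 62181 k)) 49 = true := by decide +kernel
theorem rc1270 : allBelow (fun k => fr (Nat.add 62230 k)) 49 = true := by decide +kernel
theorem rc1271 : allBelow (fun k => fr (Nat.add 62279 k)) 49 = true := by decide +kernel
theorem rc1272 : allBelow (fun k => fr (Nat.add 62328 k)) 49 = true := by decide +kernel
theorem rc1273 : allBelow (fun k => fr (Nat.add 62377 k)) 49 = true := by decide +kernel
theorem rc1274 : allBelow (fun k => fr (Nat.add 62426 k)) 49 = true := by decide +kernel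
theorem rc1275 : allBelow (fun k => fr (Nat.add 62475 k)) 49 = true := by decide +kernel
theorem rc1276 : allBelow (fun k => fr (Nat.add 62524 k)) 49 = true := by decide +kernel
theorem rc1277 : allBelow (fun k => fr (Nat.add 62573 k)) 49 = true := by decide +kernel
theorem rc1278 : allBelow (fun k => fr (Nat.add 62622 k)) 49 = true := by decide +kernel
theorem rc1279 : allBelow (fun k => fr (Nat.add 62671 k)) 49 = true := by decide +kernel
theorem rc1280 : allBelow (fun k => fr (Nat.add 62720 k)) 49 = true := by decide +kernel
theorem rc1281 : allBelow (fun k => fr (Nat.add 62769 k)) 49 = true := by decide +kernel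
theorem rc1282 : allBelow (fun k => fr (Nat.add 62818 k)) 49 = true := by decide +kernel
theorem rc1283 : allBelow (fun k => fr (Nat.add 62867 k)) 49 = true := by decide +kernel
theorem rc1284 : allBelow (fun k => fr (Nat.add 62916 k)) 49 = true := by decide +kernel
theorem rc1285 : allBelow (fun k => fr (Nat.add 62965 k)) 49 = true := by decide +kernel
theorem rc1286 : allBelow (fun k => fr (Nat.add 63014 k)) 49 = true := by decide +kernel
theorem rc1287 : allBelow (fun k => fr (Nat.add 63063 k)) 49 = true := by decide +kernel
theorem rc1288 : allBelow (fun k => fr (Nat.add 63112 k)) 49 = true := by decide +kernel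
theorem rc1289 : allBelow (fun k => fr (Nat.add 63161 k)) 49 = true := by decide +kernel
theorem rc1290 : allBelow (fun k => fr (Nat.add 63210 k)) 49 = true := by decide +kernel
theorem rc1291 : allBelow (fun k => fr (Nat.add 63259 k)) 49 = true := by decide +kernel
theorem rc1292 : allBelow (fun k => fr (Nat.add 63308 k)) 49 = true := by decide +kernel
theorem rc1293 : allBelow (fun k => fr (Nat.add 63357 k)) 49 = true := by decide +kernel
theorem rc1294 : allBelow (fun k => fr (Nat.add 63406 k)) 49 = true := by decide +kernel
theorem rc1295 : allBelow (fun k => fr (Nat.add 63455 k)) 49 = true := by decide +kernel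
theorem rc1296 : allBelow (fun k => fr (Nat.add 63504 k)) 49 = true := by decide +kernel
theorem rc1297 : allBelow (fun k => fr (Nat.add 63553 k)) 49 = true := by decide +kernel
theorem rc1298 : allBelow (fun k => fr (Nat.add 63602 k)) 49 = true := by decide +kernel
theorem rc1299 : allBelow (fun k => fr (Nat.add 63651 k)) 49 = true := by decide +kernel
theorem rc1300 : allBelow (fun k => fr (Nat.add 63700 k)) 49 = true := by decide +kernel
theorem rc1301 : allBelow (fun k => fr (Nat.add 63749 k)) 49 = true := by decide +kernel
theorem rc1302 : allBelow (fun k => fr (Nat.add 63798 k)) 49 = true := by decide +kernel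
theorem rc1303 : allBelow (fun k => fr (Nat.add 63847 k)) 49 = true := by decide +kernel
theorem rc1304 : allBelow (fun k => fr (Nat.add 63896 k)) 49 = true := by decide +kernel
theorem rc1305 : allBelow (fun k => fr (Nat.add 63945 k)) 49 = true := by decide +kernel
theorem rc1306 : allBelow (fun k => fr (Nat.add 63994 k)) 49 = true := by decide +kernel
theorem rc1307 : allBelow (fun k => fr (Nat.add 64043 k)) 49 = true := by decide +kernel
theorem rc1308 : allBelow (fun k => fr (Nat.add 64092 k)) 49 = true := by decide +kernel
theorem rc1309 : allBelow (fun k => fr (Nat.add 64141 k)) 49 = true := by decide +kernel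
theorem rc1310 : allBelow (fun k => fr (Nat.add 64190 k)) 49 = true := by decide +kernel
theorem rc1311 : allBelow (fun k => fr (Nat.add 64239 k)) 49 = true := by decide +kernel
theorem rc1312 : allBelow (fun k => fr (Nat.add 64288 k)) 49 = true := by decide +kernel
theorem rc1313 : allBelow (fun k => fr (Nat.add 64337 k)) 49 = true := by decide +kernel
theorem rc1314 : allBelow (fun k => fr (Nat.add 64386 k)) 49 = true := by decide +kernel
theorem rc1315 : allBelow (fun k => fr (Nat.add 64435 k)) 49 = true := by decide +kernel
theorem rc1316 : allBelow (fun k => fr (Nat.add 64484 k)) 49 = true := by decide +kernel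
theorem rc1317 : allBelow (fun k => fr (Nat.add 64533 k)) 49 = true := by decide +kernel
theorem rc1318 : allBelow (fun k => fr (Nat.add 64582 k)) 49 = true := by decide +kernel
theorem rc1319 : allBelow (fun k => fr (Nat.add 64631 k)) 49 = true := by decide +kernel
theorem rc1320 : allBelow (fun k => fr (Nat.add 64680 k)) 49 = true := by decide +kernel
theorem rc1321 : allBelow (fun k => fr (Nat.add 64729 k)) 49 = true := by decide +kernel
theorem rc1322 : allBelow (fun k => fr (Nat.add 64778 k)) 49 = true := by decide +kernel
theorem rc1323 : allBelow (fun k => fr (Nat.add 64827 k)) 49 = true := by decide +kernel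
theorem rc1324 : allBelow (fun k => fr (Nat.add 64876 k)) 49 = true := by decide +kernel
theorem rc1325 : allBelow (fun k => fr (Nat.add 64925 k)) 49 = true := by decide +kernel
theorem rc1326 : allBelow (fun k => fr (Nat.add 64974 k)) 49 = true := by decide +kernel
theorem rc1327 : allBelow (fun k => fr (Nat.add 65023 k)) 49 = true := by decide +kernel
theorem rc1328 : allBelow (fun k => fr (Nat.add 65072 k)) 49 = true := by decide +kernel
theorem rc1329 : allBelow (fun k => fr (Nat.add 65121 k)) 49 = true := by decide +kernel
theorem rc1330 : allBelow (fun k => fr (Nat.add 65170 k)) 49 = true := by decide +kernel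
theorem rc1331 : allBelow (fun k => fr (Nat.add 65219 k)) 49 = true := by decide +kernel
theorem rc1332 : allBelow (fun k => fr (Nat.add 65268 k)) 49 = true := by decide +kernel
theorem rc1333 : allBelow (fun k => fr (Nat.add 65317 k)) 49 = true := by decide +kernel
theorem rc1334 : allBelow (fun k => fr (Nat.add 65366 k)) 49 = true := by decide +kernel
theorem rc1335 : allBelow (fun k => fr (Nat.add 65415 k)) 49 = true := by decide +kernel
theorem rc1336 : allBelow (fun k => fr (Nat.add 65464 k)) 49 = true := by decide +kernel
theorem rc1337 : allBelow (fun k => fr (Nat.add 65513 k)) 49 = true := by decide +kernel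
theorem rc1338 : allBelow (fun k => fr (Nat.add 65562 k)) 49 = true := by decide +kernel
theorem rc1339 : allBelow (fun k => fr (Nat.add 65611 k)) 49 = true := by decide +kernel
theorem rc1340 : allBelow (fun k => fr (Nat.add 65660 k)) 49 = true := by decide +kernel
theorem rc1341 : allBelow (fun k => fr (Nat.add 65709 k)) 49 = true := by decide +kernel
theorem rc1342 : allBelow (fun k => fr (Nat.add 65758 k)) 49 = true := by decide +kernel
theorem rc1343 : allBelow (fun k => fr (Nat.add 65807 k)) 49 = true := by decide +kernel
theorem rc1344 : allBelow (fun k => fr (Nat.add 65856 k)) 49 = true := by decide +kernel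
theorem rc1345 : allBelow (fun k => fr (Nat.add 65905 k)) 49 = true := by decide +kernel
theorem rc1346 : allBelow (fun k => fr (Nat.add 65954 k)) 49 = true := by decide +kernel
theorem rc1347 : allBelow (fun k => fr (Nat.add 66003 k)) 49 = true := by decide +kernel
theorem rc1348 : allBelow (fun k => fr (Nat.add 66052 k)) 49 = true := by decide +kernel
theorem rc1349 : allBelow (fun k => fr (Nat.add 66101 k)) 49 = true := by decide +kernel
theorem rc1350 : allBelow (fun k => fr (Nat.add 66150 k)) 49 = true := by decide +kernel
theorem rc1351 : allBelow (fun k => fr (Nat.add 66199 k)) 49 = true := by decide +kernel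
theorem rc1352 : allBelow (fun k => fr (Nat.add 66248 k)) 49 = true := by decide +kernel
theorem rc1353 : allBelow (fun k => fr (Nat.add 66297 k)) 49 = true := by decide +kernel
theorem rc1354 : allBelow (fun k => fr (Nat.add 66346 k)) 49 = true := by decide +kernel
theorem rc1355 : allBelow (fun k => fr (Nat.add 66395 k)) 49 = true := by decide +kernel
theorem rc1356 : allBelow (fun k => fr (Nat.add 66444 k)) 49 = true := by decide +kernel
theorem rc1357 : allBelow (fun k => fr (Nat.add 66493 k)) 49 = true := by decide +kernel
theorem rc1358 : allBelow (fun k => fr (Nat.add 66542 k)) 49 = true := by decide +kernel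
theorem rc1359 : allBelow (fun k => fr (Nat.add 66591 k)) 49 = true := by decide +kernel
theorem rc1360 : allBelow (fun k => fr (Nat.add 66640 k)) 49 = true := by decide +kernel
theorem rc1361 : allBelow (fun k => fr (Nat.add 66689 k)) 49 = true := by decide +kernel
theorem rc1362 : allBelow (fun k => fr (Nat.add 66738 k)) 49 = true := by decide +kernel
theorem rc1363 : allBelow (fun k => fr (Nat.add 66787 k)) 49 = true := by decide +kernel
theorem rc1364 : allBelow (fun k => fr (Nat.add 66836 k)) 49 = true := by decide +kernel
theorem rc1365 : allBelow (fun k => fr (Nat.add 66885 k)) 49 = true := by decide +kernel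
theorem rc1366 : allBelow (fun k => fr (Nat.add 66934 k)) 49 = true := by decide +kernel
theorem rc1367 : allBelow (fun k => fr (Nat.add 66983 k)) 49 = true := by decide +kernel
theorem rc1368 : allBelow (fun k => fr (Nat.add 67032 k)) 49 = true := by decide +kernel
theorem rc1369 : allBelow (fun k => fr (Nat.add 67081 k)) 49 = true := by decide +kernel
theorem rc1370 : allBelow (fun k => fr (Nat.add 67130 k)) 49 = true := by decide +kernel
theorem rc1371 : allBelow (fun k => fr (Nat.add 67179 k)) 49 = true := by decide +kernel
theorem rc1372 : allBelow (fun k => fr (Nat.add 67228 k)) 49 = true := by decide +kernel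
theorem rc1373 : allBelow (fun k => fr (Nat.add 67277 k)) 49 = true := by decide +kernel
theorem rc1374 : allBelow (fun k => fr (Nat.add 67326 k)) 49 = true := by decide +kernel
theorem rc1375 : allBelow (fun k => fr (Nat.add 67375 k)) 49 = true := by decide +kernel
theorem rc1376 : allBelow (fun k => fr (Nat.add 67424 k)) 49 = true := by decide +kernel
theorem rc1377 : allBelow (fun k => fr (Nat.add 67473 k)) 49 = true := by decide +kernel
theorem rc1378 : allBelow (fun k => fr (Nat.add 67522 k)) 49 = true := by decide +kernel
theorem rc1379 : allBelow (fun k => fr (Nat.add 67571 k)) 49 = true := by decide +kernel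
theorem rc1380 : allBelow (fun k => fr (Nat.add 67620 k)) 49 = true := by decide +kernel
theorem rc1381 : allBelow (fun k => fr (Nat.add 67669 k)) 49 = true := by decide +kernel
theorem rc1382 : allBelow (fun k => fr (Nat.add 67718 k)) 49 = true := by decide +kernel
theorem rc1383 : allBelow (fun k => fr (Nat.add 67767 k)) 49 = true := by decide +kernel
theorem rc1384 : allBelow (fun k => fr (Nat.add 67816 k)) 49 = true := by decide +kernel
theorem rc1385 : allBelow (fun k => fr (Nat.add 67865 k)) 49 = true := by decide +kernel
theorem rc1386 : allBelow (fun k => fr (Nat.add 67914 k)) 49 = true := by decide +kernel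
theorem rc1387 : allBelow (fun k => fr (Nat.add 67963 k)) 49 = true := by decide +kernel
theorem rc1388 : allBelow (fun k => fr (Nat.add 68012 k)) 49 = true := by decide +kernel
theorem rc1389 : allBelow (fun k => fr (Nat.add 68061 k)) 49 = true := by decide +kernel
theorem rc1390 : allBelow (fun k => fr (Nat.add 68110 k)) 49 = true := by decide +kernel
theorem rc1391 : allBelow (fun k => fr (Nat.add 68159 k)) 49 = true := by decide +kernel
theorem rc1392 : allBelow (fun k => fr (Nat.add 68208 k)) 49 = true := by decide +kernel
theorem rc1393 : allBelow (fun k => fr (Nat.add 68257 k)) 49 = true := by decide +kernel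
theorem rc1394 : allBelow (fun k => fr (Nat.add 68306 k)) 49 = true := by decide +kernel
theorem rc1395 : allBelow (fun k => fr (Nat.add 68355 k)) 49 = true := by decide +kernel
theorem rc1396 : allBelow (fun k => fr (Nat.add 68404 k)) 49 = true := by decide +kernel
theorem rc1397 : allBelow (fun k => fr (Nat.add 68453 k)) 49 = true := by decide +kernel
theorem rc1398 : allBelow (fun k => fr (Nat.add 68502 k)) 49 = true := by decide +kernel
theorem rc1399 : allBelow (fun k => fr (Nat.add 68551 k)) 49 = true := by decide +kernel
theorem rc1400 : allBelow (fun k => fr (Nat.add 68600 k)) 49 = true := by decide +kernel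
theorem rc1401 : allBelow (fun k => fr (Nat.add 68649 k)) 49 = true := by decide +kernel
theorem rc1402 : allBelow (fun k => fr (Nat.add 68698 k)) 49 = true := by decide +kernel
theorem rc1403 : allBelow (fun k => fr (Nat.add 68747 k)) 49 = true := by decide +kernel

end Cfsg.Agent.Lib.Helper35.ON122760
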