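import Cfsg.Agent.Lib.Helper35.ON122760.PData

set_option Elab.async false

namespace Cfsg.Agent.Lib.Helper35.ON122760

open Cfsg.Agent.Lib.Helper35

theorem rc1404 : allBelow (fun k => fr (Nat.add 68796 k)) 49 = true := by decide +kernel
theorem rc1405 : allBelow (fun k => fr (Nat.add 68845 k)) 49 = true := by decide +kernel
theorem rc1406 : allBelow (fun k => fr (Nat.add 68894 k)) 49 = true := by decide +kernel
theorem rc1407 : allBelow (fun k => fr (Nat.add 68943 k)) 49 = true := by decide +kernel
theorem rc1408 : allBelow (fun k => fr (Nat.add 68992 k)) 49 = true := by decide +kernel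
theorem rc1409 : allBelow (fun k => fr (Nat.add 69041 k)) 49 = true := by decide +kernel
theorem rc1410 : allBelow (fun k => fr (Nat.add 69090 k)) 49 = true := by decide +kernel
theorem rc1411 : allBelow (fun k => fr (Nat.add 69139 k)) 49 = true := by decide +kernel
theorem rc1412 : allBelow (fun k => fr (Nat.add 69188 k)) 49 = true := by decide +kernel
theorem rc1413 : allBelow (fun k => fr (Nat.add 69237 k)) 49 = true := by decide +kernel
theorem rc1414 : allBelow (fun k => fr (Nat.add 69286 k)) 49 = true := by decide +kernel
theorem rc1415 : allBelow (fun k => fr (Nat.add 69335 k)) 49 = true := by decide +kernel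
theorem rc1416 : allBelow (fun k => fr (Nat.add 69384 k)) 49 = true := by decide +kernel
theorem rc1417 : allBelow (fun k => fr (Nat.add 69433 k)) 49 = true := by decide +kernel
theorem rc1418 : allBelow (fun k => fr (Nat.add 69482 k)) 49 = true := by decide +kernel
theorem rc1419 : allBelow (fun k => fr (Nat.add 69531 k)) 49 = true := by decide +kernel
theorem rc1420 : allBelow (fun k => fr (Nat.add 69580 k)) 49 = true := by decide +kernel
theorem rc1421 : allBelow (fun k => fr (Nat.add 69629 k)) 49 = true := by decide +kernel
theorem rc1422 : allBelow (fun k => fr (Nat.add 69678 k)) 49 = true := by decide +kernel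
theorem rc1423 : allBelow (fun k => fr (Nat.add 69727 k)) 49 = true := by decide +kernel
theorem rc1424 : allBelow (fun k => fr (Nat.add 69776 k)) 49 = true := by decide +kernel
theorem rc1425 : allBelow (fun k => fr (Nat.add 69825 k)) 49 = true := by decide +kernel
theorem rc1426 : allBelow (fun k => fr (Nat.add 69874 k)) 49 = true := by decide +kernel
theorem rc1427 : allBelow (fun k => fr (Nat.add 69923 k)) 49 = true := by decide +kernel
theorem rc1428 : allBelow (fun k => fr (Nat.add 69972 k)) 49 = true := by decide +kernel
theorem rc1429 : allBelow (fun k => fr (Nat.add 70021 k)) 49 = true := by decide +kernel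
theorem rc1430 : allBelow (fun k => fr (Nat.add 70070 k)) 49 = true := by decide +kernel
theorem rc1431 : allBelow (fun k => fr (Nat.add 70119 k)) 49 = true := by decide +kernel
theorem rc1432 : allBelow (fun k => fr (Nat.add 70168 k)) 49 = true := by decide +kernel
theorem rc1433 : allBelow (fun k => fr (Nat.add 70217 k)) 49 = true := by decide +kernel
theorem rc1434 : allBelow (fun k => fr (Nat.add 70266 k)) 49 = true := by decide +kernel
theorem rc1435 : allBelow (fun k => fr (Nat.add 70315 k)) 49 = true := by decide +kernel
theorem rc1436 : allBelow (fun k => fr (Nat.add 70364 k)) 49 = true := by decide +kernel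
theorem rc1437 : allBelow (fun k => fr (Nat.add 70413 k)) 49 = true := by decide +kernel
theorem rc1438 : allBelow (fun k => fr (Nat.add 70462 k)) 49 = true := by decide +kernel
theorem rc1439 : allBelow (fun k => fr (Nat.add 70511 k)) 49 = true := by decide +kernel
theorem rc1440 : allBelow (fun k => fr (Nat.add 70560 k)) 49 = true := by decide +kernel
theorem rc1441 : allBelow (fun k => fr (Nat.add 70609 k)) 49 = true := by decide +kernel
theorem rc1442 : allBelow (fun k => fr (Nat.add 70658 k)) 49 = true := by decide +kernel
theorem rc1443 : allBelow (fun k => fr (Nat.add 70707 k)) 49 = true := by decide +kernel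
theorem rc1444 : allBelow (fun k => fr (Nat.add 70756 k)) 49 = true := by decide +kernel
theorem rc1445 : allBelow (fun k => fr (Nat.add 70805 k)) 49 = true := by decide +kernel
theorem rc1446 : allBelow (fun k => fr (Nat.add 70854 k)) 49 = true := by decide +kernel
theorem rc1447 : allBelow (fun k => fr (Nat.add 70903 k)) 49 = true := by decide +kernel
theorem rc1448 : allBelow (fun k => fr (Nat.add 70952 k)) 49 = true := by decide +kernel
theorem rc1449 : allBelow (fun k => fr (Nat.add 71001 k)) 49 = true := by decide +kernel
theorem rc1450 : allBelow (fun k => fr (Nat.add 71050 k)) 49 = true := by decide +kernel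
theorem rc1451 : allBelow (fun k => fr (Nat.add 71099 k)) 49 = true := by decide +kernel
theorem rc1452 : allBelow (fun k => fr (Nat.add 71148 k)) 49 = true := by decide +kernel
theorem rc1453 : allBelow (fun k => fr (Nat.add 71197 k)) 49 = true := by decide +kernel
theorem rc1454 : allBelow (fun k => fr (Nat.add 71246 k)) 49 = true := by decide +kernel
theorem rc1455 : allBelow (fun k => fr (Nat.add 71295 k)) 49 = true := by decide +kernel
theorem rc1456 : allBelow (fun k => fr (Nat.add 71344 k)) 49 = true := by decide +kernel
theorem rc1457 : allBelow (fun k => fr (Nat.add 71393 k)) 49 = true := by decide +kernel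
theorem rc1458 : allBelow (fun k => fr (Nat.add 71442 k)) 49 = true := by decide +kernel
theorem rc1459 : allBelow (fun k => fr (Nat.add 71491 k)) 49 = true := by decide +kernel
theorem rc1460 : allBelow (fun k => fr (Nat.add 71540 k)) 49 = true := by decide +kernel
theorem rc1461 : allBelow (fun k => fr (Nat.add 71589 k)) 49 = true := by decide +kernel
theorem rc1462 : allBelow (fun k => fr (Nat.add 71638 k)) 49 = true := by decide +kernel
theorem rc1463 : allBelow (fun k => fr (Nat.add 71687 k)) 49 = true := by decide +kernel
theorem rc1464 : allBelow (fun k => fr (Nat.add 71736 k)) 49 = true := by decide +kernel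
theorem rc1465 : allBelow (fun k => fr (Nat.add 71785 k)) 49 = true := by decide +kernel
theorem rc1466 : allBelow (fun k => fr (Nat.add 71834 k)) 49 = true := by decide +kernel
theorem rc1467 : allBelow (fun k => fr (Nat.add 71883 k)) 49 = true := by decide +kernel
theorem rc1468 : allBelow (fun k => fr (Nat.add 71932 k)) 49 = true := by decide +kernel
theorem rc1469 : allBelow (fun k => fr (Nat.add 71981 k)) 49 = true := by decide +kernel
theorem rc1470 : allBelow (fun k => fr (Nat.add 72030 k)) 49 = true := by decide +kernel
theorem rc1471 : allBelow (fun k => fr (Nat.add 72079 k)) 49 = true := by decide +kernel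
theorem rc1472 : allBelow (fun k => fr (Nat.add 72128 k)) 49 = true := by decide +kernel
theorem rc1473 : allBelow (fun k => fr (Nat.add 72177 k)) 49 = true := by decide +kernel
theorem rc1474 : allBelow (fun k => fr (Nat.add 72226 k)) 49 = true := by decide +kernel
theorem rc1475 : allBelow (fun k => fr (Nat.add 72275 k)) 49 = true := by decide +kernel
theorem rc1476 : allBelow (fun k => fr (Nat.add 72324 k)) 49 = true := by decide +kernel
theorem rc1477 : allBelow (fun k => fr (Nat.add 72373 k)) 49 = true := by decide +kernel
theorem rc1478 : allBelow (fun k => fr (Nat.add 72422 k)) 49 = true := by decide +kernel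
theorem rc1479 : allBelow (fun k => fr (Nat.add 72471 k)) 49 = true := by decide +kernel
theorem rc1480 : allBelow (fun k => fr (Nat.add 72520 k)) 49 = true := by decide +kernel
theorem rc1481 : allBelow (fun k => fr (Nat.add 72569 k)) 49 = true := by decide +kernel
theorem rc1482 : allBelow (fun k => fr (Nat.add 72618 k)) 49 = true := by decide +kernel
theorem rc1483 : allBelow (fun k => fr (Nat.add 72667 k)) 49 = true := by decide +kernel
theorem rc1484 : allBelow (fun k => fr (Nat.add 72716 k)) 49 = true := by decide +kernel
theorem rc1485 : allBelow (fun k => fr (Nat.add 72765 k)) 49 = true := by decide +kernel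
theorem rc1486 : allBelow (fun k => fr (Nat.add 72814 k)) 49 = true := by decide +kernel
theorem rc1487 : allBelow (fun k => fr (Nat.add 72863 k)) 49 = true := by decide +kernel
theorem rc1488 : allBelow (fun k => fr (Nat.add 72912 k)) 49 = true := by decide +kernel
theorem rc1489 : allBelow (fun k => fr (Nat.add 72961 k)) 49 = true := by decide +kernel
theorem rc1490 : allBelow (fun k => fr (Nat.add 73010 k)) 49 = true := by decide +kernel
theorem rc1491 : allBelow (fun k => fr (Nat.add 73059 k)) 49 = true := by decide +kernel
theorem rc1492 : allBelow (fun k => fr (Nat.add 73108 k)) 49 = true := by decide +kernel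
theorem rc1493 : allBelow (fun k => fr (Nat.add 73157 k)) 49 = true := by decide +kernel
theorem rc1494 : allBelow (fun k => fr (Nat.add 73206 k)) 49 = true := by decide +kernel
theorem rc1495 : allBelow (fun k => fr (Nat.add 73255 k)) 49 = true := by decide +kernel
theorem rc1496 : allBelow (fun k => fr (Nat.add 73304 k)) 49 = true := by decide +kernel
theorem rc1497 : allBelow (fun k => fr (Nat.add 73353 k)) 49 = true := by decide +kernel
theorem rc1498 : allBelow (fun k => fr (Nat.add 73402 k)) 49 = true := by decide +kernel
theorem rc1499 : allBelow (fun k => fr (Nat.add 73451 k)) 49 = true := by decide +kernel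
theorem rc1500 : allBelow (fun k => fr (Nat.add 73500 k)) 49 = true := by decide +kernel
theorem rc1501 : allBelow (fun k => fr (Nat.add 73549 k)) 49 = true := by decide +kernel
theorem rc1502 : allBelow (fun k => fr (Nat.add 73598 k)) 49 = true := by decide +kernel
theorem rc1503 : allBelow (fun k => fr (Nat.add 73647 k)) 49 = true := by decide +kernel
theorem rc1504 : allBelow (fun k => fr (Nat.add 73696 k)) 49 = true := by decide +kernel
theorem rc1505 : allBelow (fun k => fr (Nat.add 73745 k)) 49 = true := by decide +kernel
theorem rc1506 : allBelow (fun k => fr (Nat.add 73794 k)) 49 = true := by decide +kernel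
theorem rc1507 : allBelow (fun k => fr (Nat.add 73843 k)) 49 = true := by decide +kernel
theorem rc1508 : allBelow (fun k => fr (Nat.add 73892 k)) 49 = true := by decide +kernel
theorem rc1509 : allBelow (fun k => fr (Nat.add 73941 k)) 49 = true := by decide +kernel
theorem rc1510 : allBelow (fun k => fr (Nat.add 73990 k)) 49 = true := by decide +kernel
theorem rc1511 : allBelow (fun k => fr (Nat.add 74039 k)) 49 = true := by decide +kernel
theorem rc1512 : allBelow (fun k => fr (Nat.add 74088 k)) 49 = true := by decide +kernel
theorem rc1513 : allBelow (fun k => fr (Nat.add 74137 k)) 49 = true := by decide +kernel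
theorem rc1514 : allBelow (fun k => fr (Nat.add 74186 k)) 49 = true := by decide +kernel
theorem rc1515 : allBelow (fun k => fr (Nat.add 74235 k)) 49 = true := by decide +kernel
theorem rc1516 : allBelow (fun k => fr (Nat.add 74284 k)) 49 = true := by decide +kernel
theorem rc1517 : allBelow (fun k => fr (Nat.add 74333 k)) 49 = true := by decide +kernel
theorem rc1518 : allBelow (fun k => fr (Nat.add 74382 k)) 49 = true := by decide +kernel
theorem rc1519 : allBelow (fun k => fr (Nat.add 74431 k)) 49 = true := by decide +kernel
theorem rc1520 : allBelow (fun k => fr (Nat.add 74480 k)) 49 = true := by decide +kernel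
theorem rc1521 : allBelow (fun k => fr (Nat.add 74529 k)) 49 = true := by decide +kernel
theorem rc1522 : allBelow (fun k => fr (Nat.add 74578 k)) 49 = true := by decide +kernel
theorem rc1523 : allBelow (fun k => fr (Nat.add 74627 k)) 49 = true := by decide +kernel
theorem rc1524 : allBelow (fun k => fr (Nat.add 74676 k)) 49 = true := by decide +kernel
theorem rc1525 : allBelow (fun k => fr (Nat.add 74725 k)) 49 = true := by decide +kernel
theorem rc1526 : allBelow (fun k => fr (Nat.add 74774 k)) 49 = true := by decide +kernel
theorem rc1527 : allBelow (fun k => fr (Nat.add 74823 k)) 49 = true := by decide +kernel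
theorem rc1528 : allBelow (fun k => fr (Nat.add 74872 k)) 49 = true := by decide +kernel
theorem rc1529 : allBelow (fun k => fr (Nat.add 74921 k)) 49 = true := by decide +kernel
theorem rc1530 : allBelow (fun k => fr (Nat.add 74970 k)) 49 = true := by decide +kernel
theorem rc1531 : allBelow (fun k => fr (Nat.add 75019 k)) 49 = true := by decide +kernel
theorem rc1532 : allBelow (fun k => fr (Nat.add 75068 k)) 49 = true := by decide +kernel
theorem rc1533 : allBelow (fun k => fr (Nat.add 75117 k)) 49 = true := by decide +kernel
theorem rc1534 : allBelow (fun k => fr (Nat.add 75166 k)) 49 = true := by decide +kernel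
theorem rc1535 : allBelow (fun k => fr (Nat.add 75215 k)) 49 = true := by decide +kernel
theorem rc1536 : allBelow (fun k => fr (Nat.add 75264 k)) 49 = true := by decide +kernel
theorem rc1537 : allBelow (fun k => fr (Nat.add 75313 k)) 49 = true := by decide +kernel
theorem rc1538 : allBelow (fun k => fr (Nat.add 75362 k)) 49 = true := by decide +kernel
theorem rc1539 : allBelow (fun k => fr (Nat.add 75411 k)) 49 = true := by decide +kernel
theorem rc1540 : allBelow (fun k => fr (Nat.add 75460 k)) 49 = true := by decide +kernel
theorem rc1541 : allBelow (fun k => fr (Nat.add 75509 k)) 49 = true := by decide +kernel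
theorem rc1542 : allBelow (fun k => fr (Nat.add 75558 k)) 49 = true := by decide +kernel
theorem rc1543 : allBelow (fun k => fr (Nat.add 75607 k)) 49 = true := by decide +kernel
theorem rc1544 : allBelow (fun k => fr (Nat.add 75656 k)) 49 = true := by decide +kernel
theorem rc1545 : allBelow (fun k => fr (Nat.add 75705 k)) 49 = true := by decide +kernel
theorem rc1546 : allBelow (fun k => fr (Nat.add 75754 k)) 49 = true := by decide +kernel
theorem rc1547 : allBelow (fun k => fr (Nat.add 75803 k)) 49 = true := by decide +kernel
theorem rc1548 : allBelow (fun k => fr (Nat.add 75852 k)) 49 = true := by decide +kernel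
theorem rc1549 : allBelow (fun k => fr (Nat.add 75901 k)) 49 = true := by decide +kernel
theorem rc1550 : allBelow (fun k => fr (Nat.add 75950 k)) 49 = true := by decide +kernel
theorem rc1551 : allBelow (fun k => fr (Nat.add 75999 k)) 49 = true := by decide +kernel
theorem rc1552 : allBelow (fun k => fr (Nat.add 76048 k)) 49 = true := by decide +kernel
theorem rc1553 : allBelow (fun k => fr (Nat.add 76097 k)) 49 = true := by decide +kernel
theorem rc1554 : allBelow (fun k => fr (Nat.add 76146 k)) 49 = true := by decide +kernel
theorem rc1555 : allBelow (fun k => fr (Nat.add 76195 k)) 49 = true := by decide +kernel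
theorem rc1556 : allBelow (fun k => fr (Nat.add 76244 k)) 49 = true := by decide +kernel
theorem rc1557 : allBelow (fun k => fr (Nat.add 76293 k)) 49 = true := by decide +kernel
theorem rc1558 : allBelow (fun k => fr (Nat.add 76342 k)) 49 = true := by decide +kernel
theorem rc1559 : allBelow (fun k => fr (Nat.add 76391 k)) 49 = true := by decide +kernel
theorem rc1560 : allBelow (fun k => fr (Nat.add 76440 k)) 49 = true := by decide +kernel
theorem rc1561 : allBelow (fun k => fr (Nat.add 76489 k)) 49 = true := by decide +kernel
theorem rc1562 : allBelow (fun k => fr (Nat.add 76538 k)) 49 = true := by decide +kernel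
theorem rc1563 : allBelow (fun k => fr (Nat.add 76587 k)) 49 = true := by decide +kernel
theorem rc1564 : allBelow (fun k => fr (Nat.add 76636 k)) 49 = true := by decide +kernel
theorem rc1565 : allBelow (fun k => fr (Nat.add 76685 k)) 49 = true := by decide +kernel
theorem rc1566 : allBelow (fun k => fr (Nat.add 76734 k)) 49 = true := by decide +kernel
theorem rc1567 : allBelow (fun k => fr (Nat.add 76783 k)) 49 = true := by decide +kernel
theorem rc1568 : allBelow (fun k => fr (Nat.add 76832 k)) 49 = true := by decide +kernel
theorem rc1569 : allBelow (fun k => fr (Nat.add 76881 k)) 49 = true := by decide +kernel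
theorem rc1570 : allBelow (fun k => fr (Nat.add 76930 k)) 49 = true := by decide +kernel
theorem rc1571 : allBelow (fun k => fr (Nat.add 76979 k)) 49 = true := by decide +kernel
theorem rc1572 : allBelow (fun k => fr (Nat.add 77028 k)) 49 = true := by decide +kernel
theorem rc1573 : allBelow (fun k => fr (Nat.add 77077 k)) 49 = true := by decide +kernel
theorem rc1574 : allBelow (fun k => fr (Nat.add 77126 k)) 49 = true := by decide +kernel
theorem rc1575 : allBelow (fun k => fr (Nat.add 77175 k)) 49 = true := by decide +kernel
theorem rc1576 : allBelow (fun k => fr (Nat.add 77224 k)) 49 = true := by decide +kernel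
theorem rc1577 : allBelow (fun k => fr (Nat.add 77273 k)) 49 = true := by decide +kernel
theorem rc1578 : allBelow (fun k => fr (Nat.add 77322 k)) 49 = true := by decide +kernel
theorem rc1579 : allBelow (fun k => fr (Nat.add 77371 k)) 49 = true := by decide +kernel
theorem rc1580 : allBelow (fun k => fr (Nat.add 77420 k)) 49 = true := by decide +kernel
theorem rc1581 : allBelow (fun k => fr (Nat.add 77469 k)) 49 = true := by decide +kernel
theorem rc1582 : allBelow (fun k => fr (Nat.add 77518 k)) 49 = true := by decide +kernel
theorem rc1583 : allBelow (fun k => fr (Nat.add 77567 k)) 49 = true := by decide +kernel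
theorem rc1584 : allBelow (fun k => fr (Nat.add 77616 k)) 49 = true := by decide +kernel
theorem rc1585 : allBelow (fun k => fr (Nat.add 77665 k)) 49 = true := by decide +kernel
theorem rc1586 : allBelow (fun k => fr (Nat.add 77714 k)) 49 = true := by decide +kernel
theorem rc1587 : allBelow (fun k => fr (Nat.add 77763 k)) 49 = true := by decide +kernel
theorem rc1588 : allBelow (fun k => fr (Nat.add 77812 k)) 49 = true := by decide +kernel
theorem rc1589 : allBelow (fun k => fr (Nat.add 77861 k)) 49 = true := by decide +kernel
theorem rc1590 : allBelow (fun k => fr (Nat.add 77910 k)) 49 = true := by decide +kernel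
theorem rc1591 : allBelow (fun k => fr (Nat.add 77959 k)) 49 = true := by decide +kernel
theorem rc1592 : allBelow (fun k => fr (Nat.add 78008 k)) 49 = true := by decide +kernel
theorem rc1593 : allBelow (fun k => fr (Nat.add 78057 k)) 49 = true := by decide +kernel
theorem rc1594 : allBelow (fun k => fr (Nat.add 78106 k)) 49 = true := by decide +kernel
theorem rc1595 : allBelow (fun k => fr (Nat.add 78155 k)) 49 = true := by decide +kernel
theorem rc1596 : allBelow (fun k => fr (Nat.add 78204 k)) 49 = true := by decide +kernel
theorem rc1597 : allBelow (fun k => fr (Nat.add 78253 k)) 49 = true := by decide +kernel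
theorem rc1598 : allBelow (fun k => fr (Nat.add 78302 k)) 49 = true := by decide +kernel
theorem rc1599 : allBelow (fun k => fr (Nat.add 78351 k)) 49 = true := by decide +kernel
theorem rc1600 : allBelow (fun k => fr (Nat.add 78400 k)) 49 = true := by decide +kernel
theorem rc1601 : allBelow (fun k => fr (Nat.add 78449 k)) 49 = true := by decide +kernel
theorem rc1602 : allBelow (fun k => fr (Nat.add 78498 k)) 49 = true := by decide +kernel
theorem rc1603 : allBelow (fun k => fr (Nat.add 78547 k)) 49 = true := by decide +kernel
theorem rc1604 : allBelow (fun k => fr (Nat.add 78596 k)) 49 = true := by decide +kernel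
theorem rc1605 : allBelow (fun k => fr (Nat.add 78645 k)) 49 = true := by decide +kernel
theorem rc1606 : allBelow (fun k => fr (Nat.add 78694 k)) 49 = true := by decide +kernel
theorem rc1607 : allBelow (fun k => fr (Nat.add 78743 k)) 49 = true := by decide +kernel
theorem rc1608 : allBelow (fun k => fr (Nat.add 78792 k)) 49 = true := by decide +kernel
theorem rc1609 : allBelow (fun k => fr (Nat.add 78841 k)) 49 = true := by decide +kernel
theorem rc1610 : allBelow (fun k => fr (Nat.add 78890 k)) 49 = true := by decide +kernel
theorem rc1611 : allBelow (fun k => fr (Nat.add 78939 k)) 49 = true := by decide +kernel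
theorem rc1612 : allBelow (fun k => fr (Nat.add 78988 k)) 49 = true := by decide +kernel
theorem rc1613 : allBelow (fun k => fr (Nat.add 79037 k)) 49 = true := by decide +kernel
theorem rc1614 : allBelow (fun k => fr (Nat.add 79086 k)) 49 = true := by decide +kernel
theorem rc1615 : allBelow (fun k => fr (Nat.add 79135 k)) 49 = true := by decide +kernel
theorem rc1616 : allBelow (fun k => fr (Nat.add 79184 k)) 49 = true := by decide +kernel
theorem rc1617 : allBelow (fun k => fr (Nat.add 79233 k)) 49 = true := by decide +kernel
theorem rc1618 : allBelow (fun k => fr (Nat.add 79282 k)) 49 = true := by decide +kernel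
theorem rc1619 : allBelow (fun k => fr (Nat.add 79331 k)) 49 = true := by decide +kernel
theorem rc1620 : allBelow (fun k => fr (Nat.add 79380 k)) 49 = true := by decide +kernel
theorem rc1621 : allBelow (fun k => fr (Nat.add 79429 k)) 49 = true := by decide +kernel
theorem rc1622 : allBelow (fun k => fr (Nat.add 79478 k)) 49 = true := by decide +kernel
theorem rc1623 : allBelow (fun k => fr (Nat.add 79527 k)) 49 = true := by decide +kernel
theorem rc1624 : allBelow (fun k => fr (Nat.add 79576 k)) 49 = true := by decide +kernel
theorem rc1625 : allBelow (fun k => fr (Nat.add 79625 k)) 49 = true := by decide +kernel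
theorem rc1626 : allBelow (fun k => fr (Nat.add 79674 k)) 49 = true := by decide +kernel
theorem rc1627 : allBelow (fun k => fr (Nat.add 79723 k)) 49 = true := by decide +kernel
theorem rc1628 : allBelow (fun k => fr (Nat.add 79772 k)) 49 = true := by decide +kernel
theorem rc1629 : allBelow (fun k => fr (Nat.add 79821 k)) 49 = true := by decide +kernel
theorem rc1630 : allBelow (fun k => fr (Nat.add 79870 k)) 49 = true := by decide +kernel
theorem rc1631 : allBelow (fun k => fr (Nat.add 79919 k)) 49 = true := by decide +kernel
theorem rc1632 : allBelow (fun k => fr (Nat.add 79968 k)) 49 = true := by decide +kernel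
theorem rc1633 : allBelow (fun k => fr (Nat.add 80017 k)) 49 = true := by decide +kernel
theorem rc1634 : allBelow (fun k => fr (Nat.add 80066 k)) 49 = true := by decide +kernel
theorem rc1635 : allBelow (fun k => fr (Nat.add 80115 k)) 49 = true := by decide +kernel
theorem rc1636 : allBelow (fun k => fr (Nat.add 80164 k)) 49 = true := by decide +kernel
theorem rc1637 : allBelow (fun k => fr (Nat.add 80213 k)) 49 = true := by decide +kernel
theorem rc1638 : allBelow (fun k => fr (Nat.add 80262 k)) 49 = true := by decide +kernel
theorem rc1639 : allBelow (fun k => fr (Nat.add 80311 k)) 49 = true := by decide +kernel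
theorem rc1640 : allBelow (fun k => fr (Nat.add 80360 k)) 49 = true := by decide +kernel
theorem rc1641 : allBelow (fun k => fr (Nat.add 80409 k)) 49 = true := by decide +kernel
theorem rc1642 : allBelow (fun k => fr (Nat.add 80458 k)) 49 = true := by decide +kernel
theorem rc1643 : allBelow (fun k => fr (Nat.add 80507 k)) 49 = true := by decide +kernel
theorem rc1644 : allBelow (fun k => fr (Nat.add 80556 k)) 49 = true := by decide +kernel
theorem rc1645 : allBelow (fun k => fr (Nat.add 80605 k)) 49 = true := by decide +kernel
theorem rc1646 : allBelow (fun k => fr (Nat.add 80654 k)) 49 = true := by decide +kernel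
theorem rc1647 : allBelow (fun k => fr (Nat.add 80703 k)) 49 = true := by decide +kernel
theorem rc1648 : allBelow (fun k => fr (Nat.add 80752 k)) 49 = true := by decide +kernel
theorem rc1649 : allBelow (fun k => fr (Nat.add 80801 k)) 49 = true := by decide +kernel
theorem rc1650 : allBelow (fun k => fr (Nat.add 80850 k)) 49 = true := by decide +kernel
theorem rc1651 : allBelow (fun k => fr (Nat.add 80899 k)) 49 = true := by decide +kernel
theorem rc1652 : allBelow (fun k => fr (Nat.add 80948 k)) 49 = true := by decide +kernel
theorem rc1653 : allBelow (fun k => fr (Nat.add 80997 k)) 49 = true := by decide +kernel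
theorem rc1654 : allBelow (fun k => fr (Nat.add 81046 k)) 49 = true := by decide +kernel
theorem rc1655 : allBelow (fun k => fr (Nat.add 81095 k)) 49 = true := by decide +kernel
theorem rc1656 : allBelow (fun k => fr (Nat.add 81144 k)) 49 = true := by decide +kernel
theorem rc1657 : allBelow (fun k => fr (Nat.add 81193 k)) 49 = true := by decide +kernel
theorem rc1658 : allBelow (fun k => fr (Nat.add 81242 k)) 49 = true := by decide +kernel
theorem rc1659 : allBelow (fun k => fr (Nat.add 81291 k)) 49 = true := by decide +kernel
theorem rc1660 : allBelow (fun k => fr (Nat.add 81340 k)) 49 = true := by decide +kernel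
theorem rc1661 : allBelow (fun k => fr (Nat.add 81389 k)) 49 = true := by decide +kernel
theorem rc1662 : allBelow (fun k => fr (Nat.add 81438 k)) 49 = true := by decide +kernel
theorem rc1663 : allBelow (fun k => fr (Nat.add 81487 k)) 49 = true := by decide +kernel
theorem rc1664 : allBelow (fun k => fr (Nat.add 81536 k)) 49 = true := by decide +kernel
theorem rc1665 : allBelow (fun k => fr (Nat.add 81585 k)) 49 = true := by decide +kernel
theorem rc1666 : allBelow (fun k => fr (Nat.add 81634 k)) 49 = true := by decide +kernel
theorem rc1667 : allBelow (fun k => fr (Nat.add 81683 k)) 49 = true := by decide +kernel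
theorem rc1668 : allBelow (fun k => fr (Nat.add 81732 k)) 49 = true := by decide +kernel
theorem rc1669 : allBelow (fun k => fr (Nat.add 81781 k)) 49 = true := by decide +kernel
theorem rc1670 : allBelow (fun k => fr (Nat.add 81830 k)) 49 = true := by decide +kernel
theorem rc1671 : allBelow (fun k => fr (Nat.add 81879 k)) 49 = true := by decide +kernel
theorem rc1672 : allBelow (fun k => fr (Nat.add 81928 k)) 49 = true := by decide +kernel
theorem rc1673 : allBelow (fun k => fr (Nat.add 81977 k)) 49 = true := by decide +kernel
theorem rc1674 : allBelow (fun k => fr (Nat.add 82026 k)) 49 = true := by decide +kernel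
theorem rc1675 : allBelow (fun k => fr (Nat.add 82075 k)) 49 = true := by decide +kernel
theorem rc1676 : allBelow (fun k => fr (Nat.add 82124 k)) 49 = true := by decide +kernel
theorem rc1677 : allBelow (fun k => fr (Nat.add 82173 k)) 49 = true := by decide +kernel
theorem rc1678 : allBelow (fun k => fr (Nat.add 82222 k)) 49 = true := by decide +kernel
theorem rc1679 : allBelow (fun k => fr (Nat.add 82271 k)) 49 = true := by decide +kernel
theorem rc1680 : allBelow (fun k => fr (Nat.add 82320 k)) 49 = true := by decide +kernel
theorem rc1681 : allBelow (fun k => fr (Nat.add 82369 k)) 49 = true := by decide +kernel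
theorem rc1682 : allBelow (fun k => fr (Nat.add 82418 k)) 49 = true := by decide +kernel
theorem rc1683 : allBelow (fun k => fr (Nat.add 82467 k)) 49 = true := by decide +kernel
theorem rc1684 : allBelow (fun k => fr (Nat.add 82516 k)) 49 = true := by decide +kernel
theorem rc1685 : allBelow (fun k => fr (Nat.add 82565 k)) 49 = true := by decide +kernel
theorem rc1686 : allBelow (fun k => fr (Nat.add 82614 k)) 49 = true := by decide +kernel
theorem rc1687 : allBelow (fun k => fr (Nat.add 82663 k)) 49 = true := by decide +kernel
theorem rc1688 : allBelow (fun k => fr (Nat.add 82712 k)) 49 = true := by decide +kernel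
theorem rc1689 : allBelow (fun k => fr (Nat.add 82761 k)) 49 = true := by decide +kernel
theorem rc1690 : allBelow (fun k => fr (Nat.add 82810 k)) 49 = true := by decide +kernel
theorem rc1691 : allBelow (fun k => fr (Nat.add 82859 k)) 49 = true := by decide +kernel
theorem rc1692 : allBelow (fun k => fr (Nat.add 82908 k)) 49 = true := by decide +kernel
theorem rc1693 : allBelow (fun k => fr (Nat.add 82957 k)) 49 = true := by decide +kernel
theorem rc1694 : allBelow (fun k => fr (Nat.add 83006 k)) 49 = true := by decide +kernel
theorem rc1695 : allBelow (fun k => fr (Nat.add 83055 k)) 49 = true := by decide +kernel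
theorem rc1696 : allBelow (fun k => fr (Nat.add 83104 k)) 49 = true := by decide +kernel
theorem rc1697 : allBelow (fun k => fr (Nat.add 83153 k)) 49 = true := by decide +kernel
theorem rc1698 : allBelow (fun k => fr (Nat.add 83202 k)) 49 = true := by decide +kernel
theorem rc1699 : allBelow (fun k => fr (Nat.add 83251 k)) 49 = true := by decide +kernel
theorem rc1700 : allBelow (fun k => fr (Nat.add 83300 k)) 49 = true := by decide +kernel
theorem rc1701 : allBelow (fun k => fr (Nat.add 83349 k)) 49 = true := by decide +kernel
theorem rc1702 : allBelow (fun k => fr (Nat.add 83398 k)) 49 = true := by decide +kernel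
theorem rc1703 : allBelow (fun k => fr (Nat.add 83447 k)) 49 = true := by decide +kernel
theorem rc1704 : allBelow (fun k => fr (Nat.add 83496 k)) 49 = true := by decide +kernel
theorem rc1705 : allBelow (fun k => fr (Nat.add 83545 k)) 49 = true := by decide +kernel
theorem rc1706 : allBelow (fun k => fr (Nat.add 83594 k)) 49 = true := by decide +kernel
theorem rc1707 : allBelow (fun k => fr (Nat.add 83643 k)) 49 = true := by decide +kernel
theorem rc1708 : allBelow (fun k => fr (Nat.add 83692 k)) 49 = true := by decide +kernel
theorem rc1709 : allBelow (fun k => fr (Nat.add 83741 k)) 49 = true := by decide +kernel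
theorem rc1710 : allBelow (fun k => fr (Nat.add 83790 k)) 49 = true := by decide +kernel
theorem rc1711 : allBelow (fun k => fr (Nat.add 83839 k)) 49 = true := by decide +kernel
theorem rc1712 : allBelow (fun k => fr (Nat.add 83888 k)) 49 = true := by decide +kernel
theorem rc1713 : allBelow (fun k => fr (Nat.add 83937 k)) 49 = true := by decide +kernel
theorem rc1714 : allBelow (fun k => fr (Nat.add 83986 k)) 49 = true := by decide +kernel
theorem rc1715 : allBelow (fun k => fr (Nat.add 84035 k)) 49 = true := by decide +kernel
theorem rc1716 : allBelow (fun k => fr (Nat.add 84084 k)) 49 = true := by decide +kernel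
theorem rc1717 : allBelow (fun k => fr (Nat.add 84133 k)) 49 = true := by decide +kernel
theorem rc1718 : allBelow (fun k => fr (Nat.add 84182 k)) 49 = true := by decide +kernel
theorem rc1719 : allBelow (fun k => fr (Nat.add 84231 k)) 49 = true := by decide +kernel
theorem rc1720 : allBelow (fun k => fr (Nat.add 84280 k)) 49 = true := by decide +kernel
theorem rc1721 : allBelow (fun k => fr (Nat.add 84329 k)) 49 = true := by decide +kernel
theorem rc1722 : allBelow (fun k => fr (Nat.add 84378 k)) 49 = true := by decide +kernel
theorem rc1723 : allBelow (fun k => fr (Nat.add 84427 k)) 49 = true := by decide +kernel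
theorem rc1724 : allBelow (fun k => fr (Nat.add 84476 k)) 49 = true := by decide +kernel
theorem rc1725 : allBelow (fun k => fr (Nat.add 84525 k)) 49 = true := by decide +kernel
theorem rc1726 : allBelow (fun k => fr (Nat.add 84574 k)) 49 = true := by decide +kernel
theorem rc1727 : allBelow (fun k => fr (Nat.add 84623 k)) 49 = true := by decide +kernel
theorem rc1728 : allBelow (fun k => fr (Nat.add 84672 k)) 49 = true := by decide +kernel
theorem rc1729 : allBelow (fun k => fr (Nat.add 84721 k)) 49 = true := by decide +kernel
theorem rc1730 : allBelow (fun k => fr (Nat.add 84770 k)) 49 = true := by decide +kernel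
theorem rc1731 : allBelow (fun k => fr (Nat.add 84819 k)) 49 = true := by decide +kernel
theorem rc1732 : allBelow (fun k => fr (Nat.add 84868 k)) 49 = true := by decide +kernel
theorem rc1733 : allBelow (fun k => fr (Nat.add 84917 k)) 49 = true := by decide +kernel
theorem rc1734 : allBelow (fun k => fr (Nat.add 84966 k)) 49 = true := by decide +kernel
theorem rc1735 : allBelow (fun k => fr (Nat.add 85015 k)) 49 = true := by decide +kernel
theorem rc1736 : allBelow (fun k => fr (Nat.add 85064 k)) 49 = true := by decide +kernel
theorem rc1737 : allBelow (fun k => fr (Nat.add 85113 k)) 49 = true := by decide +kernel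
theorem rc1738 : allBelow (fun k => fr (Nat.add 85162 k)) 49 = true := by decide +kernel
theorem rc1739 : allBelow (fun k => fr (Nat.add 85211 k)) 49 = true := by decide +kernel
theorem rc1740 : allBelow (fun k => fr (Nat.add 85260 k)) 49 = true := by decide +kernel
theorem rc1741 : allBelow (fun k => fr (Nat.add 85309 k)) 49 = true := by decide +kernel
theorem rc1742 : allBelow (fun k => fr (Nat.add 85358 k)) 49 = true := by decide +kernel
theorem rc1743 : allBelow (fun k => fr (Nat.add 85407 k)) 49 = true := by decide +kernel
theorem rc1744 : allBelow (fun k => fr (Nat.add 85456 k)) 49 = true := by decide +kernel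
theorem rc1745 : allBelow (fun k => fr (Nat.add 85505 k)) 49 = true := by decide +kernel
theorem rc1746 : allBelow (fun k => fr (Nat.add 85554 k)) 49 = true := by decide +kernel
theorem rc1747 : allBelow (fun k => fr (Nat.add 85603 k)) 49 = true := by decide +kernel
theorem rc1748 : allBelow (fun k => fr (Nat.add 85652 k)) 49 = true := by decide +kernel
theorem rc1749 : allBelow (fun k => fr (Nat.add 85701 k)) 49 = true := by decide +kernel
theorem rc1750 : allBelow (fun k => fr (Nat.add 85750 k)) 49 = true := by decide +kernel
theorem rc1751 : allBelow (fun k => fr (Nat.add 85799 k)) 49 = true := by decide +kernel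
theorem rc1752 : allBelow (fun k => fr (Nat.add 85848 k)) 49 = true := by decide +kernel
theorem rc1753 : allBelow (fun k => fr (Nat.add 85897 k)) 49 = true := by decide +kernel
theorem rc1754 : allBelow (fun k => fr (Nat.add 85946 k)) 49 = true := by decide +kernel

end Cfsg.Agent.Lib.Helper35.ON122760
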