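import Cfsg.Agent.Lib.Helper35.ON122760.PData

set_option Elab.async false

namespace Cfsg.Agent.Lib.Helper35.ON122760

open Cfsg.Agent.Lib.Helper35

theorem rc1755 : allBelow (fun k => fr (Nat.add 85995 k)) 49 = true := by decide +kernel
theorem rc1756 : allBelow (fun k => fr (Nat.add 86044 k)) 49 = true := by decide +kernel
theorem rc1757 : allBelow (fun k => fr (Nat.add 86093 k)) 49 = true := by decide +kernel
theorem rc1758 : allBelow (fun k => fr (Nat.add 86142 k)) 49 = true := by decide +kernel
theorem rc1759 : allBelow (fun k => fr (Nat.add 86191 k)) 49 = true := by decide +kernel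
theorem rc1760 : allBelow (fun k => fr (Nat.add 86240 k)) 49 = true := by decide +kernel
theorem rc1761 : allBelow (fun k => fr (Nat.add 86289 k)) 49 = true := by decide +kernel
theorem rc1762 : allBelow (fun k => fr (Nat.add 86338 k)) 49 = true := by decide +kernel
theorem rc1763 : allBelow (fun k => fr (Nat.add 86387 k)) 49 = true := by decide +kernel
theorem rc1764 : allBelow (fun k => fr (Nat.add 86436 k)) 49 = true := by decide +kernel
theorem rc1765 : allBelow (fun k => fr (Nat.add 86485 k)) 49 = true := by decide +kernel
theorem rc1766 : allBelow (fun k => fr (Nat.add 86534 k)) 49 = true := by decide +kernel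
theorem rc1767 : allBelow (fun k => fr (Nat.add 86583 k)) 49 = true := by decide +kernel
theorem rc1768 : allBelow (fun k => fr (Nat.add 86632 k)) 49 = true := by decide +kernel
theorem rc1769 : allBelow (fun k => fr (Nat.add 86681 k)) 49 = true := by decide +kernel
theorem rc1770 : allBelow (fun k => fr (Nat.add 86730 k)) 49 = true := by decide +kernel
theorem rc1771 : allBelow (fun k => fr (Nat.add 86779 k)) 49 = true := by decide +kernel
theorem rc1772 : allBelow (fun k => fr (Nat.add 86828 k)) 49 = true := by decide +kernel
theorem rc1773 : allBelow (fun k => fr (Nat.add 86877 k)) 49 = true := by decide +kernel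
theorem rc1774 : allBelow (fun k => fr (Nat.add 86926 k)) 49 = true := by decide +kernel
theorem rc1775 : allBelow (fun k => fr (Nat.add 86975 k)) 49 = true := by decide +kernel
theorem rc1776 : allBelow (fun k => fr (Nat.add 87024 k)) 49 = true := by decide +kernel
theorem rc1777 : allBelow (fun k => fr (Nat.add 87073 k)) 49 = true := by decide +kernel
theorem rc1778 : allBelow (fun k => fr (Nat.add 87122 k)) 49 = true := by decide +kernel
theorem rc1779 : allBelow (fun k => fr (Nat.add 87171 k)) 49 = true := by decide +kernel
theorem rc1780 : allBelow (fun k => fr (Nat.add 87220 k)) 49 = true := by decide +kernel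
theorem rc1781 : allBelow (fun k => fr (Nat.add 87269 k)) 49 = true := by decide +kernel
theorem rc1782 : allBelow (fun k => fr (Nat.add 87318 k)) 49 = true := by decide +kernel
theorem rc1783 : allBelow (fun k => fr (Nat.add 87367 k)) 49 = true := by decide +kernel
theorem rc1784 : allBelow (fun k => fr (Nat.add 87416 k)) 49 = true := by decide +kernel
theorem rc1785 : allBelow (fun k => fr (Nat.add 87465 k)) 49 = true := by decide +kernel
theorem rc1786 : allBelow (fun k => fr (Nat.add 87514 k)) 49 = true := by decide +kernel
theorem rc1787 : allBelow (fun k => fr (Nat.add 87563 k)) 49 = true := by decide +kernel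
theorem rc1788 : allBelow (fun k => fr (Nat.add 87612 k)) 49 = true := by decide +kernel
theorem rc1789 : allBelow (fun k => fr (Nat.add 87661 k)) 49 = true := by decide +kernel
theorem rc1790 : allBelow (fun k => fr (Nat.add 87710 k)) 49 = true := by decide +kernel
theorem rc1791 : allBelow (fun k => fr (Nat.add 87759 k)) 49 = true := by decide +kernel
theorem rc1792 : allBelow (fun k => fr (Nat.add 87808 k)) 49 = true := by decide +kernel
theorem rc1793 : allBelow (fun k => fr (Nat.add 87857 k)) 49 = true := by decide +kernel
theorem rc1794 : allBelow (fun k => fr (Nat.add 87906 k)) 49 = true := by decide +kernel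
theorem rc1795 : allBelow (fun k => fr (Nat.add 87955 k)) 49 = true := by decide +kernel
theorem rc1796 : allBelow (fun k => fr (Nat.add 88004 k)) 49 = true := by decide +kernel
theorem rc1797 : allBelow (fun k => fr (Nat.add 88053 k)) 49 = true := by decide +kernel
theorem rc1798 : allBelow (fun k => fr (Nat.add 88102 k)) 49 = true := by decide +kernel
theorem rc1799 : allBelow (fun k => fr (Nat.add 88151 k)) 49 = true := by decide +kernel
theorem rc1800 : allBelow (fun k => fr (Nat.add 88200 k)) 49 = true := by decide +kernel
theorem rc1801 : allBelow (fun k => fr (Nat.add 88249 k)) 49 = true := by decide +kernel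
theorem rc1802 : allBelow (fun k => fr (Nat.add 88298 k)) 49 = true := by decide +kernel
theorem rc1803 : allBelow (fun k => fr (Nat.add 88347 k)) 49 = true := by decide +kernel
theorem rc1804 : allBelow (fun k => fr (Nat.add 88396 k)) 49 = true := by decide +kernel
theorem rc1805 : allBelow (fun k => fr (Nat.add 88445 k)) 49 = true := by decide +kernel
theorem rc1806 : allBelow (fun k => fr (Nat.add 88494 k)) 49 = true := by decide +kernel
theorem rc1807 : allBelow (fun k => fr (Nat.add 88543 k)) 49 = true := by decide +kernel
theorem rc1808 : allBelow (fun k => fr (Nat.add 88592 k)) 49 = true := by decide +kernel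
theorem rc1809 : allBelow (fun k => fr (Nat.add 88641 k)) 49 = true := by decide +kernel
theorem rc1810 : allBelow (fun k => fr (Nat.add 88690 k)) 49 = true := by decide +kernel
theorem rc1811 : allBelow (fun k => fr (Nat.add 88739 k)) 49 = true := by decide +kernel
theorem rc1812 : allBelow (fun k => fr (Nat.add 88788 k)) 49 = true := by decide +kernel
theorem rc1813 : allBelow (fun k => fr (Nat.add 88837 k)) 49 = true := by decide +kernel
theorem rc1814 : allBelow (fun k => fr (Nat.add 88886 k)) 49 = true := by decide +kernel
theorem rc1815 : allBelow (fun k => fr (Nat.add 88935 k)) 49 = true := by decide +kernel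
theorem rc1816 : allBelow (fun k => fr (Nat.add 88984 k)) 49 = true := by decide +kernel
theorem rc1817 : allBelow (fun k => fr (Nat.add 89033 k)) 49 = true := by decide +kernel
theorem rc1818 : allBelow (fun k => fr (Nat.add 89082 k)) 49 = true := by decide +kernel
theorem rc1819 : allBelow (fun k => fr (Nat.add 89131 k)) 49 = true := by decide +kernel
theorem rc1820 : allBelow (fun k => fr (Nat.add 89180 k)) 49 = true := by decide +kernel
theorem rc1821 : allBelow (fun k => fr (Nat.add 89229 k)) 49 = true := by decide +kernel
theorem rc1822 : allBelow (fun k => fr (Nat.add 89278 k)) 49 = true := by decide +kernel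
theorem rc1823 : allBelow (fun k => fr (Nat.add 89327 k)) 49 = true := by decide +kernel
theorem rc1824 : allBelow (fun k => fr (Nat.add 89376 k)) 49 = true := by decide +kernel
theorem rc1825 : allBelow (fun k => fr (Nat.add 89425 k)) 49 = true := by decide +kernel
theorem rc1826 : allBelow (fun k => fr (Nat.add 89474 k)) 49 = true := by decide +kernel
theorem rc1827 : allBelow (fun k => fr (Nat.add 89523 k)) 49 = true := by decide +kernel
theorem rc1828 : allBelow (fun k => fr (Nat.add 89572 k)) 49 = true := by decide +kernel
theorem rc1829 : allBelow (fun k => fr (Nat.add 89621 k)) 49 = true := by decide +kernel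
theorem rc1830 : allBelow (fun k => fr (Nat.add 89670 k)) 49 = true := by decide +kernel
theorem rc1831 : allBelow (fun k => fr (Nat.add 89719 k)) 49 = true := by decide +kernel
theorem rc1832 : allBelow (fun k => fr (Nat.add 89768 k)) 49 = true := by decide +kernel
theorem rc1833 : allBelow (fun k => fr (Nat.add 89817 k)) 49 = true := by decide +kernel
theorem rc1834 : allBelow (fun k => fr (Nat.add 89866 k)) 49 = true := by decide +kernel
theorem rc1835 : allBelow (fun k => fr (Nat.add 89915 k)) 49 = true := by decide +kernel
theorem rc1836 : allBelow (fun k => fr (Nat.add 89964 k)) 49 = true := by decide +kernel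
theorem rc1837 : allBelow (fun k => fr (Nat.add 90013 k)) 49 = true := by decide +kernel
theorem rc1838 : allBelow (fun k => fr (Nat.add 90062 k)) 49 = true := by decide +kernel
theorem rc1839 : allBelow (fun k => fr (Nat.add 90111 k)) 49 = true := by decide +kernel
theorem rc1840 : allBelow (fun k => fr (Nat.add 90160 k)) 49 = true := by decide +kernel
theorem rc1841 : allBelow (fun k => fr (Nat.add 90209 k)) 49 = true := by decide +kernel
theorem rc1842 : allBelow (fun k => fr (Nat.add 90258 k)) 49 = true := by decide +kernel
theorem rc1843 : allBelow (fun k => fr (Nat.add 90307 k)) 49 = true := by decide +kernel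
theorem rc1844 : allBelow (fun k => fr (Nat.add 90356 k)) 49 = true := by decide +kernel
theorem rc1845 : allBelow (fun k => fr (Nat.add 90405 k)) 49 = true := by decide +kernel
theorem rc1846 : allBelow (fun k => fr (Nat.add 90454 k)) 49 = true := by decide +kernel
theorem rc1847 : allBelow (fun k => fr (Nat.add 90503 k)) 49 = true := by decide +kernel
theorem rc1848 : allBelow (fun k => fr (Nat.add 90552 k)) 49 = true := by decide +kernel
theorem rc1849 : allBelow (fun k => fr (Nat.add 90601 k)) 49 = true := by decide +kernel
theorem rc1850 : allBelow (fun k => fr (Nat.add 90650 k)) 49 = true := by decide +kernel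
theorem rc1851 : allBelow (fun k => fr (Nat.add 90699 k)) 49 = true := by decide +kernel
theorem rc1852 : allBelow (fun k => fr (Nat.add 90748 k)) 49 = true := by decide +kernel
theorem rc1853 : allBelow (fun k => fr (Nat.add 90797 k)) 49 = true := by decide +kernel
theorem rc1854 : allBelow (fun k => fr (Nat.add 90846 k)) 49 = true := by decide +kernel
theorem rc1855 : allBelow (fun k => fr (Nat.add 90895 k)) 49 = true := by decide +kernel
theorem rc1856 : allBelow (fun k => fr (Nat.add 90944 k)) 49 = true := by decide +kernel
theorem rc1857 : allBelow (fun k => fr (Nat.add 90993 k)) 49 = true := by decide +kernel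
theorem rc1858 : allBelow (fun k => fr (Nat.add 91042 k)) 49 = true := by decide +kernel
theorem rc1859 : allBelow (fun k => fr (Nat.add 91091 k)) 49 = true := by decide +kernel
theorem rc1860 : allBelow (fun k => fr (Nat.add 91140 k)) 49 = true := by decide +kernel
theorem rc1861 : allBelow (fun k => fr (Nat.add 91189 k)) 49 = true := by decide +kernel
theorem rc1862 : allBelow (fun k => fr (Nat.add 91238 k)) 49 = true := by decide +kernel
theorem rc1863 : allBelow (fun k => fr (Nat.add 91287 k)) 49 = true := by decide +kernel
theorem rc1864 : allBelow (fun k => fr (Nat.add 91336 k)) 49 = true := by decide +kernel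
theorem rc1865 : allBelow (fun k => fr (Nat.add 91385 k)) 49 = true := by decide +kernel
theorem rc1866 : allBelow (fun k => fr (Nat.add 91434 k)) 49 = true := by decide +kernel
theorem rc1867 : allBelow (fun k => fr (Nat.add 91483 k)) 49 = true := by decide +kernel
theorem rc1868 : allBelow (fun k => fr (Nat.add 91532 k)) 49 = true := by decide +kernel
theorem rc1869 : allBelow (fun k => fr (Nat.add 91581 k)) 49 = true := by decide +kernel
theorem rc1870 : allBelow (fun k => fr (Nat.add 91630 k)) 49 = true := by decide +kernel
theorem rc1871 : allBelow (fun k => fr (Nat.add 91679 k)) 49 = true := by decide +kernel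
theorem rc1872 : allBelow (fun k => fr (Nat.add 91728 k)) 49 = true := by decide +kernel
theorem rc1873 : allBelow (fun k => fr (Nat.add 91777 k)) 49 = true := by decide +kernel
theorem rc1874 : allBelow (fun k => fr (Nat.add 91826 k)) 49 = true := by decide +kernel
theorem rc1875 : allBelow (fun k => fr (Nat.add 91875 k)) 49 = true := by decide +kernel
theorem rc1876 : allBelow (fun k => fr (Nat.add 91924 k)) 49 = true := by decide +kernel
theorem rc1877 : allBelow (fun k => fr (Nat.add 91973 k)) 49 = true := by decide +kernel
theorem rc1878 : allBelow (fun k => fr (Nat.add 92022 k)) 49 = true := by decide +kernel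
theorem rc1879 : allBelow (fun k => fr (Nat.add 92071 k)) 49 = true := by decide +kernel
theorem rc1880 : allBelow (fun k => fr (Nat.add 92120 k)) 49 = true := by decide +kernel
theorem rc1881 : allBelow (fun k => fr (Nat.add 92169 k)) 49 = true := by decide +kernel
theorem rc1882 : allBelow (fun k => fr (Nat.add 92218 k)) 49 = true := by decide +kernel
theorem rc1883 : allBelow (fun k => fr (Nat.add 92267 k)) 49 = true := by decide +kernel
theorem rc1884 : allBelow (fun k => fr (Nat.add 92316 k)) 49 = true := by decide +kernel
theorem rc1885 : allBelow (fun k => fr (Nat.add 92365 k)) 49 = true := by decide +kernel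
theorem rc1886 : allBelow (fun k => fr (Nat.add 92414 k)) 49 = true := by decide +kernel
theorem rc1887 : allBelow (fun k => fr (Nat.add 92463 k)) 49 = true := by decide +kernel
theorem rc1888 : allBelow (fun k => fr (Nat.add 92512 k)) 49 = true := by decide +kernel
theorem rc1889 : allBelow (fun k => fr (Nat.add 92561 k)) 49 = true := by decide +kernel
theorem rc1890 : allBelow (fun k => fr (Nat.add 92610 k)) 49 = true := by decide +kernel
theorem rc1891 : allBelow (fun k => fr (Nat.add 92659 k)) 49 = true := by decide +kernel
theorem rc1892 : allBelow (fun k => fr (Nat.add 92708 k)) 49 = true := by decide +kernel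
theorem rc1893 : allBelow (fun k => fr (Nat.add 92757 k)) 49 = true := by decide +kernel
theorem rc1894 : allBelow (fun k => fr (Nat.add 92806 k)) 49 = true := by decide +kernel
theorem rc1895 : allBelow (fun k => fr (Nat.add 92855 k)) 49 = true := by decide +kernel
theorem rc1896 : allBelow (fun k => fr (Nat.add 92904 k)) 49 = true := by decide +kernel
theorem rc1897 : allBelow (fun k => fr (Nat.add 92953 k)) 49 = true := by decide +kernel
theorem rc1898 : allBelow (fun k => fr (Nat.add 93002 k)) 49 = true := by decide +kernel
theorem rc1899 : allBelow (fun k => fr (Nat.add 93051 k)) 49 = true := by decide +kernel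
theorem rc1900 : allBelow (fun k => fr (Nat.add 93100 k)) 49 = true := by decide +kernel
theorem rc1901 : allBelow (fun k => fr (Nat.add 93149 k)) 49 = true := by decide +kernel
theorem rc1902 : allBelow (fun k => fr (Nat.add 93198 k)) 49 = true := by decide +kernel
theorem rc1903 : allBelow (fun k => fr (Nat.add 93247 k)) 49 = true := by decide +kernel
theorem rc1904 : allBelow (fun k => fr (Nat.add 93296 k)) 49 = true := by decide +kernel
theorem rc1905 : allBelow (fun k => fr (Nat.add 93345 k)) 49 = true := by decide +kernel
theorem rc1906 : allBelow (fun k => fr (Nat.add 93394 k)) 49 = true := by decide +kernel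
theorem rc1907 : allBelow (fun k => fr (Nat.add 93443 k)) 49 = true := by decide +kernel
theorem rc1908 : allBelow (fun k => fr (Nat.add 93492 k)) 49 = true := by decide +kernel
theorem rc1909 : allBelow (fun k => fr (Nat.add 93541 k)) 49 = true := by decide +kernel
theorem rc1910 : allBelow (fun k => fr (Nat.add 93590 k)) 49 = true := by decide +kernel
theorem rc1911 : allBelow (fun k => fr (Nat.add 93639 k)) 49 = true := by decide +kernel
theorem rc1912 : allBelow (fun k => fr (Nat.add 93688 k)) 49 = true := by decide +kernel
theorem rc1913 : allBelow (fun k => fr (Nat.add 93737 k)) 49 = true := by decide +kernel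
theorem rc1914 : allBelow (fun k => fr (Nat.add 93786 k)) 49 = true := by decide +kernel
theorem rc1915 : allBelow (fun k => fr (Nat.add 93835 k)) 49 = true := by decide +kernel
theorem rc1916 : allBelow (fun k => fr (Nat.add 93884 k)) 49 = true := by decide +kernel
theorem rc1917 : allBelow (fun k => fr (Nat.add 93933 k)) 49 = true := by decide +kernel
theorem rc1918 : allBelow (fun k => fr (Nat.add 93982 k)) 49 = true := by decide +kernel
theorem rc1919 : allBelow (fun k => fr (Nat.add 94031 k)) 49 = true := by decide +kernel
theorem rc1920 : allBelow (fun k => fr (Nat.add 94080 k)) 49 = true := by decide +kernel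
theorem rc1921 : allBelow (fun k => fr (Nat.add 94129 k)) 49 = true := by decide +kernel
theorem rc1922 : allBelow (fun k => fr (Nat.add 94178 k)) 49 = true := by decide +kernel
theorem rc1923 : allBelow (fun k => fr (Nat.add 94227 k)) 49 = true := by decide +kernel
theorem rc1924 : allBelow (fun k => fr (Nat.add 94276 k)) 49 = true := by decide +kernel
theorem rc1925 : allBelow (fun k => fr (Nat.add 94325 k)) 49 = true := by decide +kernel
theorem rc1926 : allBelow (fun k => fr (Nat.add 94374 k)) 49 = true := by decide +kernel
theorem rc1927 : allBelow (fun k => fr (Nat.add 94423 k)) 49 = true := by decide +kernel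
theorem rc1928 : allBelow (fun k => fr (Nat.add 94472 k)) 49 = true := by decide +kernel
theorem rc1929 : allBelow (fun k => fr (Nat.add 94521 k)) 49 = true := by decide +kernel
theorem rc1930 : allBelow (fun k => fr (Nat.add 94570 k)) 49 = true := by decide +kernel
theorem rc1931 : allBelow (fun k => fr (Nat.add 94619 k)) 49 = true := by decide +kernel
theorem rc1932 : allBelow (fun k => fr (Nat.add 94668 k)) 49 = true := by decide +kernel
theorem rc1933 : allBelow (fun k => fr (Nat.add 94717 k)) 49 = true := by decide +kernel
theorem rc1934 : allBelow (fun k => fr (Nat.add 94766 k)) 49 = true := by decide +kernel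
theorem rc1935 : allBelow (fun k => fr (Nat.add 94815 k)) 49 = true := by decide +kernel
theorem rc1936 : allBelow (fun k => fr (Nat.add 94864 k)) 49 = true := by decide +kernel
theorem rc1937 : allBelow (fun k => fr (Nat.add 94913 k)) 49 = true := by decide +kernel
theorem rc1938 : allBelow (fun k => fr (Nat.add 94962 k)) 49 = true := by decide +kernel
theorem rc1939 : allBelow (fun k => fr (Nat.add 95011 k)) 49 = true := by decide +kernel
theorem rc1940 : allBelow (fun k => fr (Nat.add 95060 k)) 49 = true := by decide +kernel
theorem rc1941 : allBelow (fun k => fr (Nat.add 95109 k)) 49 = true := by decide +kernel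
theorem rc1942 : allBelow (fun k => fr (Nat.add 95158 k)) 49 = true := by decide +kernel
theorem rc1943 : allBelow (fun k => fr (Nat.add 95207 k)) 49 = true := by decide +kernel
theorem rc1944 : allBelow (fun k => fr (Nat.add 95256 k)) 49 = true := by decide +kernel
theorem rc1945 : allBelow (fun k => fr (Nat.add 95305 k)) 49 = true := by decide +kernel
theorem rc1946 : allBelow (fun k => fr (Nat.add 95354 k)) 49 = true := by decide +kernel
theorem rc1947 : allBelow (fun k => fr (Nat.add 95403 k)) 49 = true := by decide +kernel
theorem rc1948 : allBelow (fun k => fr (Nat.add 95452 k)) 49 = true := by decide +kernel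
theorem rc1949 : allBelow (fun k => fr (Nat.add 95501 k)) 49 = true := by decide +kernel
theorem rc1950 : allBelow (fun k => fr (Nat.add 95550 k)) 49 = true := by decide +kernel
theorem rc1951 : allBelow (fun k => fr (Nat.add 95599 k)) 49 = true := by decide +kernel
theorem rc1952 : allBelow (fun k => fr (Nat.add 95648 k)) 49 = true := by decide +kernel
theorem rc1953 : allBelow (fun k => fr (Nat.add 95697 k)) 49 = true := by decide +kernel
theorem rc1954 : allBelow (fun k => fr (Nat.add 95746 k)) 49 = true := by decide +kernel
theorem rc1955 : allBelow (fun k => fr (Nat.add 95795 k)) 49 = true := by decide +kernel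
theorem rc1956 : allBelow (fun k => fr (Nat.add 95844 k)) 49 = true := by decide +kernel
theorem rc1957 : allBelow (fun k => fr (Nat.add 95893 k)) 49 = true := by decide +kernel
theorem rc1958 : allBelow (fun k => fr (Nat.add 95942 k)) 49 = true := by decide +kernel
theorem rc1959 : allBelow (fun k => fr (Nat.add 95991 k)) 49 = true := by decide +kernel
theorem rc1960 : allBelow (fun k => fr (Nat.add 96040 k)) 49 = true := by decide +kernel
theorem rc1961 : allBelow (fun k => fr (Nat.add 96089 k)) 49 = true := by decide +kernel
theorem rc1962 : allBelow (fun k => fr (Nat.add 96138 k)) 49 = true := by decide +kernel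
theorem rc1963 : allBelow (fun k => fr (Nat.add 96187 k)) 49 = true := by decide +kernel
theorem rc1964 : allBelow (fun k => fr (Nat.add 96236 k)) 49 = true := by decide +kernel
theorem rc1965 : allBelow (fun k => fr (Nat.add 96285 k)) 49 = true := by decide +kernel
theorem rc1966 : allBelow (fun k => fr (Nat.add 96334 k)) 49 = true := by decide +kernel
theorem rc1967 : allBelow (fun k => fr (Nat.add 96383 k)) 49 = true := by decide +kernel
theorem rc1968 : allBelow (fun k => fr (Nat.add 96432 k)) 49 = true := by decide +kernel
theorem rc1969 : allBelow (fun k => fr (Nat.add 96481 k)) 49 = true := by decide +kernel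
theorem rc1970 : allBelow (fun k => fr (Nat.add 96530 k)) 49 = true := by decide +kernel
theorem rc1971 : allBelow (fun k => fr (Nat.add 96579 k)) 49 = true := by decide +kernel
theorem rc1972 : allBelow (fun k => fr (Nat.add 96628 k)) 49 = true := by decide +kernel
theorem rc1973 : allBelow (fun k => fr (Nat.add 96677 k)) 49 = true := by decide +kernel
theorem rc1974 : allBelow (fun k => fr (Nat.add 96726 k)) 49 = true := by decide +kernel
theorem rc1975 : allBelow (fun k => fr (Nat.add 96775 k)) 49 = true := by decide +kernel
theorem rc1976 : allBelow (fun k => fr (Nat.add 96824 k)) 49 = true := by decide +kernel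
theorem rc1977 : allBelow (fun k => fr (Nat.add 96873 k)) 49 = true := by decide +kernel
theorem rc1978 : allBelow (fun k => fr (Nat.add 96922 k)) 49 = true := by decide +kernel
theorem rc1979 : allBelow (fun k => fr (Nat.add 96971 k)) 49 = true := by decide +kernel
theorem rc1980 : allBelow (fun k => fr (Nat.add 97020 k)) 49 = true := by decide +kernel
theorem rc1981 : allBelow (fun k => fr (Nat.add 97069 k)) 49 = true := by decide +kernel
theorem rc1982 : allBelow (fun k => fr (Nat.add 97118 k)) 49 = true := by decide +kernel
theorem rc1983 : allBelow (fun k => fr (Nat.add 97167 k)) 49 = true := by decide +kernel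
theorem rc1984 : allBelow (fun k => fr (Nat.add 97216 k)) 49 = true := by decide +kernel
theorem rc1985 : allBelow (fun k => fr (Nat.add 97265 k)) 49 = true := by decide +kernel
theorem rc1986 : allBelow (fun k => fr (Nat.add 97314 k)) 49 = true := by decide +kernel
theorem rc1987 : allBelow (fun k => fr (Nat.add 97363 k)) 49 = true := by decide +kernel
theorem rc1988 : allBelow (fun k => fr (Nat.add 97412 k)) 49 = true := by decide +kernel
theorem rc1989 : allBelow (fun k => fr (Nat.add 97461 k)) 49 = true := by decide +kernel
theorem rc1990 : allBelow (fun k => fr (Nat.add 97510 k)) 49 = true := by decide +kernel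
theorem rc1991 : allBelow (fun k => fr (Nat.add 97559 k)) 49 = true := by decide +kernel
theorem rc1992 : allBelow (fun k => fr (Nat.add 97608 k)) 49 = true := by decide +kernel
theorem rc1993 : allBelow (fun k => fr (Nat.add 97657 k)) 49 = true := by decide +kernel
theorem rc1994 : allBelow (fun k => fr (Nat.add 97706 k)) 49 = true := by decide +kernel
theorem rc1995 : allBelow (fun k => fr (Nat.add 97755 k)) 49 = true := by decide +kernel
theorem rc1996 : allBelow (fun k => fr (Nat.add 97804 k)) 49 = true := by decide +kernel
theorem rc1997 : allBelow (fun k => fr (Nat.add 97853 k)) 49 = true := by decide +kernel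
theorem rc1998 : allBelow (fun k => fr (Nat.add 97902 k)) 49 = true := by decide +kernel
theorem rc1999 : allBelow (fun k => fr (Nat.add 97951 k)) 49 = true := by decide +kernel
theorem rc2000 : allBelow (fun k => fr (Nat.add 98000 k)) 49 = true := by decide +kernel
theorem rc2001 : allBelow (fun k => fr (Nat.add 98049 k)) 49 = true := by decide +kernel
theorem rc2002 : allBelow (fun k => fr (Nat.add 98098 k)) 49 = true := by decide +kernel
theorem rc2003 : allBelow (fun k => fr (Nat.add 98147 k)) 49 = true := by decide +kernel
theorem rc2004 : allBelow (fun k => fr (Nat.add 98196 k)) 49 = true := by decide +kernel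
theorem rc2005 : allBelow (fun k => fr (Nat.add 98245 k)) 49 = true := by decide +kernel
theorem rc2006 : allBelow (fun k => fr (Nat.add 98294 k)) 49 = true := by decide +kernel
theorem rc2007 : allBelow (fun k => fr (Nat.add 98343 k)) 49 = true := by decide +kernel
theorem rc2008 : allBelow (fun k => fr (Nat.add 98392 k)) 49 = true := by decide +kernel
theorem rc2009 : allBelow (fun k => fr (Nat.add 98441 k)) 49 = true := by decide +kernel
theorem rc2010 : allBelow (fun k => fr (Nat.add 98490 k)) 49 = true := by decide +kernel
theorem rc2011 : allBelow (fun k => fr (Nat.add 98539 k)) 49 = true := by decide +kernel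
theorem rc2012 : allBelow (fun k => fr (Nat.add 98588 k)) 49 = true := by decide +kernel
theorem rc2013 : allBelow (fun k => fr (Nat.add 98637 k)) 49 = true := by decide +kernel
theorem rc2014 : allBelow (fun k => fr (Nat.add 98686 k)) 49 = true := by decide +kernel
theorem rc2015 : allBelow (fun k => fr (Nat.add 98735 k)) 49 = true := by decide +kernel
theorem rc2016 : allBelow (fun k => fr (Nat.add 98784 k)) 49 = true := by decide +kernel
theorem rc2017 : allBelow (fun k => fr (Nat.add 98833 k)) 49 = true := by decide +kernel
theorem rc2018 : allBelow (fun k => fr (Nat.add 98882 k)) 49 = true := by decide +kernel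
theorem rc2019 : allBelow (fun k => fr (Nat.add 98931 k)) 49 = true := by decide +kernel
theorem rc2020 : allBelow (fun k => fr (Nat.add 98980 k)) 49 = true := by decide +kernel
theorem rc2021 : allBelow (fun k => fr (Nat.add 99029 k)) 49 = true := by decide +kernel
theorem rc2022 : allBelow (fun k => fr (Nat.add 99078 k)) 49 = true := by decide +kernel
theorem rc2023 : allBelow (fun k => fr (Nat.add 99127 k)) 49 = true := by decide +kernel
theorem rc2024 : allBelow (fun k => fr (Nat.add 99176 k)) 49 = true := by decide +kernel
theorem rc2025 : allBelow (fun k => fr (Nat.add 99225 k)) 49 = true := by decide +kernel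
theorem rc2026 : allBelow (fun k => fr (Nat.add 99274 k)) 49 = true := by decide +kernel
theorem rc2027 : allBelow (fun k => fr (Nat.add 99323 k)) 49 = true := by decide +kernel
theorem rc2028 : allBelow (fun k => fr (Nat.add 99372 k)) 49 = true := by decide +kernel
theorem rc2029 : allBelow (fun k => fr (Nat.add 99421 k)) 49 = true := by decide +kernel
theorem rc2030 : allBelow (fun k => fr (Nat.add 99470 k)) 49 = true := by decide +kernel
theorem rc2031 : allBelow (fun k => fr (Nat.add 99519 k)) 49 = true := by decide +kernel
theorem rc2032 : allBelow (fun k => fr (Nat.add 99568 k)) 49 = true := by decide +kernel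
theorem rc2033 : allBelow (fun k => fr (Nat.add 99617 k)) 49 = true := by decide +kernel
theorem rc2034 : allBelow (fun k => fr (Nat.add 99666 k)) 49 = true := by decide +kernel
theorem rc2035 : allBelow (fun k => fr (Nat.add 99715 k)) 49 = true := by decide +kernel
theorem rc2036 : allBelow (fun k => fr (Nat.add 99764 k)) 49 = true := by decide +kernel
theorem rc2037 : allBelow (fun k => fr (Nat.add 99813 k)) 49 = true := by decide +kernel
theorem rc2038 : allBelow (fun k => fr (Nat.add 99862 k)) 49 = true := by decide +kernel
theorem rc2039 : allBelow (fun k => fr (Nat.add 99911 k)) 49 = true := by decide +kernel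
theorem rc2040 : allBelow (fun k => fr (Nat.add 99960 k)) 49 = true := by decide +kernel
theorem rc2041 : allBelow (fun k => fr (Nat.add 100009 k)) 49 = true := by decide +kernel
theorem rc2042 : allBelow (fun k => fr (Nat.add 100058 k)) 49 = true := by decide +kernel
theorem rc2043 : allBelow (fun k => fr (Nat.add 100107 k)) 49 = true := by decide +kernel
theorem rc2044 : allBelow (fun k => fr (Nat.add 100156 k)) 49 = true := by decide +kernel
theorem rc2045 : allBelow (fun k => fr (Nat.add 100205 k)) 49 = true := by decide +kernel
theorem rc2046 : allBelow (fun k => fr (Nat.add 100254 k)) 49 = true := by decide +kernel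
theorem rc2047 : allBelow (fun k => fr (Nat.add 100303 k)) 49 = true := by decide +kernel
theorem rc2048 : allBelow (fun k => fr (Nat.add 100352 k)) 49 = true := by decide +kernel
theorem rc2049 : allBelow (fun k => fr (Nat.add 100401 k)) 49 = true := by decide +kernel
theorem rc2050 : allBelow (fun k => fr (Nat.add 100450 k)) 49 = true := by decide +kernel
theorem rc2051 : allBelow (fun k => fr (Nat.add 100499 k)) 49 = true := by decide +kernel
theorem rc2052 : allBelow (fun k => fr (Nat.add 100548 k)) 49 = true := by decide +kernel
theorem rc2053 : allBelow (fun k => fr (Nat.add 100597 k)) 49 = true := by decide +kernel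
theorem rc2054 : allBelow (fun k => fr (Nat.add 100646 k)) 49 = true := by decide +kernel
theorem rc2055 : allBelow (fun k => fr (Nat.add 100695 k)) 49 = true := by decide +kernel
theorem rc2056 : allBelow (fun k => fr (Nat.add 100744 k)) 49 = true := by decide +kernel
theorem rc2057 : allBelow (fun k => fr (Nat.add 100793 k)) 49 = true := by decide +kernel
theorem rc2058 : allBelow (fun k => fr (Nat.add 100842 k)) 49 = true := by decide +kernel
theorem rc2059 : allBelow (fun k => fr (Nat.add 100891 k)) 49 = true := by decide +kernel
theorem rc2060 : allBelow (fun k => fr (Nat.add 100940 k)) 49 = true := by decide +kernel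
theorem rc2061 : allBelow (fun k => fr (Nat.add 100989 k)) 49 = true := by decide +kernel
theorem rc2062 : allBelow (fun k => fr (Nat.add 101038 k)) 49 = true := by decide +kernel
theorem rc2063 : allBelow (fun k => fr (Nat.add 101087 k)) 49 = true := by decide +kernel
theorem rc2064 : allBelow (fun k => fr (Nat.add 101136 k)) 49 = true := by decide +kernel
theorem rc2065 : allBelow (fun k => fr (Nat.add 101185 k)) 49 = true := by decide +kernel
theorem rc2066 : allBelow (fun k => fr (Nat.add 101234 k)) 49 = true := by decide +kernel
theorem rc2067 : allBelow (fun k => fr (Nat.add 101283 k)) 49 = true := by decide +kernel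
theorem rc2068 : allBelow (fun k => fr (Nat.add 101332 k)) 49 = true := by decide +kernel
theorem rc2069 : allBelow (fun k => fr (Nat.add 101381 k)) 49 = true := by decide +kernel
theorem rc2070 : allBelow (fun k => fr (Nat.add 101430 k)) 49 = true := by decide +kernel
theorem rc2071 : allBelow (fun k => fr (Nat.add 101479 k)) 49 = true := by decide +kernel
theorem rc2072 : allBelow (fun k => fr (Nat.add 101528 k)) 49 = true := by decide +kernel
theorem rc2073 : allBelow (fun k => fr (Nat.add 101577 k)) 49 = true := by decide +kernel
theorem rc2074 : allBelow (fun k => fr (Nat.add 101626 k)) 49 = true := by decide +kernel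
theorem rc2075 : allBelow (fun k => fr (Nat.add 101675 k)) 49 = true := by decide +kernel
theorem rc2076 : allBelow (fun k => fr (Nat.add 101724 k)) 49 = true := by decide +kernel
theorem rc2077 : allBelow (fun k => fr (Nat.add 101773 k)) 49 = true := by decide +kernel
theorem rc2078 : allBelow (fun k => fr (Nat.add 101822 k)) 49 = true := by decide +kernel
theorem rc2079 : allBelow (fun k => fr (Nat.add 101871 k)) 49 = true := by decide +kernel
theorem rc2080 : allBelow (fun k => fr (Nat.add 101920 k)) 49 = true := by decide +kernel
theorem rc2081 : allBelow (fun k => fr (Nat.add 101969 k)) 49 = true := by decide +kernel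
theorem rc2082 : allBelow (fun k => fr (Nat.add 102018 k)) 49 = true := by decide +kernel
theorem rc2083 : allBelow (fun k => fr (Nat.add 102067 k)) 49 = true := by decide +kernel
theorem rc2084 : allBelow (fun k => fr (Nat.add 102116 k)) 49 = true := by decide +kernel
theorem rc2085 : allBelow (fun k => fr (Nat.add 102165 k)) 49 = true := by decide +kernel
theorem rc2086 : allBelow (fun k => fr (Nat.add 102214 k)) 49 = true := by decide +kernel
theorem rc2087 : allBelow (fun k => fr (Nat.add 102263 k)) 49 = true := by decide +kernel
theorem rc2088 : allBelow (fun k => fr (Nat.add 102312 k)) 49 = true := by decide +kernel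
theorem rc2089 : allBelow (fun k => fr (Nat.add 102361 k)) 49 = true := by decide +kernel
theorem rc2090 : allBelow (fun k => fr (Nat.add 102410 k)) 49 = true := by decide +kernel
theorem rc2091 : allBelow (fun k => fr (Nat.add 102459 k)) 49 = true := by decide +kernel
theorem rc2092 : allBelow (fun k => fr (Nat.add 102508 k)) 49 = true := by decide +kernel
theorem rc2093 : allBelow (fun k => fr (Nat.add 102557 k)) 49 = true := by decide +kernel
theorem rc2094 : allBelow (fun k => fr (Nat.add 102606 k)) 49 = true := by decide +kernel
theorem rc2095 : allBelow (fun k => fr (Nat.add 102655 k)) 49 = true := by decide +kernel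
theorem rc2096 : allBelow (fun k => fr (Nat.add 102704 k)) 49 = true := by decide +kernel
theorem rc2097 : allBelow (fun k => fr (Nat.add 102753 k)) 49 = true := by decide +kernel
theorem rc2098 : allBelow (fun k => fr (Nat.add 102802 k)) 49 = true := by decide +kernel
theorem rc2099 : allBelow (fun k => fr (Nat.add 102851 k)) 49 = true := by decide +kernel
theorem rc2100 : allBelow (fun k => fr (Nat.add 102900 k)) 49 = true := by decide +kernel
theorem rc2101 : allBelow (fun k => fr (Nat.add 102949 k)) 49 = true := by decide +kernel
theorem rc2102 : allBelow (fun k => fr (Nat.add 102998 k)) 49 = true := by decide +kernel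
theorem rc2103 : allBelow (fun k => fr (Nat.add 103047 k)) 49 = true := by decide +kernel
theorem rc2104 : allBelow (fun k => fr (Nat.add 103096 k)) 49 = true := by decide +kernel
theorem rc2105 : allBelow (fun k => fr (Nat.add 103145 k)) 49 = true := by decide +kernel

end Cfsg.Agent.Lib.Helper35.ON122760
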