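import Cfsg.Agent.Lib.Helper35.ON122760.PData

set_option Elab.async false

namespace Cfsg.Agent.Lib.Helper35.ON122760

open Cfsg.Agent.Lib.Helper35

theorem rc2106 : allBelow (fun k => fr (Nat.add 103194 k)) 49 = true := by decide +kernel
theorem rc2107 : allBelow (fun k => fr (Nat.add 103243 k)) 49 = true := by decide +kernel
theorem rc2108 : allBelow (fun k => fr (Nat.add 103292 k)) 49 = true := by decide +kernel
theorem rc2109 : allBelow (fun k => fr (Nat.add 103341 k)) 49 = true := by decide +kernel
theorem rc2110 : allBelow (fun k => fr (Nat.add 103390 k)) 49 = true := by decide +kernel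
theorem rc2111 : allBelow (fun k => fr (Nat.add 103439 k)) 49 = true := by decide +kernel
theorem rc2112 : allBelow (fun k => fr (Nat.add 103488 k)) 49 = true := by decide +kernel
theorem rc2113 : allBelow (fun k => fr (Nat.add 103537 k)) 49 = true := by decide +kernel
theorem rc2114 : allBelow (fun k => fr (Nat.add 103586 k)) 49 = true := by decide +kernel
theorem rc2115 : allBelow (fun k => fr (Nat.add 103635 k)) 49 = true := by decide +kernel
theorem rc2116 : allBelow (fun k => fr (Nat.add 103684 k)) 49 = true := by decide +kernel
theorem rc2117 : allBelow (fun k => fr (Nat.add 103733 k)) 49 = true := by decide +kernel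
theorem rc2118 : allBelow (fun k => fr (Nat.add 103782 k)) 49 = true := by decide +kernel
theorem rc2119 : allBelow (fun k => fr (Nat.add 103831 k)) 49 = true := by decide +kernel
theorem rc2120 : allBelow (fun k => fr (Nat.add 103880 k)) 49 = true := by decide +kernel
theorem rc2121 : allBelow (fun k => fr (Nat.add 103929 k)) 49 = true := by decide +kernel
theorem rc2122 : allBelow (fun k => fr (Nat.add 103978 k)) 49 = true := by decide +kernel
theorem rc2123 : allBelow (fun k => fr (Nat.add 104027 k)) 49 = true := by decide +kernel
theorem rc2124 : allBelow (fun k => fr (Nat.add 104076 k)) 49 = true := by decide +kernel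
theorem rc2125 : allBelow (fun k => fr (Nat.add 104125 k)) 49 = true := by decide +kernel
theorem rc2126 : allBelow (fun k => fr (Nat.add 104174 k)) 49 = true := by decide +kernel
theorem rc2127 : allBelow (fun k => fr (Nat.add 104223 k)) 49 = true := by decide +kernel
theorem rc2128 : allBelow (fun k => fr (Nat.add 104272 k)) 49 = true := by decide +kernel
theorem rc2129 : allBelow (fun k => fr (Nat.add 104321 k)) 49 = true := by decide +kernel
theorem rc2130 : allBelow (fun k => fr (Nat.add 104370 k)) 49 = true := by decide +kernel
theorem rc2131 : allBelow (fun k => fr (Nat.add 104419 k)) 49 = true := by decide +kernel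
theorem rc2132 : allBelow (fun k => fr (Nat.add 104468 k)) 49 = true := by decide +kernel
theorem rc2133 : allBelow (fun k => fr (Nat.add 104517 k)) 49 = true := by decide +kernel
theorem rc2134 : allBelow (fun k => fr (Nat.add 104566 k)) 49 = true := by decide +kernel
theorem rc2135 : allBelow (fun k => fr (Nat.add 104615 k)) 49 = true := by decide +kernel
theorem rc2136 : allBelow (fun k => fr (Nat.add 104664 k)) 49 = true := by decide +kernel
theorem rc2137 : allBelow (fun k => fr (Nat.add 104713 k)) 49 = true := by decide +kernel
theorem rc2138 : allBelow (fun k => fr (Nat.add 104762 k)) 49 = true := by decide +kernel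
theorem rc2139 : allBelow (fun k => fr (Nat.add 104811 k)) 49 = true := by decide +kernel
theorem rc2140 : allBelow (fun k => fr (Nat.add 104860 k)) 49 = true := by decide +kernel
theorem rc2141 : allBelow (fun k => fr (Nat.add 104909 k)) 49 = true := by decide +kernel
theorem rc2142 : allBelow (fun k => fr (Nat.add 104958 k)) 49 = true := by decide +kernel
theorem rc2143 : allBelow (fun k => fr (Nat.add 105007 k)) 49 = true := by decide +kernel
theorem rc2144 : allBelow (fun k => fr (Nat.add 105056 k)) 49 = true := by decide +kernel
theorem rc2145 : allBelow (fun k => fr (Nat.add 105105 k)) 49 = true := by decide +kernel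
theorem rc2146 : allBelow (fun k => fr (Nat.add 105154 k)) 49 = true := by decide +kernel
theorem rc2147 : allBelow (fun k => fr (Nat.add 105203 k)) 49 = true := by decide +kernel
theorem rc2148 : allBelow (fun k => fr (Nat.add 105252 k)) 49 = true := by decide +kernel
theorem rc2149 : allBelow (fun k => fr (Nat.add 105301 k)) 49 = true := by decide +kernel
theorem rc2150 : allBelow (fun k => fr (Nat.add 105350 k)) 49 = true := by decide +kernel
theorem rc2151 : allBelow (fun k => fr (Nat.add 105399 k)) 49 = true := by decide +kernel
theorem rc2152 : allBelow (fun k => fr (Nat.add 105448 k)) 49 = true := by decide +kernel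
theorem rc2153 : allBelow (fun k => fr (Nat.add 105497 k)) 49 = true := by decide +kernel
theorem rc2154 : allBelow (fun k => fr (Nat.add 105546 k)) 49 = true := by decide +kernel
theorem rc2155 : allBelow (fun k => fr (Nat.add 105595 k)) 49 = true := by decide +kernel
theorem rc2156 : allBelow (fun k => fr (Nat.add 105644 k)) 49 = true := by decide +kernel
theorem rc2157 : allBelow (fun k => fr (Nat.add 105693 k)) 49 = true := by decide +kernel
theorem rc2158 : allBelow (fun k => fr (Nat.add 105742 k)) 49 = true := by decide +kernel
theorem rc2159 : allBelow (fun k => fr (Nat.add 105791 k)) 49 = true := by decide +kernel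
theorem rc2160 : allBelow (fun k => fr (Nat.add 105840 k)) 49 = true := by decide +kernel
theorem rc2161 : allBelow (fun k => fr (Nat.add 105889 k)) 49 = true := by decide +kernel
theorem rc2162 : allBelow (fun k => fr (Nat.add 105938 k)) 49 = true := by decide +kernel
theorem rc2163 : allBelow (fun k => fr (Nat.add 105987 k)) 49 = true := by decide +kernel
theorem rc2164 : allBelow (fun k => fr (Nat.add 106036 k)) 49 = true := by decide +kernel
theorem rc2165 : allBelow (fun k => fr (Nat.add 106085 k)) 49 = true := by decide +kernel
theorem rc2166 : allBelow (fun k => fr (Nat.add 106134 k)) 49 = true := by decide +kernel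
theorem rc2167 : allBelow (fun k => fr (Nat.add 106183 k)) 49 = true := by decide +kernel
theorem rc2168 : allBelow (fun k => fr (Nat.add 106232 k)) 49 = true := by decide +kernel
theorem rc2169 : allBelow (fun k => fr (Nat.add 106281 k)) 49 = true := by decide +kernel
theorem rc2170 : allBelow (fun k => fr (Nat.add 106330 k)) 49 = true := by decide +kernel
theorem rc2171 : allBelow (fun k => fr (Nat.add 106379 k)) 49 = true := by decide +kernel
theorem rc2172 : allBelow (fun k => fr (Nat.add 106428 k)) 49 = true := by decide +kernel
theorem rc2173 : allBelow (fun k => fr (Nat.add 106477 k)) 49 = true := by decide +kernel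
theorem rc2174 : allBelow (fun k => fr (Nat.add 106526 k)) 49 = true := by decide +kernel
theorem rc2175 : allBelow (fun k => fr (Nat.add 106575 k)) 49 = true := by decide +kernel
theorem rc2176 : allBelow (fun k => fr (Nat.add 106624 k)) 49 = true := by decide +kernel
theorem rc2177 : allBelow (fun k => fr (Nat.add 106673 k)) 49 = true := by decide +kernel
theorem rc2178 : allBelow (fun k => fr (Nat.add 106722 k)) 49 = true := by decide +kernel
theorem rc2179 : allBelow (fun k => fr (Nat.add 106771 k)) 49 = true := by decide +kernel
theorem rc2180 : allBelow (fun k => fr (Nat.add 106820 k)) 49 = true := by decide +kernel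
theorem rc2181 : allBelow (fun k => fr (Nat.add 106869 k)) 49 = true := by decide +kernel
theorem rc2182 : allBelow (fun k => fr (Nat.add 106918 k)) 49 = true := by decide +kernel
theorem rc2183 : allBelow (fun k => fr (Nat.add 106967 k)) 49 = true := by decide +kernel
theorem rc2184 : allBelow (fun k => fr (Nat.add 107016 k)) 49 = true := by decide +kernel
theorem rc2185 : allBelow (fun k => fr (Nat.add 107065 k)) 49 = true := by decide +kernel
theorem rc2186 : allBelow (fun k => fr (Nat.add 107114 k)) 49 = true := by decide +kernel
theorem rc2187 : allBelow (fun k => fr (Nat.add 107163 k)) 49 = true := by decide +kernel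
theorem rc2188 : allBelow (fun k => fr (Nat.add 107212 k)) 49 = true := by decide +kernel
theorem rc2189 : allBelow (fun k => fr (Nat.add 107261 k)) 49 = true := by decide +kernel
theorem rc2190 : allBelow (fun k => fr (Nat.add 107310 k)) 49 = true := by decide +kernel
theorem rc2191 : allBelow (fun k => fr (Nat.add 107359 k)) 49 = true := by decide +kernel
theorem rc2192 : allBelow (fun k => fr (Nat.add 107408 k)) 49 = true := by decide +kernel
theorem rc2193 : allBelow (fun k => fr (Nat.add 107457 k)) 49 = true := by decide +kernel
theorem rc2194 : allBelow (fun k => fr (Nat.add 107506 k)) 49 = true := by decide +kernel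
theorem rc2195 : allBelow (fun k => fr (Nat.add 107555 k)) 49 = true := by decide +kernel
theorem rc2196 : allBelow (fun k => fr (Nat.add 107604 k)) 49 = true := by decide +kernel
theorem rc2197 : allBelow (fun k => fr (Nat.add 107653 k)) 49 = true := by decide +kernel
theorem rc2198 : allBelow (fun k => fr (Nat.add 107702 k)) 49 = true := by decide +kernel
theorem rc2199 : allBelow (fun k => fr (Nat.add 107751 k)) 49 = true := by decide +kernel
theorem rc2200 : allBelow (fun k => fr (Nat.add 107800 k)) 49 = true := by decide +kernel
theorem rc2201 : allBelow (fun k => fr (Nat.add 107849 k)) 49 = true := by decide +kernel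
theorem rc2202 : allBelow (fun k => fr (Nat.add 107898 k)) 49 = true := by decide +kernel
theorem rc2203 : allBelow (fun k => fr (Nat.add 107947 k)) 49 = true := by decide +kernel
theorem rc2204 : allBelow (fun k => fr (Nat.add 107996 k)) 49 = true := by decide +kernel
theorem rc2205 : allBelow (fun k => fr (Nat.add 108045 k)) 49 = true := by decide +kernel
theorem rc2206 : allBelow (fun k => fr (Nat.add 108094 k)) 49 = true := by decide +kernel
theorem rc2207 : allBelow (fun k => fr (Nat.add 108143 k)) 49 = true := by decide +kernel
theorem rc2208 : allBelow (fun k => fr (Nat.add 108192 k)) 49 = true := by decide +kernel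
theorem rc2209 : allBelow (fun k => fr (Nat.add 108241 k)) 49 = true := by decide +kernel
theorem rc2210 : allBelow (fun k => fr (Nat.add 108290 k)) 49 = true := by decide +kernel
theorem rc2211 : allBelow (fun k => fr (Nat.add 108339 k)) 49 = true := by decide +kernel
theorem rc2212 : allBelow (fun k => fr (Nat.add 108388 k)) 49 = true := by decide +kernel
theorem rc2213 : allBelow (fun k => fr (Nat.add 108437 k)) 49 = true := by decide +kernel
theorem rc2214 : allBelow (fun k => fr (Nat.add 108486 k)) 49 = true := by decide +kernel
theorem rc2215 : allBelow (fun k => fr (Nat.add 108535 k)) 49 = true := by decide +kernel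
theorem rc2216 : allBelow (fun k => fr (Nat.add 108584 k)) 49 = true := by decide +kernel
theorem rc2217 : allBelow (fun k => fr (Nat.add 108633 k)) 49 = true := by decide +kernel
theorem rc2218 : allBelow (fun k => fr (Nat.add 108682 k)) 49 = true := by decide +kernel
theorem rc2219 : allBelow (fun k => fr (Nat.add 108731 k)) 49 = true := by decide +kernel
theorem rc2220 : allBelow (fun k => fr (Nat.add 108780 k)) 49 = true := by decide +kernel
theorem rc2221 : allBelow (fun k => fr (Nat.add 108829 k)) 49 = true := by decide +kernel
theorem rc2222 : allBelow (fun k => fr (Nat.add 108878 k)) 49 = true := by decide +kernel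
theorem rc2223 : allBelow (fun k => fr (Nat.add 108927 k)) 49 = true := by decide +kernel
theorem rc2224 : allBelow (fun k => fr (Nat.add 108976 k)) 49 = true := by decide +kernel
theorem rc2225 : allBelow (fun k => fr (Nat.add 109025 k)) 49 = true := by decide +kernel
theorem rc2226 : allBelow (fun k => fr (Nat.add 109074 k)) 49 = true := by decide +kernel
theorem rc2227 : allBelow (fun k => fr (Nat.add 109123 k)) 49 = true := by decide +kernel
theorem rc2228 : allBelow (fun k => fr (Nat.add 109172 k)) 49 = true := by decide +kernel
theorem rc2229 : allBelow (fun k => fr (Nat.add 109221 k)) 49 = true := by decide +kernel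
theorem rc2230 : allBelow (fun k => fr (Nat.add 109270 k)) 49 = true := by decide +kernel
theorem rc2231 : allBelow (fun k => fr (Nat.add 109319 k)) 49 = true := by decide +kernel
theorem rc2232 : allBelow (fun k => fr (Nat.add 109368 k)) 49 = true := by decide +kernel
theorem rc2233 : allBelow (fun k => fr (Nat.add 109417 k)) 49 = true := by decide +kernel
theorem rc2234 : allBelow (fun k => fr (Nat.add 109466 k)) 49 = true := by decide +kernel
theorem rc2235 : allBelow (fun k => fr (Nat.add 109515 k)) 49 = true := by decide +kernel
theorem rc2236 : allBelow (fun k => fr (Nat.add 109564 k)) 49 = true := by decide +kernel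
theorem rc2237 : allBelow (fun k => fr (Nat.add 109613 k)) 49 = true := by decide +kernel
theorem rc2238 : allBelow (fun k => fr (Nat.add 109662 k)) 49 = true := by decide +kernel
theorem rc2239 : allBelow (fun k => fr (Nat.add 109711 k)) 49 = true := by decide +kernel
theorem rc2240 : allBelow (fun k => fr (Nat.add 109760 k)) 49 = true := by decide +kernel
theorem rc2241 : allBelow (fun k => fr (Nat.add 109809 k)) 49 = true := by decide +kernel
theorem rc2242 : allBelow (fun k => fr (Nat.add 109858 k)) 49 = true := by decide +kernel
theorem rc2243 : allBelow (fun k => fr (Nat.add 109907 k)) 49 = true := by decide +kernel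
theorem rc2244 : allBelow (fun k => fr (Nat.add 109956 k)) 49 = true := by decide +kernel
theorem rc2245 : allBelow (fun k => fr (Nat.add 110005 k)) 49 = true := by decide +kernel
theorem rc2246 : allBelow (fun k => fr (Nat.add 110054 k)) 49 = true := by decide +kernel
theorem rc2247 : allBelow (fun k => fr (Nat.add 110103 k)) 49 = true := by decide +kernel
theorem rc2248 : allBelow (fun k => fr (Nat.add 110152 k)) 49 = true := by decide +kernel
theorem rc2249 : allBelow (fun k => fr (Nat.add 110201 k)) 49 = true := by decide +kernel
theorem rc2250 : allBelow (fun k => fr (Nat.add 110250 k)) 49 = true := by decide +kernel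
theorem rc2251 : allBelow (fun k => fr (Nat.add 110299 k)) 49 = true := by decide +kernel
theorem rc2252 : allBelow (fun k => fr (Nat.add 110348 k)) 49 = true := by decide +kernel
theorem rc2253 : allBelow (fun k => fr (Nat.add 110397 k)) 49 = true := by decide +kernel
theorem rc2254 : allBelow (fun k => fr (Nat.add 110446 k)) 49 = true := by decide +kernel
theorem rc2255 : allBelow (fun k => fr (Nat.add 110495 k)) 49 = true := by decide +kernel
theorem rc2256 : allBelow (fun k => fr (Nat.add 110544 k)) 49 = true := by decide +kernel
theorem rc2257 : allBelow (fun k => fr (Nat.add 110593 k)) 49 = true := by decide +kernel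
theorem rc2258 : allBelow (fun k => fr (Nat.add 110642 k)) 49 = true := by decide +kernel
theorem rc2259 : allBelow (fun k => fr (Nat.add 110691 k)) 49 = true := by decide +kernel
theorem rc2260 : allBelow (fun k => fr (Nat.add 110740 k)) 49 = true := by decide +kernel
theorem rc2261 : allBelow (fun k => fr (Nat.add 110789 k)) 49 = true := by decide +kernel
theorem rc2262 : allBelow (fun k => fr (Nat.add 110838 k)) 49 = true := by decide +kernel
theorem rc2263 : allBelow (fun k => fr (Nat.add 110887 k)) 49 = true := by decide +kernel
theorem rc2264 : allBelow (fun k => fr (Nat.add 110936 k)) 49 = true := by decide +kernel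
theorem rc2265 : allBelow (fun k => fr (Nat.add 110985 k)) 49 = true := by decide +kernel
theorem rc2266 : allBelow (fun k => fr (Nat.add 111034 k)) 49 = true := by decide +kernel
theorem rc2267 : allBelow (fun k => fr (Nat.add 111083 k)) 49 = true := by decide +kernel
theorem rc2268 : allBelow (fun k => fr (Nat.add 111132 k)) 49 = true := by decide +kernel
theorem rc2269 : allBelow (fun k => fr (Nat.add 111181 k)) 49 = true := by decide +kernel
theorem rc2270 : allBelow (fun k => fr (Nat.add 111230 k)) 49 = true := by decide +kernel
theorem rc2271 : allBelow (fun k => fr (Nat.add 111279 k)) 49 = true := by decide +kernel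
theorem rc2272 : allBelow (fun k => fr (Nat.add 111328 k)) 49 = true := by decide +kernel
theorem rc2273 : allBelow (fun k => fr (Nat.add 111377 k)) 49 = true := by decide +kernel
theorem rc2274 : allBelow (fun k => fr (Nat.add 111426 k)) 49 = true := by decide +kernel
theorem rc2275 : allBelow (fun k => fr (Nat.add 111475 k)) 49 = true := by decide +kernel
theorem rc2276 : allBelow (fun k => fr (Nat.add 111524 k)) 49 = true := by decide +kernel
theorem rc2277 : allBelow (fun k => fr (Nat.add 111573 k)) 49 = true := by decide +kernel
theorem rc2278 : allBelow (fun k => fr (Nat.add 111622 k)) 49 = true := by decide +kernel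
theorem rc2279 : allBelow (fun k => fr (Nat.add 111671 k)) 49 = true := by decide +kernel
theorem rc2280 : allBelow (fun k => fr (Nat.add 111720 k)) 49 = true := by decide +kernel
theorem rc2281 : allBelow (fun k => fr (Nat.add 111769 k)) 49 = true := by decide +kernel
theorem rc2282 : allBelow (fun k => fr (Nat.add 111818 k)) 49 = true := by decide +kernel
theorem rc2283 : allBelow (fun k => fr (Nat.add 111867 k)) 49 = true := by decide +kernel
theorem rc2284 : allBelow (fun k => fr (Nat.add 111916 k)) 49 = true := by decide +kernel
theorem rc2285 : allBelow (fun k => fr (Nat.add 111965 k)) 49 = true := by decide +kernel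
theorem rc2286 : allBelow (fun k => fr (Nat.add 112014 k)) 49 = true := by decide +kernel
theorem rc2287 : allBelow (fun k => fr (Nat.add 112063 k)) 49 = true := by decide +kernel
theorem rc2288 : allBelow (fun k => fr (Nat.add 112112 k)) 49 = true := by decide +kernel
theorem rc2289 : allBelow (fun k => fr (Nat.add 112161 k)) 49 = true := by decide +kernel
theorem rc2290 : allBelow (fun k => fr (Nat.add 112210 k)) 49 = true := by decide +kernel
theorem rc2291 : allBelow (fun k => fr (Nat.add 112259 k)) 49 = true := by decide +kernel
theorem rc2292 : allBelow (fun k => fr (Nat.add 112308 k)) 49 = true := by decide +kernel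
theorem rc2293 : allBelow (fun k => fr (Nat.add 112357 k)) 49 = true := by decide +kernel
theorem rc2294 : allBelow (fun k => fr (Nat.add 112406 k)) 49 = true := by decide +kernel
theorem rc2295 : allBelow (fun k => fr (Nat.add 112455 k)) 49 = true := by decide +kernel
theorem rc2296 : allBelow (fun k => fr (Nat.add 112504 k)) 49 = true := by decide +kernel
theorem rc2297 : allBelow (fun k => fr (Nat.add 112553 k)) 49 = true := by decide +kernel
theorem rc2298 : allBelow (fun k => fr (Nat.add 112602 k)) 49 = true := by decide +kernel
theorem rc2299 : allBelow (fun k => fr (Nat.add 112651 k)) 49 = true := by decide +kernel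
theorem rc2300 : allBelow (fun k => fr (Nat.add 112700 k)) 49 = true := by decide +kernel
theorem rc2301 : allBelow (fun k => fr (Nat.add 112749 k)) 49 = true := by decide +kernel
theorem rc2302 : allBelow (fun k => fr (Nat.add 112798 k)) 49 = true := by decide +kernel
theorem rc2303 : allBelow (fun k => fr (Nat.add 112847 k)) 49 = true := by decide +kernel
theorem rc2304 : allBelow (fun k => fr (Nat.add 112896 k)) 49 = true := by decide +kernel
theorem rc2305 : allBelow (fun k => fr (Nat.add 112945 k)) 49 = true := by decide +kernel
theorem rc2306 : allBelow (fun k => fr (Nat.add 112994 k)) 49 = true := by decide +kernel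
theorem rc2307 : allBelow (fun k => fr (Nat.add 113043 k)) 49 = true := by decide +kernel
theorem rc2308 : allBelow (fun k => fr (Nat.add 113092 k)) 49 = true := by decide +kernel
theorem rc2309 : allBelow (fun k => fr (Nat.add 113141 k)) 49 = true := by decide +kernel
theorem rc2310 : allBelow (fun k => fr (Nat.add 113190 k)) 49 = true := by decide +kernel
theorem rc2311 : allBelow (fun k => fr (Nat.add 113239 k)) 49 = true := by decide +kernel
theorem rc2312 : allBelow (fun k => fr (Nat.add 113288 k)) 49 = true := by decide +kernel
theorem rc2313 : allBelow (fun k => fr (Nat.add 113337 k)) 49 = true := by decide +kernel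
theorem rc2314 : allBelow (fun k => fr (Nat.add 113386 k)) 49 = true := by decide +kernel
theorem rc2315 : allBelow (fun k => fr (Nat.add 113435 k)) 49 = true := by decide +kernel
theorem rc2316 : allBelow (fun k => fr (Nat.add 113484 k)) 49 = true := by decide +kernel
theorem rc2317 : allBelow (fun k => fr (Nat.add 113533 k)) 49 = true := by decide +kernel
theorem rc2318 : allBelow (fun k => fr (Nat.add 113582 k)) 49 = true := by decide +kernel
theorem rc2319 : allBelow (fun k => fr (Nat.add 113631 k)) 49 = true := by decide +kernel
theorem rc2320 : allBelow (fun k => fr (Nat.add 113680 k)) 49 = true := by decide +kernel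
theorem rc2321 : allBelow (fun k => fr (Nat.add 113729 k)) 49 = true := by decide +kernel
theorem rc2322 : allBelow (fun k => fr (Nat.add 113778 k)) 49 = true := by decide +kernel
theorem rc2323 : allBelow (fun k => fr (Nat.add 113827 k)) 49 = true := by decide +kernel
theorem rc2324 : allBelow (fun k => fr (Nat.add 113876 k)) 49 = true := by decide +kernel
theorem rc2325 : allBelow (fun k => fr (Nat.add 113925 k)) 49 = true := by decide +kernel
theorem rc2326 : allBelow (fun k => fr (Nat.add 113974 k)) 49 = true := by decide +kernel
theorem rc2327 : allBelow (fun k => fr (Nat.add 114023 k)) 49 = true := by decide +kernel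
theorem rc2328 : allBelow (fun k => fr (Nat.add 114072 k)) 49 = true := by decide +kernel
theorem rc2329 : allBelow (fun k => fr (Nat.add 114121 k)) 49 = true := by decide +kernel
theorem rc2330 : allBelow (fun k => fr (Nat.add 114170 k)) 49 = true := by decide +kernel
theorem rc2331 : allBelow (fun k => fr (Nat.add 114219 k)) 49 = true := by decide +kernel
theorem rc2332 : allBelow (fun k => fr (Nat.add 114268 k)) 49 = true := by decide +kernel
theorem rc2333 : allBelow (fun k => fr (Nat.add 114317 k)) 49 = true := by decide +kernel
theorem rc2334 : allBelow (fun k => fr (Nat.add 114366 k)) 49 = true := by decide +kernel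
theorem rc2335 : allBelow (fun k => fr (Nat.add 114415 k)) 49 = true := by decide +kernel
theorem rc2336 : allBelow (fun k => fr (Nat.add 114464 k)) 49 = true := by decide +kernel
theorem rc2337 : allBelow (fun k => fr (Nat.add 114513 k)) 49 = true := by decide +kernel
theorem rc2338 : allBelow (fun k => fr (Nat.add 114562 k)) 49 = true := by decide +kernel
theorem rc2339 : allBelow (fun k => fr (Nat.add 114611 k)) 49 = true := by decide +kernel
theorem rc2340 : allBelow (fun k => fr (Nat.add 114660 k)) 49 = true := by decide +kernel
theorem rc2341 : allBelow (fun k => fr (Nat.add 114709 k)) 49 = true := by decide +kernel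
theorem rc2342 : allBelow (fun k => fr (Nat.add 114758 k)) 49 = true := by decide +kernel
theorem rc2343 : allBelow (fun k => fr (Nat.add 114807 k)) 49 = true := by decide +kernel
theorem rc2344 : allBelow (fun k => fr (Nat.add 114856 k)) 49 = true := by decide +kernel
theorem rc2345 : allBelow (fun k => fr (Nat.add 114905 k)) 49 = true := by decide +kernel
theorem rc2346 : allBelow (fun k => fr (Nat.add 114954 k)) 49 = true := by decide +kernel
theorem rc2347 : allBelow (fun k => fr (Nat.add 115003 k)) 49 = true := by decide +kernel
theorem rc2348 : allBelow (fun k => fr (Nat.add 115052 k)) 49 = true := by decide +kernel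
theorem rc2349 : allBelow (fun k => fr (Nat.add 115101 k)) 49 = true := by decide +kernel
theorem rc2350 : allBelow (fun k => fr (Nat.add 115150 k)) 49 = true := by decide +kernel
theorem rc2351 : allBelow (fun k => fr (Nat.add 115199 k)) 49 = true := by decide +kernel
theorem rc2352 : allBelow (fun k => fr (Nat.add 115248 k)) 49 = true := by decide +kernel
theorem rc2353 : allBelow (fun k => fr (Nat.add 115297 k)) 49 = true := by decide +kernel
theorem rc2354 : allBelow (fun k => fr (Nat.add 115346 k)) 49 = true := by decide +kernel
theorem rc2355 : allBelow (fun k => fr (Nat.add 115395 k)) 49 = true := by decide +kernel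
theorem rc2356 : allBelow (fun k => fr (Nat.add 115444 k)) 49 = true := by decide +kernel
theorem rc2357 : allBelow (fun k => fr (Nat.add 115493 k)) 49 = true := by decide +kernel
theorem rc2358 : allBelow (fun k => fr (Nat.add 115542 k)) 49 = true := by decide +kernel
theorem rc2359 : allBelow (fun k => fr (Nat.add 115591 k)) 49 = true := by decide +kernel
theorem rc2360 : allBelow (fun k => fr (Nat.add 115640 k)) 49 = true := by decide +kernel
theorem rc2361 : allBelow (fun k => fr (Nat.add 115689 k)) 49 = true := by decide +kernel
theorem rc2362 : allBelow (fun k => fr (Nat.add 115738 k)) 49 = true := by decide +kernel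
theorem rc2363 : allBelow (fun k => fr (Nat.add 115787 k)) 49 = true := by decide +kernel
theorem rc2364 : allBelow (fun k => fr (Nat.add 115836 k)) 49 = true := by decide +kernel
theorem rc2365 : allBelow (fun k => fr (Nat.add 115885 k)) 49 = true := by decide +kernel
theorem rc2366 : allBelow (fun k => fr (Nat.add 115934 k)) 49 = true := by decide +kernel
theorem rc2367 : allBelow (fun k => fr (Nat.add 115983 k)) 49 = true := by decide +kernel
theorem rc2368 : allBelow (fun k => fr (Nat.add 116032 k)) 49 = true := by decide +kernel
theorem rc2369 : allBelow (fun k => fr (Nat.add 116081 k)) 49 = true := by decide +kernel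
theorem rc2370 : allBelow (fun k => fr (Nat.add 116130 k)) 49 = true := by decide +kernel
theorem rc2371 : allBelow (fun k => fr (Nat.add 116179 k)) 49 = true := by decide +kernel
theorem rc2372 : allBelow (fun k => fr (Nat.add 116228 k)) 49 = true := by decide +kernel
theorem rc2373 : allBelow (fun k => fr (Nat.add 116277 k)) 49 = true := by decide +kernel
theorem rc2374 : allBelow (fun k => fr (Nat.add 116326 k)) 49 = true := by decide +kernel
theorem rc2375 : allBelow (fun k => fr (Nat.add 116375 k)) 49 = true := by decide +kernel
theorem rc2376 : allBelow (fun k => fr (Nat.add 116424 k)) 49 = true := by decide +kernel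
theorem rc2377 : allBelow (fun k => fr (Nat.add 116473 k)) 49 = true := by decide +kernel
theorem rc2378 : allBelow (fun k => fr (Nat.add 116522 k)) 49 = true := by decide +kernel
theorem rc2379 : allBelow (fun k => fr (Nat.add 116571 k)) 49 = true := by decide +kernel
theorem rc2380 : allBelow (fun k => fr (Nat.add 116620 k)) 49 = true := by decide +kernel
theorem rc2381 : allBelow (fun k => fr (Nat.add 116669 k)) 49 = true := by decide +kernel
theorem rc2382 : allBelow (fun k => fr (Nat.add 116718 k)) 49 = true := by decide +kernel
theorem rc2383 : allBelow (fun k => fr (Nat.add 116767 k)) 49 = true := by decide +kernel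
theorem rc2384 : allBelow (fun k => fr (Nat.add 116816 k)) 49 = true := by decide +kernel
theorem rc2385 : allBelow (fun k => fr (Nat.add 116865 k)) 49 = true := by decide +kernel
theorem rc2386 : allBelow (fun k => fr (Nat.add 116914 k)) 49 = true := by decide +kernel
theorem rc2387 : allBelow (fun k => fr (Nat.add 116963 k)) 49 = true := by decide +kernel
theorem rc2388 : allBelow (fun k => fr (Nat.add 117012 k)) 49 = true := by decide +kernel
theorem rc2389 : allBelow (fun k => fr (Nat.add 117061 k)) 49 = true := by decide +kernel
theorem rc2390 : allBelow (fun k => fr (Nat.add 117110 k)) 49 = true := by decide +kernel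
theorem rc2391 : allBelow (fun k => fr (Nat.add 117159 k)) 49 = true := by decide +kernel
theorem rc2392 : allBelow (fun k => fr (Nat.add 117208 k)) 49 = true := by decide +kernel
theorem rc2393 : allBelow (fun k => fr (Nat.add 117257 k)) 49 = true := by decide +kernel
theorem rc2394 : allBelow (fun k => fr (Nat.add 117306 k)) 49 = true := by decide +kernel
theorem rc2395 : allBelow (fun k => fr (Nat.add 117355 k)) 49 = true := by decide +kernel
theorem rc2396 : allBelow (fun k => fr (Nat.add 117404 k)) 49 = true := by decide +kernel
theorem rc2397 : allBelow (fun k => fr (Nat.add 117453 k)) 49 = true := by decide +kernel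
theorem rc2398 : allBelow (fun k => fr (Nat.add 117502 k)) 49 = true := by decide +kernel
theorem rc2399 : allBelow (fun k => fr (Nat.add 117551 k)) 49 = true := by decide +kernel
theorem rc2400 : allBelow (fun k => fr (Nat.add 117600 k)) 49 = true := by decide +kernel
theorem rc2401 : allBelow (fun k => fr (Nat.add 117649 k)) 49 = true := by decide +kernel
theorem rc2402 : allBelow (fun k => fr (Nat.add 117698 k)) 49 = true := by decide +kernel
theorem rc2403 : allBelow (fun k => fr (Nat.add 117747 k)) 49 = true := by decide +kernel
theorem rc2404 : allBelow (fun k => fr (Nat.add 117796 k)) 49 = true := by decide +kernel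
theorem rc2405 : allBelow (fun k => fr (Nat.add 117845 k)) 49 = true := by decide +kernel
theorem rc2406 : allBelow (fun k => fr (Nat.add 117894 k)) 49 = true := by decide +kernel
theorem rc2407 : allBelow (fun k => fr (Nat.add 117943 k)) 49 = true := by decide +kernel
theorem rc2408 : allBelow (fun k => fr (Nat.add 117992 k)) 49 = true := by decide +kernel
theorem rc2409 : allBelow (fun k => fr (Nat.add 118041 k)) 49 = true := by decide +kernel
theorem rc2410 : allBelow (fun k => fr (Nat.add 118090 k)) 49 = true := by decide +kernel
theorem rc2411 : allBelow (fun k => fr (Nat.add 118139 k)) 49 = true := by decide +kernel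
theorem rc2412 : allBelow (fun k => fr (Nat.add 118188 k)) 49 = true := by decide +kernel
theorem rc2413 : allBelow (fun k => fr (Nat.add 118237 k)) 49 = true := by decide +kernel
theorem rc2414 : allBelow (fun k => fr (Nat.add 118286 k)) 49 = true := by decide +kernel
theorem rc2415 : allBelow (fun k => fr (Nat.add 118335 k)) 49 = true := by decide +kernel
theorem rc2416 : allBelow (fun k => fr (Nat.add 118384 k)) 49 = true := by decide +kernel
theorem rc2417 : allBelow (fun k => fr (Nat.add 118433 k)) 49 = true := by decide +kernel
theorem rc2418 : allBelow (fun k => fr (Nat.add 118482 k)) 49 = true := by decide +kernel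
theorem rc2419 : allBelow (fun k => fr (Nat.add 118531 k)) 49 = true := by decide +kernel
theorem rc2420 : allBelow (fun k => fr (Nat.add 118580 k)) 49 = true := by decide +kernel
theorem rc2421 : allBelow (fun k => fr (Nat.add 118629 k)) 49 = true := by decide +kernel
theorem rc2422 : allBelow (fun k => fr (Nat.add 118678 k)) 49 = true := by decide +kernel
theorem rc2423 : allBelow (fun k => fr (Nat.add 118727 k)) 49 = true := by decide +kernel
theorem rc2424 : allBelow (fun k => fr (Nat.add 118776 k)) 49 = true := by decide +kernel
theorem rc2425 : allBelow (fun k => fr (Nat.add 118825 k)) 49 = true := by decide +kernel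
theorem rc2426 : allBelow (fun k => fr (Nat.add 118874 k)) 49 = true := by decide +kernel
theorem rc2427 : allBelow (fun k => fr (Nat.add 118923 k)) 49 = true := by decide +kernel
theorem rc2428 : allBelow (fun k => fr (Nat.add 118972 k)) 49 = true := by decide +kernel
theorem rc2429 : allBelow (fun k => fr (Nat.add 119021 k)) 49 = true := by decide +kernel
theorem rc2430 : allBelow (fun k => fr (Nat.add 119070 k)) 49 = true := by decide +kernel
theorem rc2431 : allBelow (fun k => fr (Nat.add 119119 k)) 49 = true := by decide +kernel
theorem rc2432 : allBelow (fun k => fr (Nat.add 119168 k)) 49 = true := by decide +kernel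
theorem rc2433 : allBelow (fun k => fr (Nat.add 119217 k)) 49 = true := by decide +kernel
theorem rc2434 : allBelow (fun k => fr (Nat.add 119266 k)) 49 = true := by decide +kernel
theorem rc2435 : allBelow (fun k => fr (Nat.add 119315 k)) 49 = true := by decide +kernel
theorem rc2436 : allBelow (fun k => fr (Nat.add 119364 k)) 49 = true := by decide +kernel
theorem rc2437 : allBelow (fun k => fr (Nat.add 119413 k)) 49 = true := by decide +kernel
theorem rc2438 : allBelow (fun k => fr (Nat.add 119462 k)) 49 = true := by decide +kernel
theorem rc2439 : allBelow (fun k => fr (Nat.add 119511 k)) 49 = true := by decide +kernel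
theorem rc2440 : allBelow (fun k => fr (Nat.add 119560 k)) 49 = true := by decide +kernel
theorem rc2441 : allBelow (fun k => fr (Nat.add 119609 k)) 49 = true := by decide +kernel
theorem rc2442 : allBelow (fun k => fr (Nat.add 119658 k)) 49 = true := by decide +kernel
theorem rc2443 : allBelow (fun k => fr (Nat.add 119707 k)) 49 = true := by decide +kernel
theorem rc2444 : allBelow (fun k => fr (Nat.add 119756 k)) 49 = true := by decide +kernel
theorem rc2445 : allBelow (fun k => fr (Nat.add 119805 k)) 49 = true := by decide +kernel
theorem rc2446 : allBelow (fun k => fr (Nat.add 119854 k)) 49 = true := by decide +kernel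
theorem rc2447 : allBelow (fun k => fr (Nat.add 119903 k)) 49 = true := by decide +kernel
theorem rc2448 : allBelow (fun k => fr (Nat.add 119952 k)) 49 = true := by decide +kernel
theorem rc2449 : allBelow (fun k => fr (Nat.add 120001 k)) 49 = true := by decide +kernel
theorem rc2450 : allBelow (fun k => fr (Nat.add 120050 k)) 49 = true := by decide +kernel
theorem rc2451 : allBelow (fun k => fr (Nat.add 120099 k)) 49 = true := by decide +kernel
theorem rc2452 : allBelow (fun k => fr (Nat.add 120148 k)) 49 = true := by decide +kernel
theorem rc2453 : allBelow (fun k => fr (Nat.add 120197 k)) 49 = true := by decide +kernel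
theorem rc2454 : allBelow (fun k => fr (Nat.add 120246 k)) 49 = true := by decide +kernel
theorem rc2455 : allBelow (fun k => fr (Nat.add 120295 k)) 49 = true := by decide +kernel
theorem rc2456 : allBelow (fun k => fr (Nat.add 120344 k)) 49 = true := by decide +kernel

end Cfsg.Agent.Lib.Helper35.ON122760
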