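import Cfsg.Agent.Lib.Helper35.ON122760.PData

set_option Elab.async false

namespace Cfsg.Agent.Lib.Helper35.ON122760

open Cfsg.Agent.Lib.Helper35

theorem rc2457 : allBelow (fun k => fr (Nat.add 120393 k)) 49 = true := by decide +kernel
theorem rc2458 : allBelow (fun k => fr (Nat.add 120442 k)) 49 = true := by decide +kernel
theorem rc2459 : allBelow (fun k => fr (Nat.add 120491 k)) 49 = true := by decide +kernel
theorem rc2460 : allBelow (fun k => fr (Nat.add 120540 k)) 49 = true := by decide +kernel
theorem rc2461 : allBelow (fun k => fr (Nat.add 120589 k)) 49 = true := by decide +kernel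
theorem rc2462 : allBelow (fun k => fr (Nat.add 120638 k)) 49 = true := by decide +kernel
theorem rc2463 : allBelow (fun k => fr (Nat.add 120687 k)) 49 = true := by decide +kernel
theorem rc2464 : allBelow (fun k => fr (Nat.add 120736 k)) 49 = true := by decide +kernel
theorem rc2465 : allBelow (fun k => fr (Nat.add 120785 k)) 49 = true := by decide +kernel
theorem rc2466 : allBelow (fun k => fr (Nat.add 120834 k)) 49 = true := by decide +kernel
theorem rc2467 : allBelow (fun k => fr (Nat.add 120883 k)) 49 = true := by decide +kernel
theorem rc2468 : allBelow (fun k => fr (Nat.add 120932 k)) 49 = true := by decide +kernel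
theorem rc2469 : allBelow (fun k => fr (Nat.add 120981 k)) 49 = true := by decide +kernel
theorem rc2470 : allBelow (fun k => fr (Nat.add 121030 k)) 49 = true := by decide +kernel
theorem rc2471 : allBelow (fun k => fr (Nat.add 121079 k)) 49 = true := by decide +kernel
theorem rc2472 : allBelow (fun k => fr (Nat.add 121128 k)) 49 = true := by decide +kernel
theorem rc2473 : allBelow (fun k => fr (Nat.add 121177 k)) 49 = true := by decide +kernel
theorem rc2474 : allBelow (fun k => fr (Nat.add 121226 k)) 49 = true := by decide +kernel
theorem rc2475 : allBelow (fun k => fr (Nat.add 121275 k)) 49 = true := by decide +kernel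
theorem rc2476 : allBelow (fun k => fr (Nat.add 121324 k)) 49 = true := by decide +kernel
theorem rc2477 : allBelow (fun k => fr (Nat.add 121373 k)) 49 = true := by decide +kernel
theorem rc2478 : allBelow (fun k => fr (Nat.add 121422 k)) 49 = true := by decide +kernel
theorem rc2479 : allBelow (fun k => fr (Nat.add 121471 k)) 49 = true := by decide +kernel
theorem rc2480 : allBelow (fun k => fr (Nat.add 121520 k)) 49 = true := by decide +kernel
theorem rc2481 : allBelow (fun k => fr (Nat.add 121569 k)) 49 = true := by decide +kernel
theorem rc2482 : allBelow (fun k => fr (Nat.add 121618 k)) 49 = true := by decide +kernel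
theorem rc2483 : allBelow (fun k => fr (Nat.add 121667 k)) 49 = true := by decide +kernel
theorem rc2484 : allBelow (fun k => fr (Nat.add 121716 k)) 49 = true := by decide +kernel
theorem rc2485 : allBelow (fun k => fr (Nat.add 121765 k)) 49 = true := by decide +kernel
theorem rc2486 : allBelow (fun k => fr (Nat.add 121814 k)) 49 = true := by decide +kernel
theorem rc2487 : allBelow (fun k => fr (Nat.add 121863 k)) 49 = true := by decide +kernel
theorem rc2488 : allBelow (fun k => fr (Nat.add 121912 k)) 49 = true := by decide +kernel
theorem rc2489 : allBelow (fun k => fr (Nat.add 121961 k)) 49 = true := by decide +kernel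
theorem rc2490 : allBelow (fun k => fr (Nat.add 122010 k)) 49 = true := by decide +kernel
theorem rc2491 : allBelow (fun k => fr (Nat.add 122059 k)) 49 = true := by decide +kernel
theorem rc2492 : allBelow (fun k => fr (Nat.add 122108 k)) 49 = true := by decide +kernel
theorem rc2493 : allBelow (fun k => fr (Nat.add 122157 k)) 49 = true := by decide +kernel
theorem rc2494 : allBelow (fun k => fr (Nat.add 122206 k)) 49 = true := by decide +kernel
theorem rc2495 : allBelow (fun k => fr (Nat.add 122255 k)) 49 = true := by decide +kernel
theorem rc2496 : allBelow (fun k => fr (Nat.add 122304 k)) 49 = true := by decide +kernel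
theorem rc2497 : allBelow (fun k => fr (Nat.add 122353 k)) 49 = true := by decide +kernel
theorem rc2498 : allBelow (fun k => fr (Nat.add 122402 k)) 49 = true := by decide +kernel
theorem rc2499 : allBelow (fun k => fr (Nat.add 122451 k)) 49 = true := by decide +kernel
theorem rc2500 : allBelow (fun k => fr (Nat.add 122500 k)) 49 = true := by decide +kernel
theorem rc2501 : allBelow (fun k => fr (Nat.add 122549 k)) 49 = true := by decide +kernel
theorem rc2502 : allBelow (fun k => fr (Nat.add 122598 k)) 49 = true := by decide +kernel
theorem rc2503 : allBelow (fun k => fr (Nat.add 122647 k)) 49 = true := by decide +kernel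
theorem rc2504 : allBelow (fun k => fr (Nat.add 122696 k)) 49 = true := by decide +kernel
theorem rc2505 : allBelow (fun k => fr (Nat.add 122745 k)) 15 = true := by decide +kernel
theorem c0c0 : allBelow (fun k => fc0 (Nat.add 0 k)) 3824 = true := by decide +kernel
theorem c0c1 : allBelow (fun k => fc0 (Nat.add 3824 k)) 3824 = true := by decide +kernel
theorem c0c2 : allBelow (fun k => fc0 (Nat.add 7648 k)) 3824 = true := by decide +kernel
theorem c0c3 : allBelow (fun k => fc0 (Nat.add 11472 k)) 3824 = true := by decide +kernel
theorem c0c4 : allBelow (fun k => fc0 (Nat.add 15296 k)) 3824 = true := by decide +kernel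
theorem c0c5 : allBelow (fun k => fc0 (Nat.add 19120 k)) 3824 = true := by decide +kernel
theorem c0c6 : allBelow (fun k => fc0 (Nat.add 22944 k)) 3824 = true := by decide +kernel
theorem c0c7 : allBelow (fun k => fc0 (Nat.add 26768 k)) 3824 = true := by decide +kernel
theorem c0c8 : allBelow (fun k => fc0 (Nat.add 30592 k)) 3824 = true := by decide +kernel
theorem c0c9 : allBelow (fun k => fc0 (Nat.add 34416 k)) 3824 = true := by decide +kernel
theorem c0c10 : allBelow (fun k => fc0 (Nat.add 38240 k)) 3824 = true := by decide +kernel
theorem c0c11 : allBelow (fun k => fc0 (Nat.add 42064 k)) 3824 = true := by decide +kernel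
theorem c0c12 : allBelow (fun k => fc0 (Nat.add 45888 k)) 3824 = true := by decide +kernel
theorem c0c13 : allBelow (fun k => fc0 (Nat.add 49712 k)) 3824 = true := by decide +kernel
theorem c0c14 : allBelow (fun k => fc0 (Nat.add 53536 k)) 3824 = true := by decide +kernel
theorem c0c15 : allBelow (fun k => fc0 (Nat.add 57360 k)) 3824 = true := by decide +kernel
theorem c0c16 : allBelow (fun k => fc0 (Nat.add 61184 k)) 3824 = true := by decide +kernel
theorem c0c17 : allBelow (fun k => fc0 (Nat.add 65008 k)) 3824 = true := by decide +kernel
theorem c0c18 : allBelow (fun k => fc0 (Nat.add 68832 k)) 3824 = true := by decide +kernel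
theorem c0c19 : allBelow (fun k => fc0 (Nat.add 72656 k)) 3824 = true := by decide +kernel
theorem c0c20 : allBelow (fun k => fc0 (Nat.add 76480 k)) 3824 = true := by decide +kernel
theorem c0c21 : allBelow (fun k => fc0 (Nat.add 80304 k)) 3824 = true := by decide +kernel
theorem c0c22 : allBelow (fun k => fc0 (Nat.add 84128 k)) 3824 = true := by decide +kernel
theorem c0c23 : allBelow (fun k => fc0 (Nat.add 87952 k)) 3824 = true := by decide +kernel
theorem c0c24 : allBelow (fun k => fc0 (Nat.add 91776 k)) 3824 = true := by decide +kernel
theorem c0c25 : allBelow (fun k => fc0 (Nat.add 95600 k)) 3824 = true := by decide +kernel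
theorem c0c26 : allBelow (fun k => fc0 (Nat.add 99424 k)) 3824 = true := by decide +kernel
theorem c0c27 : allBelow (fun k => fc0 (Nat.add 103248 k)) 3824 = true := by decide +kernel
theorem c0c28 : allBelow (fun k => fc0 (Nat.add 107072 k)) 3824 = true := by decide +kernel
theorem c0c29 : allBelow (fun k => fc0 (Nat.add 110896 k)) 3824 = true := by decide +kernel
theorem c0c30 : allBelow (fun k => fc0 (Nat.add 114720 k)) 3824 = true := by decide +kernel
theorem c0c31 : allBelow (fun k => fc0 (Nat.add 118544 k)) 3824 = true := by decide +kernel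
theorem c0c32 : allBelow (fun k => fc0 (Nat.add 122368 k)) 392 = true := by decide +kernel
theorem c1c0 : allBelow (fun k => fc1 (Nat.add 0 k)) 3824 = true := by decide +kernel
theorem c1c1 : allBelow (fun k => fc1 (Nat.add 3824 k)) 3824 = true := by decide +kernel
theorem c1c2 : allBelow (fun k => fc1 (Nat.add 7648 k)) 3824 = true := by decide +kernel
theorem c1c3 : allBelow (fun k => fc1 (Nat.add 11472 k)) 3824 = true := by decide +kernel
theorem c1c4 : allBelow (fun k => fc1 (Nat.add 15296 k)) 3824 = true := by decide +kernel
theorem c1c5 : allBelow (fun k => fc1 (Nat.add 19120 k)) 3824 = true := by decide +kernel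
theorem c1c6 : allBelow (fun k => fc1 (Nat.add 22944 k)) 3824 = true := by decide +kernel
theorem c1c7 : allBelow (fun k => fc1 (Nat.add 26768 k)) 3824 = true := by decide +kernel
theorem c1c8 : allBelow (fun k => fc1 (Nat.add 30592 k)) 3824 = true := by decide +kernel
theorem c1c9 : allBelow (fun k => fc1 (Nat.add 34416 k)) 3824 = true := by decide +kernel
theorem c1c10 : allBelow (fun k => fc1 (Nat.add 38240 k)) 3824 = true := by decide +kernel
theorem c1c11 : allBelow (fun k => fc1 (Nat.add 42064 k)) 3824 = true := by decide +kernel
theorem c1c12 : allBelow (fun k => fc1 (Nat.add 45888 k)) 3824 = true := by decide +kernel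
theorem c1c13 : allBelow (fun k => fc1 (Nat.add 49712 k)) 3824 = true := by decide +kernel
theorem c1c14 : allBelow (fun k => fc1 (Nat.add 53536 k)) 3824 = true := by decide +kernel
theorem c1c15 : allBelow (fun k => fc1 (Nat.add 57360 k)) 3824 = true := by decide +kernel
theorem c1c16 : allBelow (fun k => fc1 (Nat.add 61184 k)) 3824 = true := by decide +kernel
theorem c1c17 : allBelow (fun k => fc1 (Nat.add 65008 k)) 3824 = true := by decide +kernel
theorem c1c18 : allBelow (fun k => fc1 (Nat.add 68832 k)) 3824 = true := by decide +kernel
theorem c1c19 : allBelow (fun k => fc1 (Nat.add 72656 k)) 3824 = true := by decide +kernel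
theorem c1c20 : allBelow (fun k => fc1 (Nat.add 76480 k)) 3824 = true := by decide +kernel
theorem c1c21 : allBelow (fun k => fc1 (Nat.add 80304 k)) 3824 = true := by decide +kernel
theorem c1c22 : allBelow (fun k => fc1 (Nat.add 84128 k)) 3824 = true := by decide +kernel
theorem c1c23 : allBelow (fun k => fc1 (Nat.add 87952 k)) 3824 = true := by decide +kernel
theorem c1c24 : allBelow (fun k => fc1 (Nat.add 91776 k)) 3824 = true := by decide +kernel
theorem c1c25 : allBelow (fun k => fc1 (Nat.add 95600 k)) 3824 = true := by decide +kernel
theorem c1c26 : allBelow (fun k => fc1 (Nat.add 99424 k)) 3824 = true := by decide +kernel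
theorem c1c27 : allBelow (fun k => fc1 (Nat.add 103248 k)) 3824 = true := by decide +kernel
theorem c1c28 : allBelow (fun k => fc1 (Nat.add 107072 k)) 3824 = true := by decide +kernel
theorem c1c29 : allBelow (fun k => fc1 (Nat.add 110896 k)) 3824 = true := by decide +kernel
theorem c1c30 : allBelow (fun k => fc1 (Nat.add 114720 k)) 3824 = true := by decide +kernel
theorem c1c31 : allBelow (fun k => fc1 (Nat.add 118544 k)) 3824 = true := by decide +kernel
theorem c1c32 : allBelow (fun k => fc1 (Nat.add 122368 k)) 392 = true := by decide +kernel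
theorem c2c0 : allBelow (fun k => fc2 (Nat.add 0 k)) 3824 = true := by decide +kernel
theorem c2c1 : allBelow (fun k => fc2 (Nat.add 3824 k)) 3824 = true := by decide +kernel
theorem c2c2 : allBelow (fun k => fc2 (Nat.add 7648 k)) 3824 = true := by decide +kernel
theorem c2c3 : allBelow (fun k => fc2 (Nat.add 11472 k)) 3824 = true := by decide +kernel
theorem c2c4 : allBelow (fun k => fc2 (Nat.add 15296 k)) 3824 = true := by decide +kernel
theorem c2c5 : allBelow (fun k => fc2 (Nat.add 19120 k)) 3824 = true := by decide +kernel
theorem c2c6 : allBelow (fun k => fc2 (Nat.add 22944 k)) 3824 = true := by decide +kernel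
theorem c2c7 : allBelow (fun k => fc2 (Nat.add 26768 k)) 3824 = true := by decide +kernel
theorem c2c8 : allBelow (fun k => fc2 (Nat.add 30592 k)) 3824 = true := by decide +kernel
theorem c2c9 : allBelow (fun k => fc2 (Nat.add 34416 k)) 3824 = true := by decide +kernel
theorem c2c10 : allBelow (fun k => fc2 (Nat.add 38240 k)) 3824 = true := by decide +kernel
theorem c2c11 : allBelow (fun k => fc2 (Nat.add 42064 k)) 3824 = true := by decide +kernel
theorem c2c12 : allBelow (fun k => fc2 (Nat.add 45888 k)) 3824 = true := by decide +kernel
theorem c2c13 : allBelow (fun k => fc2 (Nat.add 49712 k)) 3824 = true := by decide +kernel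
theorem c2c14 : allBelow (fun k => fc2 (Nat.add 53536 k)) 3824 = true := by decide +kernel
theorem c2c15 : allBelow (fun k => fc2 (Nat.add 57360 k)) 3824 = true := by decide +kernel
theorem c2c16 : allBelow (fun k => fc2 (Nat.add 61184 k)) 3824 = true := by decide +kernel
theorem c2c17 : allBelow (fun k => fc2 (Nat.add 65008 k)) 3824 = true := by decide +kernel
theorem c2c18 : allBelow (fun k => fc2 (Nat.add 68832 k)) 3824 = true := by decide +kernel
theorem c2c19 : allBelow (fun k => fc2 (Nat.add 72656 k)) 3824 = true := by decide +kernel
theorem c2c20 : allBelow (fun k => fc2 (Nat.add 76480 k)) 3824 = true := by decide +kernel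
theorem c2c21 : allBelow (fun k => fc2 (Nat.add 80304 k)) 3824 = true := by decide +kernel
theorem c2c22 : allBelow (fun k => fc2 (Nat.add 84128 k)) 3824 = true := by decide +kernel
theorem c2c23 : allBelow (fun k => fc2 (Nat.add 87952 k)) 3824 = true := by decide +kernel
theorem c2c24 : allBelow (fun k => fc2 (Nat.add 91776 k)) 3824 = true := by decide +kernel
theorem c2c25 : allBelow (fun k => fc2 (Nat.add 95600 k)) 3824 = true := by decide +kernel
theorem c2c26 : allBelow (fun k => fc2 (Nat.add 99424 k)) 3824 = true := by decide +kernel
theorem c2c27 : allBelow (fun k => fc2 (Nat.add 103248 k)) 3824 = true := by decide +kernel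
theorem c2c28 : allBelow (fun k => fc2 (Nat.add 107072 k)) 3824 = true := by decide +kernel
theorem c2c29 : allBelow (fun k => fc2 (Nat.add 110896 k)) 3824 = true := by decide +kernel
theorem c2c30 : allBelow (fun k => fc2 (Nat.add 114720 k)) 3824 = true := by decide +kernel
theorem c2c31 : allBelow (fun k => fc2 (Nat.add 118544 k)) 3824 = true := by decide +kernel
theorem c2c32 : allBelow (fun k => fc2 (Nat.add 122368 k)) 392 = true := by decide +kernel
theorem c3c0 : allBelow (fun k => fc3 (Nat.add 0 k)) 3824 = true := by decide +kernel
theorem c3c1 : allBelow (fun k => fc3 (Nat.add 3824 k)) 3824 = true := by decide +kernel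
theorem c3c2 : allBelow (fun k => fc3 (Nat.add 7648 k)) 3824 = true := by decide +kernel
theorem c3c3 : allBelow (fun k => fc3 (Nat.add 11472 k)) 3824 = true := by decide +kernel
theorem c3c4 : allBelow (fun k => fc3 (Nat.add 15296 k)) 3824 = true := by decide +kernel
theorem c3c5 : allBelow (fun k => fc3 (Nat.add 19120 k)) 3824 = true := by decide +kernel
theorem c3c6 : allBelow (fun k => fc3 (Nat.add 22944 k)) 3824 = true := by decide +kernel
theorem c3c7 : allBelow (fun k => fc3 (Nat.add 26768 k)) 3824 = true := by decide +kernel
theorem c3c8 : allBelow (fun k => fc3 (Nat.add 30592 k)) 3824 = true := by decide +kernel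
theorem c3c9 : allBelow (fun k => fc3 (Nat.add 34416 k)) 3824 = true := by decide +kernel
theorem c3c10 : allBelow (fun k => fc3 (Nat.add 38240 k)) 3824 = true := by decide +kernel
theorem c3c11 : allBelow (fun k => fc3 (Nat.add 42064 k)) 3824 = true := by decide +kernel
theorem c3c12 : allBelow (fun k => fc3 (Nat.add 45888 k)) 3824 = true := by decide +kernel
theorem c3c13 : allBelow (fun k => fc3 (Nat.add 49712 k)) 3824 = true := by decide +kernel
theorem c3c14 : allBelow (fun k => fc3 (Nat.add 53536 k)) 3824 = true := by decide +kernel
theorem c3c15 : allBelow (fun k => fc3 (Nat.add 57360 k)) 3824 = true := by decide +kernel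
theorem c3c16 : allBelow (fun k => fc3 (Nat.add 61184 k)) 3824 = true := by decide +kernel
theorem c3c17 : allBelow (fun k => fc3 (Nat.add 65008 k)) 3824 = true := by decide +kernel
theorem c3c18 : allBelow (fun k => fc3 (Nat.add 68832 k)) 3824 = true := by decide +kernel
theorem c3c19 : allBelow (fun k => fc3 (Nat.add 72656 k)) 3824 = true := by decide +kernel
theorem c3c20 : allBelow (fun k => fc3 (Nat.add 76480 k)) 3824 = true := by decide +kernel
theorem c3c21 : allBelow (fun k => fc3 (Nat.add 80304 k)) 3824 = true := by decide +kernel
theorem c3c22 : allBelow (fun k => fc3 (Nat.add 84128 k)) 3824 = true := by decide +kernel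
theorem c3c23 : allBelow (fun k => fc3 (Nat.add 87952 k)) 3824 = true := by decide +kernel
theorem c3c24 : allBelow (fun k => fc3 (Nat.add 91776 k)) 3824 = true := by decide +kernel
theorem c3c25 : allBelow (fun k => fc3 (Nat.add 95600 k)) 3824 = true := by decide +kernel
theorem c3c26 : allBelow (fun k => fc3 (Nat.add 99424 k)) 3824 = true := by decide +kernel
theorem c3c27 : allBelow (fun k => fc3 (Nat.add 103248 k)) 3824 = true := by decide +kernel
theorem c3c28 : allBelow (fun k => fc3 (Nat.add 107072 k)) 3824 = true := by decide +kernel
theorem c3c29 : allBelow (fun k => fc3 (Nat.add 110896 k)) 3824 = true := by decide +kernel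
theorem c3c30 : allBelow (fun k => fc3 (Nat.add 114720 k)) 3824 = true := by decide +kernel
theorem c3c31 : allBelow (fun k => fc3 (Nat.add 118544 k)) 3824 = true := by decide +kernel
theorem c3c32 : allBelow (fun k => fc3 (Nat.add 122368 k)) 392 = true := by decide +kernel
theorem c4c0 : allBelow (fun k => fc4 (Nat.add 0 k)) 3824 = true := by decide +kernel
theorem c4c1 : allBelow (fun k => fc4 (Nat.add 3824 k)) 3824 = true := by decide +kernel
theorem c4c2 : allBelow (fun k => fc4 (Nat.add 7648 k)) 3824 = true := by decide +kernel
theorem c4c3 : allBelow (fun k => fc4 (Nat.add 11472 k)) 3824 = true := by decide +kernel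
theorem c4c4 : allBelow (fun k => fc4 (Nat.add 15296 k)) 3824 = true := by decide +kernel
theorem c4c5 : allBelow (fun k => fc4 (Nat.add 19120 k)) 3824 = true := by decide +kernel
theorem c4c6 : allBelow (fun k => fc4 (Nat.add 22944 k)) 3824 = true := by decide +kernel
theorem c4c7 : allBelow (fun k => fc4 (Nat.add 26768 k)) 3824 = true := by decide +kernel
theorem c4c8 : allBelow (fun k => fc4 (Nat.add 30592 k)) 3824 = true := by decide +kernel
theorem c4c9 : allBelow (fun k => fc4 (Nat.add 34416 k)) 3824 = true := by decide +kernel
theorem c4c10 : allBelow (fun k => fc4 (Nat.add 38240 k)) 3824 = true := by decide +kernel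
theorem c4c11 : allBelow (fun k => fc4 (Nat.add 42064 k)) 3824 = true := by decide +kernel
theorem c4c12 : allBelow (fun k => fc4 (Nat.add 45888 k)) 3824 = true := by decide +kernel
theorem c4c13 : allBelow (fun k => fc4 (Nat.add 49712 k)) 3824 = true := by decide +kernel
theorem c4c14 : allBelow (fun k => fc4 (Nat.add 53536 k)) 3824 = true := by decide +kernel
theorem c4c15 : allBelow (fun k => fc4 (Nat.add 57360 k)) 3824 = true := by decide +kernel
theorem c4c16 : allBelow (fun k => fc4 (Nat.add 61184 k)) 3824 = true := by decide +kernel
theorem c4c17 : allBelow (fun k => fc4 (Nat.add 65008 k)) 3824 = true := by decide +kernel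
theorem c4c18 : allBelow (fun k => fc4 (Nat.add 68832 k)) 3824 = true := by decide +kernel
theorem c4c19 : allBelow (fun k => fc4 (Nat.add 72656 k)) 3824 = true := by decide +kernel
theorem c4c20 : allBelow (fun k => fc4 (Nat.add 76480 k)) 3824 = true := by decide +kernel
theorem c4c21 : allBelow (fun k => fc4 (Nat.add 80304 k)) 3824 = true := by decide +kernel
theorem c4c22 : allBelow (fun k => fc4 (Nat.add 84128 k)) 3824 = true := by decide +kernel
theorem c4c23 : allBelow (fun k => fc4 (Nat.add 87952 k)) 3824 = true := by decide +kernel
theorem c4c24 : allBelow (fun k => fc4 (Nat.add 91776 k)) 3824 = true := by decide +kernel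
theorem c4c25 : allBelow (fun k => fc4 (Nat.add 95600 k)) 3824 = true := by decide +kernel
theorem c4c26 : allBelow (fun k => fc4 (Nat.add 99424 k)) 3824 = true := by decide +kernel
theorem c4c27 : allBelow (fun k => fc4 (Nat.add 103248 k)) 3824 = true := by decide +kernel
theorem c4c28 : allBelow (fun k => fc4 (Nat.add 107072 k)) 3824 = true := by decide +kernel
theorem c4c29 : allBelow (fun k => fc4 (Nat.add 110896 k)) 3824 = true := by decide +kernel
theorem c4c30 : allBelow (fun k => fc4 (Nat.add 114720 k)) 3824 = true := by decide +kernel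
theorem c4c31 : allBelow (fun k => fc4 (Nat.add 118544 k)) 3824 = true := by decide +kernel
theorem c4c32 : allBelow (fun k => fc4 (Nat.add 122368 k)) 392 = true := by decide +kernel
theorem c5c0 : allBelow (fun k => fc5 (Nat.add 0 k)) 3824 = true := by decide +kernel
theorem c5c1 : allBelow (fun k => fc5 (Nat.add 3824 k)) 3824 = true := by decide +kernel
theorem c5c2 : allBelow (fun k => fc5 (Nat.add 7648 k)) 3824 = true := by decide +kernel
theorem c5c3 : allBelow (fun k => fc5 (Nat.add 11472 k)) 3824 = true := by decide +kernel
theorem c5c4 : allBelow (fun k => fc5 (Nat.add 15296 k)) 3824 = true := by decide +kernel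
theorem c5c5 : allBelow (fun k => fc5 (Nat.add 19120 k)) 3824 = true := by decide +kernel
theorem c5c6 : allBelow (fun k => fc5 (Nat.add 22944 k)) 3824 = true := by decide +kernel
theorem c5c7 : allBelow (fun k => fc5 (Nat.add 26768 k)) 3824 = true := by decide +kernel
theorem c5c8 : allBelow (fun k => fc5 (Nat.add 30592 k)) 3824 = true := by decide +kernel
theorem c5c9 : allBelow (fun k => fc5 (Nat.add 34416 k)) 3824 = true := by decide +kernel
theorem c5c10 : allBelow (fun k => fc5 (Nat.add 38240 k)) 3824 = true := by decide +kernel
theorem c5c11 : allBelow (fun k => fc5 (Nat.add 42064 k)) 3824 = true := by decide +kernel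
theorem c5c12 : allBelow (fun k => fc5 (Nat.add 45888 k)) 3824 = true := by decide +kernel
theorem c5c13 : allBelow (fun k => fc5 (Nat.add 49712 k)) 3824 = true := by decide +kernel
theorem c5c14 : allBelow (fun k => fc5 (Nat.add 53536 k)) 3824 = true := by decide +kernel
theorem c5c15 : allBelow (fun k => fc5 (Nat.add 57360 k)) 3824 = true := by decide +kernel
theorem c5c16 : allBelow (fun k => fc5 (Nat.add 61184 k)) 3824 = true := by decide +kernel
theorem c5c17 : allBelow (fun k => fc5 (Nat.add 65008 k)) 3824 = true := by decide +kernel
theorem c5c18 : allBelow (fun k => fc5 (Nat.add 68832 k)) 3824 = true := by decide +kernel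
theorem c5c19 : allBelow (fun k => fc5 (Nat.add 72656 k)) 3824 = true := by decide +kernel
theorem c5c20 : allBelow (fun k => fc5 (Nat.add 76480 k)) 3824 = true := by decide +kernel
theorem c5c21 : allBelow (fun k => fc5 (Nat.add 80304 k)) 3824 = true := by decide +kernel
theorem c5c22 : allBelow (fun k => fc5 (Nat.add 84128 k)) 3824 = true := by decide +kernel
theorem c5c23 : allBelow (fun k => fc5 (Nat.add 87952 k)) 3824 = true := by decide +kernel
theorem c5c24 : allBelow (fun k => fc5 (Nat.add 91776 k)) 3824 = true := by decide +kernel
theorem c5c25 : allBelow (fun k => fc5 (Nat.add 95600 k)) 3824 = true := by decide +kernel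
theorem c5c26 : allBelow (fun k => fc5 (Nat.add 99424 k)) 3824 = true := by decide +kernel
theorem c5c27 : allBelow (fun k => fc5 (Nat.add 103248 k)) 3824 = true := by decide +kernel
theorem c5c28 : allBelow (fun k => fc5 (Nat.add 107072 k)) 3824 = true := by decide +kernel
theorem c5c29 : allBelow (fun k => fc5 (Nat.add 110896 k)) 3824 = true := by decide +kernel
theorem c5c30 : allBelow (fun k => fc5 (Nat.add 114720 k)) 3824 = true := by decide +kernel
theorem c5c31 : allBelow (fun k => fc5 (Nat.add 118544 k)) 3824 = true := by decide +kernel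
theorem c5c32 : allBelow (fun k => fc5 (Nat.add 122368 k)) 392 = true := by decide +kernel
theorem c6c0 : allBelow (fun k => fc6 (Nat.add 0 k)) 3824 = true := by decide +kernel
theorem c6c1 : allBelow (fun k => fc6 (Nat.add 3824 k)) 3824 = true := by decide +kernel
theorem c6c2 : allBelow (fun k => fc6 (Nat.add 7648 k)) 3824 = true := by decide +kernel
theorem c6c3 : allBelow (fun k => fc6 (Nat.add 11472 k)) 3824 = true := by decide +kernel
theorem c6c4 : allBelow (fun k => fc6 (Nat.add 15296 k)) 3824 = true := by decide +kernel
theorem c6c5 : allBelow (fun k => fc6 (Nat.add 19120 k)) 3824 = true := by decide +kernel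
theorem c6c6 : allBelow (fun k => fc6 (Nat.add 22944 k)) 3824 = true := by decide +kernel
theorem c6c7 : allBelow (fun k => fc6 (Nat.add 26768 k)) 3824 = true := by decide +kernel
theorem c6c8 : allBelow (fun k => fc6 (Nat.add 30592 k)) 3824 = true := by decide +kernel
theorem c6c9 : allBelow (fun k => fc6 (Nat.add 34416 k)) 3824 = true := by decide +kernel
theorem c6c10 : allBelow (fun k => fc6 (Nat.add 38240 k)) 3824 = true := by decide +kernel
theorem c6c11 : allBelow (fun k => fc6 (Nat.add 42064 k)) 3824 = true := by decide +kernel
theorem c6c12 : allBelow (fun k => fc6 (Nat.add 45888 k)) 3824 = true := by decide +kernel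
theorem c6c13 : allBelow (fun k => fc6 (Nat.add 49712 k)) 3824 = true := by decide +kernel
theorem c6c14 : allBelow (fun k => fc6 (Nat.add 53536 k)) 3824 = true := by decide +kernel
theorem c6c15 : allBelow (fun k => fc6 (Nat.add 57360 k)) 3824 = true := by decide +kernel
theorem c6c16 : allBelow (fun k => fc6 (Nat.add 61184 k)) 3824 = true := by decide +kernel
theorem c6c17 : allBelow (fun k => fc6 (Nat.add 65008 k)) 3824 = true := by decide +kernel
theorem c6c18 : allBelow (fun k => fc6 (Nat.add 68832 k)) 3824 = true := by decide +kernel
theorem c6c19 : allBelow (fun k => fc6 (Nat.add 72656 k)) 3824 = true := by decide +kernel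
theorem c6c20 : allBelow (fun k => fc6 (Nat.add 76480 k)) 3824 = true := by decide +kernel
theorem c6c21 : allBelow (fun k => fc6 (Nat.add 80304 k)) 3824 = true := by decide +kernel
theorem c6c22 : allBelow (fun k => fc6 (Nat.add 84128 k)) 3824 = true := by decide +kernel
theorem c6c23 : allBelow (fun k => fc6 (Nat.add 87952 k)) 3824 = true := by decide +kernel
theorem c6c24 : allBelow (fun k => fc6 (Nat.add 91776 k)) 3824 = true := by decide +kernel
theorem c6c25 : allBelow (fun k => fc6 (Nat.add 95600 k)) 3824 = true := by decide +kernel
theorem c6c26 : allBelow (fun k => fc6 (Nat.add 99424 k)) 3824 = true := by decide +kernel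
theorem c6c27 : allBelow (fun k => fc6 (Nat.add 103248 k)) 3824 = true := by decide +kernel
theorem c6c28 : allBelow (fun k => fc6 (Nat.add 107072 k)) 3824 = true := by decide +kernel
theorem c6c29 : allBelow (fun k => fc6 (Nat.add 110896 k)) 3824 = true := by decide +kernel
theorem c6c30 : allBelow (fun k => fc6 (Nat.add 114720 k)) 3824 = true := by decide +kernel
theorem c6c31 : allBelow (fun k => fc6 (Nat.add 118544 k)) 3824 = true := by decide +kernel
theorem c6c32 : allBelow (fun k => fc6 (Nat.add 122368 k)) 392 = true := by decide +kernel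
theorem c7c0 : allBelow (fun k => fc7 (Nat.add 0 k)) 3824 = true := by decide +kernel
theorem c7c1 : allBelow (fun k => fc7 (Nat.add 3824 k)) 3824 = true := by decide +kernel
theorem c7c2 : allBelow (fun k => fc7 (Nat.add 7648 k)) 3824 = true := by decide +kernel
theorem c7c3 : allBelow (fun k => fc7 (Nat.add 11472 k)) 3824 = true := by decide +kernel
theorem c7c4 : allBelow (fun k => fc7 (Nat.add 15296 k)) 3824 = true := by decide +kernel
theorem c7c5 : allBelow (fun k => fc7 (Nat.add 19120 k)) 3824 = true := by decide +kernel
theorem c7c6 : allBelow (fun k => fc7 (Nat.add 22944 k)) 3824 = true := by decide +kernel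
theorem c7c7 : allBelow (fun k => fc7 (Nat.add 26768 k)) 3824 = true := by decide +kernel
theorem c7c8 : allBelow (fun k => fc7 (Nat.add 30592 k)) 3824 = true := by decide +kernel
theorem c7c9 : allBelow (fun k => fc7 (Nat.add 34416 k)) 3824 = true := by decide +kernel
theorem c7c10 : allBelow (fun k => fc7 (Nat.add 38240 k)) 3824 = true := by decide +kernel
theorem c7c11 : allBelow (fun k => fc7 (Nat.add 42064 k)) 3824 = true := by decide +kernel
theorem c7c12 : allBelow (fun k => fc7 (Nat.add 45888 k)) 3824 = true := by decide +kernel
theorem c7c13 : allBelow (fun k => fc7 (Nat.add 49712 k)) 3824 = true := by decide +kernel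
theorem c7c14 : allBelow (fun k => fc7 (Nat.add 53536 k)) 3824 = true := by decide +kernel
theorem c7c15 : allBelow (fun k => fc7 (Nat.add 57360 k)) 3824 = true := by decide +kernel
theorem c7c16 : allBelow (fun k => fc7 (Nat.add 61184 k)) 3824 = true := by decide +kernel
theorem c7c17 : allBelow (fun k => fc7 (Nat.add 65008 k)) 3824 = true := by decide +kernel
theorem c7c18 : allBelow (fun k => fc7 (Nat.add 68832 k)) 3824 = true := by decide +kernel
theorem c7c19 : allBelow (fun k => fc7 (Nat.add 72656 k)) 3824 = true := by decide +kernel
theorem c7c20 : allBelow (fun k => fc7 (Nat.add 76480 k)) 3824 = true := by decide +kernel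
theorem c7c21 : allBelow (fun k => fc7 (Nat.add 80304 k)) 3824 = true := by decide +kernel
theorem c7c22 : allBelow (fun k => fc7 (Nat.add 84128 k)) 3824 = true := by decide +kernel
theorem c7c23 : allBelow (fun k => fc7 (Nat.add 87952 k)) 3824 = true := by decide +kernel
theorem c7c24 : allBelow (fun k => fc7 (Nat.add 91776 k)) 3824 = true := by decide +kernel
theorem c7c25 : allBelow (fun k => fc7 (Nat.add 95600 k)) 3824 = true := by decide +kernel
theorem c7c26 : allBelow (fun k => fc7 (Nat.add 99424 k)) 3824 = true := by decide +kernel
theorem c7c27 : allBelow (fun k => fc7 (Nat.add 103248 k)) 3824 = true := by decide +kernel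
theorem c7c28 : allBelow (fun k => fc7 (Nat.add 107072 k)) 3824 = true := by decide +kernel
theorem c7c29 : allBelow (fun k => fc7 (Nat.add 110896 k)) 3824 = true := by decide +kernel
theorem c7c30 : allBelow (fun k => fc7 (Nat.add 114720 k)) 3824 = true := by decide +kernel
theorem c7c31 : allBelow (fun k => fc7 (Nat.add 118544 k)) 3824 = true := by decide +kernel
theorem c7c32 : allBelow (fun k => fc7 (Nat.add 122368 k)) 392 = true := by decide +kernel
theorem tc0 : allBelow (fun k => ft (Nat.add (Nat.succ 0) k)) 2549 = true := by decide +kernel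
theorem tc1 : allBelow (fun k => ft (Nat.add (Nat.succ 2549) k)) 2549 = true := by decide +kernel
theorem tc2 : allBelow (fun k => ft (Nat.add (Nat.succ 5098) k)) 2549 = true := by decide +kernel
theorem tc3 : allBelow (fun k => ft (Nat.add (Nat.succ 7647) k)) 2549 = true := by decide +kernel
theorem tc4 : allBelow (fun k => ft (Nat.add (Nat.succ 10196) k)) 2549 = true := by decide +kernel
theorem tc5 : allBelow (fun k => ft (Nat.add (Nat.succ 12745) k)) 2549 = true := by decide +kernel
theorem tc6 : allBelow (fun k => ft (Nat.add (Nat.succ 15294) k)) 2549 = true := by decide +kernel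
theorem tc7 : allBelow (fun k => ft (Nat.add (Nat.succ 17843) k)) 2549 = true := by decide +kernel
theorem tc8 : allBelow (fun k => ft (Nat.add (Nat.succ 20392) k)) 2549 = true := by decide +kernel
theorem tc9 : allBelow (fun k => ft (Nat.add (Nat.succ 22941) k)) 2549 = true := by decide +kernel
theorem tc10 : allBelow (fun k => ft (Nat.add (Nat.succ 25490) k)) 2549 = true := by decide +kernel
theorem tc11 : allBelow (fun k => ft (Nat.add (Nat.succ 28039) k)) 2549 = true := by decide +kernel
theorem tc12 : allBelow (fun k => ft (Nat.add (Nat.succ 30588) k)) 2549 = true := by decide +kernel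
theorem tc13 : allBelow (fun k => ft (Nat.add (Nat.succ 33137) k)) 2549 = true := by decide +kernel
theorem tc14 : allBelow (fun k => ft (Nat.add (Nat.succ 35686) k)) 2549 = true := by decide +kernel
theorem tc15 : allBelow (fun k => ft (Nat.add (Nat.succ 38235) k)) 2549 = true := by decide +kernel
theorem tc16 : allBelow (fun k => ft (Nat.add (Nat.succ 40784) k)) 2549 = true := by decide +kernel
theorem tc17 : allBelow (fun k => ft (Nat.add (Nat.succ 43333) k)) 2549 = true := by decide +kernel
theorem tc18 : allBelow (fun k => ft (Nat.add (Nat.succ 45882) k)) 2549 = true := by decide +kernel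
theorem tc19 : allBelow (fun k => ft (Nat.add (Nat.succ 48431) k)) 2549 = true := by decide +kernel
theorem tc20 : allBelow (fun k => ft (Nat.add (Nat.succ 50980) k)) 2549 = true := by decide +kernel
theorem tc21 : allBelow (fun k => ft (Nat.add (Nat.succ 53529) k)) 2549 = true := by decide +kernel
theorem tc22 : allBelow (fun k => ft (Nat.add (Nat.succ 56078) k)) 2549 = true := by decide +kernel
theorem tc23 : allBelow (fun k => ft (Nat.add (Nat.succ 58627) k)) 2549 = true := by decide +kernel
theorem tc24 : allBelow (fun k => ft (Nat.add (Nat.succ 61176) k)) 2549 = true := by decide +kernel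
theorem tc25 : allBelow (fun k => ft (Nat.add (Nat.succ 63725) k)) 2549 = true := by decide +kernel
theorem tc26 : allBelow (fun k => ft (Nat.add (Nat.succ 66274) k)) 2549 = true := by decide +kernel
theorem tc27 : allBelow (fun k => ft (Nat.add (Nat.succ 68823) k)) 2549 = true := by decide +kernel
theorem tc28 : allBelow (fun k => ft (Nat.add (Nat.succ 71372) k)) 2549 = true := by decide +kernel
theorem tc29 : allBelow (fun k => ft (Nat.add (Nat.succ 73921) k)) 2549 = true := by decide +kernel
theorem tc30 : allBelow (fun k => ft (Nat.add (Nat.succ 76470) k)) 2549 = true := by decide +kernel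
theorem tc31 : allBelow (fun k => ft (Nat.add (Nat.succ 79019) k)) 2549 = true := by decide +kernel
theorem tc32 : allBelow (fun k => ft (Nat.add (Nat.succ 81568) k)) 2549 = true := by decide +kernel
theorem tc33 : allBelow (fun k => ft (Nat.add (Nat.succ 84117) k)) 2549 = true := by decide +kernel
theorem tc34 : allBelow (fun k => ft (Nat.add (Nat.succ 86666) k)) 2549 = true := by decide +kernel
theorem tc35 : allBelow (fun k => ft (Nat.add (Nat.succ 89215) k)) 2549 = true := by decide +kernel
theorem tc36 : allBelow (fun k => ft (Nat.add (Nat.succ 91764) k)) 2549 = true := by decide +kernel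
theorem tc37 : allBelow (fun k => ft (Nat.add (Nat.succ 94313) k)) 2549 = true := by decide +kernel
theorem tc38 : allBelow (fun k => ft (Nat.add (Nat.succ 96862) k)) 2549 = true := by decide +kernel
theorem tc39 : allBelow (fun k => ft (Nat.add (Nat.succ 99411) k)) 2549 = true := by decide +kernel
theorem tc40 : allBelow (fun k => ft (Nat.add (Nat.succ 101960) k)) 2549 = true := by decide +kernel
theorem tc41 : allBelow (fun k => ft (Nat.add (Nat.succ 104509) k)) 2549 = true := by decide +kernel
theorem tc42 : allBelow (fun k => ft (Nat.add (Nat.succ 107058) k)) 2549 = true := by decide +kernel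
theorem tc43 : allBelow (fun k => ft (Nat.add (Nat.succ 109607) k)) 2549 = true := by decide +kernel
theorem tc44 : allBelow (fun k => ft (Nat.add (Nat.succ 112156) k)) 2549 = true := by decide +kernel

end Cfsg.Agent.Lib.Helper35.ON122760
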