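import Cfsg.Agent.Lib.Helper35.ON122760.PData

set_option Elab.async false

namespace Cfsg.Agent.Lib.Helper35.ON122760

open Cfsg.Agent.Lib.Helper35

theorem tc45 : allBelow (fun k => ft (Nat.add (Nat.succ 114705) k)) 2549 = true := by decide +kernel
theorem tc46 : allBelow (fun k => ft (Nat.add (Nat.succ 117254) k)) 2549 = true := by decide +kernel
theorem tc47 : allBelow (fun k => ft (Nat.add (Nat.succ 119803) k)) 2549 = true := by decide +kernel
theorem tc48 : allBelow (fun k => ft (Nat.add (Nat.succ 122352) k)) 407 = true := by decide +kernel
theorem oc0 : allBelow (fun k => fo (Nat.add 0 k)) 212 = true := by decide +kernel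
theorem oc1 : allBelow (fun k => fo (Nat.add 212 k)) 212 = true := by decide +kernel
theorem oc2 : allBelow (fun k => fo (Nat.add 424 k)) 212 = true := by decide +kernel
theorem oc3 : allBelow (fun k => fo (Nat.add 636 k)) 212 = true := by decide +kernel
theorem oc4 : allBelow (fun k => fo (Nat.add 848 k)) 212 = true := by decide +kernel
theorem oc5 : allBelow (fun k => fo (Nat.add 1060 k)) 212 = true := by decide +kernel
theorem oc6 : allBelow (fun k => fo (Nat.add 1272 k)) 212 = true := by decide +kernel
theorem oc7 : allBelow (fun k => fo (Nat.add 1484 k)) 212 = true := by decide +kernel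
theorem oc8 : allBelow (fun k => fo (Nat.add 1696 k)) 212 = true := by decide +kernel
theorem oc9 : allBelow (fun k => fo (Nat.add 1908 k)) 212 = true := by decide +kernel
theorem oc10 : allBelow (fun k => fo (Nat.add 2120 k)) 212 = true := by decide +kernel
theorem oc11 : allBelow (fun k => fo (Nat.add 2332 k)) 212 = true := by decide +kernel
theorem oc12 : allBelow (fun k => fo (Nat.add 2544 k)) 212 = true := by decide +kernel
theorem oc13 : allBelow (fun k => fo (Nat.add 2756 k)) 212 = true := by decide +kernel
theorem oc14 : allBelow (fun k => fo (Nat.add 2968 k)) 212 = true := by decide +kernel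
theorem oc15 : allBelow (fun k => fo (Nat.add 3180 k)) 212 = true := by decide +kernel
theorem oc16 : allBelow (fun k => fo (Nat.add 3392 k)) 212 = true := by decide +kernel
theorem oc17 : allBelow (fun k => fo (Nat.add 3604 k)) 212 = true := by decide +kernel
theorem oc18 : allBelow (fun k => fo (Nat.add 3816 k)) 212 = true := by decide +kernel
theorem oc19 : allBelow (fun k => fo (Nat.add 4028 k)) 212 = true := by decide +kernel
theorem oc20 : allBelow (fun k => fo (Nat.add 4240 k)) 212 = true := by decide +kernel
theorem oc21 : allBelow (fun k => fo (Nat.add 4452 k)) 212 = true := by decide +kernel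
theorem oc22 : allBelow (fun k => fo (Nat.add 4664 k)) 212 = true := by decide +kernel
theorem oc23 : allBelow (fun k => fo (Nat.add 4876 k)) 212 = true := by decide +kernel
theorem oc24 : allBelow (fun k => fo (Nat.add 5088 k)) 212 = true := by decide +kernel
theorem oc25 : allBelow (fun k => fo (Nat.add 5300 k)) 212 = true := by decide +kernel
theorem oc26 : allBelow (fun k => fo (Nat.add 5512 k)) 212 = true := by decide +kernel
theorem oc27 : allBelow (fun k => fo (Nat.add 5724 k)) 212 = true := by decide +kernel
theorem oc28 : allBelow (fun k => fo (Nat.add 5936 k)) 212 = true := by decide +kernel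
theorem oc29 : allBelow (fun k => fo (Nat.add 6148 k)) 212 = true := by decide +kernel
theorem oc30 : allBelow (fun k => fo (Nat.add 6360 k)) 212 = true := by decide +kernel
theorem oc31 : allBelow (fun k => fo (Nat.add 6572 k)) 212 = true := by decide +kernel
theorem oc32 : allBelow (fun k => fo (Nat.add 6784 k)) 212 = true := by decide +kernel
theorem oc33 : allBelow (fun k => fo (Nat.add 6996 k)) 212 = true := by decide +kernel
theorem oc34 : allBelow (fun k => fo (Nat.add 7208 k)) 212 = true := by decide +kernel
theorem oc35 : allBelow (fun k => fo (Nat.add 7420 k)) 212 = true := by decide +kernel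
theorem oc36 : allBelow (fun k => fo (Nat.add 7632 k)) 212 = true := by decide +kernel
theorem oc37 : allBelow (fun k => fo (Nat.add 7844 k)) 212 = true := by decide +kernel
theorem oc38 : allBelow (fun k => fo (Nat.add 8056 k)) 212 = true := by decide +kernel
theorem oc39 : allBelow (fun k => fo (Nat.add 8268 k)) 212 = true := by decide +kernel
theorem oc40 : allBelow (fun k => fo (Nat.add 8480 k)) 212 = true := by decide +kernel
theorem oc41 : allBelow (fun k => fo (Nat.add 8692 k)) 212 = true := by decide +kernel
theorem oc42 : allBelow (fun k => fo (Nat.add 8904 k)) 212 = true := by decide +kernel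
theorem oc43 : allBelow (fun k => fo (Nat.add 9116 k)) 212 = true := by decide +kernel
theorem oc44 : allBelow (fun k => fo (Nat.add 9328 k)) 212 = true := by decide +kernel
theorem oc45 : allBelow (fun k => fo (Nat.add 9540 k)) 212 = true := by decide +kernel
theorem oc46 : allBelow (fun k => fo (Nat.add 9752 k)) 212 = true := by decide +kernel
theorem oc47 : allBelow (fun k => fo (Nat.add 9964 k)) 212 = true := by decide +kernel
theorem oc48 : allBelow (fun k => fo (Nat.add 10176 k)) 212 = true := by decide +kernel
theorem oc49 : allBelow (fun k => fo (Nat.add 10388 k)) 212 = true := by decide +kernel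
theorem oc50 : allBelow (fun k => fo (Nat.add 10600 k)) 212 = true := by decide +kernel
theorem oc51 : allBelow (fun k => fo (Nat.add 10812 k)) 212 = true := by decide +kernel
theorem oc52 : allBelow (fun k => fo (Nat.add 11024 k)) 212 = true := by decide +kernel
theorem oc53 : allBelow (fun k => fo (Nat.add 11236 k)) 212 = true := by decide +kernel
theorem oc54 : allBelow (fun k => fo (Nat.add 11448 k)) 212 = true := by decide +kernel
theorem oc55 : allBelow (fun k => fo (Nat.add 11660 k)) 212 = true := by decide +kernel
theorem oc56 : allBelow (fun k => fo (Nat.add 11872 k)) 212 = true := by decide +kernel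
theorem oc57 : allBelow (fun k => fo (Nat.add 12084 k)) 212 = true := by decide +kernel
theorem oc58 : allBelow (fun k => fo (Nat.add 12296 k)) 212 = true := by decide +kernel
theorem oc59 : allBelow (fun k => fo (Nat.add 12508 k)) 212 = true := by decide +kernel
theorem oc60 : allBelow (fun k => fo (Nat.add 12720 k)) 212 = true := by decide +kernel
theorem oc61 : allBelow (fun k => fo (Nat.add 12932 k)) 212 = true := by decide +kernel
theorem oc62 : allBelow (fun k => fo (Nat.add 13144 k)) 212 = true := by decide +kernel
theorem oc63 : allBelow (fun k => fo (Nat.add 13356 k)) 212 = true := by decide +kernel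
theorem oc64 : allBelow (fun k => fo (Nat.add 13568 k)) 212 = true := by decide +kernel
theorem oc65 : allBelow (fun k => fo (Nat.add 13780 k)) 212 = true := by decide +kernel
theorem oc66 : allBelow (fun k => fo (Nat.add 13992 k)) 212 = true := by decide +kernel
theorem oc67 : allBelow (fun k => fo (Nat.add 14204 k)) 212 = true := by decide +kernel
theorem oc68 : allBelow (fun k => fo (Nat.add 14416 k)) 212 = true := by decide +kernel
theorem oc69 : allBelow (fun k => fo (Nat.add 14628 k)) 212 = true := by decide +kernel
theorem oc70 : allBelow (fun k => fo (Nat.add 14840 k)) 212 = true := by decide +kernel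
theorem oc71 : allBelow (fun k => fo (Nat.add 15052 k)) 212 = true := by decide +kernel
theorem oc72 : allBelow (fun k => fo (Nat.add 15264 k)) 212 = true := by decide +kernel
theorem oc73 : allBelow (fun k => fo (Nat.add 15476 k)) 212 = true := by decide +kernel
theorem oc74 : allBelow (fun k => fo (Nat.add 15688 k)) 212 = true := by decide +kernel
theorem oc75 : allBelow (fun k => fo (Nat.add 15900 k)) 212 = true := by decide +kernel
theorem oc76 : allBelow (fun k => fo (Nat.add 16112 k)) 212 = true := by decide +kernel
theorem oc77 : allBelow (fun k => fo (Nat.add 16324 k)) 212 = true := by decide +kernel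
theorem oc78 : allBelow (fun k => fo (Nat.add 16536 k)) 212 = true := by decide +kernel
theorem oc79 : allBelow (fun k => fo (Nat.add 16748 k)) 212 = true := by decide +kernel
theorem oc80 : allBelow (fun k => fo (Nat.add 16960 k)) 212 = true := by decide +kernel
theorem oc81 : allBelow (fun k => fo (Nat.add 17172 k)) 212 = true := by decide +kernel
theorem oc82 : allBelow (fun k => fo (Nat.add 17384 k)) 212 = true := by decide +kernel
theorem oc83 : allBelow (fun k => fo (Nat.add 17596 k)) 212 = true := by decide +kernel
theorem oc84 : allBelow (fun k => fo (Nat.add 17808 k)) 212 = true := by decide +kernel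
theorem oc85 : allBelow (fun k => fo (Nat.add 18020 k)) 212 = true := by decide +kernel
theorem oc86 : allBelow (fun k => fo (Nat.add 18232 k)) 212 = true := by decide +kernel
theorem oc87 : allBelow (fun k => fo (Nat.add 18444 k)) 212 = true := by decide +kernel
theorem oc88 : allBelow (fun k => fo (Nat.add 18656 k)) 212 = true := by decide +kernel
theorem oc89 : allBelow (fun k => fo (Nat.add 18868 k)) 212 = true := by decide +kernel
theorem oc90 : allBelow (fun k => fo (Nat.add 19080 k)) 212 = true := by decide +kernel
theorem oc91 : allBelow (fun k => fo (Nat.add 19292 k)) 212 = true := by decide +kernel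
theorem oc92 : allBelow (fun k => fo (Nat.add 19504 k)) 212 = true := by decide +kernel
theorem oc93 : allBelow (fun k => fo (Nat.add 19716 k)) 212 = true := by decide +kernel
theorem oc94 : allBelow (fun k => fo (Nat.add 19928 k)) 212 = true := by decide +kernel
theorem oc95 : allBelow (fun k => fo (Nat.add 20140 k)) 212 = true := by decide +kernel
theorem oc96 : allBelow (fun k => fo (Nat.add 20352 k)) 212 = true := by decide +kernel
theorem oc97 : allBelow (fun k => fo (Nat.add 20564 k)) 212 = true := by decide +kernel
theorem oc98 : allBelow (fun k => fo (Nat.add 20776 k)) 212 = true := by decide +kernel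
theorem oc99 : allBelow (fun k => fo (Nat.add 20988 k)) 212 = true := by decide +kernel
theorem oc100 : allBelow (fun k => fo (Nat.add 21200 k)) 212 = true := by decide +kernel
theorem oc101 : allBelow (fun k => fo (Nat.add 21412 k)) 212 = true := by decide +kernel
theorem oc102 : allBelow (fun k => fo (Nat.add 21624 k)) 212 = true := by decide +kernel
theorem oc103 : allBelow (fun k => fo (Nat.add 21836 k)) 212 = true := by decide +kernel
theorem oc104 : allBelow (fun k => fo (Nat.add 22048 k)) 212 = true := by decide +kernel
theorem oc105 : allBelow (fun k => fo (Nat.add 22260 k)) 212 = true := by decide +kernel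
theorem oc106 : allBelow (fun k => fo (Nat.add 22472 k)) 212 = true := by decide +kernel
theorem oc107 : allBelow (fun k => fo (Nat.add 22684 k)) 212 = true := by decide +kernel
theorem oc108 : allBelow (fun k => fo (Nat.add 22896 k)) 212 = true := by decide +kernel
theorem oc109 : allBelow (fun k => fo (Nat.add 23108 k)) 212 = true := by decide +kernel
theorem oc110 : allBelow (fun k => fo (Nat.add 23320 k)) 212 = true := by decide +kernel
theorem oc111 : allBelow (fun k => fo (Nat.add 23532 k)) 212 = true := by decide +kernel
theorem oc112 : allBelow (fun k => fo (Nat.add 23744 k)) 212 = true := by decide +kernel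
theorem oc113 : allBelow (fun k => fo (Nat.add 23956 k)) 212 = true := by decide +kernel
theorem oc114 : allBelow (fun k => fo (Nat.add 24168 k)) 212 = true := by decide +kernel
theorem oc115 : allBelow (fun k => fo (Nat.add 24380 k)) 212 = true := by decide +kernel
theorem oc116 : allBelow (fun k => fo (Nat.add 24592 k)) 212 = true := by decide +kernel
theorem oc117 : allBelow (fun k => fo (Nat.add 24804 k)) 212 = true := by decide +kernel
theorem oc118 : allBelow (fun k => fo (Nat.add 25016 k)) 212 = true := by decide +kernel
theorem oc119 : allBelow (fun k => fo (Nat.add 25228 k)) 212 = true := by decide +kernel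
theorem oc120 : allBelow (fun k => fo (Nat.add 25440 k)) 212 = true := by decide +kernel
theorem oc121 : allBelow (fun k => fo (Nat.add 25652 k)) 212 = true := by decide +kernel
theorem oc122 : allBelow (fun k => fo (Nat.add 25864 k)) 212 = true := by decide +kernel
theorem oc123 : allBelow (fun k => fo (Nat.add 26076 k)) 212 = true := by decide +kernel
theorem oc124 : allBelow (fun k => fo (Nat.add 26288 k)) 212 = true := by decide +kernel
theorem oc125 : allBelow (fun k => fo (Nat.add 26500 k)) 212 = true := by decide +kernel
theorem oc126 : allBelow (fun k => fo (Nat.add 26712 k)) 212 = true := by decide +kernel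
theorem oc127 : allBelow (fun k => fo (Nat.add 26924 k)) 212 = true := by decide +kernel
theorem oc128 : allBelow (fun k => fo (Nat.add 27136 k)) 212 = true := by decide +kernel
theorem oc129 : allBelow (fun k => fo (Nat.add 27348 k)) 212 = true := by decide +kernel
theorem oc130 : allBelow (fun k => fo (Nat.add 27560 k)) 212 = true := by decide +kernel
theorem oc131 : allBelow (fun k => fo (Nat.add 27772 k)) 212 = true := by decide +kernel
theorem oc132 : allBelow (fun k => fo (Nat.add 27984 k)) 212 = true := by decide +kernel
theorem oc133 : allBelow (fun k => fo (Nat.add 28196 k)) 212 = true := by decide +kernel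
theorem oc134 : allBelow (fun k => fo (Nat.add 28408 k)) 212 = true := by decide +kernel
theorem oc135 : allBelow (fun k => fo (Nat.add 28620 k)) 212 = true := by decide +kernel
theorem oc136 : allBelow (fun k => fo (Nat.add 28832 k)) 212 = true := by decide +kernel
theorem oc137 : allBelow (fun k => fo (Nat.add 29044 k)) 212 = true := by decide +kernel
theorem oc138 : allBelow (fun k => fo (Nat.add 29256 k)) 212 = true := by decide +kernel
theorem oc139 : allBelow (fun k => fo (Nat.add 29468 k)) 212 = true := by decide +kernel
theorem oc140 : allBelow (fun k => fo (Nat.add 29680 k)) 212 = true := by decide +kernel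
theorem oc141 : allBelow (fun k => fo (Nat.add 29892 k)) 212 = true := by decide +kernel
theorem oc142 : allBelow (fun k => fo (Nat.add 30104 k)) 212 = true := by decide +kernel
theorem oc143 : allBelow (fun k => fo (Nat.add 30316 k)) 212 = true := by decide +kernel
theorem oc144 : allBelow (fun k => fo (Nat.add 30528 k)) 212 = true := by decide +kernel
theorem oc145 : allBelow (fun k => fo (Nat.add 30740 k)) 212 = true := by decide +kernel
theorem oc146 : allBelow (fun k => fo (Nat.add 30952 k)) 212 = true := by decide +kernel
theorem oc147 : allBelow (fun k => fo (Nat.add 31164 k)) 212 = true := by decide +kernel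
theorem oc148 : allBelow (fun k => fo (Nat.add 31376 k)) 212 = true := by decide +kernel
theorem oc149 : allBelow (fun k => fo (Nat.add 31588 k)) 212 = true := by decide +kernel
theorem oc150 : allBelow (fun k => fo (Nat.add 31800 k)) 212 = true := by decide +kernel
theorem oc151 : allBelow (fun k => fo (Nat.add 32012 k)) 212 = true := by decide +kernel
theorem oc152 : allBelow (fun k => fo (Nat.add 32224 k)) 212 = true := by decide +kernel
theorem oc153 : allBelow (fun k => fo (Nat.add 32436 k)) 212 = true := by decide +kernel
theorem oc154 : allBelow (fun k => fo (Nat.add 32648 k)) 212 = true := by decide +kernel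
theorem oc155 : allBelow (fun k => fo (Nat.add 32860 k)) 212 = true := by decide +kernel
theorem oc156 : allBelow (fun k => fo (Nat.add 33072 k)) 212 = true := by decide +kernel
theorem oc157 : allBelow (fun k => fo (Nat.add 33284 k)) 212 = true := by decide +kernel
theorem oc158 : allBelow (fun k => fo (Nat.add 33496 k)) 212 = true := by decide +kernel
theorem oc159 : allBelow (fun k => fo (Nat.add 33708 k)) 212 = true := by decide +kernel
theorem oc160 : allBelow (fun k => fo (Nat.add 33920 k)) 212 = true := by decide +kernel
theorem oc161 : allBelow (fun k => fo (Nat.add 34132 k)) 212 = true := by decide +kernel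
theorem oc162 : allBelow (fun k => fo (Nat.add 34344 k)) 212 = true := by decide +kernel
theorem oc163 : allBelow (fun k => fo (Nat.add 34556 k)) 212 = true := by decide +kernel
theorem oc164 : allBelow (fun k => fo (Nat.add 34768 k)) 212 = true := by decide +kernel
theorem oc165 : allBelow (fun k => fo (Nat.add 34980 k)) 212 = true := by decide +kernel
theorem oc166 : allBelow (fun k => fo (Nat.add 35192 k)) 212 = true := by decide +kernel
theorem oc167 : allBelow (fun k => fo (Nat.add 35404 k)) 212 = true := by decide +kernel
theorem oc168 : allBelow (fun k => fo (Nat.add 35616 k)) 212 = true := by decide +kernel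
theorem oc169 : allBelow (fun k => fo (Nat.add 35828 k)) 212 = true := by decide +kernel
theorem oc170 : allBelow (fun k => fo (Nat.add 36040 k)) 212 = true := by decide +kernel
theorem oc171 : allBelow (fun k => fo (Nat.add 36252 k)) 212 = true := by decide +kernel
theorem oc172 : allBelow (fun k => fo (Nat.add 36464 k)) 212 = true := by decide +kernel
theorem oc173 : allBelow (fun k => fo (Nat.add 36676 k)) 212 = true := by decide +kernel
theorem oc174 : allBelow (fun k => fo (Nat.add 36888 k)) 212 = true := by decide +kernel
theorem oc175 : allBelow (fun k => fo (Nat.add 37100 k)) 212 = true := by decide +kernel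
theorem oc176 : allBelow (fun k => fo (Nat.add 37312 k)) 212 = true := by decide +kernel
theorem oc177 : allBelow (fun k => fo (Nat.add 37524 k)) 212 = true := by decide +kernel
theorem oc178 : allBelow (fun k => fo (Nat.add 37736 k)) 212 = true := by decide +kernel
theorem oc179 : allBelow (fun k => fo (Nat.add 37948 k)) 212 = true := by decide +kernel
theorem oc180 : allBelow (fun k => fo (Nat.add 38160 k)) 212 = true := by decide +kernel
theorem oc181 : allBelow (fun k => fo (Nat.add 38372 k)) 212 = true := by decide +kernel
theorem oc182 : allBelow (fun k => fo (Nat.add 38584 k)) 212 = true := by decide +kernel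
theorem oc183 : allBelow (fun k => fo (Nat.add 38796 k)) 212 = true := by decide +kernel
theorem oc184 : allBelow (fun k => fo (Nat.add 39008 k)) 212 = true := by decide +kernel
theorem oc185 : allBelow (fun k => fo (Nat.add 39220 k)) 212 = true := by decide +kernel
theorem oc186 : allBelow (fun k => fo (Nat.add 39432 k)) 212 = true := by decide +kernel
theorem oc187 : allBelow (fun k => fo (Nat.add 39644 k)) 212 = true := by decide +kernel
theorem oc188 : allBelow (fun k => fo (Nat.add 39856 k)) 212 = true := by decide +kernel
theorem oc189 : allBelow (fun k => fo (Nat.add 40068 k)) 212 = true := by decide +kernel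
theorem oc190 : allBelow (fun k => fo (Nat.add 40280 k)) 212 = true := by decide +kernel
theorem oc191 : allBelow (fun k => fo (Nat.add 40492 k)) 212 = true := by decide +kernel
theorem oc192 : allBelow (fun k => fo (Nat.add 40704 k)) 212 = true := by decide +kernel
theorem oc193 : allBelow (fun k => fo (Nat.add 40916 k)) 212 = true := by decide +kernel
theorem oc194 : allBelow (fun k => fo (Nat.add 41128 k)) 212 = true := by decide +kernel
theorem oc195 : allBelow (fun k => fo (Nat.add 41340 k)) 212 = true := by decide +kernel
theorem oc196 : allBelow (fun k => fo (Nat.add 41552 k)) 212 = true := by decide +kernel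
theorem oc197 : allBelow (fun k => fo (Nat.add 41764 k)) 212 = true := by decide +kernel
theorem oc198 : allBelow (fun k => fo (Nat.add 41976 k)) 212 = true := by decide +kernel
theorem oc199 : allBelow (fun k => fo (Nat.add 42188 k)) 212 = true := by decide +kernel
theorem oc200 : allBelow (fun k => fo (Nat.add 42400 k)) 212 = true := by decide +kernel
theorem oc201 : allBelow (fun k => fo (Nat.add 42612 k)) 212 = true := by decide +kernel
theorem oc202 : allBelow (fun k => fo (Nat.add 42824 k)) 212 = true := by decide +kernel
theorem oc203 : allBelow (fun k => fo (Nat.add 43036 k)) 212 = true := by decide +kernel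
theorem oc204 : allBelow (fun k => fo (Nat.add 43248 k)) 212 = true := by decide +kernel
theorem oc205 : allBelow (fun k => fo (Nat.add 43460 k)) 212 = true := by decide +kernel
theorem oc206 : allBelow (fun k => fo (Nat.add 43672 k)) 212 = true := by decide +kernel
theorem oc207 : allBelow (fun k => fo (Nat.add 43884 k)) 212 = true := by decide +kernel
theorem oc208 : allBelow (fun k => fo (Nat.add 44096 k)) 212 = true := by decide +kernel
theorem oc209 : allBelow (fun k => fo (Nat.add 44308 k)) 212 = true := by decide +kernel
theorem oc210 : allBelow (fun k => fo (Nat.add 44520 k)) 212 = true := by decide +kernel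
theorem oc211 : allBelow (fun k => fo (Nat.add 44732 k)) 212 = true := by decide +kernel
theorem oc212 : allBelow (fun k => fo (Nat.add 44944 k)) 212 = true := by decide +kernel
theorem oc213 : allBelow (fun k => fo (Nat.add 45156 k)) 212 = true := by decide +kernel
theorem oc214 : allBelow (fun k => fo (Nat.add 45368 k)) 212 = true := by decide +kernel
theorem oc215 : allBelow (fun k => fo (Nat.add 45580 k)) 212 = true := by decide +kernel
theorem oc216 : allBelow (fun k => fo (Nat.add 45792 k)) 212 = true := by decide +kernel
theorem oc217 : allBelow (fun k => fo (Nat.add 46004 k)) 212 = true := by decide +kernel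
theorem oc218 : allBelow (fun k => fo (Nat.add 46216 k)) 212 = true := by decide +kernel
theorem oc219 : allBelow (fun k => fo (Nat.add 46428 k)) 212 = true := by decide +kernel
theorem oc220 : allBelow (fun k => fo (Nat.add 46640 k)) 212 = true := by decide +kernel
theorem oc221 : allBelow (fun k => fo (Nat.add 46852 k)) 212 = true := by decide +kernel
theorem oc222 : allBelow (fun k => fo (Nat.add 47064 k)) 212 = true := by decide +kernel
theorem oc223 : allBelow (fun k => fo (Nat.add 47276 k)) 212 = true := by decide +kernel
theorem oc224 : allBelow (fun k => fo (Nat.add 47488 k)) 212 = true := by decide +kernel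
theorem oc225 : allBelow (fun k => fo (Nat.add 47700 k)) 212 = true := by decide +kernel
theorem oc226 : allBelow (fun k => fo (Nat.add 47912 k)) 212 = true := by decide +kernel
theorem oc227 : allBelow (fun k => fo (Nat.add 48124 k)) 212 = true := by decide +kernel
theorem oc228 : allBelow (fun k => fo (Nat.add 48336 k)) 212 = true := by decide +kernel
theorem oc229 : allBelow (fun k => fo (Nat.add 48548 k)) 212 = true := by decide +kernel
theorem oc230 : allBelow (fun k => fo (Nat.add 48760 k)) 212 = true := by decide +kernel
theorem oc231 : allBelow (fun k => fo (Nat.add 48972 k)) 212 = true := by decide +kernel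
theorem oc232 : allBelow (fun k => fo (Nat.add 49184 k)) 212 = true := by decide +kernel
theorem oc233 : allBelow (fun k => fo (Nat.add 49396 k)) 212 = true := by decide +kernel
theorem oc234 : allBelow (fun k => fo (Nat.add 49608 k)) 212 = true := by decide +kernel
theorem oc235 : allBelow (fun k => fo (Nat.add 49820 k)) 212 = true := by decide +kernel
theorem oc236 : allBelow (fun k => fo (Nat.add 50032 k)) 212 = true := by decide +kernel
theorem oc237 : allBelow (fun k => fo (Nat.add 50244 k)) 212 = true := by decide +kernel
theorem oc238 : allBelow (fun k => fo (Nat.add 50456 k)) 212 = true := by decide +kernel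
theorem oc239 : allBelow (fun k => fo (Nat.add 50668 k)) 212 = true := by decide +kernel
theorem oc240 : allBelow (fun k => fo (Nat.add 50880 k)) 212 = true := by decide +kernel
theorem oc241 : allBelow (fun k => fo (Nat.add 51092 k)) 212 = true := by decide +kernel
theorem oc242 : allBelow (fun k => fo (Nat.add 51304 k)) 212 = true := by decide +kernel
theorem oc243 : allBelow (fun k => fo (Nat.add 51516 k)) 212 = true := by decide +kernel
theorem oc244 : allBelow (fun k => fo (Nat.add 51728 k)) 212 = true := by decide +kernel
theorem oc245 : allBelow (fun k => fo (Nat.add 51940 k)) 212 = true := by decide +kernel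
theorem oc246 : allBelow (fun k => fo (Nat.add 52152 k)) 212 = true := by decide +kernel
theorem oc247 : allBelow (fun k => fo (Nat.add 52364 k)) 212 = true := by decide +kernel
theorem oc248 : allBelow (fun k => fo (Nat.add 52576 k)) 212 = true := by decide +kernel
theorem oc249 : allBelow (fun k => fo (Nat.add 52788 k)) 212 = true := by decide +kernel
theorem oc250 : allBelow (fun k => fo (Nat.add 53000 k)) 212 = true := by decide +kernel
theorem oc251 : allBelow (fun k => fo (Nat.add 53212 k)) 212 = true := by decide +kernel
theorem oc252 : allBelow (fun k => fo (Nat.add 53424 k)) 212 = true := by decide +kernel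
theorem oc253 : allBelow (fun k => fo (Nat.add 53636 k)) 212 = true := by decide +kernel
theorem oc254 : allBelow (fun k => fo (Nat.add 53848 k)) 212 = true := by decide +kernel
theorem oc255 : allBelow (fun k => fo (Nat.add 54060 k)) 212 = true := by decide +kernel
theorem oc256 : allBelow (fun k => fo (Nat.add 54272 k)) 212 = true := by decide +kernel
theorem oc257 : allBelow (fun k => fo (Nat.add 54484 k)) 212 = true := by decide +kernel
theorem oc258 : allBelow (fun k => fo (Nat.add 54696 k)) 212 = true := by decide +kernel
theorem oc259 : allBelow (fun k => fo (Nat.add 54908 k)) 212 = true := by decide +kernel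
theorem oc260 : allBelow (fun k => fo (Nat.add 55120 k)) 212 = true := by decide +kernel
theorem oc261 : allBelow (fun k => fo (Nat.add 55332 k)) 212 = true := by decide +kernel
theorem oc262 : allBelow (fun k => fo (Nat.add 55544 k)) 212 = true := by decide +kernel
theorem oc263 : allBelow (fun k => fo (Nat.add 55756 k)) 212 = true := by decide +kernel
theorem oc264 : allBelow (fun k => fo (Nat.add 55968 k)) 212 = true := by decide +kernel
theorem oc265 : allBelow (fun k => fo (Nat.add 56180 k)) 212 = true := by decide +kernel
theorem oc266 : allBelow (fun k => fo (Nat.add 56392 k)) 212 = true := by decide +kernel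
theorem oc267 : allBelow (fun k => fo (Nat.add 56604 k)) 212 = true := by decide +kernel
theorem oc268 : allBelow (fun k => fo (Nat.add 56816 k)) 212 = true := by decide +kernel
theorem oc269 : allBelow (fun k => fo (Nat.add 57028 k)) 212 = true := by decide +kernel
theorem oc270 : allBelow (fun k => fo (Nat.add 57240 k)) 212 = true := by decide +kernel
theorem oc271 : allBelow (fun k => fo (Nat.add 57452 k)) 212 = true := by decide +kernel
theorem oc272 : allBelow (fun k => fo (Nat.add 57664 k)) 212 = true := by decide +kernel
theorem oc273 : allBelow (fun k => fo (Nat.add 57876 k)) 212 = true := by decide +kernel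
theorem oc274 : allBelow (fun k => fo (Nat.add 58088 k)) 212 = true := by decide +kernel
theorem oc275 : allBelow (fun k => fo (Nat.add 58300 k)) 212 = true := by decide +kernel
theorem oc276 : allBelow (fun k => fo (Nat.add 58512 k)) 212 = true := by decide +kernel
theorem oc277 : allBelow (fun k => fo (Nat.add 58724 k)) 212 = true := by decide +kernel
theorem oc278 : allBelow (fun k => fo (Nat.add 58936 k)) 212 = true := by decide +kernel
theorem oc279 : allBelow (fun k => fo (Nat.add 59148 k)) 212 = true := by decide +kernel
theorem oc280 : allBelow (fun k => fo (Nat.add 59360 k)) 212 = true := by decide +kernel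
theorem oc281 : allBelow (fun k => fo (Nat.add 59572 k)) 212 = true := by decide +kernel
theorem oc282 : allBelow (fun k => fo (Nat.add 59784 k)) 212 = true := by decide +kernel
theorem oc283 : allBelow (fun k => fo (Nat.add 59996 k)) 212 = true := by decide +kernel
theorem oc284 : allBelow (fun k => fo (Nat.add 60208 k)) 212 = true := by decide +kernel
theorem oc285 : allBelow (fun k => fo (Nat.add 60420 k)) 212 = true := by decide +kernel
theorem oc286 : allBelow (fun k => fo (Nat.add 60632 k)) 212 = true := by decide +kernel
theorem oc287 : allBelow (fun k => fo (Nat.add 60844 k)) 212 = true := by decide +kernel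
theorem oc288 : allBelow (fun k => fo (Nat.add 61056 k)) 212 = true := by decide +kernel
theorem oc289 : allBelow (fun k => fo (Nat.add 61268 k)) 212 = true := by decide +kernel
theorem oc290 : allBelow (fun k => fo (Nat.add 61480 k)) 212 = true := by decide +kernel
theorem oc291 : allBelow (fun k => fo (Nat.add 61692 k)) 212 = true := by decide +kernel
theorem oc292 : allBelow (fun k => fo (Nat.add 61904 k)) 212 = true := by decide +kernel
theorem oc293 : allBelow (fun k => fo (Nat.add 62116 k)) 212 = true := by decide +kernel
theorem oc294 : allBelow (fun k => fo (Nat.add 62328 k)) 212 = true := by decide +kernel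
theorem oc295 : allBelow (fun k => fo (Nat.add 62540 k)) 212 = true := by decide +kernel
theorem oc296 : allBelow (fun k => fo (Nat.add 62752 k)) 212 = true := by decide +kernel
theorem oc297 : allBelow (fun k => fo (Nat.add 62964 k)) 212 = true := by decide +kernel
theorem oc298 : allBelow (fun k => fo (Nat.add 63176 k)) 212 = true := by decide +kernel
theorem oc299 : allBelow (fun k => fo (Nat.add 63388 k)) 212 = true := by decide +kernel
theorem oc300 : allBelow (fun k => fo (Nat.add 63600 k)) 212 = true := by decide +kernel
theorem oc301 : allBelow (fun k => fo (Nat.add 63812 k)) 212 = true := by decide +kernel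
theorem oc302 : allBelow (fun k => fo (Nat.add 64024 k)) 212 = true := by decide +kernel
theorem oc303 : allBelow (fun k => fo (Nat.add 64236 k)) 212 = true := by decide +kernel
theorem oc304 : allBelow (fun k => fo (Nat.add 64448 k)) 212 = true := by decide +kernel
theorem oc305 : allBelow (fun k => fo (Nat.add 64660 k)) 212 = true := by decide +kernel
theorem oc306 : allBelow (fun k => fo (Nat.add 64872 k)) 212 = true := by decide +kernel
theorem oc307 : allBelow (fun k => fo (Nat.add 65084 k)) 212 = true := by decide +kernel
theorem oc308 : allBelow (fun k => fo (Nat.add 65296 k)) 212 = true := by decide +kernel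
theorem oc309 : allBelow (fun k => fo (Nat.add 65508 k)) 212 = true := by decide +kernel
theorem oc310 : allBelow (fun k => fo (Nat.add 65720 k)) 212 = true := by decide +kernel
theorem oc311 : allBelow (fun k => fo (Nat.add 65932 k)) 212 = true := by decide +kernel
theorem oc312 : allBelow (fun k => fo (Nat.add 66144 k)) 212 = true := by decide +kernel
theorem oc313 : allBelow (fun k => fo (Nat.add 66356 k)) 212 = true := by decide +kernel
theorem oc314 : allBelow (fun k => fo (Nat.add 66568 k)) 212 = true := by decide +kernel
theorem oc315 : allBelow (fun k => fo (Nat.add 66780 k)) 212 = true := by decide +kernel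
theorem oc316 : allBelow (fun k => fo (Nat.add 66992 k)) 212 = true := by decide +kernel
theorem oc317 : allBelow (fun k => fo (Nat.add 67204 k)) 212 = true := by decide +kernel
theorem oc318 : allBelow (fun k => fo (Nat.add 67416 k)) 212 = true := by decide +kernel
theorem oc319 : allBelow (fun k => fo (Nat.add 67628 k)) 212 = true := by decide +kernel
theorem oc320 : allBelow (fun k => fo (Nat.add 67840 k)) 212 = true := by decide +kernel
theorem oc321 : allBelow (fun k => fo (Nat.add 68052 k)) 212 = true := by decide +kernel
theorem oc322 : allBelow (fun k => fo (Nat.add 68264 k)) 212 = true := by decide +kernel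
theorem oc323 : allBelow (fun k => fo (Nat.add 68476 k)) 212 = true := by decide +kernel
theorem oc324 : allBelow (fun k => fo (Nat.add 68688 k)) 212 = true := by decide +kernel
theorem oc325 : allBelow (fun k => fo (Nat.add 68900 k)) 212 = true := by decide +kernel
theorem oc326 : allBelow (fun k => fo (Nat.add 69112 k)) 212 = true := by decide +kernel
theorem oc327 : allBelow (fun k => fo (Nat.add 69324 k)) 212 = true := by decide +kernel
theorem oc328 : allBelow (fun k => fo (Nat.add 69536 k)) 212 = true := by decide +kernel
theorem oc329 : allBelow (fun k => fo (Nat.add 69748 k)) 212 = true := by decide +kernel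
theorem oc330 : allBelow (fun k => fo (Nat.add 69960 k)) 212 = true := by decide +kernel
theorem oc331 : allBelow (fun k => fo (Nat.add 70172 k)) 212 = true := by decide +kernel
theorem oc332 : allBelow (fun k => fo (Nat.add 70384 k)) 212 = true := by decide +kernel
theorem oc333 : allBelow (fun k => fo (Nat.add 70596 k)) 212 = true := by decide +kernel
theorem oc334 : allBelow (fun k => fo (Nat.add 70808 k)) 212 = true := by decide +kernel
theorem oc335 : allBelow (fun k => fo (Nat.add 71020 k)) 212 = true := by decide +kernel
theorem oc336 : allBelow (fun k => fo (Nat.add 71232 k)) 212 = true := by decide +kernel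
theorem oc337 : allBelow (fun k => fo (Nat.add 71444 k)) 212 = true := by decide +kernel
theorem oc338 : allBelow (fun k => fo (Nat.add 71656 k)) 212 = true := by decide +kernel
theorem oc339 : allBelow (fun k => fo (Nat.add 71868 k)) 212 = true := by decide +kernel
theorem oc340 : allBelow (fun k => fo (Nat.add 72080 k)) 212 = true := by decide +kernel
theorem oc341 : allBelow (fun k => fo (Nat.add 72292 k)) 212 = true := by decide +kernel
theorem oc342 : allBelow (fun k => fo (Nat.add 72504 k)) 212 = true := by decide +kernel
theorem oc343 : allBelow (fun k => fo (Nat.add 72716 k)) 212 = true := by decide +kernel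
theorem oc344 : allBelow (fun k => fo (Nat.add 72928 k)) 212 = true := by decide +kernel
theorem oc345 : allBelow (fun k => fo (Nat.add 73140 k)) 212 = true := by decide +kernel
theorem oc346 : allBelow (fun k => fo (Nat.add 73352 k)) 212 = true := by decide +kernel
theorem oc347 : allBelow (fun k => fo (Nat.add 73564 k)) 212 = true := by decide +kernel

end Cfsg.Agent.Lib.Helper35.ON122760
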