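import Cfsg.Agent.Lib.Helper35.ON122760.PData

set_option Elab.async false

namespace Cfsg.Agent.Lib.Helper35.ON122760

open Cfsg.Agent.Lib.Helper35

theorem oc348 : allBelow (fun k => fo (Nat.add 73776 k)) 212 = true := by decide +kernel
theorem oc349 : allBelow (fun k => fo (Nat.add 73988 k)) 212 = true := by decide +kernel
theorem oc350 : allBelow (fun k => fo (Nat.add 74200 k)) 212 = true := by decide +kernel
theorem oc351 : allBelow (fun k => fo (Nat.add 74412 k)) 212 = true := by decide +kernel
theorem oc352 : allBelow (fun k => fo (Nat.add 74624 k)) 212 = true := by decide +kernel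
theorem oc353 : allBelow (fun k => fo (Nat.add 74836 k)) 212 = true := by decide +kernel
theorem oc354 : allBelow (fun k => fo (Nat.add 75048 k)) 212 = true := by decide +kernel
theorem oc355 : allBelow (fun k => fo (Nat.add 75260 k)) 212 = true := by decide +kernel
theorem oc356 : allBelow (fun k => fo (Nat.add 75472 k)) 212 = true := by decide +kernel
theorem oc357 : allBelow (fun k => fo (Nat.add 75684 k)) 212 = true := by decide +kernel
theorem oc358 : allBelow (fun k => fo (Nat.add 75896 k)) 212 = true := by decide +kernel
theorem oc359 : allBelow (fun k => fo (Nat.add 76108 k)) 212 = true := by decide +kernel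
theorem oc360 : allBelow (fun k => fo (Nat.add 76320 k)) 212 = true := by decide +kernel
theorem oc361 : allBelow (fun k => fo (Nat.add 76532 k)) 212 = true := by decide +kernel
theorem oc362 : allBelow (fun k => fo (Nat.add 76744 k)) 212 = true := by decide +kernel
theorem oc363 : allBelow (fun k => fo (Nat.add 76956 k)) 212 = true := by decide +kernel
theorem oc364 : allBelow (fun k => fo (Nat.add 77168 k)) 212 = true := by decide +kernel
theorem oc365 : allBelow (fun k => fo (Nat.add 77380 k)) 212 = true := by decide +kernel
theorem oc366 : allBelow (fun k => fo (Nat.add 77592 k)) 212 = true := by decide +kernel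
theorem oc367 : allBelow (fun k => fo (Nat.add 77804 k)) 212 = true := by decide +kernel
theorem oc368 : allBelow (fun k => fo (Nat.add 78016 k)) 212 = true := by decide +kernel
theorem oc369 : allBelow (fun k => fo (Nat.add 78228 k)) 212 = true := by decide +kernel
theorem oc370 : allBelow (fun k => fo (Nat.add 78440 k)) 212 = true := by decide +kernel
theorem oc371 : allBelow (fun k => fo (Nat.add 78652 k)) 212 = true := by decide +kernel
theorem oc372 : allBelow (fun k => fo (Nat.add 78864 k)) 212 = true := by decide +kernel
theorem oc373 : allBelow (fun k => fo (Nat.add 79076 k)) 212 = true := by decide +kernel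
theorem oc374 : allBelow (fun k => fo (Nat.add 79288 k)) 212 = true := by decide +kernel
theorem oc375 : allBelow (fun k => fo (Nat.add 79500 k)) 212 = true := by decide +kernel
theorem oc376 : allBelow (fun k => fo (Nat.add 79712 k)) 212 = true := by decide +kernel
theorem oc377 : allBelow (fun k => fo (Nat.add 79924 k)) 212 = true := by decide +kernel
theorem oc378 : allBelow (fun k => fo (Nat.add 80136 k)) 212 = true := by decide +kernel
theorem oc379 : allBelow (fun k => fo (Nat.add 80348 k)) 212 = true := by decide +kernel
theorem oc380 : allBelow (fun k => fo (Nat.add 80560 k)) 212 = true := by decide +kernel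
theorem oc381 : allBelow (fun k => fo (Nat.add 80772 k)) 212 = true := by decide +kernel
theorem oc382 : allBelow (fun k => fo (Nat.add 80984 k)) 212 = true := by decide +kernel
theorem oc383 : allBelow (fun k => fo (Nat.add 81196 k)) 212 = true := by decide +kernel
theorem oc384 : allBelow (fun k => fo (Nat.add 81408 k)) 212 = true := by decide +kernel
theorem oc385 : allBelow (fun k => fo (Nat.add 81620 k)) 212 = true := by decide +kernel
theorem oc386 : allBelow (fun k => fo (Nat.add 81832 k)) 212 = true := by decide +kernel
theorem oc387 : allBelow (fun k => fo (Nat.add 82044 k)) 212 = true := by decide +kernel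
theorem oc388 : allBelow (fun k => fo (Nat.add 82256 k)) 212 = true := by decide +kernel
theorem oc389 : allBelow (fun k => fo (Nat.add 82468 k)) 212 = true := by decide +kernel
theorem oc390 : allBelow (fun k => fo (Nat.add 82680 k)) 212 = true := by decide +kernel
theorem oc391 : allBelow (fun k => fo (Nat.add 82892 k)) 212 = true := by decide +kernel
theorem oc392 : allBelow (fun k => fo (Nat.add 83104 k)) 212 = true := by decide +kernel
theorem oc393 : allBelow (fun k => fo (Nat.add 83316 k)) 212 = true := by decide +kernel
theorem oc394 : allBelow (fun k => fo (Nat.add 83528 k)) 212 = true := by decide +kernel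
theorem oc395 : allBelow (fun k => fo (Nat.add 83740 k)) 212 = true := by decide +kernel
theorem oc396 : allBelow (fun k => fo (Nat.add 83952 k)) 212 = true := by decide +kernel
theorem oc397 : allBelow (fun k => fo (Nat.add 84164 k)) 212 = true := by decide +kernel
theorem oc398 : allBelow (fun k => fo (Nat.add 84376 k)) 212 = true := by decide +kernel
theorem oc399 : allBelow (fun k => fo (Nat.add 84588 k)) 212 = true := by decide +kernel
theorem oc400 : allBelow (fun k => fo (Nat.add 84800 k)) 212 = true := by decide +kernel
theorem oc401 : allBelow (fun k => fo (Nat.add 85012 k)) 212 = true := by decide +kernel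
theorem oc402 : allBelow (fun k => fo (Nat.add 85224 k)) 212 = true := by decide +kernel
theorem oc403 : allBelow (fun k => fo (Nat.add 85436 k)) 212 = true := by decide +kernel
theorem oc404 : allBelow (fun k => fo (Nat.add 85648 k)) 212 = true := by decide +kernel
theorem oc405 : allBelow (fun k => fo (Nat.add 85860 k)) 212 = true := by decide +kernel
theorem oc406 : allBelow (fun k => fo (Nat.add 86072 k)) 212 = true := by decide +kernel
theorem oc407 : allBelow (fun k => fo (Nat.add 86284 k)) 212 = true := by decide +kernel
theorem oc408 : allBelow (fun k => fo (Nat.add 86496 k)) 212 = true := by decide +kernel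
theorem oc409 : allBelow (fun k => fo (Nat.add 86708 k)) 212 = true := by decide +kernel
theorem oc410 : allBelow (fun k => fo (Nat.add 86920 k)) 212 = true := by decide +kernel
theorem oc411 : allBelow (fun k => fo (Nat.add 87132 k)) 212 = true := by decide +kernel
theorem oc412 : allBelow (fun k => fo (Nat.add 87344 k)) 212 = true := by decide +kernel
theorem oc413 : allBelow (fun k => fo (Nat.add 87556 k)) 212 = true := by decide +kernel
theorem oc414 : allBelow (fun k => fo (Nat.add 87768 k)) 212 = true := by decide +kernel
theorem oc415 : allBelow (fun k => fo (Nat.add 87980 k)) 212 = true := by decide +kernel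
theorem oc416 : allBelow (fun k => fo (Nat.add 88192 k)) 212 = true := by decide +kernel
theorem oc417 : allBelow (fun k => fo (Nat.add 88404 k)) 212 = true := by decide +kernel
theorem oc418 : allBelow (fun k => fo (Nat.add 88616 k)) 212 = true := by decide +kernel
theorem oc419 : allBelow (fun k => fo (Nat.add 88828 k)) 212 = true := by decide +kernel
theorem oc420 : allBelow (fun k => fo (Nat.add 89040 k)) 212 = true := by decide +kernel
theorem oc421 : allBelow (fun k => fo (Nat.add 89252 k)) 212 = true := by decide +kernel
theorem oc422 : allBelow (fun k => fo (Nat.add 89464 k)) 212 = true := by decide +kernel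
theorem oc423 : allBelow (fun k => fo (Nat.add 89676 k)) 212 = true := by decide +kernel
theorem oc424 : allBelow (fun k => fo (Nat.add 89888 k)) 212 = true := by decide +kernel
theorem oc425 : allBelow (fun k => fo (Nat.add 90100 k)) 212 = true := by decide +kernel
theorem oc426 : allBelow (fun k => fo (Nat.add 90312 k)) 212 = true := by decide +kernel
theorem oc427 : allBelow (fun k => fo (Nat.add 90524 k)) 212 = true := by decide +kernel
theorem oc428 : allBelow (fun k => fo (Nat.add 90736 k)) 212 = true := by decide +kernel
theorem oc429 : allBelow (fun k => fo (Nat.add 90948 k)) 212 = true := by decide +kernel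
theorem oc430 : allBelow (fun k => fo (Nat.add 91160 k)) 212 = true := by decide +kernel
theorem oc431 : allBelow (fun k => fo (Nat.add 91372 k)) 212 = true := by decide +kernel
theorem oc432 : allBelow (fun k => fo (Nat.add 91584 k)) 212 = true := by decide +kernel
theorem oc433 : allBelow (fun k => fo (Nat.add 91796 k)) 212 = true := by decide +kernel
theorem oc434 : allBelow (fun k => fo (Nat.add 92008 k)) 212 = true := by decide +kernel
theorem oc435 : allBelow (fun k => fo (Nat.add 92220 k)) 212 = true := by decide +kernel
theorem oc436 : allBelow (fun k => fo (Nat.add 92432 k)) 212 = true := by decide +kernel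
theorem oc437 : allBelow (fun k => fo (Nat.add 92644 k)) 212 = true := by decide +kernel
theorem oc438 : allBelow (fun k => fo (Nat.add 92856 k)) 212 = true := by decide +kernel
theorem oc439 : allBelow (fun k => fo (Nat.add 93068 k)) 212 = true := by decide +kernel
theorem oc440 : allBelow (fun k => fo (Nat.add 93280 k)) 212 = true := by decide +kernel
theorem oc441 : allBelow (fun k => fo (Nat.add 93492 k)) 212 = true := by decide +kernel
theorem oc442 : allBelow (fun k => fo (Nat.add 93704 k)) 212 = true := by decide +kernel
theorem oc443 : allBelow (fun k => fo (Nat.add 93916 k)) 212 = true := by decide +kernel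
theorem oc444 : allBelow (fun k => fo (Nat.add 94128 k)) 212 = true := by decide +kernel
theorem oc445 : allBelow (fun k => fo (Nat.add 94340 k)) 212 = true := by decide +kernel
theorem oc446 : allBelow (fun k => fo (Nat.add 94552 k)) 212 = true := by decide +kernel
theorem oc447 : allBelow (fun k => fo (Nat.add 94764 k)) 212 = true := by decide +kernel
theorem oc448 : allBelow (fun k => fo (Nat.add 94976 k)) 212 = true := by decide +kernel
theorem oc449 : allBelow (fun k => fo (Nat.add 95188 k)) 212 = true := by decide +kernel
theorem oc450 : allBelow (fun k => fo (Nat.add 95400 k)) 212 = true := by decide +kernel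
theorem oc451 : allBelow (fun k => fo (Nat.add 95612 k)) 212 = true := by decide +kernel
theorem oc452 : allBelow (fun k => fo (Nat.add 95824 k)) 212 = true := by decide +kernel
theorem oc453 : allBelow (fun k => fo (Nat.add 96036 k)) 212 = true := by decide +kernel
theorem oc454 : allBelow (fun k => fo (Nat.add 96248 k)) 212 = true := by decide +kernel
theorem oc455 : allBelow (fun k => fo (Nat.add 96460 k)) 212 = true := by decide +kernel
theorem oc456 : allBelow (fun k => fo (Nat.add 96672 k)) 212 = true := by decide +kernel
theorem oc457 : allBelow (fun k => fo (Nat.add 96884 k)) 212 = true := by decide +kernel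
theorem oc458 : allBelow (fun k => fo (Nat.add 97096 k)) 212 = true := by decide +kernel
theorem oc459 : allBelow (fun k => fo (Nat.add 97308 k)) 212 = true := by decide +kernel
theorem oc460 : allBelow (fun k => fo (Nat.add 97520 k)) 212 = true := by decide +kernel
theorem oc461 : allBelow (fun k => fo (Nat.add 97732 k)) 212 = true := by decide +kernel
theorem oc462 : allBelow (fun k => fo (Nat.add 97944 k)) 212 = true := by decide +kernel
theorem oc463 : allBelow (fun k => fo (Nat.add 98156 k)) 212 = true := by decide +kernel
theorem oc464 : allBelow (fun k => fo (Nat.add 98368 k)) 212 = true := by decide +kernel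
theorem oc465 : allBelow (fun k => fo (Nat.add 98580 k)) 212 = true := by decide +kernel
theorem oc466 : allBelow (fun k => fo (Nat.add 98792 k)) 212 = true := by decide +kernel
theorem oc467 : allBelow (fun k => fo (Nat.add 99004 k)) 212 = true := by decide +kernel
theorem oc468 : allBelow (fun k => fo (Nat.add 99216 k)) 212 = true := by decide +kernel
theorem oc469 : allBelow (fun k => fo (Nat.add 99428 k)) 212 = true := by decide +kernel
theorem oc470 : allBelow (fun k => fo (Nat.add 99640 k)) 212 = true := by decide +kernel
theorem oc471 : allBelow (fun k => fo (Nat.add 99852 k)) 212 = true := by decide +kernel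
theorem oc472 : allBelow (fun k => fo (Nat.add 100064 k)) 212 = true := by decide +kernel
theorem oc473 : allBelow (fun k => fo (Nat.add 100276 k)) 212 = true := by decide +kernel
theorem oc474 : allBelow (fun k => fo (Nat.add 100488 k)) 212 = true := by decide +kernel
theorem oc475 : allBelow (fun k => fo (Nat.add 100700 k)) 212 = true := by decide +kernel
theorem oc476 : allBelow (fun k => fo (Nat.add 100912 k)) 212 = true := by decide +kernel
theorem oc477 : allBelow (fun k => fo (Nat.add 101124 k)) 212 = true := by decide +kernel
theorem oc478 : allBelow (fun k => fo (Nat.add 101336 k)) 212 = true := by decide +kernel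
theorem oc479 : allBelow (fun k => fo (Nat.add 101548 k)) 212 = true := by decide +kernel
theorem oc480 : allBelow (fun k => fo (Nat.add 101760 k)) 212 = true := by decide +kernel
theorem oc481 : allBelow (fun k => fo (Nat.add 101972 k)) 212 = true := by decide +kernel
theorem oc482 : allBelow (fun k => fo (Nat.add 102184 k)) 212 = true := by decide +kernel
theorem oc483 : allBelow (fun k => fo (Nat.add 102396 k)) 212 = true := by decide +kernel
theorem oc484 : allBelow (fun k => fo (Nat.add 102608 k)) 212 = true := by decide +kernel
theorem oc485 : allBelow (fun k => fo (Nat.add 102820 k)) 212 = true := by decide +kernel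
theorem oc486 : allBelow (fun k => fo (Nat.add 103032 k)) 212 = true := by decide +kernel
theorem oc487 : allBelow (fun k => fo (Nat.add 103244 k)) 212 = true := by decide +kernel
theorem oc488 : allBelow (fun k => fo (Nat.add 103456 k)) 212 = true := by decide +kernel
theorem oc489 : allBelow (fun k => fo (Nat.add 103668 k)) 212 = true := by decide +kernel
theorem oc490 : allBelow (fun k => fo (Nat.add 103880 k)) 212 = true := by decide +kernel
theorem oc491 : allBelow (fun k => fo (Nat.add 104092 k)) 212 = true := by decide +kernel
theorem oc492 : allBelow (fun k => fo (Nat.add 104304 k)) 212 = true := by decide +kernel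
theorem oc493 : allBelow (fun k => fo (Nat.add 104516 k)) 212 = true := by decide +kernel
theorem oc494 : allBelow (fun k => fo (Nat.add 104728 k)) 212 = true := by decide +kernel
theorem oc495 : allBelow (fun k => fo (Nat.add 104940 k)) 212 = true := by decide +kernel
theorem oc496 : allBelow (fun k => fo (Nat.add 105152 k)) 212 = true := by decide +kernel
theorem oc497 : allBelow (fun k => fo (Nat.add 105364 k)) 212 = true := by decide +kernel
theorem oc498 : allBelow (fun k => fo (Nat.add 105576 k)) 212 = true := by decide +kernel
theorem oc499 : allBelow (fun k => fo (Nat.add 105788 k)) 212 = true := by decide +kernel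
theorem oc500 : allBelow (fun k => fo (Nat.add 106000 k)) 212 = true := by decide +kernel
theorem oc501 : allBelow (fun k => fo (Nat.add 106212 k)) 212 = true := by decide +kernel
theorem oc502 : allBelow (fun k => fo (Nat.add 106424 k)) 212 = true := by decide +kernel
theorem oc503 : allBelow (fun k => fo (Nat.add 106636 k)) 212 = true := by decide +kernel
theorem oc504 : allBelow (fun k => fo (Nat.add 106848 k)) 212 = true := by decide +kernel
theorem oc505 : allBelow (fun k => fo (Nat.add 107060 k)) 212 = true := by decide +kernel
theorem oc506 : allBelow (fun k => fo (Nat.add 107272 k)) 212 = true := by decide +kernel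
theorem oc507 : allBelow (fun k => fo (Nat.add 107484 k)) 212 = true := by decide +kernel
theorem oc508 : allBelow (fun k => fo (Nat.add 107696 k)) 212 = true := by decide +kernel
theorem oc509 : allBelow (fun k => fo (Nat.add 107908 k)) 212 = true := by decide +kernel
theorem oc510 : allBelow (fun k => fo (Nat.add 108120 k)) 212 = true := by decide +kernel
theorem oc511 : allBelow (fun k => fo (Nat.add 108332 k)) 212 = true := by decide +kernel
theorem oc512 : allBelow (fun k => fo (Nat.add 108544 k)) 212 = true := by decide +kernel
theorem oc513 : allBelow (fun k => fo (Nat.add 108756 k)) 212 = true := by decide +kernel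
theorem oc514 : allBelow (fun k => fo (Nat.add 108968 k)) 212 = true := by decide +kernel
theorem oc515 : allBelow (fun k => fo (Nat.add 109180 k)) 212 = true := by decide +kernel
theorem oc516 : allBelow (fun k => fo (Nat.add 109392 k)) 212 = true := by decide +kernel
theorem oc517 : allBelow (fun k => fo (Nat.add 109604 k)) 212 = true := by decide +kernel
theorem oc518 : allBelow (fun k => fo (Nat.add 109816 k)) 212 = true := by decide +kernel
theorem oc519 : allBelow (fun k => fo (Nat.add 110028 k)) 212 = true := by decide +kernel
theorem oc520 : allBelow (fun k => fo (Nat.add 110240 k)) 212 = true := by decide +kernel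
theorem oc521 : allBelow (fun k => fo (Nat.add 110452 k)) 212 = true := by decide +kernel
theorem oc522 : allBelow (fun k => fo (Nat.add 110664 k)) 212 = true := by decide +kernel
theorem oc523 : allBelow (fun k => fo (Nat.add 110876 k)) 212 = true := by decide +kernel
theorem oc524 : allBelow (fun k => fo (Nat.add 111088 k)) 212 = true := by decide +kernel
theorem oc525 : allBelow (fun k => fo (Nat.add 111300 k)) 212 = true := by decide +kernel
theorem oc526 : allBelow (fun k => fo (Nat.add 111512 k)) 212 = true := by decide +kernel
theorem oc527 : allBelow (fun k => fo (Nat.add 111724 k)) 212 = true := by decide +kernel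
theorem oc528 : allBelow (fun k => fo (Nat.add 111936 k)) 212 = true := by decide +kernel
theorem oc529 : allBelow (fun k => fo (Nat.add 112148 k)) 212 = true := by decide +kernel
theorem oc530 : allBelow (fun k => fo (Nat.add 112360 k)) 212 = true := by decide +kernel
theorem oc531 : allBelow (fun k => fo (Nat.add 112572 k)) 212 = true := by decide +kernel
theorem oc532 : allBelow (fun k => fo (Nat.add 112784 k)) 212 = true := by decide +kernel
theorem oc533 : allBelow (fun k => fo (Nat.add 112996 k)) 212 = true := by decide +kernel
theorem oc534 : allBelow (fun k => fo (Nat.add 113208 k)) 212 = true := by decide +kernel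
theorem oc535 : allBelow (fun k => fo (Nat.add 113420 k)) 212 = true := by decide +kernel
theorem oc536 : allBelow (fun k => fo (Nat.add 113632 k)) 212 = true := by decide +kernel
theorem oc537 : allBelow (fun k => fo (Nat.add 113844 k)) 212 = true := by decide +kernel
theorem oc538 : allBelow (fun k => fo (Nat.add 114056 k)) 212 = true := by decide +kernel
theorem oc539 : allBelow (fun k => fo (Nat.add 114268 k)) 212 = true := by decide +kernel
theorem oc540 : allBelow (fun k => fo (Nat.add 114480 k)) 212 = true := by decide +kernel
theorem oc541 : allBelow (fun k => fo (Nat.add 114692 k)) 212 = true := by decide +kernel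
theorem oc542 : allBelow (fun k => fo (Nat.add 114904 k)) 212 = true := by decide +kernel
theorem oc543 : allBelow (fun k => fo (Nat.add 115116 k)) 212 = true := by decide +kernel
theorem oc544 : allBelow (fun k => fo (Nat.add 115328 k)) 212 = true := by decide +kernel
theorem oc545 : allBelow (fun k => fo (Nat.add 115540 k)) 212 = true := by decide +kernel
theorem oc546 : allBelow (fun k => fo (Nat.add 115752 k)) 212 = true := by decide +kernel
theorem oc547 : allBelow (fun k => fo (Nat.add 115964 k)) 212 = true := by decide +kernel
theorem oc548 : allBelow (fun k => fo (Nat.add 116176 k)) 212 = true := by decide +kernel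
theorem oc549 : allBelow (fun k => fo (Nat.add 116388 k)) 212 = true := by decide +kernel
theorem oc550 : allBelow (fun k => fo (Nat.add 116600 k)) 212 = true := by decide +kernel
theorem oc551 : allBelow (fun k => fo (Nat.add 116812 k)) 212 = true := by decide +kernel
theorem oc552 : allBelow (fun k => fo (Nat.add 117024 k)) 212 = true := by decide +kernel
theorem oc553 : allBelow (fun k => fo (Nat.add 117236 k)) 212 = true := by decide +kernel
theorem oc554 : allBelow (fun k => fo (Nat.add 117448 k)) 212 = true := by decide +kernel
theorem oc555 : allBelow (fun k => fo (Nat.add 117660 k)) 212 = true := by decide +kernel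
theorem oc556 : allBelow (fun k => fo (Nat.add 117872 k)) 212 = true := by decide +kernel
theorem oc557 : allBelow (fun k => fo (Nat.add 118084 k)) 212 = true := by decide +kernel
theorem oc558 : allBelow (fun k => fo (Nat.add 118296 k)) 212 = true := by decide +kernel
theorem oc559 : allBelow (fun k => fo (Nat.add 118508 k)) 212 = true := by decide +kernel
theorem oc560 : allBelow (fun k => fo (Nat.add 118720 k)) 212 = true := by decide +kernel
theorem oc561 : allBelow (fun k => fo (Nat.add 118932 k)) 212 = true := by decide +kernel
theorem oc562 : allBelow (fun k => fo (Nat.add 119144 k)) 212 = true := by decide +kernel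
theorem oc563 : allBelow (fun k => fo (Nat.add 119356 k)) 212 = true := by decide +kernel
theorem oc564 : allBelow (fun k => fo (Nat.add 119568 k)) 212 = true := by decide +kernel
theorem oc565 : allBelow (fun k => fo (Nat.add 119780 k)) 212 = true := by decide +kernel
theorem oc566 : allBelow (fun k => fo (Nat.add 119992 k)) 212 = true := by decide +kernel
theorem oc567 : allBelow (fun k => fo (Nat.add 120204 k)) 212 = true := by decide +kernel
theorem oc568 : allBelow (fun k => fo (Nat.add 120416 k)) 212 = true := by decide +kernel
theorem oc569 : allBelow (fun k => fo (Nat.add 120628 k)) 212 = true := by decide +kernel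
theorem oc570 : allBelow (fun k => fo (Nat.add 120840 k)) 212 = true := by decide +kernel
theorem oc571 : allBelow (fun k => fo (Nat.add 121052 k)) 212 = true := by decide +kernel
theorem oc572 : allBelow (fun k => fo (Nat.add 121264 k)) 212 = true := by decide +kernel
theorem oc573 : allBelow (fun k => fo (Nat.add 121476 k)) 212 = true := by decide +kernel
theorem oc574 : allBelow (fun k => fo (Nat.add 121688 k)) 212 = true := by decide +kernel
theorem oc575 : allBelow (fun k => fo (Nat.add 121900 k)) 212 = true := by decide +kernel
theorem oc576 : allBelow (fun k => fo (Nat.add 122112 k)) 212 = true := by decide +kernel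
theorem oc577 : allBelow (fun k => fo (Nat.add 122324 k)) 212 = true := by decide +kernel
theorem oc578 : allBelow (fun k => fo (Nat.add 122536 k)) 212 = true := by decide +kernel
theorem oc579 : allBelow (fun k => fo (Nat.add 122748 k)) 12 = true := by decide +kernel
theorem l0k0 : countBelow (fun k => fl0 (Nat.add 0 k)) 7649 = 1 := by decide +kernel
theorem l0k1 : countBelow (fun k => fl0 (Nat.add 7649 k)) 7649 = 0 := by decide +kernel
theorem l0k2 : countBelow (fun k => fl0 (Nat.add 15298 k)) 7649 = 0 := by decide +kernel
theorem l0k3 : countBelow (fun k => fl0 (Nat.add 22947 k)) 7649 = 0 := by decide +kernel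
theorem l0k4 : countBelow (fun k => fl0 (Nat.add 30596 k)) 7649 = 0 := by decide +kernel
theorem l0k5 : countBelow (fun k => fl0 (Nat.add 38245 k)) 7649 = 0 := by decide +kernel
theorem l0k6 : countBelow (fun k => fl0 (Nat.add 45894 k)) 7649 = 0 := by decide +kernel
theorem l0k7 : countBelow (fun k => fl0 (Nat.add 53543 k)) 7649 = 0 := by decide +kernel
theorem l0k8 : countBelow (fun k => fl0 (Nat.add 61192 k)) 7649 = 0 := by decide +kernel
theorem l0k9 : countBelow (fun k => fl0 (Nat.add 68841 k)) 7649 = 0 := by decide +kernel
theorem l0k10 : countBelow (fun k => fl0 (Nat.add 76490 k)) 7649 = 0 := by decide +kernel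
theorem l0k11 : countBelow (fun k => fl0 (Nat.add 84139 k)) 7649 = 0 := by decide +kernel
theorem l0k12 : countBelow (fun k => fl0 (Nat.add 91788 k)) 7649 = 0 := by decide +kernel
theorem l0k13 : countBelow (fun k => fl0 (Nat.add 99437 k)) 7649 = 0 := by decide +kernel
theorem l0k14 : countBelow (fun k => fl0 (Nat.add 107086 k)) 7649 = 0 := by decide +kernel
theorem l0k15 : countBelow (fun k => fl0 (Nat.add 114735 k)) 7649 = 0 := by decide +kernel
theorem l0k16 : countBelow (fun k => fl0 (Nat.add 122384 k)) 376 = 0 := by decide +kernel
theorem l1k0 : countBelow (fun k => fl1 (Nat.add 0 k)) 7649 = 3575 := by decide +kernel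
theorem l1k1 : countBelow (fun k => fl1 (Nat.add 7649 k)) 7649 = 3274 := by decide +kernel
theorem l1k2 : countBelow (fun k => fl1 (Nat.add 15298 k)) 7649 = 3261 := by decide +kernel
theorem l1k3 : countBelow (fun k => fl1 (Nat.add 22947 k)) 7649 = 3307 := by decide +kernel
theorem l1k4 : countBelow (fun k => fl1 (Nat.add 30596 k)) 7649 = 3298 := by decide +kernel
theorem l1k5 : countBelow (fun k => fl1 (Nat.add 38245 k)) 7649 = 3388 := by decide +kernel
theorem l1k6 : countBelow (fun k => fl1 (Nat.add 45894 k)) 7649 = 3336 := by decide +kernel
theorem l1k7 : countBelow (fun k => fl1 (Nat.add 53543 k)) 7649 = 3699 := by decide +kernel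
theorem l1k8 : countBelow (fun k => fl1 (Nat.add 61192 k)) 7649 = 3608 := by decide +kernel
theorem l1k9 : countBelow (fun k => fl1 (Nat.add 68841 k)) 7649 = 3535 := by decide +kernel
theorem l1k10 : countBelow (fun k => fl1 (Nat.add 76490 k)) 7649 = 3540 := by decide +kernel
theorem l1k11 : countBelow (fun k => fl1 (Nat.add 84139 k)) 7649 = 3773 := by decide +kernel
theorem l1k12 : countBelow (fun k => fl1 (Nat.add 91788 k)) 7649 = 3918 := by decide +kernel
theorem l1k13 : countBelow (fun k => fl1 (Nat.add 99437 k)) 7649 = 3983 := by decide +kernel
theorem l1k14 : countBelow (fun k => fl1 (Nat.add 107086 k)) 7649 = 4139 := by decide +kernel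
theorem l1k15 : countBelow (fun k => fl1 (Nat.add 114735 k)) 7649 = 4746 := by decide +kernel
theorem l1k16 : countBelow (fun k => fl1 (Nat.add 122384 k)) 376 = 273 := by decide +kernel
theorem l2k0 : countBelow (fun k => fl2 (Nat.add 0 k)) 7649 = 2974 := by decide +kernel
theorem l2k1 : countBelow (fun k => fl2 (Nat.add 7649 k)) 7649 = 3580 := by decide +kernel
theorem l2k2 : countBelow (fun k => fl2 (Nat.add 15298 k)) 7649 = 3583 := by decide +kernel
theorem l2k3 : countBelow (fun k => fl2 (Nat.add 22947 k)) 7649 = 3644 := by decide +kernel
theorem l2k4 : countBelow (fun k => fl2 (Nat.add 30596 k)) 7649 = 3555 := by decide +kernel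
theorem l2k5 : countBelow (fun k => fl2 (Nat.add 38245 k)) 7649 = 3494 := by decide +kernel
theorem l2k6 : countBelow (fun k => fl2 (Nat.add 45894 k)) 7649 = 3617 := by decide +kernel
theorem l2k7 : countBelow (fun k => fl2 (Nat.add 53543 k)) 7649 = 3144 := by decide +kernel
theorem l2k8 : countBelow (fun k => fl2 (Nat.add 61192 k)) 7649 = 3326 := by decide +kernel
theorem l2k9 : countBelow (fun k => fl2 (Nat.add 68841 k)) 7649 = 3348 := by decide +kernel
theorem l2k10 : countBelow (fun k => fl2 (Nat.add 76490 k)) 7649 = 3281 := by decide +kernel
theorem l2k11 : countBelow (fun k => fl2 (Nat.add 84139 k)) 7649 = 3255 := by decide +kernel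
theorem l2k12 : countBelow (fun k => fl2 (Nat.add 91788 k)) 7649 = 3013 := by decide +kernel
theorem l2k13 : countBelow (fun k => fl2 (Nat.add 99437 k)) 7649 = 3019 := by decide +kernel
theorem l2k14 : countBelow (fun k => fl2 (Nat.add 107086 k)) 7649 = 2822 := by decide +kernel
theorem l2k15 : countBelow (fun k => fl2 (Nat.add 114735 k)) 7649 = 2397 := by decide +kernel
theorem l2k16 : countBelow (fun k => fl2 (Nat.add 122384 k)) 376 = 84 := by decide +kernel
theorem l3k0 : countBelow (fun k => fl3 (Nat.add 0 k)) 7649 = 364 := by decide +kernel
theorem l3k1 : countBelow (fun k => fl3 (Nat.add 7649 k)) 7649 = 374 := by decide +kernel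
theorem l3k2 : countBelow (fun k => fl3 (Nat.add 15298 k)) 7649 = 385 := by decide +kernel
theorem l3k3 : countBelow (fun k => fl3 (Nat.add 22947 k)) 7649 = 382 := by decide +kernel
theorem l3k4 : countBelow (fun k => fl3 (Nat.add 30596 k)) 7649 = 423 := by decide +kernel
theorem l3k5 : countBelow (fun k => fl3 (Nat.add 38245 k)) 7649 = 365 := by decide +kernel
theorem l3k6 : countBelow (fun k => fl3 (Nat.add 45894 k)) 7649 = 363 := by decide +kernel
theorem l3k7 : countBelow (fun k => fl3 (Nat.add 53543 k)) 7649 = 346 := by decide +kernel
theorem l3k8 : countBelow (fun k => fl3 (Nat.add 61192 k)) 7649 = 319 := by decide +kernel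
theorem l3k9 : countBelow (fun k => fl3 (Nat.add 68841 k)) 7649 = 294 := by decide +kernel
theorem l3k10 : countBelow (fun k => fl3 (Nat.add 76490 k)) 7649 = 386 := by decide +kernel
theorem l3k11 : countBelow (fun k => fl3 (Nat.add 84139 k)) 7649 = 274 := by decide +kernel
theorem l3k12 : countBelow (fun k => fl3 (Nat.add 91788 k)) 7649 = 351 := by decide +kernel
theorem l3k13 : countBelow (fun k => fl3 (Nat.add 99437 k)) 7649 = 296 := by decide +kernel
theorem l3k14 : countBelow (fun k => fl3 (Nat.add 107086 k)) 7649 = 347 := by decide +kernel
theorem l3k15 : countBelow (fun k => fl3 (Nat.add 114735 k)) 7649 = 299 := by decide +kernel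
theorem l3k16 : countBelow (fun k => fl3 (Nat.add 122384 k)) 376 = 18 := by decide +kernel
theorem l4k0 : countBelow (fun k => fl4 (Nat.add 0 k)) 7649 = 735 := by decide +kernel
theorem l4k1 : countBelow (fun k => fl4 (Nat.add 7649 k)) 7649 = 421 := by decide +kernel
theorem l4k2 : countBelow (fun k => fl4 (Nat.add 15298 k)) 7649 = 420 := by decide +kernel
theorem l4k3 : countBelow (fun k => fl4 (Nat.add 22947 k)) 7649 = 316 := by decide +kernel
theorem l4k4 : countBelow (fun k => fl4 (Nat.add 30596 k)) 7649 = 373 := by decide +kernel
theorem l4k5 : countBelow (fun k => fl4 (Nat.add 38245 k)) 7649 = 402 := by decide +kernel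
theorem l4k6 : countBelow (fun k => fl4 (Nat.add 45894 k)) 7649 = 333 := by decide +kernel
theorem l4k7 : countBelow (fun k => fl4 (Nat.add 53543 k)) 7649 = 460 := by decide +kernel
theorem l4k8 : countBelow (fun k => fl4 (Nat.add 61192 k)) 7649 = 396 := by decide +kernel
theorem l4k9 : countBelow (fun k => fl4 (Nat.add 68841 k)) 7649 = 472 := by decide +kernel
theorem l4k10 : countBelow (fun k => fl4 (Nat.add 76490 k)) 7649 = 442 := by decide +kernel
theorem l4k11 : countBelow (fun k => fl4 (Nat.add 84139 k)) 7649 = 347 := by decide +kernel
theorem l4k12 : countBelow (fun k => fl4 (Nat.add 91788 k)) 7649 = 367 := by decide +kernel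
theorem l4k13 : countBelow (fun k => fl4 (Nat.add 99437 k)) 7649 = 351 := by decide +kernel
theorem l4k14 : countBelow (fun k => fl4 (Nat.add 107086 k)) 7649 = 341 := by decide +kernel
theorem l4k15 : countBelow (fun k => fl4 (Nat.add 114735 k)) 7649 = 207 := by decide +kernel
theorem l4k16 : countBelow (fun k => fl4 (Nat.add 122384 k)) 376 = 1 := by decide +kernel

end Cfsg.Agent.Lib.Helper35.ON122760
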