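import Cfsg.Agent.Lib.Helper35.ON122760.PTab0
import Cfsg.Agent.Lib.Helper35.PresON
import Cfsg.Agent.Lib.Helper35.TCFast
import Cfsg.Agent.Lib.Helper35.ON122760.Data

namespace Cfsg.Agent.Lib.Helper35.ON122760

open Cfsg.Agent.Lib.Helper35

set_option maxRecDepth 100000
noncomputable section
@[irreducible] def p0 (i : Nat) : Nat := Nat.land (Nat.shiftRight tQ0 (Nat.mul i 17)) 131071
@[irreducible] def p1 (i : Nat) : Nat := Nat.land (Nat.shiftRight tQ1 (Nat.mul i 17)) 131071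
@[irreducible] def p2 (i : Nat) : Nat := Nat.land (Nat.shiftRight tQ2 (Nat.mul i 17)) 131071
@[irreducible] def p3 (i : Nat) : Nat := Nat.land (Nat.shiftRight tQ3 (Nat.mul i 17)) 131071
@[irreducible] def p4 (i : Nat) : Nat := Nat.land (Nat.shiftRight tQ4 (Nat.mul i 17)) 131071
@[irreducible] def p5 (i : Nat) : Nat := Nat.land (Nat.shiftRight tQ5 (Nat.mul i 17)) 131071
@[irreducible] def p6 (i : Nat) : Nat := Nat.land (Nat.shiftRight tQ6 (Nat.mul i 17)) 131071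
@[irreducible] def p7 (i : Nat) : Nat := Nat.land (Nat.shiftRight tQ7 (Nat.mul i 17)) 131071
def pt : Nat → Nat → Nat
  | 0 => p0
  | 1 => p1
  | 2 => p2
  | 3 => p3
  | 4 => p4
  | 5 => p5
  | 6 => p6
  | 7 => p7
  | _ => fun i => i
def tp (i : Nat) : Nat := Nat.land (Nat.shiftRight tT (Nat.mul i 21)) 2097151
set_option maxRecDepth 100000
def rl0 : PLeaf pt := ⟨[2, 3, 2, 3, 2, 3], (fun i => (p3 (p2 (p3 (p2 (p3 (p2 i))))))), fun _ => rfl⟩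
def rl1 : PLeaf pt := ⟨[2, 4, 2, 4], (fun i => (p4 (p2 (p4 (p2 i))))), fun _ => rfl⟩
def rl2 : PLeaf pt := ⟨[2, 5, 2, 5], (fun i => (p5 (p2 (p5 (p2 i))))), fun _ => rfl⟩
def rl3 : PLeaf pt := ⟨[2, 6, 2, 6], (fun i => (p6 (p2 (p6 (p2 i))))), fun _ => rfl⟩
def rl4 : PLeaf pt := ⟨[2, 7, 2, 7], (fun i => (p7 (p2 (p7 (p2 i))))), fun _ => rfl⟩
def rl5 : PLeaf pt := ⟨[3, 4, 3, 4, 3, 4], (fun i => (p4 (p3 (p4 (p3 (p4 (p3 i))))))), fun _ => rfl⟩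
def rl6 : PLeaf pt := ⟨[3, 5, 3, 5], (fun i => (p5 (p3 (p5 (p3 i))))), fun _ => rfl⟩
def rl7 : PLeaf pt := ⟨[3, 6, 3, 6], (fun i => (p6 (p3 (p6 (p3 i))))), fun _ => rfl⟩
def rl8 : PLeaf pt := ⟨[3, 7, 3, 7], (fun i => (p7 (p3 (p7 (p3 i))))), fun _ => rfl⟩
def rl9 : PLeaf pt := ⟨[4, 5, 4, 5, 4, 5, 4, 5, 4, 5, 4, 5, 4, 5, 4, 5], (fun i => (p5 (p4 (p5 (p4 (p5 (p4 (p5 (p4 (p5 (p4 (p5 (p4 (p5 (p4 (p5 (p4 i))))))))))))))))), fun _ => rfl⟩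
def rl10 : PLeaf pt := ⟨[4, 6, 4, 6], (fun i => (p6 (p4 (p6 (p4 i))))), fun _ => rfl⟩
def rl11 : PLeaf pt := ⟨[4, 7, 4, 7], (fun i => (p7 (p4 (p7 (p4 i))))), fun _ => rfl⟩
def rl12 : PLeaf pt := ⟨[5, 6, 5, 6, 5, 6], (fun i => (p6 (p5 (p6 (p5 (p6 (p5 i))))))), fun _ => rfl⟩
def rl13 : PLeaf pt := ⟨[5, 7, 5, 7], (fun i => (p7 (p5 (p7 (p5 i))))), fun _ => rfl⟩
def rl14 : PLeaf pt := ⟨[6, 7, 6, 7, 6, 7], (fun i => (p7 (p6 (p7 (p6 (p7 (p6 i))))))), fun _ => rfl⟩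
def rl15 : PLeaf pt := ⟨[2, 7, 1, 1], (fun i => (p1 (p1 (p7 (p2 i))))), fun _ => rfl⟩
def rl16 : PLeaf pt := ⟨[2, 7, 5, 4, 5, 4, 5, 4, 5, 4], (fun i => (p4 (p5 (p4 (p5 (p4 (p5 (p4 (p5 (p7 (p2 i))))))))))), fun _ => rfl⟩
def rl17 : PLeaf pt := ⟨[4, 1, 5, 1, 5, 4, 5, 0, 5, 0], (fun i => (p0 (p5 (p0 (p5 (p4 (p5 (p1 (p5 (p1 (p4 i))))))))))), fun _ => rfl⟩
def rl18 : PLeaf pt := ⟨[5, 1, 4, 1, 4, 5, 4, 0, 4, 0], (fun i => (p0 (p4 (p0 (p4 (p5 (p4 (p1 (p4 (p1 (p5 i))))))))))), fun _ => rfl⟩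
def rl19 : PLeaf pt := ⟨[3, 4, 5, 0, 3, 4, 5, 0, 3, 4, 5, 0, 3, 4, 5, 0, 3, 4, 5, 0], (fun i => (p0 (p5 (p4 (p3 (p0 (p5 (p4 (p3 (p0 (p5 (p4 (p3 (p0 (p5 (p4 (p3 (p0 (p5 (p4 (p3 i))))))))))))))))))))), fun _ => rfl⟩
def rl20 : PLeaf pt := ⟨[0, 3, 4, 0, 4, 3, 0, 3, 4, 0, 4], (fun i => (p4 (p0 (p4 (p3 (p0 (p3 (p4 (p0 (p4 (p3 (p0 i)))))))))))), fun _ => rfl⟩
def rl21 : PLeaf pt := ⟨[0, 6, 5, 0, 5, 6, 0, 6, 5, 0, 5], (fun i => (p5 (p0 (p5 (p6 (p0 (p6 (p5 (p0 (p5 (p6 (p0 i)))))))))))), fun _ => rfl⟩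
def sl0 : PLeaf pt := ⟨[2], (fun i => (p2 i)), fun _ => rfl⟩
def sl1 : PLeaf pt := ⟨[3], (fun i => (p3 i)), fun _ => rfl⟩
def sl2 : PLeaf pt := ⟨[4], (fun i => (p4 i)), fun _ => rfl⟩
def sl3 : PLeaf pt := ⟨[5], (fun i => (p5 i)), fun _ => rfl⟩
def sl4 : PLeaf pt := ⟨[6], (fun i => (p6 i)), fun _ => rfl⟩
def sl5 : PLeaf pt := ⟨[7], (fun i => (p7 i)), fun _ => rfl⟩
def rl : List (PLeaf pt) := [rl0, rl1, rl2, rl3, rl4, rl5, rl6, rl7, rl8, rl9, rl10, rl11, rl12, rl13, rl14, rl15, rl16, rl17, rl18, rl19, rl20, rl21]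
def sl : List (PLeaf pt) := [sl0, sl1, sl2, sl3, sl4, sl5]
noncomputable def fr (i : Nat) : Bool := fixAll rl i
def fc0 (i : Nat) : Bool := invChk p0 p1 122760 i
def fc1 (i : Nat) : Bool := invChk p1 p0 122760 i
def fc2 (i : Nat) : Bool := invChk p2 p2 122760 i
def fc3 (i : Nat) : Bool := invChk p3 p3 122760 i
def fc4 (i : Nat) : Bool := invChk p4 p4 122760 i
def fc5 (i : Nat) : Bool := invChk p5 p5 122760 i
def fc6 (i : Nat) : Bool := invChk p6 p6 122760 i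
def fc7 (i : Nat) : Bool := invChk p7 p7 122760 i
def ft (i : Nat) : Bool := treeStep pt tp 16 8 i
def ot (i : Nat) : Nat := Nat.land (Nat.shiftRight tO (Nat.mul i 9)) 511
def rep : Nat → Nat
  | 0 => 0
  | 1 => 1
  | 2 => 6
  | 3 => 12
  | 4 => 32
  | _ => 0
noncomputable def fo (j : Nat) : Bool := orbChk ot 6 rep sl j
def fl0 (j : Nat) : Bool := Nat.beq (Nat.shiftRight (ot j) 6) 0
def fl1 (j : Nat) : Bool := Nat.beq (Nat.shiftRight (ot j) 6) 1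
def fl2 (j : Nat) : Bool := Nat.beq (Nat.shiftRight (ot j) 6) 2
def fl3 (j : Nat) : Bool := Nat.beq (Nat.shiftRight (ot j) 6) 3
def fl4 (j : Nat) : Bool := Nat.beq (Nat.shiftRight (ot j) 6) 4

end

end Cfsg.Agent.Lib.Helper35.ON122760
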