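import Cfsg.Agent.Lib.Helper35.ON122760.PChk0
import Cfsg.Agent.Lib.Helper35.ON122760.PChk1
import Cfsg.Agent.Lib.Helper35.ON122760.PChk2
import Cfsg.Agent.Lib.Helper35.ON122760.PChk3
import Cfsg.Agent.Lib.Helper35.ON122760.PChk4
import Cfsg.Agent.Lib.Helper35.ON122760.PChk5
import Cfsg.Agent.Lib.Helper35.ON122760.PChk6
import Cfsg.Agent.Lib.Helper35.ON122760.PChk7
import Cfsg.Agent.Lib.Helper35.ON122760.PChk8
import Cfsg.Agent.Lib.Helper35.ON122760.PChk9

namespace Cfsg.Agent.Lib.Helper35.ON122760

open Cfsg.Agent.Lib.Helper35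

theorem ru0 : ∀ i, i < 49 → fr i = true := below_step fr 0 49 49 (below_zero fr) rc0 rfl
theorem ru1 : ∀ i, i < 98 → fr i = true := below_step fr 49 49 98 ru0 rc1 rfl
theorem ru2 : ∀ i, i < 147 → fr i = true := below_step fr 98 49 147 ru1 rc2 rfl
theorem ru3 : ∀ i, i < 196 → fr i = true := below_step fr 147 49 196 ru2 rc3 rfl
theorem ru4 : ∀ i, i < 245 → fr i = true := below_step fr 196 49 245 ru3 rc4 rfl
theorem ru5 : ∀ i, i < 294 → fr i = true := below_step fr 245 49 294 ru4 rc5 rfl
theorem ru6 : ∀ i, i < 343 → fr i = true := below_step fr 294 49 343 ru5 rc6 rfl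
theorem ru7 : ∀ i, i < 392 → fr i = true := below_step fr 343 49 392 ru6 rc7 rfl
theorem ru8 : ∀ i, i < 441 → fr i = true := below_step fr 392 49 441 ru7 rc8 rfl
theorem ru9 : ∀ i, i < 490 → fr i = true := below_step fr 441 49 490 ru8 rc9 rfl
theorem ru10 : ∀ i, i < 539 → fr i = true := below_step fr 490 49 539 ru9 rc10 rfl
theorem ru11 : ∀ i, i < 588 → fr i = true := below_step fr 539 49 588 ru10 rc11 rfl
theorem ru12 : ∀ i, i < 637 → fr i = true := below_step fr 588 49 637 ru11 rc12 rfl
theorem ru13 : ∀ i, i < 686 → fr i = true := below_step fr 637 49 686 ru12 rc13 rfl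
theorem ru14 : ∀ i, i < 735 → fr i = true := below_step fr 686 49 735 ru13 rc14 rfl
theorem ru15 : ∀ i, i < 784 → fr i = true := below_step fr 735 49 784 ru14 rc15 rfl
theorem ru16 : ∀ i, i < 833 → fr i = true := below_step fr 784 49 833 ru15 rc16 rfl
theorem ru17 : ∀ i, i < 882 → fr i = true := below_step fr 833 49 882 ru16 rc17 rfl
theorem ru18 : ∀ i, i < 931 → fr i = true := below_step fr 882 49 931 ru17 rc18 rfl
theorem ru19 : ∀ i, i < 980 → fr i = true := below_step fr 931 49 980 ru18 rc19 rfl
theorem ru20 : ∀ i, i < 1029 → fr i = true := below_step fr 980 49 1029 ru19 rc20 rfl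
theorem ru21 : ∀ i, i < 1078 → fr i = true := below_step fr 1029 49 1078 ru20 rc21 rfl
theorem ru22 : ∀ i, i < 1127 → fr i = true := below_step fr 1078 49 1127 ru21 rc22 rfl
theorem ru23 : ∀ i, i < 1176 → fr i = true := below_step fr 1127 49 1176 ru22 rc23 rfl
theorem ru24 : ∀ i, i < 1225 → fr i = true := below_step fr 1176 49 1225 ru23 rc24 rfl
theorem ru25 : ∀ i, i < 1274 → fr i = true := below_step fr 1225 49 1274 ru24 rc25 rfl
theorem ru26 : ∀ i, i < 1323 → fr i = true := below_step fr 1274 49 1323 ru25 rc26 rfl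
theorem ru27 : ∀ i, i < 1372 → fr i = true := below_step fr 1323 49 1372 ru26 rc27 rfl
theorem ru28 : ∀ i, i < 1421 → fr i = true := below_step fr 1372 49 1421 ru27 rc28 rfl
theorem ru29 : ∀ i, i < 1470 → fr i = true := below_step fr 1421 49 1470 ru28 rc29 rfl
theorem ru30 : ∀ i, i < 1519 → fr i = true := below_step fr 1470 49 1519 ru29 rc30 rfl
theorem ru31 : ∀ i, i < 1568 → fr i = true := below_step fr 1519 49 1568 ru30 rc31 rfl
theorem ru32 : ∀ i, i < 1617 → fr i = true := below_step fr 1568 49 1617 ru31 rc32 rfl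
theorem ru33 : ∀ i, i < 1666 → fr i = true := below_step fr 1617 49 1666 ru32 rc33 rfl
theorem ru34 : ∀ i, i < 1715 → fr i = true := below_step fr 1666 49 1715 ru33 rc34 rfl
theorem ru35 : ∀ i, i < 1764 → fr i = true := below_step fr 1715 49 1764 ru34 rc35 rfl
theorem ru36 : ∀ i, i < 1813 → fr i = true := below_step fr 1764 49 1813 ru35 rc36 rfl
theorem ru37 : ∀ i, i < 1862 → fr i = true := below_step fr 1813 49 1862 ru36 rc37 rfl
theorem ru38 : ∀ i, i < 1911 → fr i = true := below_step fr 1862 49 1911 ru37 rc38 rfl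
theorem ru39 : ∀ i, i < 1960 → fr i = true := below_step fr 1911 49 1960 ru38 rc39 rfl
theorem ru40 : ∀ i, i < 2009 → fr i = true := below_step fr 1960 49 2009 ru39 rc40 rfl
theorem ru41 : ∀ i, i < 2058 → fr i = true := below_step fr 2009 49 2058 ru40 rc41 rfl
theorem ru42 : ∀ i, i < 2107 → fr i = true := below_step fr 2058 49 2107 ru41 rc42 rfl
theorem ru43 : ∀ i, i < 2156 → fr i = true := below_step fr 2107 49 2156 ru42 rc43 rfl
theorem ru44 : ∀ i, i < 2205 → fr i = true := below_step fr 2156 49 2205 ru43 rc44 rfl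
theorem ru45 : ∀ i, i < 2254 → fr i = true := below_step fr 2205 49 2254 ru44 rc45 rfl
theorem ru46 : ∀ i, i < 2303 → fr i = true := below_step fr 2254 49 2303 ru45 rc46 rfl
theorem ru47 : ∀ i, i < 2352 → fr i = true := below_step fr 2303 49 2352 ru46 rc47 rfl
theorem ru48 : ∀ i, i < 2401 → fr i = true := below_step fr 2352 49 2401 ru47 rc48 rfl
theorem ru49 : ∀ i, i < 2450 → fr i = true := below_step fr 2401 49 2450 ru48 rc49 rfl
theorem ru50 : ∀ i, i < 2499 → fr i = true := below_step fr 2450 49 2499 ru49 rc50 rfl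
theorem ru51 : ∀ i, i < 2548 → fr i = true := below_step fr 2499 49 2548 ru50 rc51 rfl
theorem ru52 : ∀ i, i < 2597 → fr i = true := below_step fr 2548 49 2597 ru51 rc52 rfl
theorem ru53 : ∀ i, i < 2646 → fr i = true := below_step fr 2597 49 2646 ru52 rc53 rfl
theorem ru54 : ∀ i, i < 2695 → fr i = true := below_step fr 2646 49 2695 ru53 rc54 rfl
theorem ru55 : ∀ i, i < 2744 → fr i = true := below_step fr 2695 49 2744 ru54 rc55 rfl
theorem ru56 : ∀ i, i < 2793 → fr i = true := below_step fr 2744 49 2793 ru55 rc56 rfl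
theorem ru57 : ∀ i, i < 2842 → fr i = true := below_step fr 2793 49 2842 ru56 rc57 rfl
theorem ru58 : ∀ i, i < 2891 → fr i = true := below_step fr 2842 49 2891 ru57 rc58 rfl
theorem ru59 : ∀ i, i < 2940 → fr i = true := below_step fr 2891 49 2940 ru58 rc59 rfl
theorem ru60 : ∀ i, i < 2989 → fr i = true := below_step fr 2940 49 2989 ru59 rc60 rfl
theorem ru61 : ∀ i, i < 3038 → fr i = true := below_step fr 2989 49 3038 ru60 rc61 rfl
theorem ru62 : ∀ i, i < 3087 → fr i = true := below_step fr 3038 49 3087 ru61 rc62 rfl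
theorem ru63 : ∀ i, i < 3136 → fr i = true := below_step fr 3087 49 3136 ru62 rc63 rfl
theorem ru64 : ∀ i, i < 3185 → fr i = true := below_step fr 3136 49 3185 ru63 rc64 rfl
theorem ru65 : ∀ i, i < 3234 → fr i = true := below_step fr 3185 49 3234 ru64 rc65 rfl
theorem ru66 : ∀ i, i < 3283 → fr i = true := below_step fr 3234 49 3283 ru65 rc66 rfl
theorem ru67 : ∀ i, i < 3332 → fr i = true := below_step fr 3283 49 3332 ru66 rc67 rfl
theorem ru68 : ∀ i, i < 3381 → fr i = true := below_step fr 3332 49 3381 ru67 rc68 rfl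
theorem ru69 : ∀ i, i < 3430 → fr i = true := below_step fr 3381 49 3430 ru68 rc69 rfl
theorem ru70 : ∀ i, i < 3479 → fr i = true := below_step fr 3430 49 3479 ru69 rc70 rfl
theorem ru71 : ∀ i, i < 3528 → fr i = true := below_step fr 3479 49 3528 ru70 rc71 rfl
theorem ru72 : ∀ i, i < 3577 → fr i = true := below_step fr 3528 49 3577 ru71 rc72 rfl
theorem ru73 : ∀ i, i < 3626 → fr i = true := below_step fr 3577 49 3626 ru72 rc73 rfl
theorem ru74 : ∀ i, i < 3675 → fr i = true := below_step fr 3626 49 3675 ru73 rc74 rfl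
theorem ru75 : ∀ i, i < 3724 → fr i = true := below_step fr 3675 49 3724 ru74 rc75 rfl
theorem ru76 : ∀ i, i < 3773 → fr i = true := below_step fr 3724 49 3773 ru75 rc76 rfl
theorem ru77 : ∀ i, i < 3822 → fr i = true := below_step fr 3773 49 3822 ru76 rc77 rfl
theorem ru78 : ∀ i, i < 3871 → fr i = true := below_step fr 3822 49 3871 ru77 rc78 rfl
theorem ru79 : ∀ i, i < 3920 → fr i = true := below_step fr 3871 49 3920 ru78 rc79 rfl
theorem ru80 : ∀ i, i < 3969 → fr i = true := below_step fr 3920 49 3969 ru79 rc80 rfl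
theorem ru81 : ∀ i, i < 4018 → fr i = true := below_step fr 3969 49 4018 ru80 rc81 rfl
theorem ru82 : ∀ i, i < 4067 → fr i = true := below_step fr 4018 49 4067 ru81 rc82 rfl
theorem ru83 : ∀ i, i < 4116 → fr i = true := below_step fr 4067 49 4116 ru82 rc83 rfl
theorem ru84 : ∀ i, i < 4165 → fr i = true := below_step fr 4116 49 4165 ru83 rc84 rfl
theorem ru85 : ∀ i, i < 4214 → fr i = true := below_step fr 4165 49 4214 ru84 rc85 rfl
theorem ru86 : ∀ i, i < 4263 → fr i = true := below_step fr 4214 49 4263 ru85 rc86 rfl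
theorem ru87 : ∀ i, i < 4312 → fr i = true := below_step fr 4263 49 4312 ru86 rc87 rfl
theorem ru88 : ∀ i, i < 4361 → fr i = true := below_step fr 4312 49 4361 ru87 rc88 rfl
theorem ru89 : ∀ i, i < 4410 → fr i = true := below_step fr 4361 49 4410 ru88 rc89 rfl
theorem ru90 : ∀ i, i < 4459 → fr i = true := below_step fr 4410 49 4459 ru89 rc90 rfl
theorem ru91 : ∀ i, i < 4508 → fr i = true := below_step fr 4459 49 4508 ru90 rc91 rfl
theorem ru92 : ∀ i, i < 4557 → fr i = true := below_step fr 4508 49 4557 ru91 rc92 rfl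
theorem ru93 : ∀ i, i < 4606 → fr i = true := below_step fr 4557 49 4606 ru92 rc93 rfl
theorem ru94 : ∀ i, i < 4655 → fr i = true := below_step fr 4606 49 4655 ru93 rc94 rfl
theorem ru95 : ∀ i, i < 4704 → fr i = true := below_step fr 4655 49 4704 ru94 rc95 rfl
theorem ru96 : ∀ i, i < 4753 → fr i = true := below_step fr 4704 49 4753 ru95 rc96 rfl
theorem ru97 : ∀ i, i < 4802 → fr i = true := below_step fr 4753 49 4802 ru96 rc97 rfl
theorem ru98 : ∀ i, i < 4851 → fr i = true := below_step fr 4802 49 4851 ru97 rc98 rfl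
theorem ru99 : ∀ i, i < 4900 → fr i = true := below_step fr 4851 49 4900 ru98 rc99 rfl
theorem ru100 : ∀ i, i < 4949 → fr i = true := below_step fr 4900 49 4949 ru99 rc100 rfl
theorem ru101 : ∀ i, i < 4998 → fr i = true := below_step fr 4949 49 4998 ru100 rc101 rfl
theorem ru102 : ∀ i, i < 5047 → fr i = true := below_step fr 4998 49 5047 ru101 rc102 rfl
theorem ru103 : ∀ i, i < 5096 → fr i = true := below_step fr 5047 49 5096 ru102 rc103 rfl
theorem ru104 : ∀ i, i < 5145 → fr i = true := below_step fr 5096 49 5145 ru103 rc104 rfl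
theorem ru105 : ∀ i, i < 5194 → fr i = true := below_step fr 5145 49 5194 ru104 rc105 rfl
theorem ru106 : ∀ i, i < 5243 → fr i = true := below_step fr 5194 49 5243 ru105 rc106 rfl
theorem ru107 : ∀ i, i < 5292 → fr i = true := below_step fr 5243 49 5292 ru106 rc107 rfl
theorem ru108 : ∀ i, i < 5341 → fr i = true := below_step fr 5292 49 5341 ru107 rc108 rfl
theorem ru109 : ∀ i, i < 5390 → fr i = true := below_step fr 5341 49 5390 ru108 rc109 rfl
theorem ru110 : ∀ i, i < 5439 → fr i = true := below_step fr 5390 49 5439 ru109 rc110 rfl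
theorem ru111 : ∀ i, i < 5488 → fr i = true := below_step fr 5439 49 5488 ru110 rc111 rfl
theorem ru112 : ∀ i, i < 5537 → fr i = true := below_step fr 5488 49 5537 ru111 rc112 rfl
theorem ru113 : ∀ i, i < 5586 → fr i = true := below_step fr 5537 49 5586 ru112 rc113 rfl
theorem ru114 : ∀ i, i < 5635 → fr i = true := below_step fr 5586 49 5635 ru113 rc114 rfl
theorem ru115 : ∀ i, i < 5684 → fr i = true := below_step fr 5635 49 5684 ru114 rc115 rfl
theorem ru116 : ∀ i, i < 5733 → fr i = true := below_step fr 5684 49 5733 ru115 rc116 rfl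
theorem ru117 : ∀ i, i < 5782 → fr i = true := below_step fr 5733 49 5782 ru116 rc117 rfl
theorem ru118 : ∀ i, i < 5831 → fr i = true := below_step fr 5782 49 5831 ru117 rc118 rfl
theorem ru119 : ∀ i, i < 5880 → fr i = true := below_step fr 5831 49 5880 ru118 rc119 rfl
theorem ru120 : ∀ i, i < 5929 → fr i = true := below_step fr 5880 49 5929 ru119 rc120 rfl
theorem ru121 : ∀ i, i < 5978 → fr i = true := below_step fr 5929 49 5978 ru120 rc121 rfl
theorem ru122 : ∀ i, i < 6027 → fr i = true := below_step fr 5978 49 6027 ru121 rc122 rfl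
theorem ru123 : ∀ i, i < 6076 → fr i = true := below_step fr 6027 49 6076 ru122 rc123 rfl
theorem ru124 : ∀ i, i < 6125 → fr i = true := below_step fr 6076 49 6125 ru123 rc124 rfl
theorem ru125 : ∀ i, i < 6174 → fr i = true := below_step fr 6125 49 6174 ru124 rc125 rfl
theorem ru126 : ∀ i, i < 6223 → fr i = true := below_step fr 6174 49 6223 ru125 rc126 rfl
theorem ru127 : ∀ i, i < 6272 → fr i = true := below_step fr 6223 49 6272 ru126 rc127 rfl
theorem ru128 : ∀ i, i < 6321 → fr i = true := below_step fr 6272 49 6321 ru127 rc128 rfl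
theorem ru129 : ∀ i, i < 6370 → fr i = true := below_step fr 6321 49 6370 ru128 rc129 rfl
theorem ru130 : ∀ i, i < 6419 → fr i = true := below_step fr 6370 49 6419 ru129 rc130 rfl
theorem ru131 : ∀ i, i < 6468 → fr i = true := below_step fr 6419 49 6468 ru130 rc131 rfl
theorem ru132 : ∀ i, i < 6517 → fr i = true := below_step fr 6468 49 6517 ru131 rc132 rfl
theorem ru133 : ∀ i, i < 6566 → fr i = true := below_step fr 6517 49 6566 ru132 rc133 rfl
theorem ru134 : ∀ i, i < 6615 → fr i = true := below_step fr 6566 49 6615 ru133 rc134 rfl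
theorem ru135 : ∀ i, i < 6664 → fr i = true := below_step fr 6615 49 6664 ru134 rc135 rfl
theorem ru136 : ∀ i, i < 6713 → fr i = true := below_step fr 6664 49 6713 ru135 rc136 rfl
theorem ru137 : ∀ i, i < 6762 → fr i = true := below_step fr 6713 49 6762 ru136 rc137 rfl
theorem ru138 : ∀ i, i < 6811 → fr i = true := below_step fr 6762 49 6811 ru137 rc138 rfl
theorem ru139 : ∀ i, i < 6860 → fr i = true := below_step fr 6811 49 6860 ru138 rc139 rfl
theorem ru140 : ∀ i, i < 6909 → fr i = true := below_step fr 6860 49 6909 ru139 rc140 rfl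
theorem ru141 : ∀ i, i < 6958 → fr i = true := below_step fr 6909 49 6958 ru140 rc141 rfl
theorem ru142 : ∀ i, i < 7007 → fr i = true := below_step fr 6958 49 7007 ru141 rc142 rfl
theorem ru143 : ∀ i, i < 7056 → fr i = true := below_step fr 7007 49 7056 ru142 rc143 rfl
theorem ru144 : ∀ i, i < 7105 → fr i = true := below_step fr 7056 49 7105 ru143 rc144 rfl
theorem ru145 : ∀ i, i < 7154 → fr i = true := below_step fr 7105 49 7154 ru144 rc145 rfl
theorem ru146 : ∀ i, i < 7203 → fr i = true := below_step fr 7154 49 7203 ru145 rc146 rfl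
theorem ru147 : ∀ i, i < 7252 → fr i = true := below_step fr 7203 49 7252 ru146 rc147 rfl
theorem ru148 : ∀ i, i < 7301 → fr i = true := below_step fr 7252 49 7301 ru147 rc148 rfl
theorem ru149 : ∀ i, i < 7350 → fr i = true := below_step fr 7301 49 7350 ru148 rc149 rfl
theorem ru150 : ∀ i, i < 7399 → fr i = true := below_step fr 7350 49 7399 ru149 rc150 rfl
theorem ru151 : ∀ i, i < 7448 → fr i = true := below_step fr 7399 49 7448 ru150 rc151 rfl
theorem ru152 : ∀ i, i < 7497 → fr i = true := below_step fr 7448 49 7497 ru151 rc152 rfl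
theorem ru153 : ∀ i, i < 7546 → fr i = true := below_step fr 7497 49 7546 ru152 rc153 rfl
theorem ru154 : ∀ i, i < 7595 → fr i = true := below_step fr 7546 49 7595 ru153 rc154 rfl
theorem ru155 : ∀ i, i < 7644 → fr i = true := below_step fr 7595 49 7644 ru154 rc155 rfl
theorem ru156 : ∀ i, i < 7693 → fr i = true := below_step fr 7644 49 7693 ru155 rc156 rfl
theorem ru157 : ∀ i, i < 7742 → fr i = true := below_step fr 7693 49 7742 ru156 rc157 rfl
theorem ru158 : ∀ i, i < 7791 → fr i = true := below_step fr 7742 49 7791 ru157 rc158 rfl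
theorem ru159 : ∀ i, i < 7840 → fr i = true := below_step fr 7791 49 7840 ru158 rc159 rfl
theorem ru160 : ∀ i, i < 7889 → fr i = true := below_step fr 7840 49 7889 ru159 rc160 rfl
theorem ru161 : ∀ i, i < 7938 → fr i = true := below_step fr 7889 49 7938 ru160 rc161 rfl
theorem ru162 : ∀ i, i < 7987 → fr i = true := below_step fr 7938 49 7987 ru161 rc162 rfl
theorem ru163 : ∀ i, i < 8036 → fr i = true := below_step fr 7987 49 8036 ru162 rc163 rfl
theorem ru164 : ∀ i, i < 8085 → fr i = true := below_step fr 8036 49 8085 ru163 rc164 rfl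
theorem ru165 : ∀ i, i < 8134 → fr i = true := below_step fr 8085 49 8134 ru164 rc165 rfl
theorem ru166 : ∀ i, i < 8183 → fr i = true := below_step fr 8134 49 8183 ru165 rc166 rfl
theorem ru167 : ∀ i, i < 8232 → fr i = true := below_step fr 8183 49 8232 ru166 rc167 rfl
theorem ru168 : ∀ i, i < 8281 → fr i = true := below_step fr 8232 49 8281 ru167 rc168 rfl
theorem ru169 : ∀ i, i < 8330 → fr i = true := below_step fr 8281 49 8330 ru168 rc169 rfl
theorem ru170 : ∀ i, i < 8379 → fr i = true := below_step fr 8330 49 8379 ru169 rc170 rfl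
theorem ru171 : ∀ i, i < 8428 → fr i = true := below_step fr 8379 49 8428 ru170 rc171 rfl
theorem ru172 : ∀ i, i < 8477 → fr i = true := below_step fr 8428 49 8477 ru171 rc172 rfl
theorem ru173 : ∀ i, i < 8526 → fr i = true := below_step fr 8477 49 8526 ru172 rc173 rfl
theorem ru174 : ∀ i, i < 8575 → fr i = true := below_step fr 8526 49 8575 ru173 rc174 rfl
theorem ru175 : ∀ i, i < 8624 → fr i = true := below_step fr 8575 49 8624 ru174 rc175 rfl
theorem ru176 : ∀ i, i < 8673 → fr i = true := below_step fr 8624 49 8673 ru175 rc176 rfl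
theorem ru177 : ∀ i, i < 8722 → fr i = true := below_step fr 8673 49 8722 ru176 rc177 rfl
theorem ru178 : ∀ i, i < 8771 → fr i = true := below_step fr 8722 49 8771 ru177 rc178 rfl
theorem ru179 : ∀ i, i < 8820 → fr i = true := below_step fr 8771 49 8820 ru178 rc179 rfl
theorem ru180 : ∀ i, i < 8869 → fr i = true := below_step fr 8820 49 8869 ru179 rc180 rfl
theorem ru181 : ∀ i, i < 8918 → fr i = true := below_step fr 8869 49 8918 ru180 rc181 rfl
theorem ru182 : ∀ i, i < 8967 → fr i = true := below_step fr 8918 49 8967 ru181 rc182 rfl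
theorem ru183 : ∀ i, i < 9016 → fr i = true := below_step fr 8967 49 9016 ru182 rc183 rfl
theorem ru184 : ∀ i, i < 9065 → fr i = true := below_step fr 9016 49 9065 ru183 rc184 rfl
theorem ru185 : ∀ i, i < 9114 → fr i = true := below_step fr 9065 49 9114 ru184 rc185 rfl
theorem ru186 : ∀ i, i < 9163 → fr i = true := below_step fr 9114 49 9163 ru185 rc186 rfl
theorem ru187 : ∀ i, i < 9212 → fr i = true := below_step fr 9163 49 9212 ru186 rc187 rfl
theorem ru188 : ∀ i, i < 9261 → fr i = true := below_step fr 9212 49 9261 ru187 rc188 rfl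
theorem ru189 : ∀ i, i < 9310 → fr i = true := below_step fr 9261 49 9310 ru188 rc189 rfl
theorem ru190 : ∀ i, i < 9359 → fr i = true := below_step fr 9310 49 9359 ru189 rc190 rfl
theorem ru191 : ∀ i, i < 9408 → fr i = true := below_step fr 9359 49 9408 ru190 rc191 rfl
theorem ru192 : ∀ i, i < 9457 → fr i = true := below_step fr 9408 49 9457 ru191 rc192 rfl
theorem ru193 : ∀ i, i < 9506 → fr i = true := below_step fr 9457 49 9506 ru192 rc193 rfl
theorem ru194 : ∀ i, i < 9555 → fr i = true := below_step fr 9506 49 9555 ru193 rc194 rfl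
theorem ru195 : ∀ i, i < 9604 → fr i = true := below_step fr 9555 49 9604 ru194 rc195 rfl
theorem ru196 : ∀ i, i < 9653 → fr i = true := below_step fr 9604 49 9653 ru195 rc196 rfl
theorem ru197 : ∀ i, i < 9702 → fr i = true := below_step fr 9653 49 9702 ru196 rc197 rfl
theorem ru198 : ∀ i, i < 9751 → fr i = true := below_step fr 9702 49 9751 ru197 rc198 rfl
theorem ru199 : ∀ i, i < 9800 → fr i = true := below_step fr 9751 49 9800 ru198 rc199 rfl
theorem ru200 : ∀ i, i < 9849 → fr i = true := below_step fr 9800 49 9849 ru199 rc200 rfl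
theorem ru201 : ∀ i, i < 9898 → fr i = true := below_step fr 9849 49 9898 ru200 rc201 rfl
theorem ru202 : ∀ i, i < 9947 → fr i = true := below_step fr 9898 49 9947 ru201 rc202 rfl
theorem ru203 : ∀ i, i < 9996 → fr i = true := below_step fr 9947 49 9996 ru202 rc203 rfl
theorem ru204 : ∀ i, i < 10045 → fr i = true := below_step fr 9996 49 10045 ru203 rc204 rfl
theorem ru205 : ∀ i, i < 10094 → fr i = true := below_step fr 10045 49 10094 ru204 rc205 rfl
theorem ru206 : ∀ i, i < 10143 → fr i = true := below_step fr 10094 49 10143 ru205 rc206 rfl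
theorem ru207 : ∀ i, i < 10192 → fr i = true := below_step fr 10143 49 10192 ru206 rc207 rfl
theorem ru208 : ∀ i, i < 10241 → fr i = true := below_step fr 10192 49 10241 ru207 rc208 rfl
theorem ru209 : ∀ i, i < 10290 → fr i = true := below_step fr 10241 49 10290 ru208 rc209 rfl
theorem ru210 : ∀ i, i < 10339 → fr i = true := below_step fr 10290 49 10339 ru209 rc210 rfl
theorem ru211 : ∀ i, i < 10388 → fr i = true := below_step fr 10339 49 10388 ru210 rc211 rfl
theorem ru212 : ∀ i, i < 10437 → fr i = true := below_step fr 10388 49 10437 ru211 rc212 rfl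
theorem ru213 : ∀ i, i < 10486 → fr i = true := below_step fr 10437 49 10486 ru212 rc213 rfl
theorem ru214 : ∀ i, i < 10535 → fr i = true := below_step fr 10486 49 10535 ru213 rc214 rfl
theorem ru215 : ∀ i, i < 10584 → fr i = true := below_step fr 10535 49 10584 ru214 rc215 rfl
theorem ru216 : ∀ i, i < 10633 → fr i = true := below_step fr 10584 49 10633 ru215 rc216 rfl
theorem ru217 : ∀ i, i < 10682 → fr i = true := below_step fr 10633 49 10682 ru216 rc217 rfl
theorem ru218 : ∀ i, i < 10731 → fr i = true := below_step fr 10682 49 10731 ru217 rc218 rfl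
theorem ru219 : ∀ i, i < 10780 → fr i = true := below_step fr 10731 49 10780 ru218 rc219 rfl
theorem ru220 : ∀ i, i < 10829 → fr i = true := below_step fr 10780 49 10829 ru219 rc220 rfl
theorem ru221 : ∀ i, i < 10878 → fr i = true := below_step fr 10829 49 10878 ru220 rc221 rfl
theorem ru222 : ∀ i, i < 10927 → fr i = true := below_step fr 10878 49 10927 ru221 rc222 rfl
theorem ru223 : ∀ i, i < 10976 → fr i = true := below_step fr 10927 49 10976 ru222 rc223 rfl
theorem ru224 : ∀ i, i < 11025 → fr i = true := below_step fr 10976 49 11025 ru223 rc224 rfl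
theorem ru225 : ∀ i, i < 11074 → fr i = true := below_step fr 11025 49 11074 ru224 rc225 rfl
theorem ru226 : ∀ i, i < 11123 → fr i = true := below_step fr 11074 49 11123 ru225 rc226 rfl
theorem ru227 : ∀ i, i < 11172 → fr i = true := below_step fr 11123 49 11172 ru226 rc227 rfl
theorem ru228 : ∀ i, i < 11221 → fr i = true := below_step fr 11172 49 11221 ru227 rc228 rfl
theorem ru229 : ∀ i, i < 11270 → fr i = true := below_step fr 11221 49 11270 ru228 rc229 rfl
theorem ru230 : ∀ i, i < 11319 → fr i = true := below_step fr 11270 49 11319 ru229 rc230 rfl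
theorem ru231 : ∀ i, i < 11368 → fr i = true := below_step fr 11319 49 11368 ru230 rc231 rfl
theorem ru232 : ∀ i, i < 11417 → fr i = true := below_step fr 11368 49 11417 ru231 rc232 rfl
theorem ru233 : ∀ i, i < 11466 → fr i = true := below_step fr 11417 49 11466 ru232 rc233 rfl
theorem ru234 : ∀ i, i < 11515 → fr i = true := below_step fr 11466 49 11515 ru233 rc234 rfl
theorem ru235 : ∀ i, i < 11564 → fr i = true := below_step fr 11515 49 11564 ru234 rc235 rfl
theorem ru236 : ∀ i, i < 11613 → fr i = true := below_step fr 11564 49 11613 ru235 rc236 rfl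
theorem ru237 : ∀ i, i < 11662 → fr i = true := below_step fr 11613 49 11662 ru236 rc237 rfl
theorem ru238 : ∀ i, i < 11711 → fr i = true := below_step fr 11662 49 11711 ru237 rc238 rfl
theorem ru239 : ∀ i, i < 11760 → fr i = true := below_step fr 11711 49 11760 ru238 rc239 rfl
theorem ru240 : ∀ i, i < 11809 → fr i = true := below_step fr 11760 49 11809 ru239 rc240 rfl
theorem ru241 : ∀ i, i < 11858 → fr i = true := below_step fr 11809 49 11858 ru240 rc241 rfl
theorem ru242 : ∀ i, i < 11907 → fr i = true := below_step fr 11858 49 11907 ru241 rc242 rfl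
theorem ru243 : ∀ i, i < 11956 → fr i = true := below_step fr 11907 49 11956 ru242 rc243 rfl
theorem ru244 : ∀ i, i < 12005 → fr i = true := below_step fr 11956 49 12005 ru243 rc244 rfl
theorem ru245 : ∀ i, i < 12054 → fr i = true := below_step fr 12005 49 12054 ru244 rc245 rfl
theorem ru246 : ∀ i, i < 12103 → fr i = true := below_step fr 12054 49 12103 ru245 rc246 rfl
theorem ru247 : ∀ i, i < 12152 → fr i = true := below_step fr 12103 49 12152 ru246 rc247 rfl
theorem ru248 : ∀ i, i < 12201 → fr i = true := below_step fr 12152 49 12201 ru247 rc248 rfl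
theorem ru249 : ∀ i, i < 12250 → fr i = true := below_step fr 12201 49 12250 ru248 rc249 rfl
theorem ru250 : ∀ i, i < 12299 → fr i = true := below_step fr 12250 49 12299 ru249 rc250 rfl
theorem ru251 : ∀ i, i < 12348 → fr i = true := below_step fr 12299 49 12348 ru250 rc251 rfl
theorem ru252 : ∀ i, i < 12397 → fr i = true := below_step fr 12348 49 12397 ru251 rc252 rfl
theorem ru253 : ∀ i, i < 12446 → fr i = true := below_step fr 12397 49 12446 ru252 rc253 rfl
theorem ru254 : ∀ i, i < 12495 → fr i = true := below_step fr 12446 49 12495 ru253 rc254 rfl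
theorem ru255 : ∀ i, i < 12544 → fr i = true := below_step fr 12495 49 12544 ru254 rc255 rfl
theorem ru256 : ∀ i, i < 12593 → fr i = true := below_step fr 12544 49 12593 ru255 rc256 rfl
theorem ru257 : ∀ i, i < 12642 → fr i = true := below_step fr 12593 49 12642 ru256 rc257 rfl
theorem ru258 : ∀ i, i < 12691 → fr i = true := below_step fr 12642 49 12691 ru257 rc258 rfl
theorem ru259 : ∀ i, i < 12740 → fr i = true := below_step fr 12691 49 12740 ru258 rc259 rfl
theorem ru260 : ∀ i, i < 12789 → fr i = true := below_step fr 12740 49 12789 ru259 rc260 rfl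
theorem ru261 : ∀ i, i < 12838 → fr i = true := below_step fr 12789 49 12838 ru260 rc261 rfl
theorem ru262 : ∀ i, i < 12887 → fr i = true := below_step fr 12838 49 12887 ru261 rc262 rfl
theorem ru263 : ∀ i, i < 12936 → fr i = true := below_step fr 12887 49 12936 ru262 rc263 rfl
theorem ru264 : ∀ i, i < 12985 → fr i = true := below_step fr 12936 49 12985 ru263 rc264 rfl
theorem ru265 : ∀ i, i < 13034 → fr i = true := below_step fr 12985 49 13034 ru264 rc265 rfl
theorem ru266 : ∀ i, i < 13083 → fr i = true := below_step fr 13034 49 13083 ru265 rc266 rfl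
theorem ru267 : ∀ i, i < 13132 → fr i = true := below_step fr 13083 49 13132 ru266 rc267 rfl
theorem ru268 : ∀ i, i < 13181 → fr i = true := below_step fr 13132 49 13181 ru267 rc268 rfl
theorem ru269 : ∀ i, i < 13230 → fr i = true := below_step fr 13181 49 13230 ru268 rc269 rfl
theorem ru270 : ∀ i, i < 13279 → fr i = true := below_step fr 13230 49 13279 ru269 rc270 rfl
theorem ru271 : ∀ i, i < 13328 → fr i = true := below_step fr 13279 49 13328 ru270 rc271 rfl
theorem ru272 : ∀ i, i < 13377 → fr i = true := below_step fr 13328 49 13377 ru271 rc272 rfl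
theorem ru273 : ∀ i, i < 13426 → fr i = true := below_step fr 13377 49 13426 ru272 rc273 rfl
theorem ru274 : ∀ i, i < 13475 → fr i = true := below_step fr 13426 49 13475 ru273 rc274 rfl
theorem ru275 : ∀ i, i < 13524 → fr i = true := below_step fr 13475 49 13524 ru274 rc275 rfl
theorem ru276 : ∀ i, i < 13573 → fr i = true := below_step fr 13524 49 13573 ru275 rc276 rfl
theorem ru277 : ∀ i, i < 13622 → fr i = true := below_step fr 13573 49 13622 ru276 rc277 rfl
theorem ru278 : ∀ i, i < 13671 → fr i = true := below_step fr 13622 49 13671 ru277 rc278 rfl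
theorem ru279 : ∀ i, i < 13720 → fr i = true := below_step fr 13671 49 13720 ru278 rc279 rfl
theorem ru280 : ∀ i, i < 13769 → fr i = true := below_step fr 13720 49 13769 ru279 rc280 rfl
theorem ru281 : ∀ i, i < 13818 → fr i = true := below_step fr 13769 49 13818 ru280 rc281 rfl
theorem ru282 : ∀ i, i < 13867 → fr i = true := below_step fr 13818 49 13867 ru281 rc282 rfl
theorem ru283 : ∀ i, i < 13916 → fr i = true := below_step fr 13867 49 13916 ru282 rc283 rfl
theorem ru284 : ∀ i, i < 13965 → fr i = true := below_step fr 13916 49 13965 ru283 rc284 rfl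
theorem ru285 : ∀ i, i < 14014 → fr i = true := below_step fr 13965 49 14014 ru284 rc285 rfl
theorem ru286 : ∀ i, i < 14063 → fr i = true := below_step fr 14014 49 14063 ru285 rc286 rfl
theorem ru287 : ∀ i, i < 14112 → fr i = true := below_step fr 14063 49 14112 ru286 rc287 rfl
theorem ru288 : ∀ i, i < 14161 → fr i = true := below_step fr 14112 49 14161 ru287 rc288 rfl
theorem ru289 : ∀ i, i < 14210 → fr i = true := below_step fr 14161 49 14210 ru288 rc289 rfl
theorem ru290 : ∀ i, i < 14259 → fr i = true := below_step fr 14210 49 14259 ru289 rc290 rfl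
theorem ru291 : ∀ i, i < 14308 → fr i = true := below_step fr 14259 49 14308 ru290 rc291 rfl
theorem ru292 : ∀ i, i < 14357 → fr i = true := below_step fr 14308 49 14357 ru291 rc292 rfl
theorem ru293 : ∀ i, i < 14406 → fr i = true := below_step fr 14357 49 14406 ru292 rc293 rfl
theorem ru294 : ∀ i, i < 14455 → fr i = true := below_step fr 14406 49 14455 ru293 rc294 rfl
theorem ru295 : ∀ i, i < 14504 → fr i = true := below_step fr 14455 49 14504 ru294 rc295 rfl
theorem ru296 : ∀ i, i < 14553 → fr i = true := below_step fr 14504 49 14553 ru295 rc296 rfl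
theorem ru297 : ∀ i, i < 14602 → fr i = true := below_step fr 14553 49 14602 ru296 rc297 rfl
theorem ru298 : ∀ i, i < 14651 → fr i = true := below_step fr 14602 49 14651 ru297 rc298 rfl
theorem ru299 : ∀ i, i < 14700 → fr i = true := below_step fr 14651 49 14700 ru298 rc299 rfl
theorem ru300 : ∀ i, i < 14749 → fr i = true := below_step fr 14700 49 14749 ru299 rc300 rfl
theorem ru301 : ∀ i, i < 14798 → fr i = true := below_step fr 14749 49 14798 ru300 rc301 rfl
theorem ru302 : ∀ i, i < 14847 → fr i = true := below_step fr 14798 49 14847 ru301 rc302 rfl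
theorem ru303 : ∀ i, i < 14896 → fr i = true := below_step fr 14847 49 14896 ru302 rc303 rfl
theorem ru304 : ∀ i, i < 14945 → fr i = true := below_step fr 14896 49 14945 ru303 rc304 rfl
theorem ru305 : ∀ i, i < 14994 → fr i = true := below_step fr 14945 49 14994 ru304 rc305 rfl
theorem ru306 : ∀ i, i < 15043 → fr i = true := below_step fr 14994 49 15043 ru305 rc306 rfl
theorem ru307 : ∀ i, i < 15092 → fr i = true := below_step fr 15043 49 15092 ru306 rc307 rfl
theorem ru308 : ∀ i, i < 15141 → fr i = true := below_step fr 15092 49 15141 ru307 rc308 rfl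
theorem ru309 : ∀ i, i < 15190 → fr i = true := below_step fr 15141 49 15190 ru308 rc309 rfl
theorem ru310 : ∀ i, i < 15239 → fr i = true := below_step fr 15190 49 15239 ru309 rc310 rfl
theorem ru311 : ∀ i, i < 15288 → fr i = true := below_step fr 15239 49 15288 ru310 rc311 rfl
theorem ru312 : ∀ i, i < 15337 → fr i = true := below_step fr 15288 49 15337 ru311 rc312 rfl
theorem ru313 : ∀ i, i < 15386 → fr i = true := below_step fr 15337 49 15386 ru312 rc313 rfl
theorem ru314 : ∀ i, i < 15435 → fr i = true := below_step fr 15386 49 15435 ru313 rc314 rfl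
theorem ru315 : ∀ i, i < 15484 → fr i = true := below_step fr 15435 49 15484 ru314 rc315 rfl
theorem ru316 : ∀ i, i < 15533 → fr i = true := below_step fr 15484 49 15533 ru315 rc316 rfl
theorem ru317 : ∀ i, i < 15582 → fr i = true := below_step fr 15533 49 15582 ru316 rc317 rfl
theorem ru318 : ∀ i, i < 15631 → fr i = true := below_step fr 15582 49 15631 ru317 rc318 rfl
theorem ru319 : ∀ i, i < 15680 → fr i = true := below_step fr 15631 49 15680 ru318 rc319 rfl
theorem ru320 : ∀ i, i < 15729 → fr i = true := below_step fr 15680 49 15729 ru319 rc320 rfl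
theorem ru321 : ∀ i, i < 15778 → fr i = true := below_step fr 15729 49 15778 ru320 rc321 rfl
theorem ru322 : ∀ i, i < 15827 → fr i = true := below_step fr 15778 49 15827 ru321 rc322 rfl
theorem ru323 : ∀ i, i < 15876 → fr i = true := below_step fr 15827 49 15876 ru322 rc323 rfl
theorem ru324 : ∀ i, i < 15925 → fr i = true := below_step fr 15876 49 15925 ru323 rc324 rfl
theorem ru325 : ∀ i, i < 15974 → fr i = true := below_step fr 15925 49 15974 ru324 rc325 rfl
theorem ru326 : ∀ i, i < 16023 → fr i = true := below_step fr 15974 49 16023 ru325 rc326 rfl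
theorem ru327 : ∀ i, i < 16072 → fr i = true := below_step fr 16023 49 16072 ru326 rc327 rfl
theorem ru328 : ∀ i, i < 16121 → fr i = true := below_step fr 16072 49 16121 ru327 rc328 rfl
theorem ru329 : ∀ i, i < 16170 → fr i = true := below_step fr 16121 49 16170 ru328 rc329 rfl
theorem ru330 : ∀ i, i < 16219 → fr i = true := below_step fr 16170 49 16219 ru329 rc330 rfl
theorem ru331 : ∀ i, i < 16268 → fr i = true := below_step fr 16219 49 16268 ru330 rc331 rfl
theorem ru332 : ∀ i, i < 16317 → fr i = true := below_step fr 16268 49 16317 ru331 rc332 rfl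
theorem ru333 : ∀ i, i < 16366 → fr i = true := below_step fr 16317 49 16366 ru332 rc333 rfl
theorem ru334 : ∀ i, i < 16415 → fr i = true := below_step fr 16366 49 16415 ru333 rc334 rfl
theorem ru335 : ∀ i, i < 16464 → fr i = true := below_step fr 16415 49 16464 ru334 rc335 rfl
theorem ru336 : ∀ i, i < 16513 → fr i = true := below_step fr 16464 49 16513 ru335 rc336 rfl
theorem ru337 : ∀ i, i < 16562 → fr i = true := below_step fr 16513 49 16562 ru336 rc337 rfl
theorem ru338 : ∀ i, i < 16611 → fr i = true := below_step fr 16562 49 16611 ru337 rc338 rfl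
theorem ru339 : ∀ i, i < 16660 → fr i = true := below_step fr 16611 49 16660 ru338 rc339 rfl
theorem ru340 : ∀ i, i < 16709 → fr i = true := below_step fr 16660 49 16709 ru339 rc340 rfl
theorem ru341 : ∀ i, i < 16758 → fr i = true := below_step fr 16709 49 16758 ru340 rc341 rfl
theorem ru342 : ∀ i, i < 16807 → fr i = true := below_step fr 16758 49 16807 ru341 rc342 rfl
theorem ru343 : ∀ i, i < 16856 → fr i = true := below_step fr 16807 49 16856 ru342 rc343 rfl
theorem ru344 : ∀ i, i < 16905 → fr i = true := below_step fr 16856 49 16905 ru343 rc344 rfl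
theorem ru345 : ∀ i, i < 16954 → fr i = true := below_step fr 16905 49 16954 ru344 rc345 rfl
theorem ru346 : ∀ i, i < 17003 → fr i = true := below_step fr 16954 49 17003 ru345 rc346 rfl
theorem ru347 : ∀ i, i < 17052 → fr i = true := below_step fr 17003 49 17052 ru346 rc347 rfl
theorem ru348 : ∀ i, i < 17101 → fr i = true := below_step fr 17052 49 17101 ru347 rc348 rfl
theorem ru349 : ∀ i, i < 17150 → fr i = true := below_step fr 17101 49 17150 ru348 rc349 rfl
theorem ru350 : ∀ i, i < 17199 → fr i = true := below_step fr 17150 49 17199 ru349 rc350 rfl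
theorem ru351 : ∀ i, i < 17248 → fr i = true := below_step fr 17199 49 17248 ru350 rc351 rfl
theorem ru352 : ∀ i, i < 17297 → fr i = true := below_step fr 17248 49 17297 ru351 rc352 rfl
theorem ru353 : ∀ i, i < 17346 → fr i = true := below_step fr 17297 49 17346 ru352 rc353 rfl
theorem ru354 : ∀ i, i < 17395 → fr i = true := below_step fr 17346 49 17395 ru353 rc354 rfl
theorem ru355 : ∀ i, i < 17444 → fr i = true := below_step fr 17395 49 17444 ru354 rc355 rfl
theorem ru356 : ∀ i, i < 17493 → fr i = true := below_step fr 17444 49 17493 ru355 rc356 rfl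
theorem ru357 : ∀ i, i < 17542 → fr i = true := below_step fr 17493 49 17542 ru356 rc357 rfl
theorem ru358 : ∀ i, i < 17591 → fr i = true := below_step fr 17542 49 17591 ru357 rc358 rfl
theorem ru359 : ∀ i, i < 17640 → fr i = true := below_step fr 17591 49 17640 ru358 rc359 rfl
theorem ru360 : ∀ i, i < 17689 → fr i = true := below_step fr 17640 49 17689 ru359 rc360 rfl
theorem ru361 : ∀ i, i < 17738 → fr i = true := below_step fr 17689 49 17738 ru360 rc361 rfl
theorem ru362 : ∀ i, i < 17787 → fr i = true := below_step fr 17738 49 17787 ru361 rc362 rfl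
theorem ru363 : ∀ i, i < 17836 → fr i = true := below_step fr 17787 49 17836 ru362 rc363 rfl
theorem ru364 : ∀ i, i < 17885 → fr i = true := below_step fr 17836 49 17885 ru363 rc364 rfl
theorem ru365 : ∀ i, i < 17934 → fr i = true := below_step fr 17885 49 17934 ru364 rc365 rfl
theorem ru366 : ∀ i, i < 17983 → fr i = true := below_step fr 17934 49 17983 ru365 rc366 rfl
theorem ru367 : ∀ i, i < 18032 → fr i = true := below_step fr 17983 49 18032 ru366 rc367 rfl
theorem ru368 : ∀ i, i < 18081 → fr i = true := below_step fr 18032 49 18081 ru367 rc368 rfl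
theorem ru369 : ∀ i, i < 18130 → fr i = true := below_step fr 18081 49 18130 ru368 rc369 rfl
theorem ru370 : ∀ i, i < 18179 → fr i = true := below_step fr 18130 49 18179 ru369 rc370 rfl
theorem ru371 : ∀ i, i < 18228 → fr i = true := below_step fr 18179 49 18228 ru370 rc371 rfl
theorem ru372 : ∀ i, i < 18277 → fr i = true := below_step fr 18228 49 18277 ru371 rc372 rfl
theorem ru373 : ∀ i, i < 18326 → fr i = true := below_step fr 18277 49 18326 ru372 rc373 rfl
theorem ru374 : ∀ i, i < 18375 → fr i = true := below_step fr 18326 49 18375 ru373 rc374 rfl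
theorem ru375 : ∀ i, i < 18424 → fr i = true := below_step fr 18375 49 18424 ru374 rc375 rfl
theorem ru376 : ∀ i, i < 18473 → fr i = true := below_step fr 18424 49 18473 ru375 rc376 rfl
theorem ru377 : ∀ i, i < 18522 → fr i = true := below_step fr 18473 49 18522 ru376 rc377 rfl
theorem ru378 : ∀ i, i < 18571 → fr i = true := below_step fr 18522 49 18571 ru377 rc378 rfl
theorem ru379 : ∀ i, i < 18620 → fr i = true := below_step fr 18571 49 18620 ru378 rc379 rfl
theorem ru380 : ∀ i, i < 18669 → fr i = true := below_step fr 18620 49 18669 ru379 rc380 rfl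
theorem ru381 : ∀ i, i < 18718 → fr i = true := below_step fr 18669 49 18718 ru380 rc381 rfl
theorem ru382 : ∀ i, i < 18767 → fr i = true := below_step fr 18718 49 18767 ru381 rc382 rfl
theorem ru383 : ∀ i, i < 18816 → fr i = true := below_step fr 18767 49 18816 ru382 rc383 rfl
theorem ru384 : ∀ i, i < 18865 → fr i = true := below_step fr 18816 49 18865 ru383 rc384 rfl
theorem ru385 : ∀ i, i < 18914 → fr i = true := below_step fr 18865 49 18914 ru384 rc385 rfl
theorem ru386 : ∀ i, i < 18963 → fr i = true := below_step fr 18914 49 18963 ru385 rc386 rfl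
theorem ru387 : ∀ i, i < 19012 → fr i = true := below_step fr 18963 49 19012 ru386 rc387 rfl
theorem ru388 : ∀ i, i < 19061 → fr i = true := below_step fr 19012 49 19061 ru387 rc388 rfl
theorem ru389 : ∀ i, i < 19110 → fr i = true := below_step fr 19061 49 19110 ru388 rc389 rfl
theorem ru390 : ∀ i, i < 19159 → fr i = true := below_step fr 19110 49 19159 ru389 rc390 rfl
theorem ru391 : ∀ i, i < 19208 → fr i = true := below_step fr 19159 49 19208 ru390 rc391 rfl
theorem ru392 : ∀ i, i < 19257 → fr i = true := below_step fr 19208 49 19257 ru391 rc392 rfl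
theorem ru393 : ∀ i, i < 19306 → fr i = true := below_step fr 19257 49 19306 ru392 rc393 rfl
theorem ru394 : ∀ i, i < 19355 → fr i = true := below_step fr 19306 49 19355 ru393 rc394 rfl
theorem ru395 : ∀ i, i < 19404 → fr i = true := below_step fr 19355 49 19404 ru394 rc395 rfl
theorem ru396 : ∀ i, i < 19453 → fr i = true := below_step fr 19404 49 19453 ru395 rc396 rfl
theorem ru397 : ∀ i, i < 19502 → fr i = true := below_step fr 19453 49 19502 ru396 rc397 rfl
theorem ru398 : ∀ i, i < 19551 → fr i = true := below_step fr 19502 49 19551 ru397 rc398 rfl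
theorem ru399 : ∀ i, i < 19600 → fr i = true := below_step fr 19551 49 19600 ru398 rc399 rfl
theorem ru400 : ∀ i, i < 19649 → fr i = true := below_step fr 19600 49 19649 ru399 rc400 rfl
theorem ru401 : ∀ i, i < 19698 → fr i = true := below_step fr 19649 49 19698 ru400 rc401 rfl
theorem ru402 : ∀ i, i < 19747 → fr i = true := below_step fr 19698 49 19747 ru401 rc402 rfl
theorem ru403 : ∀ i, i < 19796 → fr i = true := below_step fr 19747 49 19796 ru402 rc403 rfl
theorem ru404 : ∀ i, i < 19845 → fr i = true := below_step fr 19796 49 19845 ru403 rc404 rfl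
theorem ru405 : ∀ i, i < 19894 → fr i = true := below_step fr 19845 49 19894 ru404 rc405 rfl
theorem ru406 : ∀ i, i < 19943 → fr i = true := below_step fr 19894 49 19943 ru405 rc406 rfl
theorem ru407 : ∀ i, i < 19992 → fr i = true := below_step fr 19943 49 19992 ru406 rc407 rfl
theorem ru408 : ∀ i, i < 20041 → fr i = true := below_step fr 19992 49 20041 ru407 rc408 rfl
theorem ru409 : ∀ i, i < 20090 → fr i = true := below_step fr 20041 49 20090 ru408 rc409 rfl
theorem ru410 : ∀ i, i < 20139 → fr i = true := below_step fr 20090 49 20139 ru409 rc410 rfl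
theorem ru411 : ∀ i, i < 20188 → fr i = true := below_step fr 20139 49 20188 ru410 rc411 rfl
theorem ru412 : ∀ i, i < 20237 → fr i = true := below_step fr 20188 49 20237 ru411 rc412 rfl
theorem ru413 : ∀ i, i < 20286 → fr i = true := below_step fr 20237 49 20286 ru412 rc413 rfl
theorem ru414 : ∀ i, i < 20335 → fr i = true := below_step fr 20286 49 20335 ru413 rc414 rfl
theorem ru415 : ∀ i, i < 20384 → fr i = true := below_step fr 20335 49 20384 ru414 rc415 rfl
theorem ru416 : ∀ i, i < 20433 → fr i = true := below_step fr 20384 49 20433 ru415 rc416 rfl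
theorem ru417 : ∀ i, i < 20482 → fr i = true := below_step fr 20433 49 20482 ru416 rc417 rfl
theorem ru418 : ∀ i, i < 20531 → fr i = true := below_step fr 20482 49 20531 ru417 rc418 rfl
theorem ru419 : ∀ i, i < 20580 → fr i = true := below_step fr 20531 49 20580 ru418 rc419 rfl
theorem ru420 : ∀ i, i < 20629 → fr i = true := below_step fr 20580 49 20629 ru419 rc420 rfl
theorem ru421 : ∀ i, i < 20678 → fr i = true := below_step fr 20629 49 20678 ru420 rc421 rfl
theorem ru422 : ∀ i, i < 20727 → fr i = true := below_step fr 20678 49 20727 ru421 rc422 rfl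
theorem ru423 : ∀ i, i < 20776 → fr i = true := below_step fr 20727 49 20776 ru422 rc423 rfl
theorem ru424 : ∀ i, i < 20825 → fr i = true := below_step fr 20776 49 20825 ru423 rc424 rfl
theorem ru425 : ∀ i, i < 20874 → fr i = true := below_step fr 20825 49 20874 ru424 rc425 rfl
theorem ru426 : ∀ i, i < 20923 → fr i = true := below_step fr 20874 49 20923 ru425 rc426 rfl
theorem ru427 : ∀ i, i < 20972 → fr i = true := below_step fr 20923 49 20972 ru426 rc427 rfl
theorem ru428 : ∀ i, i < 21021 → fr i = true := below_step fr 20972 49 21021 ru427 rc428 rfl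
theorem ru429 : ∀ i, i < 21070 → fr i = true := below_step fr 21021 49 21070 ru428 rc429 rfl
theorem ru430 : ∀ i, i < 21119 → fr i = true := below_step fr 21070 49 21119 ru429 rc430 rfl
theorem ru431 : ∀ i, i < 21168 → fr i = true := below_step fr 21119 49 21168 ru430 rc431 rfl
theorem ru432 : ∀ i, i < 21217 → fr i = true := below_step fr 21168 49 21217 ru431 rc432 rfl
theorem ru433 : ∀ i, i < 21266 → fr i = true := below_step fr 21217 49 21266 ru432 rc433 rfl
theorem ru434 : ∀ i, i < 21315 → fr i = true := below_step fr 21266 49 21315 ru433 rc434 rfl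
theorem ru435 : ∀ i, i < 21364 → fr i = true := below_step fr 21315 49 21364 ru434 rc435 rfl
theorem ru436 : ∀ i, i < 21413 → fr i = true := below_step fr 21364 49 21413 ru435 rc436 rfl
theorem ru437 : ∀ i, i < 21462 → fr i = true := below_step fr 21413 49 21462 ru436 rc437 rfl
theorem ru438 : ∀ i, i < 21511 → fr i = true := below_step fr 21462 49 21511 ru437 rc438 rfl
theorem ru439 : ∀ i, i < 21560 → fr i = true := below_step fr 21511 49 21560 ru438 rc439 rfl
theorem ru440 : ∀ i, i < 21609 → fr i = true := below_step fr 21560 49 21609 ru439 rc440 rfl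
theorem ru441 : ∀ i, i < 21658 → fr i = true := below_step fr 21609 49 21658 ru440 rc441 rfl
theorem ru442 : ∀ i, i < 21707 → fr i = true := below_step fr 21658 49 21707 ru441 rc442 rfl
theorem ru443 : ∀ i, i < 21756 → fr i = true := below_step fr 21707 49 21756 ru442 rc443 rfl
theorem ru444 : ∀ i, i < 21805 → fr i = true := below_step fr 21756 49 21805 ru443 rc444 rfl
theorem ru445 : ∀ i, i < 21854 → fr i = true := below_step fr 21805 49 21854 ru444 rc445 rfl
theorem ru446 : ∀ i, i < 21903 → fr i = true := below_step fr 21854 49 21903 ru445 rc446 rfl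
theorem ru447 : ∀ i, i < 21952 → fr i = true := below_step fr 21903 49 21952 ru446 rc447 rfl
theorem ru448 : ∀ i, i < 22001 → fr i = true := below_step fr 21952 49 22001 ru447 rc448 rfl
theorem ru449 : ∀ i, i < 22050 → fr i = true := below_step fr 22001 49 22050 ru448 rc449 rfl
theorem ru450 : ∀ i, i < 22099 → fr i = true := below_step fr 22050 49 22099 ru449 rc450 rfl
theorem ru451 : ∀ i, i < 22148 → fr i = true := below_step fr 22099 49 22148 ru450 rc451 rfl
theorem ru452 : ∀ i, i < 22197 → fr i = true := below_step fr 22148 49 22197 ru451 rc452 rfl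
theorem ru453 : ∀ i, i < 22246 → fr i = true := below_step fr 22197 49 22246 ru452 rc453 rfl
theorem ru454 : ∀ i, i < 22295 → fr i = true := below_step fr 22246 49 22295 ru453 rc454 rfl
theorem ru455 : ∀ i, i < 22344 → fr i = true := below_step fr 22295 49 22344 ru454 rc455 rfl
theorem ru456 : ∀ i, i < 22393 → fr i = true := below_step fr 22344 49 22393 ru455 rc456 rfl
theorem ru457 : ∀ i, i < 22442 → fr i = true := below_step fr 22393 49 22442 ru456 rc457 rfl
theorem ru458 : ∀ i, i < 22491 → fr i = true := below_step fr 22442 49 22491 ru457 rc458 rfl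
theorem ru459 : ∀ i, i < 22540 → fr i = true := below_step fr 22491 49 22540 ru458 rc459 rfl
theorem ru460 : ∀ i, i < 22589 → fr i = true := below_step fr 22540 49 22589 ru459 rc460 rfl
theorem ru461 : ∀ i, i < 22638 → fr i = true := below_step fr 22589 49 22638 ru460 rc461 rfl
theorem ru462 : ∀ i, i < 22687 → fr i = true := below_step fr 22638 49 22687 ru461 rc462 rfl
theorem ru463 : ∀ i, i < 22736 → fr i = true := below_step fr 22687 49 22736 ru462 rc463 rfl
theorem ru464 : ∀ i, i < 22785 → fr i = true := below_step fr 22736 49 22785 ru463 rc464 rfl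
theorem ru465 : ∀ i, i < 22834 → fr i = true := below_step fr 22785 49 22834 ru464 rc465 rfl
theorem ru466 : ∀ i, i < 22883 → fr i = true := below_step fr 22834 49 22883 ru465 rc466 rfl
theorem ru467 : ∀ i, i < 22932 → fr i = true := below_step fr 22883 49 22932 ru466 rc467 rfl
theorem ru468 : ∀ i, i < 22981 → fr i = true := below_step fr 22932 49 22981 ru467 rc468 rfl
theorem ru469 : ∀ i, i < 23030 → fr i = true := below_step fr 22981 49 23030 ru468 rc469 rfl
theorem ru470 : ∀ i, i < 23079 → fr i = true := below_step fr 23030 49 23079 ru469 rc470 rfl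
theorem ru471 : ∀ i, i < 23128 → fr i = true := below_step fr 23079 49 23128 ru470 rc471 rfl
theorem ru472 : ∀ i, i < 23177 → fr i = true := below_step fr 23128 49 23177 ru471 rc472 rfl
theorem ru473 : ∀ i, i < 23226 → fr i = true := below_step fr 23177 49 23226 ru472 rc473 rfl
theorem ru474 : ∀ i, i < 23275 → fr i = true := below_step fr 23226 49 23275 ru473 rc474 rfl
theorem ru475 : ∀ i, i < 23324 → fr i = true := below_step fr 23275 49 23324 ru474 rc475 rfl
theorem ru476 : ∀ i, i < 23373 → fr i = true := below_step fr 23324 49 23373 ru475 rc476 rfl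
theorem ru477 : ∀ i, i < 23422 → fr i = true := below_step fr 23373 49 23422 ru476 rc477 rfl
theorem ru478 : ∀ i, i < 23471 → fr i = true := below_step fr 23422 49 23471 ru477 rc478 rfl
theorem ru479 : ∀ i, i < 23520 → fr i = true := below_step fr 23471 49 23520 ru478 rc479 rfl
theorem ru480 : ∀ i, i < 23569 → fr i = true := below_step fr 23520 49 23569 ru479 rc480 rfl
theorem ru481 : ∀ i, i < 23618 → fr i = true := below_step fr 23569 49 23618 ru480 rc481 rfl
theorem ru482 : ∀ i, i < 23667 → fr i = true := below_step fr 23618 49 23667 ru481 rc482 rfl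
theorem ru483 : ∀ i, i < 23716 → fr i = true := below_step fr 23667 49 23716 ru482 rc483 rfl
theorem ru484 : ∀ i, i < 23765 → fr i = true := below_step fr 23716 49 23765 ru483 rc484 rfl
theorem ru485 : ∀ i, i < 23814 → fr i = true := below_step fr 23765 49 23814 ru484 rc485 rfl
theorem ru486 : ∀ i, i < 23863 → fr i = true := below_step fr 23814 49 23863 ru485 rc486 rfl
theorem ru487 : ∀ i, i < 23912 → fr i = true := below_step fr 23863 49 23912 ru486 rc487 rfl
theorem ru488 : ∀ i, i < 23961 → fr i = true := below_step fr 23912 49 23961 ru487 rc488 rfl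
theorem ru489 : ∀ i, i < 24010 → fr i = true := below_step fr 23961 49 24010 ru488 rc489 rfl
theorem ru490 : ∀ i, i < 24059 → fr i = true := below_step fr 24010 49 24059 ru489 rc490 rfl
theorem ru491 : ∀ i, i < 24108 → fr i = true := below_step fr 24059 49 24108 ru490 rc491 rfl
theorem ru492 : ∀ i, i < 24157 → fr i = true := below_step fr 24108 49 24157 ru491 rc492 rfl
theorem ru493 : ∀ i, i < 24206 → fr i = true := below_step fr 24157 49 24206 ru492 rc493 rfl
theorem ru494 : ∀ i, i < 24255 → fr i = true := below_step fr 24206 49 24255 ru493 rc494 rfl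
theorem ru495 : ∀ i, i < 24304 → fr i = true := below_step fr 24255 49 24304 ru494 rc495 rfl
theorem ru496 : ∀ i, i < 24353 → fr i = true := below_step fr 24304 49 24353 ru495 rc496 rfl
theorem ru497 : ∀ i, i < 24402 → fr i = true := below_step fr 24353 49 24402 ru496 rc497 rfl
theorem ru498 : ∀ i, i < 24451 → fr i = true := below_step fr 24402 49 24451 ru497 rc498 rfl
theorem ru499 : ∀ i, i < 24500 → fr i = true := below_step fr 24451 49 24500 ru498 rc499 rfl
theorem ru500 : ∀ i, i < 24549 → fr i = true := below_step fr 24500 49 24549 ru499 rc500 rfl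
theorem ru501 : ∀ i, i < 24598 → fr i = true := below_step fr 24549 49 24598 ru500 rc501 rfl
theorem ru502 : ∀ i, i < 24647 → fr i = true := below_step fr 24598 49 24647 ru501 rc502 rfl
theorem ru503 : ∀ i, i < 24696 → fr i = true := below_step fr 24647 49 24696 ru502 rc503 rfl
theorem ru504 : ∀ i, i < 24745 → fr i = true := below_step fr 24696 49 24745 ru503 rc504 rfl
theorem ru505 : ∀ i, i < 24794 → fr i = true := below_step fr 24745 49 24794 ru504 rc505 rfl
theorem ru506 : ∀ i, i < 24843 → fr i = true := below_step fr 24794 49 24843 ru505 rc506 rfl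
theorem ru507 : ∀ i, i < 24892 → fr i = true := below_step fr 24843 49 24892 ru506 rc507 rfl
theorem ru508 : ∀ i, i < 24941 → fr i = true := below_step fr 24892 49 24941 ru507 rc508 rfl
theorem ru509 : ∀ i, i < 24990 → fr i = true := below_step fr 24941 49 24990 ru508 rc509 rfl
theorem ru510 : ∀ i, i < 25039 → fr i = true := below_step fr 24990 49 25039 ru509 rc510 rfl
theorem ru511 : ∀ i, i < 25088 → fr i = true := below_step fr 25039 49 25088 ru510 rc511 rfl
theorem ru512 : ∀ i, i < 25137 → fr i = true := below_step fr 25088 49 25137 ru511 rc512 rfl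
theorem ru513 : ∀ i, i < 25186 → fr i = true := below_step fr 25137 49 25186 ru512 rc513 rfl
theorem ru514 : ∀ i, i < 25235 → fr i = true := below_step fr 25186 49 25235 ru513 rc514 rfl
theorem ru515 : ∀ i, i < 25284 → fr i = true := below_step fr 25235 49 25284 ru514 rc515 rfl
theorem ru516 : ∀ i, i < 25333 → fr i = true := below_step fr 25284 49 25333 ru515 rc516 rfl
theorem ru517 : ∀ i, i < 25382 → fr i = true := below_step fr 25333 49 25382 ru516 rc517 rfl
theorem ru518 : ∀ i, i < 25431 → fr i = true := below_step fr 25382 49 25431 ru517 rc518 rfl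
theorem ru519 : ∀ i, i < 25480 → fr i = true := below_step fr 25431 49 25480 ru518 rc519 rfl
theorem ru520 : ∀ i, i < 25529 → fr i = true := below_step fr 25480 49 25529 ru519 rc520 rfl
theorem ru521 : ∀ i, i < 25578 → fr i = true := below_step fr 25529 49 25578 ru520 rc521 rfl
theorem ru522 : ∀ i, i < 25627 → fr i = true := below_step fr 25578 49 25627 ru521 rc522 rfl
theorem ru523 : ∀ i, i < 25676 → fr i = true := below_step fr 25627 49 25676 ru522 rc523 rfl
theorem ru524 : ∀ i, i < 25725 → fr i = true := below_step fr 25676 49 25725 ru523 rc524 rfl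
theorem ru525 : ∀ i, i < 25774 → fr i = true := below_step fr 25725 49 25774 ru524 rc525 rfl
theorem ru526 : ∀ i, i < 25823 → fr i = true := below_step fr 25774 49 25823 ru525 rc526 rfl
theorem ru527 : ∀ i, i < 25872 → fr i = true := below_step fr 25823 49 25872 ru526 rc527 rfl
theorem ru528 : ∀ i, i < 25921 → fr i = true := below_step fr 25872 49 25921 ru527 rc528 rfl
theorem ru529 : ∀ i, i < 25970 → fr i = true := below_step fr 25921 49 25970 ru528 rc529 rfl
theorem ru530 : ∀ i, i < 26019 → fr i = true := below_step fr 25970 49 26019 ru529 rc530 rfl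
theorem ru531 : ∀ i, i < 26068 → fr i = true := below_step fr 26019 49 26068 ru530 rc531 rfl
theorem ru532 : ∀ i, i < 26117 → fr i = true := below_step fr 26068 49 26117 ru531 rc532 rfl
theorem ru533 : ∀ i, i < 26166 → fr i = true := below_step fr 26117 49 26166 ru532 rc533 rfl
theorem ru534 : ∀ i, i < 26215 → fr i = true := below_step fr 26166 49 26215 ru533 rc534 rfl
theorem ru535 : ∀ i, i < 26264 → fr i = true := below_step fr 26215 49 26264 ru534 rc535 rfl
theorem ru536 : ∀ i, i < 26313 → fr i = true := below_step fr 26264 49 26313 ru535 rc536 rfl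
theorem ru537 : ∀ i, i < 26362 → fr i = true := below_step fr 26313 49 26362 ru536 rc537 rfl
theorem ru538 : ∀ i, i < 26411 → fr i = true := below_step fr 26362 49 26411 ru537 rc538 rfl
theorem ru539 : ∀ i, i < 26460 → fr i = true := below_step fr 26411 49 26460 ru538 rc539 rfl
theorem ru540 : ∀ i, i < 26509 → fr i = true := below_step fr 26460 49 26509 ru539 rc540 rfl
theorem ru541 : ∀ i, i < 26558 → fr i = true := below_step fr 26509 49 26558 ru540 rc541 rfl
theorem ru542 : ∀ i, i < 26607 → fr i = true := below_step fr 26558 49 26607 ru541 rc542 rfl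
theorem ru543 : ∀ i, i < 26656 → fr i = true := below_step fr 26607 49 26656 ru542 rc543 rfl
theorem ru544 : ∀ i, i < 26705 → fr i = true := below_step fr 26656 49 26705 ru543 rc544 rfl
theorem ru545 : ∀ i, i < 26754 → fr i = true := below_step fr 26705 49 26754 ru544 rc545 rfl
theorem ru546 : ∀ i, i < 26803 → fr i = true := below_step fr 26754 49 26803 ru545 rc546 rfl
theorem ru547 : ∀ i, i < 26852 → fr i = true := below_step fr 26803 49 26852 ru546 rc547 rfl
theorem ru548 : ∀ i, i < 26901 → fr i = true := below_step fr 26852 49 26901 ru547 rc548 rfl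
theorem ru549 : ∀ i, i < 26950 → fr i = true := below_step fr 26901 49 26950 ru548 rc549 rfl
theorem ru550 : ∀ i, i < 26999 → fr i = true := below_step fr 26950 49 26999 ru549 rc550 rfl
theorem ru551 : ∀ i, i < 27048 → fr i = true := below_step fr 26999 49 27048 ru550 rc551 rfl
theorem ru552 : ∀ i, i < 27097 → fr i = true := below_step fr 27048 49 27097 ru551 rc552 rfl
theorem ru553 : ∀ i, i < 27146 → fr i = true := below_step fr 27097 49 27146 ru552 rc553 rfl
theorem ru554 : ∀ i, i < 27195 → fr i = true := below_step fr 27146 49 27195 ru553 rc554 rfl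
theorem ru555 : ∀ i, i < 27244 → fr i = true := below_step fr 27195 49 27244 ru554 rc555 rfl
theorem ru556 : ∀ i, i < 27293 → fr i = true := below_step fr 27244 49 27293 ru555 rc556 rfl
theorem ru557 : ∀ i, i < 27342 → fr i = true := below_step fr 27293 49 27342 ru556 rc557 rfl
theorem ru558 : ∀ i, i < 27391 → fr i = true := below_step fr 27342 49 27391 ru557 rc558 rfl
theorem ru559 : ∀ i, i < 27440 → fr i = true := below_step fr 27391 49 27440 ru558 rc559 rfl
theorem ru560 : ∀ i, i < 27489 → fr i = true := below_step fr 27440 49 27489 ru559 rc560 rfl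
theorem ru561 : ∀ i, i < 27538 → fr i = true := below_step fr 27489 49 27538 ru560 rc561 rfl
theorem ru562 : ∀ i, i < 27587 → fr i = true := below_step fr 27538 49 27587 ru561 rc562 rfl
theorem ru563 : ∀ i, i < 27636 → fr i = true := below_step fr 27587 49 27636 ru562 rc563 rfl
theorem ru564 : ∀ i, i < 27685 → fr i = true := below_step fr 27636 49 27685 ru563 rc564 rfl
theorem ru565 : ∀ i, i < 27734 → fr i = true := below_step fr 27685 49 27734 ru564 rc565 rfl
theorem ru566 : ∀ i, i < 27783 → fr i = true := below_step fr 27734 49 27783 ru565 rc566 rfl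
theorem ru567 : ∀ i, i < 27832 → fr i = true := below_step fr 27783 49 27832 ru566 rc567 rfl
theorem ru568 : ∀ i, i < 27881 → fr i = true := below_step fr 27832 49 27881 ru567 rc568 rfl
theorem ru569 : ∀ i, i < 27930 → fr i = true := below_step fr 27881 49 27930 ru568 rc569 rfl
theorem ru570 : ∀ i, i < 27979 → fr i = true := below_step fr 27930 49 27979 ru569 rc570 rfl
theorem ru571 : ∀ i, i < 28028 → fr i = true := below_step fr 27979 49 28028 ru570 rc571 rfl
theorem ru572 : ∀ i, i < 28077 → fr i = true := below_step fr 28028 49 28077 ru571 rc572 rfl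
theorem ru573 : ∀ i, i < 28126 → fr i = true := below_step fr 28077 49 28126 ru572 rc573 rfl
theorem ru574 : ∀ i, i < 28175 → fr i = true := below_step fr 28126 49 28175 ru573 rc574 rfl
theorem ru575 : ∀ i, i < 28224 → fr i = true := below_step fr 28175 49 28224 ru574 rc575 rfl
theorem ru576 : ∀ i, i < 28273 → fr i = true := below_step fr 28224 49 28273 ru575 rc576 rfl
theorem ru577 : ∀ i, i < 28322 → fr i = true := below_step fr 28273 49 28322 ru576 rc577 rfl
theorem ru578 : ∀ i, i < 28371 → fr i = true := below_step fr 28322 49 28371 ru577 rc578 rfl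
theorem ru579 : ∀ i, i < 28420 → fr i = true := below_step fr 28371 49 28420 ru578 rc579 rfl
theorem ru580 : ∀ i, i < 28469 → fr i = true := below_step fr 28420 49 28469 ru579 rc580 rfl
theorem ru581 : ∀ i, i < 28518 → fr i = true := below_step fr 28469 49 28518 ru580 rc581 rfl
theorem ru582 : ∀ i, i < 28567 → fr i = true := below_step fr 28518 49 28567 ru581 rc582 rfl
theorem ru583 : ∀ i, i < 28616 → fr i = true := below_step fr 28567 49 28616 ru582 rc583 rfl
theorem ru584 : ∀ i, i < 28665 → fr i = true := below_step fr 28616 49 28665 ru583 rc584 rfl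
theorem ru585 : ∀ i, i < 28714 → fr i = true := below_step fr 28665 49 28714 ru584 rc585 rfl
theorem ru586 : ∀ i, i < 28763 → fr i = true := below_step fr 28714 49 28763 ru585 rc586 rfl
theorem ru587 : ∀ i, i < 28812 → fr i = true := below_step fr 28763 49 28812 ru586 rc587 rfl
theorem ru588 : ∀ i, i < 28861 → fr i = true := below_step fr 28812 49 28861 ru587 rc588 rfl
theorem ru589 : ∀ i, i < 28910 → fr i = true := below_step fr 28861 49 28910 ru588 rc589 rfl
theorem ru590 : ∀ i, i < 28959 → fr i = true := below_step fr 28910 49 28959 ru589 rc590 rfl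
theorem ru591 : ∀ i, i < 29008 → fr i = true := below_step fr 28959 49 29008 ru590 rc591 rfl
theorem ru592 : ∀ i, i < 29057 → fr i = true := below_step fr 29008 49 29057 ru591 rc592 rfl
theorem ru593 : ∀ i, i < 29106 → fr i = true := below_step fr 29057 49 29106 ru592 rc593 rfl
theorem ru594 : ∀ i, i < 29155 → fr i = true := below_step fr 29106 49 29155 ru593 rc594 rfl
theorem ru595 : ∀ i, i < 29204 → fr i = true := below_step fr 29155 49 29204 ru594 rc595 rfl
theorem ru596 : ∀ i, i < 29253 → fr i = true := below_step fr 29204 49 29253 ru595 rc596 rfl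
theorem ru597 : ∀ i, i < 29302 → fr i = true := below_step fr 29253 49 29302 ru596 rc597 rfl
theorem ru598 : ∀ i, i < 29351 → fr i = true := below_step fr 29302 49 29351 ru597 rc598 rfl
theorem ru599 : ∀ i, i < 29400 → fr i = true := below_step fr 29351 49 29400 ru598 rc599 rfl
theorem ru600 : ∀ i, i < 29449 → fr i = true := below_step fr 29400 49 29449 ru599 rc600 rfl
theorem ru601 : ∀ i, i < 29498 → fr i = true := below_step fr 29449 49 29498 ru600 rc601 rfl
theorem ru602 : ∀ i, i < 29547 → fr i = true := below_step fr 29498 49 29547 ru601 rc602 rfl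
theorem ru603 : ∀ i, i < 29596 → fr i = true := below_step fr 29547 49 29596 ru602 rc603 rfl
theorem ru604 : ∀ i, i < 29645 → fr i = true := below_step fr 29596 49 29645 ru603 rc604 rfl
theorem ru605 : ∀ i, i < 29694 → fr i = true := below_step fr 29645 49 29694 ru604 rc605 rfl
theorem ru606 : ∀ i, i < 29743 → fr i = true := below_step fr 29694 49 29743 ru605 rc606 rfl
theorem ru607 : ∀ i, i < 29792 → fr i = true := below_step fr 29743 49 29792 ru606 rc607 rfl
theorem ru608 : ∀ i, i < 29841 → fr i = true := below_step fr 29792 49 29841 ru607 rc608 rfl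
theorem ru609 : ∀ i, i < 29890 → fr i = true := below_step fr 29841 49 29890 ru608 rc609 rfl
theorem ru610 : ∀ i, i < 29939 → fr i = true := below_step fr 29890 49 29939 ru609 rc610 rfl
theorem ru611 : ∀ i, i < 29988 → fr i = true := below_step fr 29939 49 29988 ru610 rc611 rfl
theorem ru612 : ∀ i, i < 30037 → fr i = true := below_step fr 29988 49 30037 ru611 rc612 rfl
theorem ru613 : ∀ i, i < 30086 → fr i = true := below_step fr 30037 49 30086 ru612 rc613 rfl
theorem ru614 : ∀ i, i < 30135 → fr i = true := below_step fr 30086 49 30135 ru613 rc614 rfl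
theorem ru615 : ∀ i, i < 30184 → fr i = true := below_step fr 30135 49 30184 ru614 rc615 rfl
theorem ru616 : ∀ i, i < 30233 → fr i = true := below_step fr 30184 49 30233 ru615 rc616 rfl
theorem ru617 : ∀ i, i < 30282 → fr i = true := below_step fr 30233 49 30282 ru616 rc617 rfl
theorem ru618 : ∀ i, i < 30331 → fr i = true := below_step fr 30282 49 30331 ru617 rc618 rfl
theorem ru619 : ∀ i, i < 30380 → fr i = true := below_step fr 30331 49 30380 ru618 rc619 rfl
theorem ru620 : ∀ i, i < 30429 → fr i = true := below_step fr 30380 49 30429 ru619 rc620 rfl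
theorem ru621 : ∀ i, i < 30478 → fr i = true := below_step fr 30429 49 30478 ru620 rc621 rfl
theorem ru622 : ∀ i, i < 30527 → fr i = true := below_step fr 30478 49 30527 ru621 rc622 rfl
theorem ru623 : ∀ i, i < 30576 → fr i = true := below_step fr 30527 49 30576 ru622 rc623 rfl
theorem ru624 : ∀ i, i < 30625 → fr i = true := below_step fr 30576 49 30625 ru623 rc624 rfl
theorem ru625 : ∀ i, i < 30674 → fr i = true := below_step fr 30625 49 30674 ru624 rc625 rfl
theorem ru626 : ∀ i, i < 30723 → fr i = true := below_step fr 30674 49 30723 ru625 rc626 rfl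
theorem ru627 : ∀ i, i < 30772 → fr i = true := below_step fr 30723 49 30772 ru626 rc627 rfl
theorem ru628 : ∀ i, i < 30821 → fr i = true := below_step fr 30772 49 30821 ru627 rc628 rfl
theorem ru629 : ∀ i, i < 30870 → fr i = true := below_step fr 30821 49 30870 ru628 rc629 rfl
theorem ru630 : ∀ i, i < 30919 → fr i = true := below_step fr 30870 49 30919 ru629 rc630 rfl
theorem ru631 : ∀ i, i < 30968 → fr i = true := below_step fr 30919 49 30968 ru630 rc631 rfl
theorem ru632 : ∀ i, i < 31017 → fr i = true := below_step fr 30968 49 31017 ru631 rc632 rfl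
theorem ru633 : ∀ i, i < 31066 → fr i = true := below_step fr 31017 49 31066 ru632 rc633 rfl
theorem ru634 : ∀ i, i < 31115 → fr i = true := below_step fr 31066 49 31115 ru633 rc634 rfl
theorem ru635 : ∀ i, i < 31164 → fr i = true := below_step fr 31115 49 31164 ru634 rc635 rfl
theorem ru636 : ∀ i, i < 31213 → fr i = true := below_step fr 31164 49 31213 ru635 rc636 rfl
theorem ru637 : ∀ i, i < 31262 → fr i = true := below_step fr 31213 49 31262 ru636 rc637 rfl
theorem ru638 : ∀ i, i < 31311 → fr i = true := below_step fr 31262 49 31311 ru637 rc638 rfl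
theorem ru639 : ∀ i, i < 31360 → fr i = true := below_step fr 31311 49 31360 ru638 rc639 rfl
theorem ru640 : ∀ i, i < 31409 → fr i = true := below_step fr 31360 49 31409 ru639 rc640 rfl
theorem ru641 : ∀ i, i < 31458 → fr i = true := below_step fr 31409 49 31458 ru640 rc641 rfl
theorem ru642 : ∀ i, i < 31507 → fr i = true := below_step fr 31458 49 31507 ru641 rc642 rfl
theorem ru643 : ∀ i, i < 31556 → fr i = true := below_step fr 31507 49 31556 ru642 rc643 rfl
theorem ru644 : ∀ i, i < 31605 → fr i = true := below_step fr 31556 49 31605 ru643 rc644 rfl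
theorem ru645 : ∀ i, i < 31654 → fr i = true := below_step fr 31605 49 31654 ru644 rc645 rfl
theorem ru646 : ∀ i, i < 31703 → fr i = true := below_step fr 31654 49 31703 ru645 rc646 rfl
theorem ru647 : ∀ i, i < 31752 → fr i = true := below_step fr 31703 49 31752 ru646 rc647 rfl
theorem ru648 : ∀ i, i < 31801 → fr i = true := below_step fr 31752 49 31801 ru647 rc648 rfl
theorem ru649 : ∀ i, i < 31850 → fr i = true := below_step fr 31801 49 31850 ru648 rc649 rfl
theorem ru650 : ∀ i, i < 31899 → fr i = true := below_step fr 31850 49 31899 ru649 rc650 rfl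
theorem ru651 : ∀ i, i < 31948 → fr i = true := below_step fr 31899 49 31948 ru650 rc651 rfl
theorem ru652 : ∀ i, i < 31997 → fr i = true := below_step fr 31948 49 31997 ru651 rc652 rfl
theorem ru653 : ∀ i, i < 32046 → fr i = true := below_step fr 31997 49 32046 ru652 rc653 rfl
theorem ru654 : ∀ i, i < 32095 → fr i = true := below_step fr 32046 49 32095 ru653 rc654 rfl
theorem ru655 : ∀ i, i < 32144 → fr i = true := below_step fr 32095 49 32144 ru654 rc655 rfl
theorem ru656 : ∀ i, i < 32193 → fr i = true := below_step fr 32144 49 32193 ru655 rc656 rfl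
theorem ru657 : ∀ i, i < 32242 → fr i = true := below_step fr 32193 49 32242 ru656 rc657 rfl
theorem ru658 : ∀ i, i < 32291 → fr i = true := below_step fr 32242 49 32291 ru657 rc658 rfl
theorem ru659 : ∀ i, i < 32340 → fr i = true := below_step fr 32291 49 32340 ru658 rc659 rfl
theorem ru660 : ∀ i, i < 32389 → fr i = true := below_step fr 32340 49 32389 ru659 rc660 rfl
theorem ru661 : ∀ i, i < 32438 → fr i = true := below_step fr 32389 49 32438 ru660 rc661 rfl
theorem ru662 : ∀ i, i < 32487 → fr i = true := below_step fr 32438 49 32487 ru661 rc662 rfl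
theorem ru663 : ∀ i, i < 32536 → fr i = true := below_step fr 32487 49 32536 ru662 rc663 rfl
theorem ru664 : ∀ i, i < 32585 → fr i = true := below_step fr 32536 49 32585 ru663 rc664 rfl
theorem ru665 : ∀ i, i < 32634 → fr i = true := below_step fr 32585 49 32634 ru664 rc665 rfl
theorem ru666 : ∀ i, i < 32683 → fr i = true := below_step fr 32634 49 32683 ru665 rc666 rfl
theorem ru667 : ∀ i, i < 32732 → fr i = true := below_step fr 32683 49 32732 ru666 rc667 rfl
theorem ru668 : ∀ i, i < 32781 → fr i = true := below_step fr 32732 49 32781 ru667 rc668 rfl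
theorem ru669 : ∀ i, i < 32830 → fr i = true := below_step fr 32781 49 32830 ru668 rc669 rfl
theorem ru670 : ∀ i, i < 32879 → fr i = true := below_step fr 32830 49 32879 ru669 rc670 rfl
theorem ru671 : ∀ i, i < 32928 → fr i = true := below_step fr 32879 49 32928 ru670 rc671 rfl
theorem ru672 : ∀ i, i < 32977 → fr i = true := below_step fr 32928 49 32977 ru671 rc672 rfl
theorem ru673 : ∀ i, i < 33026 → fr i = true := below_step fr 32977 49 33026 ru672 rc673 rfl
theorem ru674 : ∀ i, i < 33075 → fr i = true := below_step fr 33026 49 33075 ru673 rc674 rfl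
theorem ru675 : ∀ i, i < 33124 → fr i = true := below_step fr 33075 49 33124 ru674 rc675 rfl
theorem ru676 : ∀ i, i < 33173 → fr i = true := below_step fr 33124 49 33173 ru675 rc676 rfl
theorem ru677 : ∀ i, i < 33222 → fr i = true := below_step fr 33173 49 33222 ru676 rc677 rfl
theorem ru678 : ∀ i, i < 33271 → fr i = true := below_step fr 33222 49 33271 ru677 rc678 rfl
theorem ru679 : ∀ i, i < 33320 → fr i = true := below_step fr 33271 49 33320 ru678 rc679 rfl
theorem ru680 : ∀ i, i < 33369 → fr i = true := below_step fr 33320 49 33369 ru679 rc680 rfl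
theorem ru681 : ∀ i, i < 33418 → fr i = true := below_step fr 33369 49 33418 ru680 rc681 rfl
theorem ru682 : ∀ i, i < 33467 → fr i = true := below_step fr 33418 49 33467 ru681 rc682 rfl
theorem ru683 : ∀ i, i < 33516 → fr i = true := below_step fr 33467 49 33516 ru682 rc683 rfl
theorem ru684 : ∀ i, i < 33565 → fr i = true := below_step fr 33516 49 33565 ru683 rc684 rfl
theorem ru685 : ∀ i, i < 33614 → fr i = true := below_step fr 33565 49 33614 ru684 rc685 rfl
theorem ru686 : ∀ i, i < 33663 → fr i = true := below_step fr 33614 49 33663 ru685 rc686 rfl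
theorem ru687 : ∀ i, i < 33712 → fr i = true := below_step fr 33663 49 33712 ru686 rc687 rfl
theorem ru688 : ∀ i, i < 33761 → fr i = true := below_step fr 33712 49 33761 ru687 rc688 rfl
theorem ru689 : ∀ i, i < 33810 → fr i = true := below_step fr 33761 49 33810 ru688 rc689 rfl
theorem ru690 : ∀ i, i < 33859 → fr i = true := below_step fr 33810 49 33859 ru689 rc690 rfl
theorem ru691 : ∀ i, i < 33908 → fr i = true := below_step fr 33859 49 33908 ru690 rc691 rfl
theorem ru692 : ∀ i, i < 33957 → fr i = true := below_step fr 33908 49 33957 ru691 rc692 rfl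
theorem ru693 : ∀ i, i < 34006 → fr i = true := below_step fr 33957 49 34006 ru692 rc693 rfl
theorem ru694 : ∀ i, i < 34055 → fr i = true := below_step fr 34006 49 34055 ru693 rc694 rfl
theorem ru695 : ∀ i, i < 34104 → fr i = true := below_step fr 34055 49 34104 ru694 rc695 rfl
theorem ru696 : ∀ i, i < 34153 → fr i = true := below_step fr 34104 49 34153 ru695 rc696 rfl
theorem ru697 : ∀ i, i < 34202 → fr i = true := below_step fr 34153 49 34202 ru696 rc697 rfl
theorem ru698 : ∀ i, i < 34251 → fr i = true := below_step fr 34202 49 34251 ru697 rc698 rfl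
theorem ru699 : ∀ i, i < 34300 → fr i = true := below_step fr 34251 49 34300 ru698 rc699 rfl
theorem ru700 : ∀ i, i < 34349 → fr i = true := below_step fr 34300 49 34349 ru699 rc700 rfl
theorem ru701 : ∀ i, i < 34398 → fr i = true := below_step fr 34349 49 34398 ru700 rc701 rfl
theorem ru702 : ∀ i, i < 34447 → fr i = true := below_step fr 34398 49 34447 ru701 rc702 rfl
theorem ru703 : ∀ i, i < 34496 → fr i = true := below_step fr 34447 49 34496 ru702 rc703 rfl
theorem ru704 : ∀ i, i < 34545 → fr i = true := below_step fr 34496 49 34545 ru703 rc704 rfl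
theorem ru705 : ∀ i, i < 34594 → fr i = true := below_step fr 34545 49 34594 ru704 rc705 rfl
theorem ru706 : ∀ i, i < 34643 → fr i = true := below_step fr 34594 49 34643 ru705 rc706 rfl
theorem ru707 : ∀ i, i < 34692 → fr i = true := below_step fr 34643 49 34692 ru706 rc707 rfl
theorem ru708 : ∀ i, i < 34741 → fr i = true := below_step fr 34692 49 34741 ru707 rc708 rfl
theorem ru709 : ∀ i, i < 34790 → fr i = true := below_step fr 34741 49 34790 ru708 rc709 rfl
theorem ru710 : ∀ i, i < 34839 → fr i = true := below_step fr 34790 49 34839 ru709 rc710 rfl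
theorem ru711 : ∀ i, i < 34888 → fr i = true := below_step fr 34839 49 34888 ru710 rc711 rfl
theorem ru712 : ∀ i, i < 34937 → fr i = true := below_step fr 34888 49 34937 ru711 rc712 rfl
theorem ru713 : ∀ i, i < 34986 → fr i = true := below_step fr 34937 49 34986 ru712 rc713 rfl
theorem ru714 : ∀ i, i < 35035 → fr i = true := below_step fr 34986 49 35035 ru713 rc714 rfl
theorem ru715 : ∀ i, i < 35084 → fr i = true := below_step fr 35035 49 35084 ru714 rc715 rfl
theorem ru716 : ∀ i, i < 35133 → fr i = true := below_step fr 35084 49 35133 ru715 rc716 rfl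
theorem ru717 : ∀ i, i < 35182 → fr i = true := below_step fr 35133 49 35182 ru716 rc717 rfl
theorem ru718 : ∀ i, i < 35231 → fr i = true := below_step fr 35182 49 35231 ru717 rc718 rfl
theorem ru719 : ∀ i, i < 35280 → fr i = true := below_step fr 35231 49 35280 ru718 rc719 rfl
theorem ru720 : ∀ i, i < 35329 → fr i = true := below_step fr 35280 49 35329 ru719 rc720 rfl
theorem ru721 : ∀ i, i < 35378 → fr i = true := below_step fr 35329 49 35378 ru720 rc721 rfl
theorem ru722 : ∀ i, i < 35427 → fr i = true := below_step fr 35378 49 35427 ru721 rc722 rfl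
theorem ru723 : ∀ i, i < 35476 → fr i = true := below_step fr 35427 49 35476 ru722 rc723 rfl
theorem ru724 : ∀ i, i < 35525 → fr i = true := below_step fr 35476 49 35525 ru723 rc724 rfl
theorem ru725 : ∀ i, i < 35574 → fr i = true := below_step fr 35525 49 35574 ru724 rc725 rfl
theorem ru726 : ∀ i, i < 35623 → fr i = true := below_step fr 35574 49 35623 ru725 rc726 rfl
theorem ru727 : ∀ i, i < 35672 → fr i = true := below_step fr 35623 49 35672 ru726 rc727 rfl
theorem ru728 : ∀ i, i < 35721 → fr i = true := below_step fr 35672 49 35721 ru727 rc728 rfl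
theorem ru729 : ∀ i, i < 35770 → fr i = true := below_step fr 35721 49 35770 ru728 rc729 rfl
theorem ru730 : ∀ i, i < 35819 → fr i = true := below_step fr 35770 49 35819 ru729 rc730 rfl
theorem ru731 : ∀ i, i < 35868 → fr i = true := below_step fr 35819 49 35868 ru730 rc731 rfl
theorem ru732 : ∀ i, i < 35917 → fr i = true := below_step fr 35868 49 35917 ru731 rc732 rfl
theorem ru733 : ∀ i, i < 35966 → fr i = true := below_step fr 35917 49 35966 ru732 rc733 rfl
theorem ru734 : ∀ i, i < 36015 → fr i = true := below_step fr 35966 49 36015 ru733 rc734 rfl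
theorem ru735 : ∀ i, i < 36064 → fr i = true := below_step fr 36015 49 36064 ru734 rc735 rfl
theorem ru736 : ∀ i, i < 36113 → fr i = true := below_step fr 36064 49 36113 ru735 rc736 rfl
theorem ru737 : ∀ i, i < 36162 → fr i = true := below_step fr 36113 49 36162 ru736 rc737 rfl
theorem ru738 : ∀ i, i < 36211 → fr i = true := below_step fr 36162 49 36211 ru737 rc738 rfl
theorem ru739 : ∀ i, i < 36260 → fr i = true := below_step fr 36211 49 36260 ru738 rc739 rfl
theorem ru740 : ∀ i, i < 36309 → fr i = true := below_step fr 36260 49 36309 ru739 rc740 rfl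
theorem ru741 : ∀ i, i < 36358 → fr i = true := below_step fr 36309 49 36358 ru740 rc741 rfl
theorem ru742 : ∀ i, i < 36407 → fr i = true := below_step fr 36358 49 36407 ru741 rc742 rfl
theorem ru743 : ∀ i, i < 36456 → fr i = true := below_step fr 36407 49 36456 ru742 rc743 rfl
theorem ru744 : ∀ i, i < 36505 → fr i = true := below_step fr 36456 49 36505 ru743 rc744 rfl
theorem ru745 : ∀ i, i < 36554 → fr i = true := below_step fr 36505 49 36554 ru744 rc745 rfl
theorem ru746 : ∀ i, i < 36603 → fr i = true := below_step fr 36554 49 36603 ru745 rc746 rfl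
theorem ru747 : ∀ i, i < 36652 → fr i = true := below_step fr 36603 49 36652 ru746 rc747 rfl
theorem ru748 : ∀ i, i < 36701 → fr i = true := below_step fr 36652 49 36701 ru747 rc748 rfl
theorem ru749 : ∀ i, i < 36750 → fr i = true := below_step fr 36701 49 36750 ru748 rc749 rfl
theorem ru750 : ∀ i, i < 36799 → fr i = true := below_step fr 36750 49 36799 ru749 rc750 rfl
theorem ru751 : ∀ i, i < 36848 → fr i = true := below_step fr 36799 49 36848 ru750 rc751 rfl
theorem ru752 : ∀ i, i < 36897 → fr i = true := below_step fr 36848 49 36897 ru751 rc752 rfl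
theorem ru753 : ∀ i, i < 36946 → fr i = true := below_step fr 36897 49 36946 ru752 rc753 rfl
theorem ru754 : ∀ i, i < 36995 → fr i = true := below_step fr 36946 49 36995 ru753 rc754 rfl
theorem ru755 : ∀ i, i < 37044 → fr i = true := below_step fr 36995 49 37044 ru754 rc755 rfl
theorem ru756 : ∀ i, i < 37093 → fr i = true := below_step fr 37044 49 37093 ru755 rc756 rfl
theorem ru757 : ∀ i, i < 37142 → fr i = true := below_step fr 37093 49 37142 ru756 rc757 rfl
theorem ru758 : ∀ i, i < 37191 → fr i = true := below_step fr 37142 49 37191 ru757 rc758 rfl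
theorem ru759 : ∀ i, i < 37240 → fr i = true := below_step fr 37191 49 37240 ru758 rc759 rfl
theorem ru760 : ∀ i, i < 37289 → fr i = true := below_step fr 37240 49 37289 ru759 rc760 rfl
theorem ru761 : ∀ i, i < 37338 → fr i = true := below_step fr 37289 49 37338 ru760 rc761 rfl
theorem ru762 : ∀ i, i < 37387 → fr i = true := below_step fr 37338 49 37387 ru761 rc762 rfl
theorem ru763 : ∀ i, i < 37436 → fr i = true := below_step fr 37387 49 37436 ru762 rc763 rfl
theorem ru764 : ∀ i, i < 37485 → fr i = true := below_step fr 37436 49 37485 ru763 rc764 rfl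
theorem ru765 : ∀ i, i < 37534 → fr i = true := below_step fr 37485 49 37534 ru764 rc765 rfl
theorem ru766 : ∀ i, i < 37583 → fr i = true := below_step fr 37534 49 37583 ru765 rc766 rfl
theorem ru767 : ∀ i, i < 37632 → fr i = true := below_step fr 37583 49 37632 ru766 rc767 rfl
theorem ru768 : ∀ i, i < 37681 → fr i = true := below_step fr 37632 49 37681 ru767 rc768 rfl
theorem ru769 : ∀ i, i < 37730 → fr i = true := below_step fr 37681 49 37730 ru768 rc769 rfl
theorem ru770 : ∀ i, i < 37779 → fr i = true := below_step fr 37730 49 37779 ru769 rc770 rfl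
theorem ru771 : ∀ i, i < 37828 → fr i = true := below_step fr 37779 49 37828 ru770 rc771 rfl
theorem ru772 : ∀ i, i < 37877 → fr i = true := below_step fr 37828 49 37877 ru771 rc772 rfl
theorem ru773 : ∀ i, i < 37926 → fr i = true := below_step fr 37877 49 37926 ru772 rc773 rfl
theorem ru774 : ∀ i, i < 37975 → fr i = true := below_step fr 37926 49 37975 ru773 rc774 rfl
theorem ru775 : ∀ i, i < 38024 → fr i = true := below_step fr 37975 49 38024 ru774 rc775 rfl
theorem ru776 : ∀ i, i < 38073 → fr i = true := below_step fr 38024 49 38073 ru775 rc776 rfl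
theorem ru777 : ∀ i, i < 38122 → fr i = true := below_step fr 38073 49 38122 ru776 rc777 rfl
theorem ru778 : ∀ i, i < 38171 → fr i = true := below_step fr 38122 49 38171 ru777 rc778 rfl
theorem ru779 : ∀ i, i < 38220 → fr i = true := below_step fr 38171 49 38220 ru778 rc779 rfl
theorem ru780 : ∀ i, i < 38269 → fr i = true := below_step fr 38220 49 38269 ru779 rc780 rfl
theorem ru781 : ∀ i, i < 38318 → fr i = true := below_step fr 38269 49 38318 ru780 rc781 rfl
theorem ru782 : ∀ i, i < 38367 → fr i = true := below_step fr 38318 49 38367 ru781 rc782 rfl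
theorem ru783 : ∀ i, i < 38416 → fr i = true := below_step fr 38367 49 38416 ru782 rc783 rfl
theorem ru784 : ∀ i, i < 38465 → fr i = true := below_step fr 38416 49 38465 ru783 rc784 rfl
theorem ru785 : ∀ i, i < 38514 → fr i = true := below_step fr 38465 49 38514 ru784 rc785 rfl
theorem ru786 : ∀ i, i < 38563 → fr i = true := below_step fr 38514 49 38563 ru785 rc786 rfl
theorem ru787 : ∀ i, i < 38612 → fr i = true := below_step fr 38563 49 38612 ru786 rc787 rfl
theorem ru788 : ∀ i, i < 38661 → fr i = true := below_step fr 38612 49 38661 ru787 rc788 rfl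
theorem ru789 : ∀ i, i < 38710 → fr i = true := below_step fr 38661 49 38710 ru788 rc789 rfl
theorem ru790 : ∀ i, i < 38759 → fr i = true := below_step fr 38710 49 38759 ru789 rc790 rfl
theorem ru791 : ∀ i, i < 38808 → fr i = true := below_step fr 38759 49 38808 ru790 rc791 rfl
theorem ru792 : ∀ i, i < 38857 → fr i = true := below_step fr 38808 49 38857 ru791 rc792 rfl
theorem ru793 : ∀ i, i < 38906 → fr i = true := below_step fr 38857 49 38906 ru792 rc793 rfl
theorem ru794 : ∀ i, i < 38955 → fr i = true := below_step fr 38906 49 38955 ru793 rc794 rfl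
theorem ru795 : ∀ i, i < 39004 → fr i = true := below_step fr 38955 49 39004 ru794 rc795 rfl
theorem ru796 : ∀ i, i < 39053 → fr i = true := below_step fr 39004 49 39053 ru795 rc796 rfl
theorem ru797 : ∀ i, i < 39102 → fr i = true := below_step fr 39053 49 39102 ru796 rc797 rfl
theorem ru798 : ∀ i, i < 39151 → fr i = true := below_step fr 39102 49 39151 ru797 rc798 rfl
theorem ru799 : ∀ i, i < 39200 → fr i = true := below_step fr 39151 49 39200 ru798 rc799 rfl
theorem ru800 : ∀ i, i < 39249 → fr i = true := below_step fr 39200 49 39249 ru799 rc800 rfl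
theorem ru801 : ∀ i, i < 39298 → fr i = true := below_step fr 39249 49 39298 ru800 rc801 rfl
theorem ru802 : ∀ i, i < 39347 → fr i = true := below_step fr 39298 49 39347 ru801 rc802 rfl
theorem ru803 : ∀ i, i < 39396 → fr i = true := below_step fr 39347 49 39396 ru802 rc803 rfl
theorem ru804 : ∀ i, i < 39445 → fr i = true := below_step fr 39396 49 39445 ru803 rc804 rfl
theorem ru805 : ∀ i, i < 39494 → fr i = true := below_step fr 39445 49 39494 ru804 rc805 rfl
theorem ru806 : ∀ i, i < 39543 → fr i = true := below_step fr 39494 49 39543 ru805 rc806 rfl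
theorem ru807 : ∀ i, i < 39592 → fr i = true := below_step fr 39543 49 39592 ru806 rc807 rfl
theorem ru808 : ∀ i, i < 39641 → fr i = true := below_step fr 39592 49 39641 ru807 rc808 rfl
theorem ru809 : ∀ i, i < 39690 → fr i = true := below_step fr 39641 49 39690 ru808 rc809 rfl
theorem ru810 : ∀ i, i < 39739 → fr i = true := below_step fr 39690 49 39739 ru809 rc810 rfl
theorem ru811 : ∀ i, i < 39788 → fr i = true := below_step fr 39739 49 39788 ru810 rc811 rfl
theorem ru812 : ∀ i, i < 39837 → fr i = true := below_step fr 39788 49 39837 ru811 rc812 rfl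
theorem ru813 : ∀ i, i < 39886 → fr i = true := below_step fr 39837 49 39886 ru812 rc813 rfl
theorem ru814 : ∀ i, i < 39935 → fr i = true := below_step fr 39886 49 39935 ru813 rc814 rfl
theorem ru815 : ∀ i, i < 39984 → fr i = true := below_step fr 39935 49 39984 ru814 rc815 rfl
theorem ru816 : ∀ i, i < 40033 → fr i = true := below_step fr 39984 49 40033 ru815 rc816 rfl
theorem ru817 : ∀ i, i < 40082 → fr i = true := below_step fr 40033 49 40082 ru816 rc817 rfl
theorem ru818 : ∀ i, i < 40131 → fr i = true := below_step fr 40082 49 40131 ru817 rc818 rfl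
theorem ru819 : ∀ i, i < 40180 → fr i = true := below_step fr 40131 49 40180 ru818 rc819 rfl
theorem ru820 : ∀ i, i < 40229 → fr i = true := below_step fr 40180 49 40229 ru819 rc820 rfl
theorem ru821 : ∀ i, i < 40278 → fr i = true := below_step fr 40229 49 40278 ru820 rc821 rfl
theorem ru822 : ∀ i, i < 40327 → fr i = true := below_step fr 40278 49 40327 ru821 rc822 rfl
theorem ru823 : ∀ i, i < 40376 → fr i = true := below_step fr 40327 49 40376 ru822 rc823 rfl
theorem ru824 : ∀ i, i < 40425 → fr i = true := below_step fr 40376 49 40425 ru823 rc824 rfl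
theorem ru825 : ∀ i, i < 40474 → fr i = true := below_step fr 40425 49 40474 ru824 rc825 rfl
theorem ru826 : ∀ i, i < 40523 → fr i = true := below_step fr 40474 49 40523 ru825 rc826 rfl
theorem ru827 : ∀ i, i < 40572 → fr i = true := below_step fr 40523 49 40572 ru826 rc827 rfl
theorem ru828 : ∀ i, i < 40621 → fr i = true := below_step fr 40572 49 40621 ru827 rc828 rfl
theorem ru829 : ∀ i, i < 40670 → fr i = true := below_step fr 40621 49 40670 ru828 rc829 rfl
theorem ru830 : ∀ i, i < 40719 → fr i = true := below_step fr 40670 49 40719 ru829 rc830 rfl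
theorem ru831 : ∀ i, i < 40768 → fr i = true := below_step fr 40719 49 40768 ru830 rc831 rfl
theorem ru832 : ∀ i, i < 40817 → fr i = true := below_step fr 40768 49 40817 ru831 rc832 rfl
theorem ru833 : ∀ i, i < 40866 → fr i = true := below_step fr 40817 49 40866 ru832 rc833 rfl
theorem ru834 : ∀ i, i < 40915 → fr i = true := below_step fr 40866 49 40915 ru833 rc834 rfl
theorem ru835 : ∀ i, i < 40964 → fr i = true := below_step fr 40915 49 40964 ru834 rc835 rfl
theorem ru836 : ∀ i, i < 41013 → fr i = true := below_step fr 40964 49 41013 ru835 rc836 rfl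
theorem ru837 : ∀ i, i < 41062 → fr i = true := below_step fr 41013 49 41062 ru836 rc837 rfl
theorem ru838 : ∀ i, i < 41111 → fr i = true := below_step fr 41062 49 41111 ru837 rc838 rfl
theorem ru839 : ∀ i, i < 41160 → fr i = true := below_step fr 41111 49 41160 ru838 rc839 rfl
theorem ru840 : ∀ i, i < 41209 → fr i = true := below_step fr 41160 49 41209 ru839 rc840 rfl
theorem ru841 : ∀ i, i < 41258 → fr i = true := below_step fr 41209 49 41258 ru840 rc841 rfl
theorem ru842 : ∀ i, i < 41307 → fr i = true := below_step fr 41258 49 41307 ru841 rc842 rfl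
theorem ru843 : ∀ i, i < 41356 → fr i = true := below_step fr 41307 49 41356 ru842 rc843 rfl
theorem ru844 : ∀ i, i < 41405 → fr i = true := below_step fr 41356 49 41405 ru843 rc844 rfl
theorem ru845 : ∀ i, i < 41454 → fr i = true := below_step fr 41405 49 41454 ru844 rc845 rfl
theorem ru846 : ∀ i, i < 41503 → fr i = true := below_step fr 41454 49 41503 ru845 rc846 rfl
theorem ru847 : ∀ i, i < 41552 → fr i = true := below_step fr 41503 49 41552 ru846 rc847 rfl
theorem ru848 : ∀ i, i < 41601 → fr i = true := below_step fr 41552 49 41601 ru847 rc848 rfl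
theorem ru849 : ∀ i, i < 41650 → fr i = true := below_step fr 41601 49 41650 ru848 rc849 rfl
theorem ru850 : ∀ i, i < 41699 → fr i = true := below_step fr 41650 49 41699 ru849 rc850 rfl
theorem ru851 : ∀ i, i < 41748 → fr i = true := below_step fr 41699 49 41748 ru850 rc851 rfl
theorem ru852 : ∀ i, i < 41797 → fr i = true := below_step fr 41748 49 41797 ru851 rc852 rfl
theorem ru853 : ∀ i, i < 41846 → fr i = true := below_step fr 41797 49 41846 ru852 rc853 rfl
theorem ru854 : ∀ i, i < 41895 → fr i = true := below_step fr 41846 49 41895 ru853 rc854 rfl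
theorem ru855 : ∀ i, i < 41944 → fr i = true := below_step fr 41895 49 41944 ru854 rc855 rfl
theorem ru856 : ∀ i, i < 41993 → fr i = true := below_step fr 41944 49 41993 ru855 rc856 rfl
theorem ru857 : ∀ i, i < 42042 → fr i = true := below_step fr 41993 49 42042 ru856 rc857 rfl
theorem ru858 : ∀ i, i < 42091 → fr i = true := below_step fr 42042 49 42091 ru857 rc858 rfl
theorem ru859 : ∀ i, i < 42140 → fr i = true := below_step fr 42091 49 42140 ru858 rc859 rfl
theorem ru860 : ∀ i, i < 42189 → fr i = true := below_step fr 42140 49 42189 ru859 rc860 rfl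
theorem ru861 : ∀ i, i < 42238 → fr i = true := below_step fr 42189 49 42238 ru860 rc861 rfl
theorem ru862 : ∀ i, i < 42287 → fr i = true := below_step fr 42238 49 42287 ru861 rc862 rfl
theorem ru863 : ∀ i, i < 42336 → fr i = true := below_step fr 42287 49 42336 ru862 rc863 rfl
theorem ru864 : ∀ i, i < 42385 → fr i = true := below_step fr 42336 49 42385 ru863 rc864 rfl
theorem ru865 : ∀ i, i < 42434 → fr i = true := below_step fr 42385 49 42434 ru864 rc865 rfl
theorem ru866 : ∀ i, i < 42483 → fr i = true := below_step fr 42434 49 42483 ru865 rc866 rfl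
theorem ru867 : ∀ i, i < 42532 → fr i = true := below_step fr 42483 49 42532 ru866 rc867 rfl
theorem ru868 : ∀ i, i < 42581 → fr i = true := below_step fr 42532 49 42581 ru867 rc868 rfl
theorem ru869 : ∀ i, i < 42630 → fr i = true := below_step fr 42581 49 42630 ru868 rc869 rfl
theorem ru870 : ∀ i, i < 42679 → fr i = true := below_step fr 42630 49 42679 ru869 rc870 rfl
theorem ru871 : ∀ i, i < 42728 → fr i = true := below_step fr 42679 49 42728 ru870 rc871 rfl
theorem ru872 : ∀ i, i < 42777 → fr i = true := below_step fr 42728 49 42777 ru871 rc872 rfl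
theorem ru873 : ∀ i, i < 42826 → fr i = true := below_step fr 42777 49 42826 ru872 rc873 rfl
theorem ru874 : ∀ i, i < 42875 → fr i = true := below_step fr 42826 49 42875 ru873 rc874 rfl
theorem ru875 : ∀ i, i < 42924 → fr i = true := below_step fr 42875 49 42924 ru874 rc875 rfl
theorem ru876 : ∀ i, i < 42973 → fr i = true := below_step fr 42924 49 42973 ru875 rc876 rfl
theorem ru877 : ∀ i, i < 43022 → fr i = true := below_step fr 42973 49 43022 ru876 rc877 rfl
theorem ru878 : ∀ i, i < 43071 → fr i = true := below_step fr 43022 49 43071 ru877 rc878 rfl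
theorem ru879 : ∀ i, i < 43120 → fr i = true := below_step fr 43071 49 43120 ru878 rc879 rfl
theorem ru880 : ∀ i, i < 43169 → fr i = true := below_step fr 43120 49 43169 ru879 rc880 rfl
theorem ru881 : ∀ i, i < 43218 → fr i = true := below_step fr 43169 49 43218 ru880 rc881 rfl
theorem ru882 : ∀ i, i < 43267 → fr i = true := below_step fr 43218 49 43267 ru881 rc882 rfl
theorem ru883 : ∀ i, i < 43316 → fr i = true := below_step fr 43267 49 43316 ru882 rc883 rfl
theorem ru884 : ∀ i, i < 43365 → fr i = true := below_step fr 43316 49 43365 ru883 rc884 rfl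
theorem ru885 : ∀ i, i < 43414 → fr i = true := below_step fr 43365 49 43414 ru884 rc885 rfl
theorem ru886 : ∀ i, i < 43463 → fr i = true := below_step fr 43414 49 43463 ru885 rc886 rfl
theorem ru887 : ∀ i, i < 43512 → fr i = true := below_step fr 43463 49 43512 ru886 rc887 rfl
theorem ru888 : ∀ i, i < 43561 → fr i = true := below_step fr 43512 49 43561 ru887 rc888 rfl
theorem ru889 : ∀ i, i < 43610 → fr i = true := below_step fr 43561 49 43610 ru888 rc889 rfl
theorem ru890 : ∀ i, i < 43659 → fr i = true := below_step fr 43610 49 43659 ru889 rc890 rfl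
theorem ru891 : ∀ i, i < 43708 → fr i = true := below_step fr 43659 49 43708 ru890 rc891 rfl
theorem ru892 : ∀ i, i < 43757 → fr i = true := below_step fr 43708 49 43757 ru891 rc892 rfl
theorem ru893 : ∀ i, i < 43806 → fr i = true := below_step fr 43757 49 43806 ru892 rc893 rfl
theorem ru894 : ∀ i, i < 43855 → fr i = true := below_step fr 43806 49 43855 ru893 rc894 rfl
theorem ru895 : ∀ i, i < 43904 → fr i = true := below_step fr 43855 49 43904 ru894 rc895 rfl
theorem ru896 : ∀ i, i < 43953 → fr i = true := below_step fr 43904 49 43953 ru895 rc896 rfl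
theorem ru897 : ∀ i, i < 44002 → fr i = true := below_step fr 43953 49 44002 ru896 rc897 rfl
theorem ru898 : ∀ i, i < 44051 → fr i = true := below_step fr 44002 49 44051 ru897 rc898 rfl
theorem ru899 : ∀ i, i < 44100 → fr i = true := below_step fr 44051 49 44100 ru898 rc899 rfl
theorem ru900 : ∀ i, i < 44149 → fr i = true := below_step fr 44100 49 44149 ru899 rc900 rfl
theorem ru901 : ∀ i, i < 44198 → fr i = true := below_step fr 44149 49 44198 ru900 rc901 rfl
theorem ru902 : ∀ i, i < 44247 → fr i = true := below_step fr 44198 49 44247 ru901 rc902 rfl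
theorem ru903 : ∀ i, i < 44296 → fr i = true := below_step fr 44247 49 44296 ru902 rc903 rfl
theorem ru904 : ∀ i, i < 44345 → fr i = true := below_step fr 44296 49 44345 ru903 rc904 rfl
theorem ru905 : ∀ i, i < 44394 → fr i = true := below_step fr 44345 49 44394 ru904 rc905 rfl
theorem ru906 : ∀ i, i < 44443 → fr i = true := below_step fr 44394 49 44443 ru905 rc906 rfl
theorem ru907 : ∀ i, i < 44492 → fr i = true := below_step fr 44443 49 44492 ru906 rc907 rfl
theorem ru908 : ∀ i, i < 44541 → fr i = true := below_step fr 44492 49 44541 ru907 rc908 rfl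
theorem ru909 : ∀ i, i < 44590 → fr i = true := below_step fr 44541 49 44590 ru908 rc909 rfl
theorem ru910 : ∀ i, i < 44639 → fr i = true := below_step fr 44590 49 44639 ru909 rc910 rfl
theorem ru911 : ∀ i, i < 44688 → fr i = true := below_step fr 44639 49 44688 ru910 rc911 rfl
theorem ru912 : ∀ i, i < 44737 → fr i = true := below_step fr 44688 49 44737 ru911 rc912 rfl
theorem ru913 : ∀ i, i < 44786 → fr i = true := below_step fr 44737 49 44786 ru912 rc913 rfl
theorem ru914 : ∀ i, i < 44835 → fr i = true := below_step fr 44786 49 44835 ru913 rc914 rfl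
theorem ru915 : ∀ i, i < 44884 → fr i = true := below_step fr 44835 49 44884 ru914 rc915 rfl
theorem ru916 : ∀ i, i < 44933 → fr i = true := below_step fr 44884 49 44933 ru915 rc916 rfl
theorem ru917 : ∀ i, i < 44982 → fr i = true := below_step fr 44933 49 44982 ru916 rc917 rfl
theorem ru918 : ∀ i, i < 45031 → fr i = true := below_step fr 44982 49 45031 ru917 rc918 rfl
theorem ru919 : ∀ i, i < 45080 → fr i = true := below_step fr 45031 49 45080 ru918 rc919 rfl
theorem ru920 : ∀ i, i < 45129 → fr i = true := below_step fr 45080 49 45129 ru919 rc920 rfl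
theorem ru921 : ∀ i, i < 45178 → fr i = true := below_step fr 45129 49 45178 ru920 rc921 rfl
theorem ru922 : ∀ i, i < 45227 → fr i = true := below_step fr 45178 49 45227 ru921 rc922 rfl
theorem ru923 : ∀ i, i < 45276 → fr i = true := below_step fr 45227 49 45276 ru922 rc923 rfl
theorem ru924 : ∀ i, i < 45325 → fr i = true := below_step fr 45276 49 45325 ru923 rc924 rfl
theorem ru925 : ∀ i, i < 45374 → fr i = true := below_step fr 45325 49 45374 ru924 rc925 rfl
theorem ru926 : ∀ i, i < 45423 → fr i = true := below_step fr 45374 49 45423 ru925 rc926 rfl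
theorem ru927 : ∀ i, i < 45472 → fr i = true := below_step fr 45423 49 45472 ru926 rc927 rfl
theorem ru928 : ∀ i, i < 45521 → fr i = true := below_step fr 45472 49 45521 ru927 rc928 rfl
theorem ru929 : ∀ i, i < 45570 → fr i = true := below_step fr 45521 49 45570 ru928 rc929 rfl
theorem ru930 : ∀ i, i < 45619 → fr i = true := below_step fr 45570 49 45619 ru929 rc930 rfl
theorem ru931 : ∀ i, i < 45668 → fr i = true := below_step fr 45619 49 45668 ru930 rc931 rfl
theorem ru932 : ∀ i, i < 45717 → fr i = true := below_step fr 45668 49 45717 ru931 rc932 rfl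
theorem ru933 : ∀ i, i < 45766 → fr i = true := below_step fr 45717 49 45766 ru932 rc933 rfl
theorem ru934 : ∀ i, i < 45815 → fr i = true := below_step fr 45766 49 45815 ru933 rc934 rfl
theorem ru935 : ∀ i, i < 45864 → fr i = true := below_step fr 45815 49 45864 ru934 rc935 rfl
theorem ru936 : ∀ i, i < 45913 → fr i = true := below_step fr 45864 49 45913 ru935 rc936 rfl
theorem ru937 : ∀ i, i < 45962 → fr i = true := below_step fr 45913 49 45962 ru936 rc937 rfl
theorem ru938 : ∀ i, i < 46011 → fr i = true := below_step fr 45962 49 46011 ru937 rc938 rfl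
theorem ru939 : ∀ i, i < 46060 → fr i = true := below_step fr 46011 49 46060 ru938 rc939 rfl
theorem ru940 : ∀ i, i < 46109 → fr i = true := below_step fr 46060 49 46109 ru939 rc940 rfl
theorem ru941 : ∀ i, i < 46158 → fr i = true := below_step fr 46109 49 46158 ru940 rc941 rfl
theorem ru942 : ∀ i, i < 46207 → fr i = true := below_step fr 46158 49 46207 ru941 rc942 rfl
theorem ru943 : ∀ i, i < 46256 → fr i = true := below_step fr 46207 49 46256 ru942 rc943 rfl
theorem ru944 : ∀ i, i < 46305 → fr i = true := below_step fr 46256 49 46305 ru943 rc944 rfl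
theorem ru945 : ∀ i, i < 46354 → fr i = true := below_step fr 46305 49 46354 ru944 rc945 rfl
theorem ru946 : ∀ i, i < 46403 → fr i = true := below_step fr 46354 49 46403 ru945 rc946 rfl
theorem ru947 : ∀ i, i < 46452 → fr i = true := below_step fr 46403 49 46452 ru946 rc947 rfl
theorem ru948 : ∀ i, i < 46501 → fr i = true := below_step fr 46452 49 46501 ru947 rc948 rfl
theorem ru949 : ∀ i, i < 46550 → fr i = true := below_step fr 46501 49 46550 ru948 rc949 rfl
theorem ru950 : ∀ i, i < 46599 → fr i = true := below_step fr 46550 49 46599 ru949 rc950 rfl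
theorem ru951 : ∀ i, i < 46648 → fr i = true := below_step fr 46599 49 46648 ru950 rc951 rfl
theorem ru952 : ∀ i, i < 46697 → fr i = true := below_step fr 46648 49 46697 ru951 rc952 rfl
theorem ru953 : ∀ i, i < 46746 → fr i = true := below_step fr 46697 49 46746 ru952 rc953 rfl
theorem ru954 : ∀ i, i < 46795 → fr i = true := below_step fr 46746 49 46795 ru953 rc954 rfl
theorem ru955 : ∀ i, i < 46844 → fr i = true := below_step fr 46795 49 46844 ru954 rc955 rfl
theorem ru956 : ∀ i, i < 46893 → fr i = true := below_step fr 46844 49 46893 ru955 rc956 rfl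
theorem ru957 : ∀ i, i < 46942 → fr i = true := below_step fr 46893 49 46942 ru956 rc957 rfl
theorem ru958 : ∀ i, i < 46991 → fr i = true := below_step fr 46942 49 46991 ru957 rc958 rfl
theorem ru959 : ∀ i, i < 47040 → fr i = true := below_step fr 46991 49 47040 ru958 rc959 rfl
theorem ru960 : ∀ i, i < 47089 → fr i = true := below_step fr 47040 49 47089 ru959 rc960 rfl
theorem ru961 : ∀ i, i < 47138 → fr i = true := below_step fr 47089 49 47138 ru960 rc961 rfl
theorem ru962 : ∀ i, i < 47187 → fr i = true := below_step fr 47138 49 47187 ru961 rc962 rfl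
theorem ru963 : ∀ i, i < 47236 → fr i = true := below_step fr 47187 49 47236 ru962 rc963 rfl
theorem ru964 : ∀ i, i < 47285 → fr i = true := below_step fr 47236 49 47285 ru963 rc964 rfl
theorem ru965 : ∀ i, i < 47334 → fr i = true := below_step fr 47285 49 47334 ru964 rc965 rfl
theorem ru966 : ∀ i, i < 47383 → fr i = true := below_step fr 47334 49 47383 ru965 rc966 rfl
theorem ru967 : ∀ i, i < 47432 → fr i = true := below_step fr 47383 49 47432 ru966 rc967 rfl
theorem ru968 : ∀ i, i < 47481 → fr i = true := below_step fr 47432 49 47481 ru967 rc968 rfl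
theorem ru969 : ∀ i, i < 47530 → fr i = true := below_step fr 47481 49 47530 ru968 rc969 rfl
theorem ru970 : ∀ i, i < 47579 → fr i = true := below_step fr 47530 49 47579 ru969 rc970 rfl
theorem ru971 : ∀ i, i < 47628 → fr i = true := below_step fr 47579 49 47628 ru970 rc971 rfl
theorem ru972 : ∀ i, i < 47677 → fr i = true := below_step fr 47628 49 47677 ru971 rc972 rfl
theorem ru973 : ∀ i, i < 47726 → fr i = true := below_step fr 47677 49 47726 ru972 rc973 rfl
theorem ru974 : ∀ i, i < 47775 → fr i = true := below_step fr 47726 49 47775 ru973 rc974 rfl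
theorem ru975 : ∀ i, i < 47824 → fr i = true := below_step fr 47775 49 47824 ru974 rc975 rfl
theorem ru976 : ∀ i, i < 47873 → fr i = true := below_step fr 47824 49 47873 ru975 rc976 rfl
theorem ru977 : ∀ i, i < 47922 → fr i = true := below_step fr 47873 49 47922 ru976 rc977 rfl
theorem ru978 : ∀ i, i < 47971 → fr i = true := below_step fr 47922 49 47971 ru977 rc978 rfl
theorem ru979 : ∀ i, i < 48020 → fr i = true := below_step fr 47971 49 48020 ru978 rc979 rfl
theorem ru980 : ∀ i, i < 48069 → fr i = true := below_step fr 48020 49 48069 ru979 rc980 rfl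
theorem ru981 : ∀ i, i < 48118 → fr i = true := below_step fr 48069 49 48118 ru980 rc981 rfl
theorem ru982 : ∀ i, i < 48167 → fr i = true := below_step fr 48118 49 48167 ru981 rc982 rfl
theorem ru983 : ∀ i, i < 48216 → fr i = true := below_step fr 48167 49 48216 ru982 rc983 rfl
theorem ru984 : ∀ i, i < 48265 → fr i = true := below_step fr 48216 49 48265 ru983 rc984 rfl
theorem ru985 : ∀ i, i < 48314 → fr i = true := below_step fr 48265 49 48314 ru984 rc985 rfl
theorem ru986 : ∀ i, i < 48363 → fr i = true := below_step fr 48314 49 48363 ru985 rc986 rfl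
theorem ru987 : ∀ i, i < 48412 → fr i = true := below_step fr 48363 49 48412 ru986 rc987 rfl
theorem ru988 : ∀ i, i < 48461 → fr i = true := below_step fr 48412 49 48461 ru987 rc988 rfl
theorem ru989 : ∀ i, i < 48510 → fr i = true := below_step fr 48461 49 48510 ru988 rc989 rfl
theorem ru990 : ∀ i, i < 48559 → fr i = true := below_step fr 48510 49 48559 ru989 rc990 rfl
theorem ru991 : ∀ i, i < 48608 → fr i = true := below_step fr 48559 49 48608 ru990 rc991 rfl
theorem ru992 : ∀ i, i < 48657 → fr i = true := below_step fr 48608 49 48657 ru991 rc992 rfl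
theorem ru993 : ∀ i, i < 48706 → fr i = true := below_step fr 48657 49 48706 ru992 rc993 rfl
theorem ru994 : ∀ i, i < 48755 → fr i = true := below_step fr 48706 49 48755 ru993 rc994 rfl
theorem ru995 : ∀ i, i < 48804 → fr i = true := below_step fr 48755 49 48804 ru994 rc995 rfl
theorem ru996 : ∀ i, i < 48853 → fr i = true := below_step fr 48804 49 48853 ru995 rc996 rfl
theorem ru997 : ∀ i, i < 48902 → fr i = true := below_step fr 48853 49 48902 ru996 rc997 rfl
theorem ru998 : ∀ i, i < 48951 → fr i = true := below_step fr 48902 49 48951 ru997 rc998 rfl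
theorem ru999 : ∀ i, i < 49000 → fr i = true := below_step fr 48951 49 49000 ru998 rc999 rfl
theorem ru1000 : ∀ i, i < 49049 → fr i = true := below_step fr 49000 49 49049 ru999 rc1000 rfl
theorem ru1001 : ∀ i, i < 49098 → fr i = true := below_step fr 49049 49 49098 ru1000 rc1001 rfl
theorem ru1002 : ∀ i, i < 49147 → fr i = true := below_step fr 49098 49 49147 ru1001 rc1002 rfl
theorem ru1003 : ∀ i, i < 49196 → fr i = true := below_step fr 49147 49 49196 ru1002 rc1003 rfl
theorem ru1004 : ∀ i, i < 49245 → fr i = true := below_step fr 49196 49 49245 ru1003 rc1004 rfl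
theorem ru1005 : ∀ i, i < 49294 → fr i = true := below_step fr 49245 49 49294 ru1004 rc1005 rfl
theorem ru1006 : ∀ i, i < 49343 → fr i = true := below_step fr 49294 49 49343 ru1005 rc1006 rfl
theorem ru1007 : ∀ i, i < 49392 → fr i = true := below_step fr 49343 49 49392 ru1006 rc1007 rfl
theorem ru1008 : ∀ i, i < 49441 → fr i = true := below_step fr 49392 49 49441 ru1007 rc1008 rfl
theorem ru1009 : ∀ i, i < 49490 → fr i = true := below_step fr 49441 49 49490 ru1008 rc1009 rfl
theorem ru1010 : ∀ i, i < 49539 → fr i = true := below_step fr 49490 49 49539 ru1009 rc1010 rfl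
theorem ru1011 : ∀ i, i < 49588 → fr i = true := below_step fr 49539 49 49588 ru1010 rc1011 rfl
theorem ru1012 : ∀ i, i < 49637 → fr i = true := below_step fr 49588 49 49637 ru1011 rc1012 rfl
theorem ru1013 : ∀ i, i < 49686 → fr i = true := below_step fr 49637 49 49686 ru1012 rc1013 rfl
theorem ru1014 : ∀ i, i < 49735 → fr i = true := below_step fr 49686 49 49735 ru1013 rc1014 rfl
theorem ru1015 : ∀ i, i < 49784 → fr i = true := below_step fr 49735 49 49784 ru1014 rc1015 rfl
theorem ru1016 : ∀ i, i < 49833 → fr i = true := below_step fr 49784 49 49833 ru1015 rc1016 rfl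
theorem ru1017 : ∀ i, i < 49882 → fr i = true := below_step fr 49833 49 49882 ru1016 rc1017 rfl
theorem ru1018 : ∀ i, i < 49931 → fr i = true := below_step fr 49882 49 49931 ru1017 rc1018 rfl
theorem ru1019 : ∀ i, i < 49980 → fr i = true := below_step fr 49931 49 49980 ru1018 rc1019 rfl
theorem ru1020 : ∀ i, i < 50029 → fr i = true := below_step fr 49980 49 50029 ru1019 rc1020 rfl
theorem ru1021 : ∀ i, i < 50078 → fr i = true := below_step fr 50029 49 50078 ru1020 rc1021 rfl
theorem ru1022 : ∀ i, i < 50127 → fr i = true := below_step fr 50078 49 50127 ru1021 rc1022 rfl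
theorem ru1023 : ∀ i, i < 50176 → fr i = true := below_step fr 50127 49 50176 ru1022 rc1023 rfl
theorem ru1024 : ∀ i, i < 50225 → fr i = true := below_step fr 50176 49 50225 ru1023 rc1024 rfl
theorem ru1025 : ∀ i, i < 50274 → fr i = true := below_step fr 50225 49 50274 ru1024 rc1025 rfl
theorem ru1026 : ∀ i, i < 50323 → fr i = true := below_step fr 50274 49 50323 ru1025 rc1026 rfl
theorem ru1027 : ∀ i, i < 50372 → fr i = true := below_step fr 50323 49 50372 ru1026 rc1027 rfl
theorem ru1028 : ∀ i, i < 50421 → fr i = true := below_step fr 50372 49 50421 ru1027 rc1028 rfl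
theorem ru1029 : ∀ i, i < 50470 → fr i = true := below_step fr 50421 49 50470 ru1028 rc1029 rfl
theorem ru1030 : ∀ i, i < 50519 → fr i = true := below_step fr 50470 49 50519 ru1029 rc1030 rfl
theorem ru1031 : ∀ i, i < 50568 → fr i = true := below_step fr 50519 49 50568 ru1030 rc1031 rfl
theorem ru1032 : ∀ i, i < 50617 → fr i = true := below_step fr 50568 49 50617 ru1031 rc1032 rfl
theorem ru1033 : ∀ i, i < 50666 → fr i = true := below_step fr 50617 49 50666 ru1032 rc1033 rfl
theorem ru1034 : ∀ i, i < 50715 → fr i = true := below_step fr 50666 49 50715 ru1033 rc1034 rfl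
theorem ru1035 : ∀ i, i < 50764 → fr i = true := below_step fr 50715 49 50764 ru1034 rc1035 rfl
theorem ru1036 : ∀ i, i < 50813 → fr i = true := below_step fr 50764 49 50813 ru1035 rc1036 rfl
theorem ru1037 : ∀ i, i < 50862 → fr i = true := below_step fr 50813 49 50862 ru1036 rc1037 rfl
theorem ru1038 : ∀ i, i < 50911 → fr i = true := below_step fr 50862 49 50911 ru1037 rc1038 rfl
theorem ru1039 : ∀ i, i < 50960 → fr i = true := below_step fr 50911 49 50960 ru1038 rc1039 rfl
theorem ru1040 : ∀ i, i < 51009 → fr i = true := below_step fr 50960 49 51009 ru1039 rc1040 rfl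
theorem ru1041 : ∀ i, i < 51058 → fr i = true := below_step fr 51009 49 51058 ru1040 rc1041 rfl
theorem ru1042 : ∀ i, i < 51107 → fr i = true := below_step fr 51058 49 51107 ru1041 rc1042 rfl
theorem ru1043 : ∀ i, i < 51156 → fr i = true := below_step fr 51107 49 51156 ru1042 rc1043 rfl
theorem ru1044 : ∀ i, i < 51205 → fr i = true := below_step fr 51156 49 51205 ru1043 rc1044 rfl
theorem ru1045 : ∀ i, i < 51254 → fr i = true := below_step fr 51205 49 51254 ru1044 rc1045 rfl
theorem ru1046 : ∀ i, i < 51303 → fr i = true := below_step fr 51254 49 51303 ru1045 rc1046 rfl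
theorem ru1047 : ∀ i, i < 51352 → fr i = true := below_step fr 51303 49 51352 ru1046 rc1047 rfl
theorem ru1048 : ∀ i, i < 51401 → fr i = true := below_step fr 51352 49 51401 ru1047 rc1048 rfl
theorem ru1049 : ∀ i, i < 51450 → fr i = true := below_step fr 51401 49 51450 ru1048 rc1049 rfl
theorem ru1050 : ∀ i, i < 51499 → fr i = true := below_step fr 51450 49 51499 ru1049 rc1050 rfl
theorem ru1051 : ∀ i, i < 51548 → fr i = true := below_step fr 51499 49 51548 ru1050 rc1051 rfl
theorem ru1052 : ∀ i, i < 51597 → fr i = true := below_step fr 51548 49 51597 ru1051 rc1052 rfl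
theorem ru1053 : ∀ i, i < 51646 → fr i = true := below_step fr 51597 49 51646 ru1052 rc1053 rfl
theorem ru1054 : ∀ i, i < 51695 → fr i = true := below_step fr 51646 49 51695 ru1053 rc1054 rfl
theorem ru1055 : ∀ i, i < 51744 → fr i = true := below_step fr 51695 49 51744 ru1054 rc1055 rfl
theorem ru1056 : ∀ i, i < 51793 → fr i = true := below_step fr 51744 49 51793 ru1055 rc1056 rfl
theorem ru1057 : ∀ i, i < 51842 → fr i = true := below_step fr 51793 49 51842 ru1056 rc1057 rfl
theorem ru1058 : ∀ i, i < 51891 → fr i = true := below_step fr 51842 49 51891 ru1057 rc1058 rfl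
theorem ru1059 : ∀ i, i < 51940 → fr i = true := below_step fr 51891 49 51940 ru1058 rc1059 rfl
theorem ru1060 : ∀ i, i < 51989 → fr i = true := below_step fr 51940 49 51989 ru1059 rc1060 rfl
theorem ru1061 : ∀ i, i < 52038 → fr i = true := below_step fr 51989 49 52038 ru1060 rc1061 rfl
theorem ru1062 : ∀ i, i < 52087 → fr i = true := below_step fr 52038 49 52087 ru1061 rc1062 rfl
theorem ru1063 : ∀ i, i < 52136 → fr i = true := below_step fr 52087 49 52136 ru1062 rc1063 rfl
theorem ru1064 : ∀ i, i < 52185 → fr i = true := below_step fr 52136 49 52185 ru1063 rc1064 rfl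
theorem ru1065 : ∀ i, i < 52234 → fr i = true := below_step fr 52185 49 52234 ru1064 rc1065 rfl
theorem ru1066 : ∀ i, i < 52283 → fr i = true := below_step fr 52234 49 52283 ru1065 rc1066 rfl
theorem ru1067 : ∀ i, i < 52332 → fr i = true := below_step fr 52283 49 52332 ru1066 rc1067 rfl
theorem ru1068 : ∀ i, i < 52381 → fr i = true := below_step fr 52332 49 52381 ru1067 rc1068 rfl
theorem ru1069 : ∀ i, i < 52430 → fr i = true := below_step fr 52381 49 52430 ru1068 rc1069 rfl
theorem ru1070 : ∀ i, i < 52479 → fr i = true := below_step fr 52430 49 52479 ru1069 rc1070 rfl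
theorem ru1071 : ∀ i, i < 52528 → fr i = true := below_step fr 52479 49 52528 ru1070 rc1071 rfl
theorem ru1072 : ∀ i, i < 52577 → fr i = true := below_step fr 52528 49 52577 ru1071 rc1072 rfl
theorem ru1073 : ∀ i, i < 52626 → fr i = true := below_step fr 52577 49 52626 ru1072 rc1073 rfl
theorem ru1074 : ∀ i, i < 52675 → fr i = true := below_step fr 52626 49 52675 ru1073 rc1074 rfl
theorem ru1075 : ∀ i, i < 52724 → fr i = true := below_step fr 52675 49 52724 ru1074 rc1075 rfl
theorem ru1076 : ∀ i, i < 52773 → fr i = true := below_step fr 52724 49 52773 ru1075 rc1076 rfl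
theorem ru1077 : ∀ i, i < 52822 → fr i = true := below_step fr 52773 49 52822 ru1076 rc1077 rfl
theorem ru1078 : ∀ i, i < 52871 → fr i = true := below_step fr 52822 49 52871 ru1077 rc1078 rfl
theorem ru1079 : ∀ i, i < 52920 → fr i = true := below_step fr 52871 49 52920 ru1078 rc1079 rfl
theorem ru1080 : ∀ i, i < 52969 → fr i = true := below_step fr 52920 49 52969 ru1079 rc1080 rfl
theorem ru1081 : ∀ i, i < 53018 → fr i = true := below_step fr 52969 49 53018 ru1080 rc1081 rfl
theorem ru1082 : ∀ i, i < 53067 → fr i = true := below_step fr 53018 49 53067 ru1081 rc1082 rfl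
theorem ru1083 : ∀ i, i < 53116 → fr i = true := below_step fr 53067 49 53116 ru1082 rc1083 rfl
theorem ru1084 : ∀ i, i < 53165 → fr i = true := below_step fr 53116 49 53165 ru1083 rc1084 rfl
theorem ru1085 : ∀ i, i < 53214 → fr i = true := below_step fr 53165 49 53214 ru1084 rc1085 rfl
theorem ru1086 : ∀ i, i < 53263 → fr i = true := below_step fr 53214 49 53263 ru1085 rc1086 rfl
theorem ru1087 : ∀ i, i < 53312 → fr i = true := below_step fr 53263 49 53312 ru1086 rc1087 rfl
theorem ru1088 : ∀ i, i < 53361 → fr i = true := below_step fr 53312 49 53361 ru1087 rc1088 rfl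
theorem ru1089 : ∀ i, i < 53410 → fr i = true := below_step fr 53361 49 53410 ru1088 rc1089 rfl
theorem ru1090 : ∀ i, i < 53459 → fr i = true := below_step fr 53410 49 53459 ru1089 rc1090 rfl
theorem ru1091 : ∀ i, i < 53508 → fr i = true := below_step fr 53459 49 53508 ru1090 rc1091 rfl
theorem ru1092 : ∀ i, i < 53557 → fr i = true := below_step fr 53508 49 53557 ru1091 rc1092 rfl
theorem ru1093 : ∀ i, i < 53606 → fr i = true := below_step fr 53557 49 53606 ru1092 rc1093 rfl
theorem ru1094 : ∀ i, i < 53655 → fr i = true := below_step fr 53606 49 53655 ru1093 rc1094 rfl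
theorem ru1095 : ∀ i, i < 53704 → fr i = true := below_step fr 53655 49 53704 ru1094 rc1095 rfl
theorem ru1096 : ∀ i, i < 53753 → fr i = true := below_step fr 53704 49 53753 ru1095 rc1096 rfl
theorem ru1097 : ∀ i, i < 53802 → fr i = true := below_step fr 53753 49 53802 ru1096 rc1097 rfl
theorem ru1098 : ∀ i, i < 53851 → fr i = true := below_step fr 53802 49 53851 ru1097 rc1098 rfl
theorem ru1099 : ∀ i, i < 53900 → fr i = true := below_step fr 53851 49 53900 ru1098 rc1099 rfl
theorem ru1100 : ∀ i, i < 53949 → fr i = true := below_step fr 53900 49 53949 ru1099 rc1100 rfl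
theorem ru1101 : ∀ i, i < 53998 → fr i = true := below_step fr 53949 49 53998 ru1100 rc1101 rfl
theorem ru1102 : ∀ i, i < 54047 → fr i = true := below_step fr 53998 49 54047 ru1101 rc1102 rfl
theorem ru1103 : ∀ i, i < 54096 → fr i = true := below_step fr 54047 49 54096 ru1102 rc1103 rfl
theorem ru1104 : ∀ i, i < 54145 → fr i = true := below_step fr 54096 49 54145 ru1103 rc1104 rfl
theorem ru1105 : ∀ i, i < 54194 → fr i = true := below_step fr 54145 49 54194 ru1104 rc1105 rfl
theorem ru1106 : ∀ i, i < 54243 → fr i = true := below_step fr 54194 49 54243 ru1105 rc1106 rfl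
theorem ru1107 : ∀ i, i < 54292 → fr i = true := below_step fr 54243 49 54292 ru1106 rc1107 rfl
theorem ru1108 : ∀ i, i < 54341 → fr i = true := below_step fr 54292 49 54341 ru1107 rc1108 rfl
theorem ru1109 : ∀ i, i < 54390 → fr i = true := below_step fr 54341 49 54390 ru1108 rc1109 rfl
theorem ru1110 : ∀ i, i < 54439 → fr i = true := below_step fr 54390 49 54439 ru1109 rc1110 rfl
theorem ru1111 : ∀ i, i < 54488 → fr i = true := below_step fr 54439 49 54488 ru1110 rc1111 rfl
theorem ru1112 : ∀ i, i < 54537 → fr i = true := below_step fr 54488 49 54537 ru1111 rc1112 rfl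
theorem ru1113 : ∀ i, i < 54586 → fr i = true := below_step fr 54537 49 54586 ru1112 rc1113 rfl
theorem ru1114 : ∀ i, i < 54635 → fr i = true := below_step fr 54586 49 54635 ru1113 rc1114 rfl
theorem ru1115 : ∀ i, i < 54684 → fr i = true := below_step fr 54635 49 54684 ru1114 rc1115 rfl
theorem ru1116 : ∀ i, i < 54733 → fr i = true := below_step fr 54684 49 54733 ru1115 rc1116 rfl
theorem ru1117 : ∀ i, i < 54782 → fr i = true := below_step fr 54733 49 54782 ru1116 rc1117 rfl
theorem ru1118 : ∀ i, i < 54831 → fr i = true := below_step fr 54782 49 54831 ru1117 rc1118 rfl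
theorem ru1119 : ∀ i, i < 54880 → fr i = true := below_step fr 54831 49 54880 ru1118 rc1119 rfl
theorem ru1120 : ∀ i, i < 54929 → fr i = true := below_step fr 54880 49 54929 ru1119 rc1120 rfl
theorem ru1121 : ∀ i, i < 54978 → fr i = true := below_step fr 54929 49 54978 ru1120 rc1121 rfl
theorem ru1122 : ∀ i, i < 55027 → fr i = true := below_step fr 54978 49 55027 ru1121 rc1122 rfl
theorem ru1123 : ∀ i, i < 55076 → fr i = true := below_step fr 55027 49 55076 ru1122 rc1123 rfl
theorem ru1124 : ∀ i, i < 55125 → fr i = true := below_step fr 55076 49 55125 ru1123 rc1124 rfl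
theorem ru1125 : ∀ i, i < 55174 → fr i = true := below_step fr 55125 49 55174 ru1124 rc1125 rfl
theorem ru1126 : ∀ i, i < 55223 → fr i = true := below_step fr 55174 49 55223 ru1125 rc1126 rfl
theorem ru1127 : ∀ i, i < 55272 → fr i = true := below_step fr 55223 49 55272 ru1126 rc1127 rfl
theorem ru1128 : ∀ i, i < 55321 → fr i = true := below_step fr 55272 49 55321 ru1127 rc1128 rfl
theorem ru1129 : ∀ i, i < 55370 → fr i = true := below_step fr 55321 49 55370 ru1128 rc1129 rfl
theorem ru1130 : ∀ i, i < 55419 → fr i = true := below_step fr 55370 49 55419 ru1129 rc1130 rfl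
theorem ru1131 : ∀ i, i < 55468 → fr i = true := below_step fr 55419 49 55468 ru1130 rc1131 rfl
theorem ru1132 : ∀ i, i < 55517 → fr i = true := below_step fr 55468 49 55517 ru1131 rc1132 rfl
theorem ru1133 : ∀ i, i < 55566 → fr i = true := below_step fr 55517 49 55566 ru1132 rc1133 rfl
theorem ru1134 : ∀ i, i < 55615 → fr i = true := below_step fr 55566 49 55615 ru1133 rc1134 rfl
theorem ru1135 : ∀ i, i < 55664 → fr i = true := below_step fr 55615 49 55664 ru1134 rc1135 rfl
theorem ru1136 : ∀ i, i < 55713 → fr i = true := below_step fr 55664 49 55713 ru1135 rc1136 rfl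
theorem ru1137 : ∀ i, i < 55762 → fr i = true := below_step fr 55713 49 55762 ru1136 rc1137 rfl
theorem ru1138 : ∀ i, i < 55811 → fr i = true := below_step fr 55762 49 55811 ru1137 rc1138 rfl
theorem ru1139 : ∀ i, i < 55860 → fr i = true := below_step fr 55811 49 55860 ru1138 rc1139 rfl
theorem ru1140 : ∀ i, i < 55909 → fr i = true := below_step fr 55860 49 55909 ru1139 rc1140 rfl
theorem ru1141 : ∀ i, i < 55958 → fr i = true := below_step fr 55909 49 55958 ru1140 rc1141 rfl
theorem ru1142 : ∀ i, i < 56007 → fr i = true := below_step fr 55958 49 56007 ru1141 rc1142 rfl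
theorem ru1143 : ∀ i, i < 56056 → fr i = true := below_step fr 56007 49 56056 ru1142 rc1143 rfl
theorem ru1144 : ∀ i, i < 56105 → fr i = true := below_step fr 56056 49 56105 ru1143 rc1144 rfl
theorem ru1145 : ∀ i, i < 56154 → fr i = true := below_step fr 56105 49 56154 ru1144 rc1145 rfl
theorem ru1146 : ∀ i, i < 56203 → fr i = true := below_step fr 56154 49 56203 ru1145 rc1146 rfl
theorem ru1147 : ∀ i, i < 56252 → fr i = true := below_step fr 56203 49 56252 ru1146 rc1147 rfl
theorem ru1148 : ∀ i, i < 56301 → fr i = true := below_step fr 56252 49 56301 ru1147 rc1148 rfl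
theorem ru1149 : ∀ i, i < 56350 → fr i = true := below_step fr 56301 49 56350 ru1148 rc1149 rfl
theorem ru1150 : ∀ i, i < 56399 → fr i = true := below_step fr 56350 49 56399 ru1149 rc1150 rfl
theorem ru1151 : ∀ i, i < 56448 → fr i = true := below_step fr 56399 49 56448 ru1150 rc1151 rfl
theorem ru1152 : ∀ i, i < 56497 → fr i = true := below_step fr 56448 49 56497 ru1151 rc1152 rfl
theorem ru1153 : ∀ i, i < 56546 → fr i = true := below_step fr 56497 49 56546 ru1152 rc1153 rfl
theorem ru1154 : ∀ i, i < 56595 → fr i = true := below_step fr 56546 49 56595 ru1153 rc1154 rfl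
theorem ru1155 : ∀ i, i < 56644 → fr i = true := below_step fr 56595 49 56644 ru1154 rc1155 rfl
theorem ru1156 : ∀ i, i < 56693 → fr i = true := below_step fr 56644 49 56693 ru1155 rc1156 rfl
theorem ru1157 : ∀ i, i < 56742 → fr i = true := below_step fr 56693 49 56742 ru1156 rc1157 rfl
theorem ru1158 : ∀ i, i < 56791 → fr i = true := below_step fr 56742 49 56791 ru1157 rc1158 rfl
theorem ru1159 : ∀ i, i < 56840 → fr i = true := below_step fr 56791 49 56840 ru1158 rc1159 rfl
theorem ru1160 : ∀ i, i < 56889 → fr i = true := below_step fr 56840 49 56889 ru1159 rc1160 rfl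
theorem ru1161 : ∀ i, i < 56938 → fr i = true := below_step fr 56889 49 56938 ru1160 rc1161 rfl
theorem ru1162 : ∀ i, i < 56987 → fr i = true := below_step fr 56938 49 56987 ru1161 rc1162 rfl
theorem ru1163 : ∀ i, i < 57036 → fr i = true := below_step fr 56987 49 57036 ru1162 rc1163 rfl
theorem ru1164 : ∀ i, i < 57085 → fr i = true := below_step fr 57036 49 57085 ru1163 rc1164 rfl
theorem ru1165 : ∀ i, i < 57134 → fr i = true := below_step fr 57085 49 57134 ru1164 rc1165 rfl
theorem ru1166 : ∀ i, i < 57183 → fr i = true := below_step fr 57134 49 57183 ru1165 rc1166 rfl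
theorem ru1167 : ∀ i, i < 57232 → fr i = true := below_step fr 57183 49 57232 ru1166 rc1167 rfl
theorem ru1168 : ∀ i, i < 57281 → fr i = true := below_step fr 57232 49 57281 ru1167 rc1168 rfl
theorem ru1169 : ∀ i, i < 57330 → fr i = true := below_step fr 57281 49 57330 ru1168 rc1169 rfl
theorem ru1170 : ∀ i, i < 57379 → fr i = true := below_step fr 57330 49 57379 ru1169 rc1170 rfl
theorem ru1171 : ∀ i, i < 57428 → fr i = true := below_step fr 57379 49 57428 ru1170 rc1171 rfl
theorem ru1172 : ∀ i, i < 57477 → fr i = true := below_step fr 57428 49 57477 ru1171 rc1172 rfl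
theorem ru1173 : ∀ i, i < 57526 → fr i = true := below_step fr 57477 49 57526 ru1172 rc1173 rfl
theorem ru1174 : ∀ i, i < 57575 → fr i = true := below_step fr 57526 49 57575 ru1173 rc1174 rfl
theorem ru1175 : ∀ i, i < 57624 → fr i = true := below_step fr 57575 49 57624 ru1174 rc1175 rfl
theorem ru1176 : ∀ i, i < 57673 → fr i = true := below_step fr 57624 49 57673 ru1175 rc1176 rfl
theorem ru1177 : ∀ i, i < 57722 → fr i = true := below_step fr 57673 49 57722 ru1176 rc1177 rfl
theorem ru1178 : ∀ i, i < 57771 → fr i = true := below_step fr 57722 49 57771 ru1177 rc1178 rfl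
theorem ru1179 : ∀ i, i < 57820 → fr i = true := below_step fr 57771 49 57820 ru1178 rc1179 rfl
theorem ru1180 : ∀ i, i < 57869 → fr i = true := below_step fr 57820 49 57869 ru1179 rc1180 rfl
theorem ru1181 : ∀ i, i < 57918 → fr i = true := below_step fr 57869 49 57918 ru1180 rc1181 rfl
theorem ru1182 : ∀ i, i < 57967 → fr i = true := below_step fr 57918 49 57967 ru1181 rc1182 rfl
theorem ru1183 : ∀ i, i < 58016 → fr i = true := below_step fr 57967 49 58016 ru1182 rc1183 rfl
theorem ru1184 : ∀ i, i < 58065 → fr i = true := below_step fr 58016 49 58065 ru1183 rc1184 rfl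
theorem ru1185 : ∀ i, i < 58114 → fr i = true := below_step fr 58065 49 58114 ru1184 rc1185 rfl
theorem ru1186 : ∀ i, i < 58163 → fr i = true := below_step fr 58114 49 58163 ru1185 rc1186 rfl
theorem ru1187 : ∀ i, i < 58212 → fr i = true := below_step fr 58163 49 58212 ru1186 rc1187 rfl
theorem ru1188 : ∀ i, i < 58261 → fr i = true := below_step fr 58212 49 58261 ru1187 rc1188 rfl
theorem ru1189 : ∀ i, i < 58310 → fr i = true := below_step fr 58261 49 58310 ru1188 rc1189 rfl
theorem ru1190 : ∀ i, i < 58359 → fr i = true := below_step fr 58310 49 58359 ru1189 rc1190 rfl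
theorem ru1191 : ∀ i, i < 58408 → fr i = true := below_step fr 58359 49 58408 ru1190 rc1191 rfl
theorem ru1192 : ∀ i, i < 58457 → fr i = true := below_step fr 58408 49 58457 ru1191 rc1192 rfl
theorem ru1193 : ∀ i, i < 58506 → fr i = true := below_step fr 58457 49 58506 ru1192 rc1193 rfl
theorem ru1194 : ∀ i, i < 58555 → fr i = true := below_step fr 58506 49 58555 ru1193 rc1194 rfl
theorem ru1195 : ∀ i, i < 58604 → fr i = true := below_step fr 58555 49 58604 ru1194 rc1195 rfl
theorem ru1196 : ∀ i, i < 58653 → fr i = true := below_step fr 58604 49 58653 ru1195 rc1196 rfl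
theorem ru1197 : ∀ i, i < 58702 → fr i = true := below_step fr 58653 49 58702 ru1196 rc1197 rfl
theorem ru1198 : ∀ i, i < 58751 → fr i = true := below_step fr 58702 49 58751 ru1197 rc1198 rfl
theorem ru1199 : ∀ i, i < 58800 → fr i = true := below_step fr 58751 49 58800 ru1198 rc1199 rfl
theorem ru1200 : ∀ i, i < 58849 → fr i = true := below_step fr 58800 49 58849 ru1199 rc1200 rfl
theorem ru1201 : ∀ i, i < 58898 → fr i = true := below_step fr 58849 49 58898 ru1200 rc1201 rfl
theorem ru1202 : ∀ i, i < 58947 → fr i = true := below_step fr 58898 49 58947 ru1201 rc1202 rfl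
theorem ru1203 : ∀ i, i < 58996 → fr i = true := below_step fr 58947 49 58996 ru1202 rc1203 rfl
theorem ru1204 : ∀ i, i < 59045 → fr i = true := below_step fr 58996 49 59045 ru1203 rc1204 rfl
theorem ru1205 : ∀ i, i < 59094 → fr i = true := below_step fr 59045 49 59094 ru1204 rc1205 rfl
theorem ru1206 : ∀ i, i < 59143 → fr i = true := below_step fr 59094 49 59143 ru1205 rc1206 rfl
theorem ru1207 : ∀ i, i < 59192 → fr i = true := below_step fr 59143 49 59192 ru1206 rc1207 rfl
theorem ru1208 : ∀ i, i < 59241 → fr i = true := below_step fr 59192 49 59241 ru1207 rc1208 rfl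
theorem ru1209 : ∀ i, i < 59290 → fr i = true := below_step fr 59241 49 59290 ru1208 rc1209 rfl
theorem ru1210 : ∀ i, i < 59339 → fr i = true := below_step fr 59290 49 59339 ru1209 rc1210 rfl
theorem ru1211 : ∀ i, i < 59388 → fr i = true := below_step fr 59339 49 59388 ru1210 rc1211 rfl
theorem ru1212 : ∀ i, i < 59437 → fr i = true := below_step fr 59388 49 59437 ru1211 rc1212 rfl
theorem ru1213 : ∀ i, i < 59486 → fr i = true := below_step fr 59437 49 59486 ru1212 rc1213 rfl
theorem ru1214 : ∀ i, i < 59535 → fr i = true := below_step fr 59486 49 59535 ru1213 rc1214 rfl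
theorem ru1215 : ∀ i, i < 59584 → fr i = true := below_step fr 59535 49 59584 ru1214 rc1215 rfl
theorem ru1216 : ∀ i, i < 59633 → fr i = true := below_step fr 59584 49 59633 ru1215 rc1216 rfl
theorem ru1217 : ∀ i, i < 59682 → fr i = true := below_step fr 59633 49 59682 ru1216 rc1217 rfl
theorem ru1218 : ∀ i, i < 59731 → fr i = true := below_step fr 59682 49 59731 ru1217 rc1218 rfl
theorem ru1219 : ∀ i, i < 59780 → fr i = true := below_step fr 59731 49 59780 ru1218 rc1219 rfl
theorem ru1220 : ∀ i, i < 59829 → fr i = true := below_step fr 59780 49 59829 ru1219 rc1220 rfl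
theorem ru1221 : ∀ i, i < 59878 → fr i = true := below_step fr 59829 49 59878 ru1220 rc1221 rfl
theorem ru1222 : ∀ i, i < 59927 → fr i = true := below_step fr 59878 49 59927 ru1221 rc1222 rfl
theorem ru1223 : ∀ i, i < 59976 → fr i = true := below_step fr 59927 49 59976 ru1222 rc1223 rfl
theorem ru1224 : ∀ i, i < 60025 → fr i = true := below_step fr 59976 49 60025 ru1223 rc1224 rfl
theorem ru1225 : ∀ i, i < 60074 → fr i = true := below_step fr 60025 49 60074 ru1224 rc1225 rfl
theorem ru1226 : ∀ i, i < 60123 → fr i = true := below_step fr 60074 49 60123 ru1225 rc1226 rfl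
theorem ru1227 : ∀ i, i < 60172 → fr i = true := below_step fr 60123 49 60172 ru1226 rc1227 rfl
theorem ru1228 : ∀ i, i < 60221 → fr i = true := below_step fr 60172 49 60221 ru1227 rc1228 rfl
theorem ru1229 : ∀ i, i < 60270 → fr i = true := below_step fr 60221 49 60270 ru1228 rc1229 rfl
theorem ru1230 : ∀ i, i < 60319 → fr i = true := below_step fr 60270 49 60319 ru1229 rc1230 rfl
theorem ru1231 : ∀ i, i < 60368 → fr i = true := below_step fr 60319 49 60368 ru1230 rc1231 rfl
theorem ru1232 : ∀ i, i < 60417 → fr i = true := below_step fr 60368 49 60417 ru1231 rc1232 rfl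
theorem ru1233 : ∀ i, i < 60466 → fr i = true := below_step fr 60417 49 60466 ru1232 rc1233 rfl
theorem ru1234 : ∀ i, i < 60515 → fr i = true := below_step fr 60466 49 60515 ru1233 rc1234 rfl
theorem ru1235 : ∀ i, i < 60564 → fr i = true := below_step fr 60515 49 60564 ru1234 rc1235 rfl
theorem ru1236 : ∀ i, i < 60613 → fr i = true := below_step fr 60564 49 60613 ru1235 rc1236 rfl
theorem ru1237 : ∀ i, i < 60662 → fr i = true := below_step fr 60613 49 60662 ru1236 rc1237 rfl
theorem ru1238 : ∀ i, i < 60711 → fr i = true := below_step fr 60662 49 60711 ru1237 rc1238 rfl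
theorem ru1239 : ∀ i, i < 60760 → fr i = true := below_step fr 60711 49 60760 ru1238 rc1239 rfl
theorem ru1240 : ∀ i, i < 60809 → fr i = true := below_step fr 60760 49 60809 ru1239 rc1240 rfl
theorem ru1241 : ∀ i, i < 60858 → fr i = true := below_step fr 60809 49 60858 ru1240 rc1241 rfl
theorem ru1242 : ∀ i, i < 60907 → fr i = true := below_step fr 60858 49 60907 ru1241 rc1242 rfl
theorem ru1243 : ∀ i, i < 60956 → fr i = true := below_step fr 60907 49 60956 ru1242 rc1243 rfl
theorem ru1244 : ∀ i, i < 61005 → fr i = true := below_step fr 60956 49 61005 ru1243 rc1244 rfl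
theorem ru1245 : ∀ i, i < 61054 → fr i = true := below_step fr 61005 49 61054 ru1244 rc1245 rfl
theorem ru1246 : ∀ i, i < 61103 → fr i = true := below_step fr 61054 49 61103 ru1245 rc1246 rfl
theorem ru1247 : ∀ i, i < 61152 → fr i = true := below_step fr 61103 49 61152 ru1246 rc1247 rfl
theorem ru1248 : ∀ i, i < 61201 → fr i = true := below_step fr 61152 49 61201 ru1247 rc1248 rfl
theorem ru1249 : ∀ i, i < 61250 → fr i = true := below_step fr 61201 49 61250 ru1248 rc1249 rfl
theorem ru1250 : ∀ i, i < 61299 → fr i = true := below_step fr 61250 49 61299 ru1249 rc1250 rfl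
theorem ru1251 : ∀ i, i < 61348 → fr i = true := below_step fr 61299 49 61348 ru1250 rc1251 rfl
theorem ru1252 : ∀ i, i < 61397 → fr i = true := below_step fr 61348 49 61397 ru1251 rc1252 rfl
theorem ru1253 : ∀ i, i < 61446 → fr i = true := below_step fr 61397 49 61446 ru1252 rc1253 rfl
theorem ru1254 : ∀ i, i < 61495 → fr i = true := below_step fr 61446 49 61495 ru1253 rc1254 rfl
theorem ru1255 : ∀ i, i < 61544 → fr i = true := below_step fr 61495 49 61544 ru1254 rc1255 rfl
theorem ru1256 : ∀ i, i < 61593 → fr i = true := below_step fr 61544 49 61593 ru1255 rc1256 rfl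
theorem ru1257 : ∀ i, i < 61642 → fr i = true := below_step fr 61593 49 61642 ru1256 rc1257 rfl
theorem ru1258 : ∀ i, i < 61691 → fr i = true := below_step fr 61642 49 61691 ru1257 rc1258 rfl
theorem ru1259 : ∀ i, i < 61740 → fr i = true := below_step fr 61691 49 61740 ru1258 rc1259 rfl
theorem ru1260 : ∀ i, i < 61789 → fr i = true := below_step fr 61740 49 61789 ru1259 rc1260 rfl
theorem ru1261 : ∀ i, i < 61838 → fr i = true := below_step fr 61789 49 61838 ru1260 rc1261 rfl
theorem ru1262 : ∀ i, i < 61887 → fr i = true := below_step fr 61838 49 61887 ru1261 rc1262 rfl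
theorem ru1263 : ∀ i, i < 61936 → fr i = true := below_step fr 61887 49 61936 ru1262 rc1263 rfl
theorem ru1264 : ∀ i, i < 61985 → fr i = true := below_step fr 61936 49 61985 ru1263 rc1264 rfl
theorem ru1265 : ∀ i, i < 62034 → fr i = true := below_step fr 61985 49 62034 ru1264 rc1265 rfl
theorem ru1266 : ∀ i, i < 62083 → fr i = true := below_step fr 62034 49 62083 ru1265 rc1266 rfl
theorem ru1267 : ∀ i, i < 62132 → fr i = true := below_step fr 62083 49 62132 ru1266 rc1267 rfl
theorem ru1268 : ∀ i, i < 62181 → fr i = true := below_step fr 62132 49 62181 ru1267 rc1268 rfl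
theorem ru1269 : ∀ i, i < 62230 → fr i = true := below_step fr 62181 49 62230 ru1268 rc1269 rfl
theorem ru1270 : ∀ i, i < 62279 → fr i = true := below_step fr 62230 49 62279 ru1269 rc1270 rfl
theorem ru1271 : ∀ i, i < 62328 → fr i = true := below_step fr 62279 49 62328 ru1270 rc1271 rfl
theorem ru1272 : ∀ i, i < 62377 → fr i = true := below_step fr 62328 49 62377 ru1271 rc1272 rfl
theorem ru1273 : ∀ i, i < 62426 → fr i = true := below_step fr 62377 49 62426 ru1272 rc1273 rfl
theorem ru1274 : ∀ i, i < 62475 → fr i = true := below_step fr 62426 49 62475 ru1273 rc1274 rfl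
theorem ru1275 : ∀ i, i < 62524 → fr i = true := below_step fr 62475 49 62524 ru1274 rc1275 rfl
theorem ru1276 : ∀ i, i < 62573 → fr i = true := below_step fr 62524 49 62573 ru1275 rc1276 rfl
theorem ru1277 : ∀ i, i < 62622 → fr i = true := below_step fr 62573 49 62622 ru1276 rc1277 rfl
theorem ru1278 : ∀ i, i < 62671 → fr i = true := below_step fr 62622 49 62671 ru1277 rc1278 rfl
theorem ru1279 : ∀ i, i < 62720 → fr i = true := below_step fr 62671 49 62720 ru1278 rc1279 rfl
theorem ru1280 : ∀ i, i < 62769 → fr i = true := below_step fr 62720 49 62769 ru1279 rc1280 rfl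
theorem ru1281 : ∀ i, i < 62818 → fr i = true := below_step fr 62769 49 62818 ru1280 rc1281 rfl
theorem ru1282 : ∀ i, i < 62867 → fr i = true := below_step fr 62818 49 62867 ru1281 rc1282 rfl
theorem ru1283 : ∀ i, i < 62916 → fr i = true := below_step fr 62867 49 62916 ru1282 rc1283 rfl
theorem ru1284 : ∀ i, i < 62965 → fr i = true := below_step fr 62916 49 62965 ru1283 rc1284 rfl
theorem ru1285 : ∀ i, i < 63014 → fr i = true := below_step fr 62965 49 63014 ru1284 rc1285 rfl
theorem ru1286 : ∀ i, i < 63063 → fr i = true := below_step fr 63014 49 63063 ru1285 rc1286 rfl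
theorem ru1287 : ∀ i, i < 63112 → fr i = true := below_step fr 63063 49 63112 ru1286 rc1287 rfl
theorem ru1288 : ∀ i, i < 63161 → fr i = true := below_step fr 63112 49 63161 ru1287 rc1288 rfl
theorem ru1289 : ∀ i, i < 63210 → fr i = true := below_step fr 63161 49 63210 ru1288 rc1289 rfl
theorem ru1290 : ∀ i, i < 63259 → fr i = true := below_step fr 63210 49 63259 ru1289 rc1290 rfl
theorem ru1291 : ∀ i, i < 63308 → fr i = true := below_step fr 63259 49 63308 ru1290 rc1291 rfl
theorem ru1292 : ∀ i, i < 63357 → fr i = true := below_step fr 63308 49 63357 ru1291 rc1292 rfl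
theorem ru1293 : ∀ i, i < 63406 → fr i = true := below_step fr 63357 49 63406 ru1292 rc1293 rfl
theorem ru1294 : ∀ i, i < 63455 → fr i = true := below_step fr 63406 49 63455 ru1293 rc1294 rfl
theorem ru1295 : ∀ i, i < 63504 → fr i = true := below_step fr 63455 49 63504 ru1294 rc1295 rfl
theorem ru1296 : ∀ i, i < 63553 → fr i = true := below_step fr 63504 49 63553 ru1295 rc1296 rfl
theorem ru1297 : ∀ i, i < 63602 → fr i = true := below_step fr 63553 49 63602 ru1296 rc1297 rfl
theorem ru1298 : ∀ i, i < 63651 → fr i = true := below_step fr 63602 49 63651 ru1297 rc1298 rfl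
theorem ru1299 : ∀ i, i < 63700 → fr i = true := below_step fr 63651 49 63700 ru1298 rc1299 rfl
theorem ru1300 : ∀ i, i < 63749 → fr i = true := below_step fr 63700 49 63749 ru1299 rc1300 rfl
theorem ru1301 : ∀ i, i < 63798 → fr i = true := below_step fr 63749 49 63798 ru1300 rc1301 rfl
theorem ru1302 : ∀ i, i < 63847 → fr i = true := below_step fr 63798 49 63847 ru1301 rc1302 rfl
theorem ru1303 : ∀ i, i < 63896 → fr i = true := below_step fr 63847 49 63896 ru1302 rc1303 rfl
theorem ru1304 : ∀ i, i < 63945 → fr i = true := below_step fr 63896 49 63945 ru1303 rc1304 rfl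
theorem ru1305 : ∀ i, i < 63994 → fr i = true := below_step fr 63945 49 63994 ru1304 rc1305 rfl
theorem ru1306 : ∀ i, i < 64043 → fr i = true := below_step fr 63994 49 64043 ru1305 rc1306 rfl
theorem ru1307 : ∀ i, i < 64092 → fr i = true := below_step fr 64043 49 64092 ru1306 rc1307 rfl
theorem ru1308 : ∀ i, i < 64141 → fr i = true := below_step fr 64092 49 64141 ru1307 rc1308 rfl
theorem ru1309 : ∀ i, i < 64190 → fr i = true := below_step fr 64141 49 64190 ru1308 rc1309 rfl
theorem ru1310 : ∀ i, i < 64239 → fr i = true := below_step fr 64190 49 64239 ru1309 rc1310 rfl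
theorem ru1311 : ∀ i, i < 64288 → fr i = true := below_step fr 64239 49 64288 ru1310 rc1311 rfl
theorem ru1312 : ∀ i, i < 64337 → fr i = true := below_step fr 64288 49 64337 ru1311 rc1312 rfl
theorem ru1313 : ∀ i, i < 64386 → fr i = true := below_step fr 64337 49 64386 ru1312 rc1313 rfl
theorem ru1314 : ∀ i, i < 64435 → fr i = true := below_step fr 64386 49 64435 ru1313 rc1314 rfl
theorem ru1315 : ∀ i, i < 64484 → fr i = true := below_step fr 64435 49 64484 ru1314 rc1315 rfl
theorem ru1316 : ∀ i, i < 64533 → fr i = true := below_step fr 64484 49 64533 ru1315 rc1316 rfl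
theorem ru1317 : ∀ i, i < 64582 → fr i = true := below_step fr 64533 49 64582 ru1316 rc1317 rfl
theorem ru1318 : ∀ i, i < 64631 → fr i = true := below_step fr 64582 49 64631 ru1317 rc1318 rfl
theorem ru1319 : ∀ i, i < 64680 → fr i = true := below_step fr 64631 49 64680 ru1318 rc1319 rfl
theorem ru1320 : ∀ i, i < 64729 → fr i = true := below_step fr 64680 49 64729 ru1319 rc1320 rfl
theorem ru1321 : ∀ i, i < 64778 → fr i = true := below_step fr 64729 49 64778 ru1320 rc1321 rfl
theorem ru1322 : ∀ i, i < 64827 → fr i = true := below_step fr 64778 49 64827 ru1321 rc1322 rfl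
theorem ru1323 : ∀ i, i < 64876 → fr i = true := below_step fr 64827 49 64876 ru1322 rc1323 rfl
theorem ru1324 : ∀ i, i < 64925 → fr i = true := below_step fr 64876 49 64925 ru1323 rc1324 rfl
theorem ru1325 : ∀ i, i < 64974 → fr i = true := below_step fr 64925 49 64974 ru1324 rc1325 rfl
theorem ru1326 : ∀ i, i < 65023 → fr i = true := below_step fr 64974 49 65023 ru1325 rc1326 rfl
theorem ru1327 : ∀ i, i < 65072 → fr i = true := below_step fr 65023 49 65072 ru1326 rc1327 rfl
theorem ru1328 : ∀ i, i < 65121 → fr i = true := below_step fr 65072 49 65121 ru1327 rc1328 rfl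
theorem ru1329 : ∀ i, i < 65170 → fr i = true := below_step fr 65121 49 65170 ru1328 rc1329 rfl
theorem ru1330 : ∀ i, i < 65219 → fr i = true := below_step fr 65170 49 65219 ru1329 rc1330 rfl
theorem ru1331 : ∀ i, i < 65268 → fr i = true := below_step fr 65219 49 65268 ru1330 rc1331 rfl
theorem ru1332 : ∀ i, i < 65317 → fr i = true := below_step fr 65268 49 65317 ru1331 rc1332 rfl
theorem ru1333 : ∀ i, i < 65366 → fr i = true := below_step fr 65317 49 65366 ru1332 rc1333 rfl
theorem ru1334 : ∀ i, i < 65415 → fr i = true := below_step fr 65366 49 65415 ru1333 rc1334 rfl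
theorem ru1335 : ∀ i, i < 65464 → fr i = true := below_step fr 65415 49 65464 ru1334 rc1335 rfl
theorem ru1336 : ∀ i, i < 65513 → fr i = true := below_step fr 65464 49 65513 ru1335 rc1336 rfl
theorem ru1337 : ∀ i, i < 65562 → fr i = true := below_step fr 65513 49 65562 ru1336 rc1337 rfl
theorem ru1338 : ∀ i, i < 65611 → fr i = true := below_step fr 65562 49 65611 ru1337 rc1338 rfl
theorem ru1339 : ∀ i, i < 65660 → fr i = true := below_step fr 65611 49 65660 ru1338 rc1339 rfl
theorem ru1340 : ∀ i, i < 65709 → fr i = true := below_step fr 65660 49 65709 ru1339 rc1340 rfl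
theorem ru1341 : ∀ i, i < 65758 → fr i = true := below_step fr 65709 49 65758 ru1340 rc1341 rfl
theorem ru1342 : ∀ i, i < 65807 → fr i = true := below_step fr 65758 49 65807 ru1341 rc1342 rfl
theorem ru1343 : ∀ i, i < 65856 → fr i = true := below_step fr 65807 49 65856 ru1342 rc1343 rfl
theorem ru1344 : ∀ i, i < 65905 → fr i = true := below_step fr 65856 49 65905 ru1343 rc1344 rfl
theorem ru1345 : ∀ i, i < 65954 → fr i = true := below_step fr 65905 49 65954 ru1344 rc1345 rfl
theorem ru1346 : ∀ i, i < 66003 → fr i = true := below_step fr 65954 49 66003 ru1345 rc1346 rfl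
theorem ru1347 : ∀ i, i < 66052 → fr i = true := below_step fr 66003 49 66052 ru1346 rc1347 rfl
theorem ru1348 : ∀ i, i < 66101 → fr i = true := below_step fr 66052 49 66101 ru1347 rc1348 rfl
theorem ru1349 : ∀ i, i < 66150 → fr i = true := below_step fr 66101 49 66150 ru1348 rc1349 rfl
theorem ru1350 : ∀ i, i < 66199 → fr i = true := below_step fr 66150 49 66199 ru1349 rc1350 rfl
theorem ru1351 : ∀ i, i < 66248 → fr i = true := below_step fr 66199 49 66248 ru1350 rc1351 rfl
theorem ru1352 : ∀ i, i < 66297 → fr i = true := below_step fr 66248 49 66297 ru1351 rc1352 rfl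
theorem ru1353 : ∀ i, i < 66346 → fr i = true := below_step fr 66297 49 66346 ru1352 rc1353 rfl
theorem ru1354 : ∀ i, i < 66395 → fr i = true := below_step fr 66346 49 66395 ru1353 rc1354 rfl
theorem ru1355 : ∀ i, i < 66444 → fr i = true := below_step fr 66395 49 66444 ru1354 rc1355 rfl
theorem ru1356 : ∀ i, i < 66493 → fr i = true := below_step fr 66444 49 66493 ru1355 rc1356 rfl
theorem ru1357 : ∀ i, i < 66542 → fr i = true := below_step fr 66493 49 66542 ru1356 rc1357 rfl
theorem ru1358 : ∀ i, i < 66591 → fr i = true := below_step fr 66542 49 66591 ru1357 rc1358 rfl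
theorem ru1359 : ∀ i, i < 66640 → fr i = true := below_step fr 66591 49 66640 ru1358 rc1359 rfl
theorem ru1360 : ∀ i, i < 66689 → fr i = true := below_step fr 66640 49 66689 ru1359 rc1360 rfl
theorem ru1361 : ∀ i, i < 66738 → fr i = true := below_step fr 66689 49 66738 ru1360 rc1361 rfl
theorem ru1362 : ∀ i, i < 66787 → fr i = true := below_step fr 66738 49 66787 ru1361 rc1362 rfl
theorem ru1363 : ∀ i, i < 66836 → fr i = true := below_step fr 66787 49 66836 ru1362 rc1363 rfl
theorem ru1364 : ∀ i, i < 66885 → fr i = true := below_step fr 66836 49 66885 ru1363 rc1364 rfl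
theorem ru1365 : ∀ i, i < 66934 → fr i = true := below_step fr 66885 49 66934 ru1364 rc1365 rfl
theorem ru1366 : ∀ i, i < 66983 → fr i = true := below_step fr 66934 49 66983 ru1365 rc1366 rfl
theorem ru1367 : ∀ i, i < 67032 → fr i = true := below_step fr 66983 49 67032 ru1366 rc1367 rfl
theorem ru1368 : ∀ i, i < 67081 → fr i = true := below_step fr 67032 49 67081 ru1367 rc1368 rfl
theorem ru1369 : ∀ i, i < 67130 → fr i = true := below_step fr 67081 49 67130 ru1368 rc1369 rfl
theorem ru1370 : ∀ i, i < 67179 → fr i = true := below_step fr 67130 49 67179 ru1369 rc1370 rfl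
theorem ru1371 : ∀ i, i < 67228 → fr i = true := below_step fr 67179 49 67228 ru1370 rc1371 rfl
theorem ru1372 : ∀ i, i < 67277 → fr i = true := below_step fr 67228 49 67277 ru1371 rc1372 rfl
theorem ru1373 : ∀ i, i < 67326 → fr i = true := below_step fr 67277 49 67326 ru1372 rc1373 rfl
theorem ru1374 : ∀ i, i < 67375 → fr i = true := below_step fr 67326 49 67375 ru1373 rc1374 rfl
theorem ru1375 : ∀ i, i < 67424 → fr i = true := below_step fr 67375 49 67424 ru1374 rc1375 rfl
theorem ru1376 : ∀ i, i < 67473 → fr i = true := below_step fr 67424 49 67473 ru1375 rc1376 rfl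
theorem ru1377 : ∀ i, i < 67522 → fr i = true := below_step fr 67473 49 67522 ru1376 rc1377 rfl
theorem ru1378 : ∀ i, i < 67571 → fr i = true := below_step fr 67522 49 67571 ru1377 rc1378 rfl
theorem ru1379 : ∀ i, i < 67620 → fr i = true := below_step fr 67571 49 67620 ru1378 rc1379 rfl
theorem ru1380 : ∀ i, i < 67669 → fr i = true := below_step fr 67620 49 67669 ru1379 rc1380 rfl
theorem ru1381 : ∀ i, i < 67718 → fr i = true := below_step fr 67669 49 67718 ru1380 rc1381 rfl
theorem ru1382 : ∀ i, i < 67767 → fr i = true := below_step fr 67718 49 67767 ru1381 rc1382 rfl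
theorem ru1383 : ∀ i, i < 67816 → fr i = true := below_step fr 67767 49 67816 ru1382 rc1383 rfl
theorem ru1384 : ∀ i, i < 67865 → fr i = true := below_step fr 67816 49 67865 ru1383 rc1384 rfl
theorem ru1385 : ∀ i, i < 67914 → fr i = true := below_step fr 67865 49 67914 ru1384 rc1385 rfl
theorem ru1386 : ∀ i, i < 67963 → fr i = true := below_step fr 67914 49 67963 ru1385 rc1386 rfl
theorem ru1387 : ∀ i, i < 68012 → fr i = true := below_step fr 67963 49 68012 ru1386 rc1387 rfl
theorem ru1388 : ∀ i, i < 68061 → fr i = true := below_step fr 68012 49 68061 ru1387 rc1388 rfl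
theorem ru1389 : ∀ i, i < 68110 → fr i = true := below_step fr 68061 49 68110 ru1388 rc1389 rfl
theorem ru1390 : ∀ i, i < 68159 → fr i = true := below_step fr 68110 49 68159 ru1389 rc1390 rfl
theorem ru1391 : ∀ i, i < 68208 → fr i = true := below_step fr 68159 49 68208 ru1390 rc1391 rfl
theorem ru1392 : ∀ i, i < 68257 → fr i = true := below_step fr 68208 49 68257 ru1391 rc1392 rfl
theorem ru1393 : ∀ i, i < 68306 → fr i = true := below_step fr 68257 49 68306 ru1392 rc1393 rfl
theorem ru1394 : ∀ i, i < 68355 → fr i = true := below_step fr 68306 49 68355 ru1393 rc1394 rfl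
theorem ru1395 : ∀ i, i < 68404 → fr i = true := below_step fr 68355 49 68404 ru1394 rc1395 rfl
theorem ru1396 : ∀ i, i < 68453 → fr i = true := below_step fr 68404 49 68453 ru1395 rc1396 rfl
theorem ru1397 : ∀ i, i < 68502 → fr i = true := below_step fr 68453 49 68502 ru1396 rc1397 rfl
theorem ru1398 : ∀ i, i < 68551 → fr i = true := below_step fr 68502 49 68551 ru1397 rc1398 rfl
theorem ru1399 : ∀ i, i < 68600 → fr i = true := below_step fr 68551 49 68600 ru1398 rc1399 rfl
theorem ru1400 : ∀ i, i < 68649 → fr i = true := below_step fr 68600 49 68649 ru1399 rc1400 rfl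
theorem ru1401 : ∀ i, i < 68698 → fr i = true := below_step fr 68649 49 68698 ru1400 rc1401 rfl
theorem ru1402 : ∀ i, i < 68747 → fr i = true := below_step fr 68698 49 68747 ru1401 rc1402 rfl
theorem ru1403 : ∀ i, i < 68796 → fr i = true := below_step fr 68747 49 68796 ru1402 rc1403 rfl
theorem ru1404 : ∀ i, i < 68845 → fr i = true := below_step fr 68796 49 68845 ru1403 rc1404 rfl
theorem ru1405 : ∀ i, i < 68894 → fr i = true := below_step fr 68845 49 68894 ru1404 rc1405 rfl
theorem ru1406 : ∀ i, i < 68943 → fr i = true := below_step fr 68894 49 68943 ru1405 rc1406 rfl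
theorem ru1407 : ∀ i, i < 68992 → fr i = true := below_step fr 68943 49 68992 ru1406 rc1407 rfl
theorem ru1408 : ∀ i, i < 69041 → fr i = true := below_step fr 68992 49 69041 ru1407 rc1408 rfl
theorem ru1409 : ∀ i, i < 69090 → fr i = true := below_step fr 69041 49 69090 ru1408 rc1409 rfl
theorem ru1410 : ∀ i, i < 69139 → fr i = true := below_step fr 69090 49 69139 ru1409 rc1410 rfl
theorem ru1411 : ∀ i, i < 69188 → fr i = true := below_step fr 69139 49 69188 ru1410 rc1411 rfl
theorem ru1412 : ∀ i, i < 69237 → fr i = true := below_step fr 69188 49 69237 ru1411 rc1412 rfl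
theorem ru1413 : ∀ i, i < 69286 → fr i = true := below_step fr 69237 49 69286 ru1412 rc1413 rfl
theorem ru1414 : ∀ i, i < 69335 → fr i = true := below_step fr 69286 49 69335 ru1413 rc1414 rfl
theorem ru1415 : ∀ i, i < 69384 → fr i = true := below_step fr 69335 49 69384 ru1414 rc1415 rfl
theorem ru1416 : ∀ i, i < 69433 → fr i = true := below_step fr 69384 49 69433 ru1415 rc1416 rfl
theorem ru1417 : ∀ i, i < 69482 → fr i = true := below_step fr 69433 49 69482 ru1416 rc1417 rfl
theorem ru1418 : ∀ i, i < 69531 → fr i = true := below_step fr 69482 49 69531 ru1417 rc1418 rfl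
theorem ru1419 : ∀ i, i < 69580 → fr i = true := below_step fr 69531 49 69580 ru1418 rc1419 rfl
theorem ru1420 : ∀ i, i < 69629 → fr i = true := below_step fr 69580 49 69629 ru1419 rc1420 rfl
theorem ru1421 : ∀ i, i < 69678 → fr i = true := below_step fr 69629 49 69678 ru1420 rc1421 rfl
theorem ru1422 : ∀ i, i < 69727 → fr i = true := below_step fr 69678 49 69727 ru1421 rc1422 rfl
theorem ru1423 : ∀ i, i < 69776 → fr i = true := below_step fr 69727 49 69776 ru1422 rc1423 rfl
theorem ru1424 : ∀ i, i < 69825 → fr i = true := below_step fr 69776 49 69825 ru1423 rc1424 rfl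
theorem ru1425 : ∀ i, i < 69874 → fr i = true := below_step fr 69825 49 69874 ru1424 rc1425 rfl
theorem ru1426 : ∀ i, i < 69923 → fr i = true := below_step fr 69874 49 69923 ru1425 rc1426 rfl
theorem ru1427 : ∀ i, i < 69972 → fr i = true := below_step fr 69923 49 69972 ru1426 rc1427 rfl
theorem ru1428 : ∀ i, i < 70021 → fr i = true := below_step fr 69972 49 70021 ru1427 rc1428 rfl
theorem ru1429 : ∀ i, i < 70070 → fr i = true := below_step fr 70021 49 70070 ru1428 rc1429 rfl
theorem ru1430 : ∀ i, i < 70119 → fr i = true := below_step fr 70070 49 70119 ru1429 rc1430 rfl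
theorem ru1431 : ∀ i, i < 70168 → fr i = true := below_step fr 70119 49 70168 ru1430 rc1431 rfl
theorem ru1432 : ∀ i, i < 70217 → fr i = true := below_step fr 70168 49 70217 ru1431 rc1432 rfl
theorem ru1433 : ∀ i, i < 70266 → fr i = true := below_step fr 70217 49 70266 ru1432 rc1433 rfl
theorem ru1434 : ∀ i, i < 70315 → fr i = true := below_step fr 70266 49 70315 ru1433 rc1434 rfl
theorem ru1435 : ∀ i, i < 70364 → fr i = true := below_step fr 70315 49 70364 ru1434 rc1435 rfl
theorem ru1436 : ∀ i, i < 70413 → fr i = true := below_step fr 70364 49 70413 ru1435 rc1436 rfl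
theorem ru1437 : ∀ i, i < 70462 → fr i = true := below_step fr 70413 49 70462 ru1436 rc1437 rfl
theorem ru1438 : ∀ i, i < 70511 → fr i = true := below_step fr 70462 49 70511 ru1437 rc1438 rfl
theorem ru1439 : ∀ i, i < 70560 → fr i = true := below_step fr 70511 49 70560 ru1438 rc1439 rfl
theorem ru1440 : ∀ i, i < 70609 → fr i = true := below_step fr 70560 49 70609 ru1439 rc1440 rfl
theorem ru1441 : ∀ i, i < 70658 → fr i = true := below_step fr 70609 49 70658 ru1440 rc1441 rfl
theorem ru1442 : ∀ i, i < 70707 → fr i = true := below_step fr 70658 49 70707 ru1441 rc1442 rfl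
theorem ru1443 : ∀ i, i < 70756 → fr i = true := below_step fr 70707 49 70756 ru1442 rc1443 rfl
theorem ru1444 : ∀ i, i < 70805 → fr i = true := below_step fr 70756 49 70805 ru1443 rc1444 rfl
theorem ru1445 : ∀ i, i < 70854 → fr i = true := below_step fr 70805 49 70854 ru1444 rc1445 rfl
theorem ru1446 : ∀ i, i < 70903 → fr i = true := below_step fr 70854 49 70903 ru1445 rc1446 rfl
theorem ru1447 : ∀ i, i < 70952 → fr i = true := below_step fr 70903 49 70952 ru1446 rc1447 rfl
theorem ru1448 : ∀ i, i < 71001 → fr i = true := below_step fr 70952 49 71001 ru1447 rc1448 rfl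
theorem ru1449 : ∀ i, i < 71050 → fr i = true := below_step fr 71001 49 71050 ru1448 rc1449 rfl
theorem ru1450 : ∀ i, i < 71099 → fr i = true := below_step fr 71050 49 71099 ru1449 rc1450 rfl
theorem ru1451 : ∀ i, i < 71148 → fr i = true := below_step fr 71099 49 71148 ru1450 rc1451 rfl
theorem ru1452 : ∀ i, i < 71197 → fr i = true := below_step fr 71148 49 71197 ru1451 rc1452 rfl
theorem ru1453 : ∀ i, i < 71246 → fr i = true := below_step fr 71197 49 71246 ru1452 rc1453 rfl
theorem ru1454 : ∀ i, i < 71295 → fr i = true := below_step fr 71246 49 71295 ru1453 rc1454 rfl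
theorem ru1455 : ∀ i, i < 71344 → fr i = true := below_step fr 71295 49 71344 ru1454 rc1455 rfl
theorem ru1456 : ∀ i, i < 71393 → fr i = true := below_step fr 71344 49 71393 ru1455 rc1456 rfl
theorem ru1457 : ∀ i, i < 71442 → fr i = true := below_step fr 71393 49 71442 ru1456 rc1457 rfl
theorem ru1458 : ∀ i, i < 71491 → fr i = true := below_step fr 71442 49 71491 ru1457 rc1458 rfl
theorem ru1459 : ∀ i, i < 71540 → fr i = true := below_step fr 71491 49 71540 ru1458 rc1459 rfl
theorem ru1460 : ∀ i, i < 71589 → fr i = true := below_step fr 71540 49 71589 ru1459 rc1460 rfl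
theorem ru1461 : ∀ i, i < 71638 → fr i = true := below_step fr 71589 49 71638 ru1460 rc1461 rfl
theorem ru1462 : ∀ i, i < 71687 → fr i = true := below_step fr 71638 49 71687 ru1461 rc1462 rfl
theorem ru1463 : ∀ i, i < 71736 → fr i = true := below_step fr 71687 49 71736 ru1462 rc1463 rfl
theorem ru1464 : ∀ i, i < 71785 → fr i = true := below_step fr 71736 49 71785 ru1463 rc1464 rfl
theorem ru1465 : ∀ i, i < 71834 → fr i = true := below_step fr 71785 49 71834 ru1464 rc1465 rfl
theorem ru1466 : ∀ i, i < 71883 → fr i = true := below_step fr 71834 49 71883 ru1465 rc1466 rfl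
theorem ru1467 : ∀ i, i < 71932 → fr i = true := below_step fr 71883 49 71932 ru1466 rc1467 rfl
theorem ru1468 : ∀ i, i < 71981 → fr i = true := below_step fr 71932 49 71981 ru1467 rc1468 rfl
theorem ru1469 : ∀ i, i < 72030 → fr i = true := below_step fr 71981 49 72030 ru1468 rc1469 rfl
theorem ru1470 : ∀ i, i < 72079 → fr i = true := below_step fr 72030 49 72079 ru1469 rc1470 rfl
theorem ru1471 : ∀ i, i < 72128 → fr i = true := below_step fr 72079 49 72128 ru1470 rc1471 rfl
theorem ru1472 : ∀ i, i < 72177 → fr i = true := below_step fr 72128 49 72177 ru1471 rc1472 rfl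
theorem ru1473 : ∀ i, i < 72226 → fr i = true := below_step fr 72177 49 72226 ru1472 rc1473 rfl
theorem ru1474 : ∀ i, i < 72275 → fr i = true := below_step fr 72226 49 72275 ru1473 rc1474 rfl
theorem ru1475 : ∀ i, i < 72324 → fr i = true := below_step fr 72275 49 72324 ru1474 rc1475 rfl
theorem ru1476 : ∀ i, i < 72373 → fr i = true := below_step fr 72324 49 72373 ru1475 rc1476 rfl
theorem ru1477 : ∀ i, i < 72422 → fr i = true := below_step fr 72373 49 72422 ru1476 rc1477 rfl
theorem ru1478 : ∀ i, i < 72471 → fr i = true := below_step fr 72422 49 72471 ru1477 rc1478 rfl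
theorem ru1479 : ∀ i, i < 72520 → fr i = true := below_step fr 72471 49 72520 ru1478 rc1479 rfl
theorem ru1480 : ∀ i, i < 72569 → fr i = true := below_step fr 72520 49 72569 ru1479 rc1480 rfl
theorem ru1481 : ∀ i, i < 72618 → fr i = true := below_step fr 72569 49 72618 ru1480 rc1481 rfl
theorem ru1482 : ∀ i, i < 72667 → fr i = true := below_step fr 72618 49 72667 ru1481 rc1482 rfl
theorem ru1483 : ∀ i, i < 72716 → fr i = true := below_step fr 72667 49 72716 ru1482 rc1483 rfl
theorem ru1484 : ∀ i, i < 72765 → fr i = true := below_step fr 72716 49 72765 ru1483 rc1484 rfl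
theorem ru1485 : ∀ i, i < 72814 → fr i = true := below_step fr 72765 49 72814 ru1484 rc1485 rfl
theorem ru1486 : ∀ i, i < 72863 → fr i = true := below_step fr 72814 49 72863 ru1485 rc1486 rfl
theorem ru1487 : ∀ i, i < 72912 → fr i = true := below_step fr 72863 49 72912 ru1486 rc1487 rfl
theorem ru1488 : ∀ i, i < 72961 → fr i = true := below_step fr 72912 49 72961 ru1487 rc1488 rfl
theorem ru1489 : ∀ i, i < 73010 → fr i = true := below_step fr 72961 49 73010 ru1488 rc1489 rfl
theorem ru1490 : ∀ i, i < 73059 → fr i = true := below_step fr 73010 49 73059 ru1489 rc1490 rfl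
theorem ru1491 : ∀ i, i < 73108 → fr i = true := below_step fr 73059 49 73108 ru1490 rc1491 rfl
theorem ru1492 : ∀ i, i < 73157 → fr i = true := below_step fr 73108 49 73157 ru1491 rc1492 rfl
theorem ru1493 : ∀ i, i < 73206 → fr i = true := below_step fr 73157 49 73206 ru1492 rc1493 rfl
theorem ru1494 : ∀ i, i < 73255 → fr i = true := below_step fr 73206 49 73255 ru1493 rc1494 rfl
theorem ru1495 : ∀ i, i < 73304 → fr i = true := below_step fr 73255 49 73304 ru1494 rc1495 rfl
theorem ru1496 : ∀ i, i < 73353 → fr i = true := below_step fr 73304 49 73353 ru1495 rc1496 rfl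
theorem ru1497 : ∀ i, i < 73402 → fr i = true := below_step fr 73353 49 73402 ru1496 rc1497 rfl
theorem ru1498 : ∀ i, i < 73451 → fr i = true := below_step fr 73402 49 73451 ru1497 rc1498 rfl
theorem ru1499 : ∀ i, i < 73500 → fr i = true := below_step fr 73451 49 73500 ru1498 rc1499 rfl
theorem ru1500 : ∀ i, i < 73549 → fr i = true := below_step fr 73500 49 73549 ru1499 rc1500 rfl
theorem ru1501 : ∀ i, i < 73598 → fr i = true := below_step fr 73549 49 73598 ru1500 rc1501 rfl
theorem ru1502 : ∀ i, i < 73647 → fr i = true := below_step fr 73598 49 73647 ru1501 rc1502 rfl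
theorem ru1503 : ∀ i, i < 73696 → fr i = true := below_step fr 73647 49 73696 ru1502 rc1503 rfl
theorem ru1504 : ∀ i, i < 73745 → fr i = true := below_step fr 73696 49 73745 ru1503 rc1504 rfl
theorem ru1505 : ∀ i, i < 73794 → fr i = true := below_step fr 73745 49 73794 ru1504 rc1505 rfl
theorem ru1506 : ∀ i, i < 73843 → fr i = true := below_step fr 73794 49 73843 ru1505 rc1506 rfl
theorem ru1507 : ∀ i, i < 73892 → fr i = true := below_step fr 73843 49 73892 ru1506 rc1507 rfl
theorem ru1508 : ∀ i, i < 73941 → fr i = true := below_step fr 73892 49 73941 ru1507 rc1508 rfl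
theorem ru1509 : ∀ i, i < 73990 → fr i = true := below_step fr 73941 49 73990 ru1508 rc1509 rfl
theorem ru1510 : ∀ i, i < 74039 → fr i = true := below_step fr 73990 49 74039 ru1509 rc1510 rfl
theorem ru1511 : ∀ i, i < 74088 → fr i = true := below_step fr 74039 49 74088 ru1510 rc1511 rfl
theorem ru1512 : ∀ i, i < 74137 → fr i = true := below_step fr 74088 49 74137 ru1511 rc1512 rfl
theorem ru1513 : ∀ i, i < 74186 → fr i = true := below_step fr 74137 49 74186 ru1512 rc1513 rfl
theorem ru1514 : ∀ i, i < 74235 → fr i = true := below_step fr 74186 49 74235 ru1513 rc1514 rfl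
theorem ru1515 : ∀ i, i < 74284 → fr i = true := below_step fr 74235 49 74284 ru1514 rc1515 rfl
theorem ru1516 : ∀ i, i < 74333 → fr i = true := below_step fr 74284 49 74333 ru1515 rc1516 rfl
theorem ru1517 : ∀ i, i < 74382 → fr i = true := below_step fr 74333 49 74382 ru1516 rc1517 rfl
theorem ru1518 : ∀ i, i < 74431 → fr i = true := below_step fr 74382 49 74431 ru1517 rc1518 rfl
theorem ru1519 : ∀ i, i < 74480 → fr i = true := below_step fr 74431 49 74480 ru1518 rc1519 rfl
theorem ru1520 : ∀ i, i < 74529 → fr i = true := below_step fr 74480 49 74529 ru1519 rc1520 rfl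
theorem ru1521 : ∀ i, i < 74578 → fr i = true := below_step fr 74529 49 74578 ru1520 rc1521 rfl
theorem ru1522 : ∀ i, i < 74627 → fr i = true := below_step fr 74578 49 74627 ru1521 rc1522 rfl
theorem ru1523 : ∀ i, i < 74676 → fr i = true := below_step fr 74627 49 74676 ru1522 rc1523 rfl
theorem ru1524 : ∀ i, i < 74725 → fr i = true := below_step fr 74676 49 74725 ru1523 rc1524 rfl
theorem ru1525 : ∀ i, i < 74774 → fr i = true := below_step fr 74725 49 74774 ru1524 rc1525 rfl
theorem ru1526 : ∀ i, i < 74823 → fr i = true := below_step fr 74774 49 74823 ru1525 rc1526 rfl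
theorem ru1527 : ∀ i, i < 74872 → fr i = true := below_step fr 74823 49 74872 ru1526 rc1527 rfl
theorem ru1528 : ∀ i, i < 74921 → fr i = true := below_step fr 74872 49 74921 ru1527 rc1528 rfl
theorem ru1529 : ∀ i, i < 74970 → fr i = true := below_step fr 74921 49 74970 ru1528 rc1529 rfl
theorem ru1530 : ∀ i, i < 75019 → fr i = true := below_step fr 74970 49 75019 ru1529 rc1530 rfl
theorem ru1531 : ∀ i, i < 75068 → fr i = true := below_step fr 75019 49 75068 ru1530 rc1531 rfl
theorem ru1532 : ∀ i, i < 75117 → fr i = true := below_step fr 75068 49 75117 ru1531 rc1532 rfl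
theorem ru1533 : ∀ i, i < 75166 → fr i = true := below_step fr 75117 49 75166 ru1532 rc1533 rfl
theorem ru1534 : ∀ i, i < 75215 → fr i = true := below_step fr 75166 49 75215 ru1533 rc1534 rfl
theorem ru1535 : ∀ i, i < 75264 → fr i = true := below_step fr 75215 49 75264 ru1534 rc1535 rfl
theorem ru1536 : ∀ i, i < 75313 → fr i = true := below_step fr 75264 49 75313 ru1535 rc1536 rfl
theorem ru1537 : ∀ i, i < 75362 → fr i = true := below_step fr 75313 49 75362 ru1536 rc1537 rfl
theorem ru1538 : ∀ i, i < 75411 → fr i = true := below_step fr 75362 49 75411 ru1537 rc1538 rfl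
theorem ru1539 : ∀ i, i < 75460 → fr i = true := below_step fr 75411 49 75460 ru1538 rc1539 rfl
theorem ru1540 : ∀ i, i < 75509 → fr i = true := below_step fr 75460 49 75509 ru1539 rc1540 rfl
theorem ru1541 : ∀ i, i < 75558 → fr i = true := below_step fr 75509 49 75558 ru1540 rc1541 rfl
theorem ru1542 : ∀ i, i < 75607 → fr i = true := below_step fr 75558 49 75607 ru1541 rc1542 rfl
theorem ru1543 : ∀ i, i < 75656 → fr i = true := below_step fr 75607 49 75656 ru1542 rc1543 rfl
theorem ru1544 : ∀ i, i < 75705 → fr i = true := below_step fr 75656 49 75705 ru1543 rc1544 rfl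
theorem ru1545 : ∀ i, i < 75754 → fr i = true := below_step fr 75705 49 75754 ru1544 rc1545 rfl
theorem ru1546 : ∀ i, i < 75803 → fr i = true := below_step fr 75754 49 75803 ru1545 rc1546 rfl
theorem ru1547 : ∀ i, i < 75852 → fr i = true := below_step fr 75803 49 75852 ru1546 rc1547 rfl
theorem ru1548 : ∀ i, i < 75901 → fr i = true := below_step fr 75852 49 75901 ru1547 rc1548 rfl
theorem ru1549 : ∀ i, i < 75950 → fr i = true := below_step fr 75901 49 75950 ru1548 rc1549 rfl
theorem ru1550 : ∀ i, i < 75999 → fr i = true := below_step fr 75950 49 75999 ru1549 rc1550 rfl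
theorem ru1551 : ∀ i, i < 76048 → fr i = true := below_step fr 75999 49 76048 ru1550 rc1551 rfl
theorem ru1552 : ∀ i, i < 76097 → fr i = true := below_step fr 76048 49 76097 ru1551 rc1552 rfl
theorem ru1553 : ∀ i, i < 76146 → fr i = true := below_step fr 76097 49 76146 ru1552 rc1553 rfl
theorem ru1554 : ∀ i, i < 76195 → fr i = true := below_step fr 76146 49 76195 ru1553 rc1554 rfl
theorem ru1555 : ∀ i, i < 76244 → fr i = true := below_step fr 76195 49 76244 ru1554 rc1555 rfl
theorem ru1556 : ∀ i, i < 76293 → fr i = true := below_step fr 76244 49 76293 ru1555 rc1556 rfl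
theorem ru1557 : ∀ i, i < 76342 → fr i = true := below_step fr 76293 49 76342 ru1556 rc1557 rfl
theorem ru1558 : ∀ i, i < 76391 → fr i = true := below_step fr 76342 49 76391 ru1557 rc1558 rfl
theorem ru1559 : ∀ i, i < 76440 → fr i = true := below_step fr 76391 49 76440 ru1558 rc1559 rfl
theorem ru1560 : ∀ i, i < 76489 → fr i = true := below_step fr 76440 49 76489 ru1559 rc1560 rfl
theorem ru1561 : ∀ i, i < 76538 → fr i = true := below_step fr 76489 49 76538 ru1560 rc1561 rfl
theorem ru1562 : ∀ i, i < 76587 → fr i = true := below_step fr 76538 49 76587 ru1561 rc1562 rfl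
theorem ru1563 : ∀ i, i < 76636 → fr i = true := below_step fr 76587 49 76636 ru1562 rc1563 rfl
theorem ru1564 : ∀ i, i < 76685 → fr i = true := below_step fr 76636 49 76685 ru1563 rc1564 rfl
theorem ru1565 : ∀ i, i < 76734 → fr i = true := below_step fr 76685 49 76734 ru1564 rc1565 rfl
theorem ru1566 : ∀ i, i < 76783 → fr i = true := below_step fr 76734 49 76783 ru1565 rc1566 rfl
theorem ru1567 : ∀ i, i < 76832 → fr i = true := below_step fr 76783 49 76832 ru1566 rc1567 rfl
theorem ru1568 : ∀ i, i < 76881 → fr i = true := below_step fr 76832 49 76881 ru1567 rc1568 rfl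
theorem ru1569 : ∀ i, i < 76930 → fr i = true := below_step fr 76881 49 76930 ru1568 rc1569 rfl
theorem ru1570 : ∀ i, i < 76979 → fr i = true := below_step fr 76930 49 76979 ru1569 rc1570 rfl
theorem ru1571 : ∀ i, i < 77028 → fr i = true := below_step fr 76979 49 77028 ru1570 rc1571 rfl
theorem ru1572 : ∀ i, i < 77077 → fr i = true := below_step fr 77028 49 77077 ru1571 rc1572 rfl
theorem ru1573 : ∀ i, i < 77126 → fr i = true := below_step fr 77077 49 77126 ru1572 rc1573 rfl
theorem ru1574 : ∀ i, i < 77175 → fr i = true := below_step fr 77126 49 77175 ru1573 rc1574 rfl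
theorem ru1575 : ∀ i, i < 77224 → fr i = true := below_step fr 77175 49 77224 ru1574 rc1575 rfl
theorem ru1576 : ∀ i, i < 77273 → fr i = true := below_step fr 77224 49 77273 ru1575 rc1576 rfl
theorem ru1577 : ∀ i, i < 77322 → fr i = true := below_step fr 77273 49 77322 ru1576 rc1577 rfl
theorem ru1578 : ∀ i, i < 77371 → fr i = true := below_step fr 77322 49 77371 ru1577 rc1578 rfl
theorem ru1579 : ∀ i, i < 77420 → fr i = true := below_step fr 77371 49 77420 ru1578 rc1579 rfl
theorem ru1580 : ∀ i, i < 77469 → fr i = true := below_step fr 77420 49 77469 ru1579 rc1580 rfl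
theorem ru1581 : ∀ i, i < 77518 → fr i = true := below_step fr 77469 49 77518 ru1580 rc1581 rfl
theorem ru1582 : ∀ i, i < 77567 → fr i = true := below_step fr 77518 49 77567 ru1581 rc1582 rfl
theorem ru1583 : ∀ i, i < 77616 → fr i = true := below_step fr 77567 49 77616 ru1582 rc1583 rfl
theorem ru1584 : ∀ i, i < 77665 → fr i = true := below_step fr 77616 49 77665 ru1583 rc1584 rfl
theorem ru1585 : ∀ i, i < 77714 → fr i = true := below_step fr 77665 49 77714 ru1584 rc1585 rfl
theorem ru1586 : ∀ i, i < 77763 → fr i = true := below_step fr 77714 49 77763 ru1585 rc1586 rfl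
theorem ru1587 : ∀ i, i < 77812 → fr i = true := below_step fr 77763 49 77812 ru1586 rc1587 rfl
theorem ru1588 : ∀ i, i < 77861 → fr i = true := below_step fr 77812 49 77861 ru1587 rc1588 rfl
theorem ru1589 : ∀ i, i < 77910 → fr i = true := below_step fr 77861 49 77910 ru1588 rc1589 rfl
theorem ru1590 : ∀ i, i < 77959 → fr i = true := below_step fr 77910 49 77959 ru1589 rc1590 rfl
theorem ru1591 : ∀ i, i < 78008 → fr i = true := below_step fr 77959 49 78008 ru1590 rc1591 rfl
theorem ru1592 : ∀ i, i < 78057 → fr i = true := below_step fr 78008 49 78057 ru1591 rc1592 rfl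
theorem ru1593 : ∀ i, i < 78106 → fr i = true := below_step fr 78057 49 78106 ru1592 rc1593 rfl
theorem ru1594 : ∀ i, i < 78155 → fr i = true := below_step fr 78106 49 78155 ru1593 rc1594 rfl
theorem ru1595 : ∀ i, i < 78204 → fr i = true := below_step fr 78155 49 78204 ru1594 rc1595 rfl
theorem ru1596 : ∀ i, i < 78253 → fr i = true := below_step fr 78204 49 78253 ru1595 rc1596 rfl
theorem ru1597 : ∀ i, i < 78302 → fr i = true := below_step fr 78253 49 78302 ru1596 rc1597 rfl
theorem ru1598 : ∀ i, i < 78351 → fr i = true := below_step fr 78302 49 78351 ru1597 rc1598 rfl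
theorem ru1599 : ∀ i, i < 78400 → fr i = true := below_step fr 78351 49 78400 ru1598 rc1599 rfl
theorem ru1600 : ∀ i, i < 78449 → fr i = true := below_step fr 78400 49 78449 ru1599 rc1600 rfl
theorem ru1601 : ∀ i, i < 78498 → fr i = true := below_step fr 78449 49 78498 ru1600 rc1601 rfl
theorem ru1602 : ∀ i, i < 78547 → fr i = true := below_step fr 78498 49 78547 ru1601 rc1602 rfl
theorem ru1603 : ∀ i, i < 78596 → fr i = true := below_step fr 78547 49 78596 ru1602 rc1603 rfl
theorem ru1604 : ∀ i, i < 78645 → fr i = true := below_step fr 78596 49 78645 ru1603 rc1604 rfl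
theorem ru1605 : ∀ i, i < 78694 → fr i = true := below_step fr 78645 49 78694 ru1604 rc1605 rfl
theorem ru1606 : ∀ i, i < 78743 → fr i = true := below_step fr 78694 49 78743 ru1605 rc1606 rfl
theorem ru1607 : ∀ i, i < 78792 → fr i = true := below_step fr 78743 49 78792 ru1606 rc1607 rfl
theorem ru1608 : ∀ i, i < 78841 → fr i = true := below_step fr 78792 49 78841 ru1607 rc1608 rfl
theorem ru1609 : ∀ i, i < 78890 → fr i = true := below_step fr 78841 49 78890 ru1608 rc1609 rfl
theorem ru1610 : ∀ i, i < 78939 → fr i = true := below_step fr 78890 49 78939 ru1609 rc1610 rfl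
theorem ru1611 : ∀ i, i < 78988 → fr i = true := below_step fr 78939 49 78988 ru1610 rc1611 rfl
theorem ru1612 : ∀ i, i < 79037 → fr i = true := below_step fr 78988 49 79037 ru1611 rc1612 rfl
theorem ru1613 : ∀ i, i < 79086 → fr i = true := below_step fr 79037 49 79086 ru1612 rc1613 rfl
theorem ru1614 : ∀ i, i < 79135 → fr i = true := below_step fr 79086 49 79135 ru1613 rc1614 rfl
theorem ru1615 : ∀ i, i < 79184 → fr i = true := below_step fr 79135 49 79184 ru1614 rc1615 rfl
theorem ru1616 : ∀ i, i < 79233 → fr i = true := below_step fr 79184 49 79233 ru1615 rc1616 rfl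
theorem ru1617 : ∀ i, i < 79282 → fr i = true := below_step fr 79233 49 79282 ru1616 rc1617 rfl
theorem ru1618 : ∀ i, i < 79331 → fr i = true := below_step fr 79282 49 79331 ru1617 rc1618 rfl
theorem ru1619 : ∀ i, i < 79380 → fr i = true := below_step fr 79331 49 79380 ru1618 rc1619 rfl
theorem ru1620 : ∀ i, i < 79429 → fr i = true := below_step fr 79380 49 79429 ru1619 rc1620 rfl
theorem ru1621 : ∀ i, i < 79478 → fr i = true := below_step fr 79429 49 79478 ru1620 rc1621 rfl
theorem ru1622 : ∀ i, i < 79527 → fr i = true := below_step fr 79478 49 79527 ru1621 rc1622 rfl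
theorem ru1623 : ∀ i, i < 79576 → fr i = true := below_step fr 79527 49 79576 ru1622 rc1623 rfl
theorem ru1624 : ∀ i, i < 79625 → fr i = true := below_step fr 79576 49 79625 ru1623 rc1624 rfl
theorem ru1625 : ∀ i, i < 79674 → fr i = true := below_step fr 79625 49 79674 ru1624 rc1625 rfl
theorem ru1626 : ∀ i, i < 79723 → fr i = true := below_step fr 79674 49 79723 ru1625 rc1626 rfl
theorem ru1627 : ∀ i, i < 79772 → fr i = true := below_step fr 79723 49 79772 ru1626 rc1627 rfl
theorem ru1628 : ∀ i, i < 79821 → fr i = true := below_step fr 79772 49 79821 ru1627 rc1628 rfl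
theorem ru1629 : ∀ i, i < 79870 → fr i = true := below_step fr 79821 49 79870 ru1628 rc1629 rfl
theorem ru1630 : ∀ i, i < 79919 → fr i = true := below_step fr 79870 49 79919 ru1629 rc1630 rfl
theorem ru1631 : ∀ i, i < 79968 → fr i = true := below_step fr 79919 49 79968 ru1630 rc1631 rfl
theorem ru1632 : ∀ i, i < 80017 → fr i = true := below_step fr 79968 49 80017 ru1631 rc1632 rfl
theorem ru1633 : ∀ i, i < 80066 → fr i = true := below_step fr 80017 49 80066 ru1632 rc1633 rfl
theorem ru1634 : ∀ i, i < 80115 → fr i = true := below_step fr 80066 49 80115 ru1633 rc1634 rfl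
theorem ru1635 : ∀ i, i < 80164 → fr i = true := below_step fr 80115 49 80164 ru1634 rc1635 rfl
theorem ru1636 : ∀ i, i < 80213 → fr i = true := below_step fr 80164 49 80213 ru1635 rc1636 rfl
theorem ru1637 : ∀ i, i < 80262 → fr i = true := below_step fr 80213 49 80262 ru1636 rc1637 rfl
theorem ru1638 : ∀ i, i < 80311 → fr i = true := below_step fr 80262 49 80311 ru1637 rc1638 rfl
theorem ru1639 : ∀ i, i < 80360 → fr i = true := below_step fr 80311 49 80360 ru1638 rc1639 rfl
theorem ru1640 : ∀ i, i < 80409 → fr i = true := below_step fr 80360 49 80409 ru1639 rc1640 rfl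
theorem ru1641 : ∀ i, i < 80458 → fr i = true := below_step fr 80409 49 80458 ru1640 rc1641 rfl
theorem ru1642 : ∀ i, i < 80507 → fr i = true := below_step fr 80458 49 80507 ru1641 rc1642 rfl
theorem ru1643 : ∀ i, i < 80556 → fr i = true := below_step fr 80507 49 80556 ru1642 rc1643 rfl
theorem ru1644 : ∀ i, i < 80605 → fr i = true := below_step fr 80556 49 80605 ru1643 rc1644 rfl
theorem ru1645 : ∀ i, i < 80654 → fr i = true := below_step fr 80605 49 80654 ru1644 rc1645 rfl
theorem ru1646 : ∀ i, i < 80703 → fr i = true := below_step fr 80654 49 80703 ru1645 rc1646 rfl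
theorem ru1647 : ∀ i, i < 80752 → fr i = true := below_step fr 80703 49 80752 ru1646 rc1647 rfl
theorem ru1648 : ∀ i, i < 80801 → fr i = true := below_step fr 80752 49 80801 ru1647 rc1648 rfl
theorem ru1649 : ∀ i, i < 80850 → fr i = true := below_step fr 80801 49 80850 ru1648 rc1649 rfl
theorem ru1650 : ∀ i, i < 80899 → fr i = true := below_step fr 80850 49 80899 ru1649 rc1650 rfl
theorem ru1651 : ∀ i, i < 80948 → fr i = true := below_step fr 80899 49 80948 ru1650 rc1651 rfl
theorem ru1652 : ∀ i, i < 80997 → fr i = true := below_step fr 80948 49 80997 ru1651 rc1652 rfl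
theorem ru1653 : ∀ i, i < 81046 → fr i = true := below_step fr 80997 49 81046 ru1652 rc1653 rfl
theorem ru1654 : ∀ i, i < 81095 → fr i = true := below_step fr 81046 49 81095 ru1653 rc1654 rfl
theorem ru1655 : ∀ i, i < 81144 → fr i = true := below_step fr 81095 49 81144 ru1654 rc1655 rfl
theorem ru1656 : ∀ i, i < 81193 → fr i = true := below_step fr 81144 49 81193 ru1655 rc1656 rfl
theorem ru1657 : ∀ i, i < 81242 → fr i = true := below_step fr 81193 49 81242 ru1656 rc1657 rfl
theorem ru1658 : ∀ i, i < 81291 → fr i = true := below_step fr 81242 49 81291 ru1657 rc1658 rfl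
theorem ru1659 : ∀ i, i < 81340 → fr i = true := below_step fr 81291 49 81340 ru1658 rc1659 rfl
theorem ru1660 : ∀ i, i < 81389 → fr i = true := below_step fr 81340 49 81389 ru1659 rc1660 rfl
theorem ru1661 : ∀ i, i < 81438 → fr i = true := below_step fr 81389 49 81438 ru1660 rc1661 rfl
theorem ru1662 : ∀ i, i < 81487 → fr i = true := below_step fr 81438 49 81487 ru1661 rc1662 rfl
theorem ru1663 : ∀ i, i < 81536 → fr i = true := below_step fr 81487 49 81536 ru1662 rc1663 rfl
theorem ru1664 : ∀ i, i < 81585 → fr i = true := below_step fr 81536 49 81585 ru1663 rc1664 rfl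
theorem ru1665 : ∀ i, i < 81634 → fr i = true := below_step fr 81585 49 81634 ru1664 rc1665 rfl
theorem ru1666 : ∀ i, i < 81683 → fr i = true := below_step fr 81634 49 81683 ru1665 rc1666 rfl
theorem ru1667 : ∀ i, i < 81732 → fr i = true := below_step fr 81683 49 81732 ru1666 rc1667 rfl
theorem ru1668 : ∀ i, i < 81781 → fr i = true := below_step fr 81732 49 81781 ru1667 rc1668 rfl
theorem ru1669 : ∀ i, i < 81830 → fr i = true := below_step fr 81781 49 81830 ru1668 rc1669 rfl
theorem ru1670 : ∀ i, i < 81879 → fr i = true := below_step fr 81830 49 81879 ru1669 rc1670 rfl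
theorem ru1671 : ∀ i, i < 81928 → fr i = true := below_step fr 81879 49 81928 ru1670 rc1671 rfl
theorem ru1672 : ∀ i, i < 81977 → fr i = true := below_step fr 81928 49 81977 ru1671 rc1672 rfl
theorem ru1673 : ∀ i, i < 82026 → fr i = true := below_step fr 81977 49 82026 ru1672 rc1673 rfl
theorem ru1674 : ∀ i, i < 82075 → fr i = true := below_step fr 82026 49 82075 ru1673 rc1674 rfl
theorem ru1675 : ∀ i, i < 82124 → fr i = true := below_step fr 82075 49 82124 ru1674 rc1675 rfl
theorem ru1676 : ∀ i, i < 82173 → fr i = true := below_step fr 82124 49 82173 ru1675 rc1676 rfl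
theorem ru1677 : ∀ i, i < 82222 → fr i = true := below_step fr 82173 49 82222 ru1676 rc1677 rfl
theorem ru1678 : ∀ i, i < 82271 → fr i = true := below_step fr 82222 49 82271 ru1677 rc1678 rfl
theorem ru1679 : ∀ i, i < 82320 → fr i = true := below_step fr 82271 49 82320 ru1678 rc1679 rfl
theorem ru1680 : ∀ i, i < 82369 → fr i = true := below_step fr 82320 49 82369 ru1679 rc1680 rfl
theorem ru1681 : ∀ i, i < 82418 → fr i = true := below_step fr 82369 49 82418 ru1680 rc1681 rfl
theorem ru1682 : ∀ i, i < 82467 → fr i = true := below_step fr 82418 49 82467 ru1681 rc1682 rfl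
theorem ru1683 : ∀ i, i < 82516 → fr i = true := below_step fr 82467 49 82516 ru1682 rc1683 rfl
theorem ru1684 : ∀ i, i < 82565 → fr i = true := below_step fr 82516 49 82565 ru1683 rc1684 rfl
theorem ru1685 : ∀ i, i < 82614 → fr i = true := below_step fr 82565 49 82614 ru1684 rc1685 rfl
theorem ru1686 : ∀ i, i < 82663 → fr i = true := below_step fr 82614 49 82663 ru1685 rc1686 rfl
theorem ru1687 : ∀ i, i < 82712 → fr i = true := below_step fr 82663 49 82712 ru1686 rc1687 rfl
theorem ru1688 : ∀ i, i < 82761 → fr i = true := below_step fr 82712 49 82761 ru1687 rc1688 rfl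
theorem ru1689 : ∀ i, i < 82810 → fr i = true := below_step fr 82761 49 82810 ru1688 rc1689 rfl
theorem ru1690 : ∀ i, i < 82859 → fr i = true := below_step fr 82810 49 82859 ru1689 rc1690 rfl
theorem ru1691 : ∀ i, i < 82908 → fr i = true := below_step fr 82859 49 82908 ru1690 rc1691 rfl
theorem ru1692 : ∀ i, i < 82957 → fr i = true := below_step fr 82908 49 82957 ru1691 rc1692 rfl
theorem ru1693 : ∀ i, i < 83006 → fr i = true := below_step fr 82957 49 83006 ru1692 rc1693 rfl
theorem ru1694 : ∀ i, i < 83055 → fr i = true := below_step fr 83006 49 83055 ru1693 rc1694 rfl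
theorem ru1695 : ∀ i, i < 83104 → fr i = true := below_step fr 83055 49 83104 ru1694 rc1695 rfl
theorem ru1696 : ∀ i, i < 83153 → fr i = true := below_step fr 83104 49 83153 ru1695 rc1696 rfl
theorem ru1697 : ∀ i, i < 83202 → fr i = true := below_step fr 83153 49 83202 ru1696 rc1697 rfl
theorem ru1698 : ∀ i, i < 83251 → fr i = true := below_step fr 83202 49 83251 ru1697 rc1698 rfl
theorem ru1699 : ∀ i, i < 83300 → fr i = true := below_step fr 83251 49 83300 ru1698 rc1699 rfl
theorem ru1700 : ∀ i, i < 83349 → fr i = true := below_step fr 83300 49 83349 ru1699 rc1700 rfl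
theorem ru1701 : ∀ i, i < 83398 → fr i = true := below_step fr 83349 49 83398 ru1700 rc1701 rfl
theorem ru1702 : ∀ i, i < 83447 → fr i = true := below_step fr 83398 49 83447 ru1701 rc1702 rfl
theorem ru1703 : ∀ i, i < 83496 → fr i = true := below_step fr 83447 49 83496 ru1702 rc1703 rfl
theorem ru1704 : ∀ i, i < 83545 → fr i = true := below_step fr 83496 49 83545 ru1703 rc1704 rfl
theorem ru1705 : ∀ i, i < 83594 → fr i = true := below_step fr 83545 49 83594 ru1704 rc1705 rfl
theorem ru1706 : ∀ i, i < 83643 → fr i = true := below_step fr 83594 49 83643 ru1705 rc1706 rfl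
theorem ru1707 : ∀ i, i < 83692 → fr i = true := below_step fr 83643 49 83692 ru1706 rc1707 rfl
theorem ru1708 : ∀ i, i < 83741 → fr i = true := below_step fr 83692 49 83741 ru1707 rc1708 rfl
theorem ru1709 : ∀ i, i < 83790 → fr i = true := below_step fr 83741 49 83790 ru1708 rc1709 rfl
theorem ru1710 : ∀ i, i < 83839 → fr i = true := below_step fr 83790 49 83839 ru1709 rc1710 rfl
theorem ru1711 : ∀ i, i < 83888 → fr i = true := below_step fr 83839 49 83888 ru1710 rc1711 rfl
theorem ru1712 : ∀ i, i < 83937 → fr i = true := below_step fr 83888 49 83937 ru1711 rc1712 rfl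
theorem ru1713 : ∀ i, i < 83986 → fr i = true := below_step fr 83937 49 83986 ru1712 rc1713 rfl
theorem ru1714 : ∀ i, i < 84035 → fr i = true := below_step fr 83986 49 84035 ru1713 rc1714 rfl
theorem ru1715 : ∀ i, i < 84084 → fr i = true := below_step fr 84035 49 84084 ru1714 rc1715 rfl
theorem ru1716 : ∀ i, i < 84133 → fr i = true := below_step fr 84084 49 84133 ru1715 rc1716 rfl
theorem ru1717 : ∀ i, i < 84182 → fr i = true := below_step fr 84133 49 84182 ru1716 rc1717 rfl
theorem ru1718 : ∀ i, i < 84231 → fr i = true := below_step fr 84182 49 84231 ru1717 rc1718 rfl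
theorem ru1719 : ∀ i, i < 84280 → fr i = true := below_step fr 84231 49 84280 ru1718 rc1719 rfl
theorem ru1720 : ∀ i, i < 84329 → fr i = true := below_step fr 84280 49 84329 ru1719 rc1720 rfl
theorem ru1721 : ∀ i, i < 84378 → fr i = true := below_step fr 84329 49 84378 ru1720 rc1721 rfl
theorem ru1722 : ∀ i, i < 84427 → fr i = true := below_step fr 84378 49 84427 ru1721 rc1722 rfl
theorem ru1723 : ∀ i, i < 84476 → fr i = true := below_step fr 84427 49 84476 ru1722 rc1723 rfl
theorem ru1724 : ∀ i, i < 84525 → fr i = true := below_step fr 84476 49 84525 ru1723 rc1724 rfl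
theorem ru1725 : ∀ i, i < 84574 → fr i = true := below_step fr 84525 49 84574 ru1724 rc1725 rfl
theorem ru1726 : ∀ i, i < 84623 → fr i = true := below_step fr 84574 49 84623 ru1725 rc1726 rfl
theorem ru1727 : ∀ i, i < 84672 → fr i = true := below_step fr 84623 49 84672 ru1726 rc1727 rfl
theorem ru1728 : ∀ i, i < 84721 → fr i = true := below_step fr 84672 49 84721 ru1727 rc1728 rfl
theorem ru1729 : ∀ i, i < 84770 → fr i = true := below_step fr 84721 49 84770 ru1728 rc1729 rfl
theorem ru1730 : ∀ i, i < 84819 → fr i = true := below_step fr 84770 49 84819 ru1729 rc1730 rfl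
theorem ru1731 : ∀ i, i < 84868 → fr i = true := below_step fr 84819 49 84868 ru1730 rc1731 rfl
theorem ru1732 : ∀ i, i < 84917 → fr i = true := below_step fr 84868 49 84917 ru1731 rc1732 rfl
theorem ru1733 : ∀ i, i < 84966 → fr i = true := below_step fr 84917 49 84966 ru1732 rc1733 rfl
theorem ru1734 : ∀ i, i < 85015 → fr i = true := below_step fr 84966 49 85015 ru1733 rc1734 rfl
theorem ru1735 : ∀ i, i < 85064 → fr i = true := below_step fr 85015 49 85064 ru1734 rc1735 rfl
theorem ru1736 : ∀ i, i < 85113 → fr i = true := below_step fr 85064 49 85113 ru1735 rc1736 rfl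
theorem ru1737 : ∀ i, i < 85162 → fr i = true := below_step fr 85113 49 85162 ru1736 rc1737 rfl
theorem ru1738 : ∀ i, i < 85211 → fr i = true := below_step fr 85162 49 85211 ru1737 rc1738 rfl
theorem ru1739 : ∀ i, i < 85260 → fr i = true := below_step fr 85211 49 85260 ru1738 rc1739 rfl
theorem ru1740 : ∀ i, i < 85309 → fr i = true := below_step fr 85260 49 85309 ru1739 rc1740 rfl
theorem ru1741 : ∀ i, i < 85358 → fr i = true := below_step fr 85309 49 85358 ru1740 rc1741 rfl
theorem ru1742 : ∀ i, i < 85407 → fr i = true := below_step fr 85358 49 85407 ru1741 rc1742 rfl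
theorem ru1743 : ∀ i, i < 85456 → fr i = true := below_step fr 85407 49 85456 ru1742 rc1743 rfl
theorem ru1744 : ∀ i, i < 85505 → fr i = true := below_step fr 85456 49 85505 ru1743 rc1744 rfl
theorem ru1745 : ∀ i, i < 85554 → fr i = true := below_step fr 85505 49 85554 ru1744 rc1745 rfl
theorem ru1746 : ∀ i, i < 85603 → fr i = true := below_step fr 85554 49 85603 ru1745 rc1746 rfl
theorem ru1747 : ∀ i, i < 85652 → fr i = true := below_step fr 85603 49 85652 ru1746 rc1747 rfl
theorem ru1748 : ∀ i, i < 85701 → fr i = true := below_step fr 85652 49 85701 ru1747 rc1748 rfl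
theorem ru1749 : ∀ i, i < 85750 → fr i = true := below_step fr 85701 49 85750 ru1748 rc1749 rfl
theorem ru1750 : ∀ i, i < 85799 → fr i = true := below_step fr 85750 49 85799 ru1749 rc1750 rfl
theorem ru1751 : ∀ i, i < 85848 → fr i = true := below_step fr 85799 49 85848 ru1750 rc1751 rfl
theorem ru1752 : ∀ i, i < 85897 → fr i = true := below_step fr 85848 49 85897 ru1751 rc1752 rfl
theorem ru1753 : ∀ i, i < 85946 → fr i = true := below_step fr 85897 49 85946 ru1752 rc1753 rfl
theorem ru1754 : ∀ i, i < 85995 → fr i = true := below_step fr 85946 49 85995 ru1753 rc1754 rfl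
theorem ru1755 : ∀ i, i < 86044 → fr i = true := below_step fr 85995 49 86044 ru1754 rc1755 rfl
theorem ru1756 : ∀ i, i < 86093 → fr i = true := below_step fr 86044 49 86093 ru1755 rc1756 rfl
theorem ru1757 : ∀ i, i < 86142 → fr i = true := below_step fr 86093 49 86142 ru1756 rc1757 rfl
theorem ru1758 : ∀ i, i < 86191 → fr i = true := below_step fr 86142 49 86191 ru1757 rc1758 rfl
theorem ru1759 : ∀ i, i < 86240 → fr i = true := below_step fr 86191 49 86240 ru1758 rc1759 rfl
theorem ru1760 : ∀ i, i < 86289 → fr i = true := below_step fr 86240 49 86289 ru1759 rc1760 rfl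
theorem ru1761 : ∀ i, i < 86338 → fr i = true := below_step fr 86289 49 86338 ru1760 rc1761 rfl
theorem ru1762 : ∀ i, i < 86387 → fr i = true := below_step fr 86338 49 86387 ru1761 rc1762 rfl
theorem ru1763 : ∀ i, i < 86436 → fr i = true := below_step fr 86387 49 86436 ru1762 rc1763 rfl
theorem ru1764 : ∀ i, i < 86485 → fr i = true := below_step fr 86436 49 86485 ru1763 rc1764 rfl
theorem ru1765 : ∀ i, i < 86534 → fr i = true := below_step fr 86485 49 86534 ru1764 rc1765 rfl
theorem ru1766 : ∀ i, i < 86583 → fr i = true := below_step fr 86534 49 86583 ru1765 rc1766 rfl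
theorem ru1767 : ∀ i, i < 86632 → fr i = true := below_step fr 86583 49 86632 ru1766 rc1767 rfl
theorem ru1768 : ∀ i, i < 86681 → fr i = true := below_step fr 86632 49 86681 ru1767 rc1768 rfl
theorem ru1769 : ∀ i, i < 86730 → fr i = true := below_step fr 86681 49 86730 ru1768 rc1769 rfl
theorem ru1770 : ∀ i, i < 86779 → fr i = true := below_step fr 86730 49 86779 ru1769 rc1770 rfl
theorem ru1771 : ∀ i, i < 86828 → fr i = true := below_step fr 86779 49 86828 ru1770 rc1771 rfl
theorem ru1772 : ∀ i, i < 86877 → fr i = true := below_step fr 86828 49 86877 ru1771 rc1772 rfl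
theorem ru1773 : ∀ i, i < 86926 → fr i = true := below_step fr 86877 49 86926 ru1772 rc1773 rfl
theorem ru1774 : ∀ i, i < 86975 → fr i = true := below_step fr 86926 49 86975 ru1773 rc1774 rfl
theorem ru1775 : ∀ i, i < 87024 → fr i = true := below_step fr 86975 49 87024 ru1774 rc1775 rfl
theorem ru1776 : ∀ i, i < 87073 → fr i = true := below_step fr 87024 49 87073 ru1775 rc1776 rfl
theorem ru1777 : ∀ i, i < 87122 → fr i = true := below_step fr 87073 49 87122 ru1776 rc1777 rfl
theorem ru1778 : ∀ i, i < 87171 → fr i = true := below_step fr 87122 49 87171 ru1777 rc1778 rfl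
theorem ru1779 : ∀ i, i < 87220 → fr i = true := below_step fr 87171 49 87220 ru1778 rc1779 rfl
theorem ru1780 : ∀ i, i < 87269 → fr i = true := below_step fr 87220 49 87269 ru1779 rc1780 rfl
theorem ru1781 : ∀ i, i < 87318 → fr i = true := below_step fr 87269 49 87318 ru1780 rc1781 rfl
theorem ru1782 : ∀ i, i < 87367 → fr i = true := below_step fr 87318 49 87367 ru1781 rc1782 rfl
theorem ru1783 : ∀ i, i < 87416 → fr i = true := below_step fr 87367 49 87416 ru1782 rc1783 rfl
theorem ru1784 : ∀ i, i < 87465 → fr i = true := below_step fr 87416 49 87465 ru1783 rc1784 rfl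
theorem ru1785 : ∀ i, i < 87514 → fr i = true := below_step fr 87465 49 87514 ru1784 rc1785 rfl
theorem ru1786 : ∀ i, i < 87563 → fr i = true := below_step fr 87514 49 87563 ru1785 rc1786 rfl
theorem ru1787 : ∀ i, i < 87612 → fr i = true := below_step fr 87563 49 87612 ru1786 rc1787 rfl
theorem ru1788 : ∀ i, i < 87661 → fr i = true := below_step fr 87612 49 87661 ru1787 rc1788 rfl
theorem ru1789 : ∀ i, i < 87710 → fr i = true := below_step fr 87661 49 87710 ru1788 rc1789 rfl
theorem ru1790 : ∀ i, i < 87759 → fr i = true := below_step fr 87710 49 87759 ru1789 rc1790 rfl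
theorem ru1791 : ∀ i, i < 87808 → fr i = true := below_step fr 87759 49 87808 ru1790 rc1791 rfl
theorem ru1792 : ∀ i, i < 87857 → fr i = true := below_step fr 87808 49 87857 ru1791 rc1792 rfl
theorem ru1793 : ∀ i, i < 87906 → fr i = true := below_step fr 87857 49 87906 ru1792 rc1793 rfl
theorem ru1794 : ∀ i, i < 87955 → fr i = true := below_step fr 87906 49 87955 ru1793 rc1794 rfl
theorem ru1795 : ∀ i, i < 88004 → fr i = true := below_step fr 87955 49 88004 ru1794 rc1795 rfl
theorem ru1796 : ∀ i, i < 88053 → fr i = true := below_step fr 88004 49 88053 ru1795 rc1796 rfl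
theorem ru1797 : ∀ i, i < 88102 → fr i = true := below_step fr 88053 49 88102 ru1796 rc1797 rfl
theorem ru1798 : ∀ i, i < 88151 → fr i = true := below_step fr 88102 49 88151 ru1797 rc1798 rfl
theorem ru1799 : ∀ i, i < 88200 → fr i = true := below_step fr 88151 49 88200 ru1798 rc1799 rfl
theorem ru1800 : ∀ i, i < 88249 → fr i = true := below_step fr 88200 49 88249 ru1799 rc1800 rfl
theorem ru1801 : ∀ i, i < 88298 → fr i = true := below_step fr 88249 49 88298 ru1800 rc1801 rfl
theorem ru1802 : ∀ i, i < 88347 → fr i = true := below_step fr 88298 49 88347 ru1801 rc1802 rfl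
theorem ru1803 : ∀ i, i < 88396 → fr i = true := below_step fr 88347 49 88396 ru1802 rc1803 rfl
theorem ru1804 : ∀ i, i < 88445 → fr i = true := below_step fr 88396 49 88445 ru1803 rc1804 rfl
theorem ru1805 : ∀ i, i < 88494 → fr i = true := below_step fr 88445 49 88494 ru1804 rc1805 rfl
theorem ru1806 : ∀ i, i < 88543 → fr i = true := below_step fr 88494 49 88543 ru1805 rc1806 rfl
theorem ru1807 : ∀ i, i < 88592 → fr i = true := below_step fr 88543 49 88592 ru1806 rc1807 rfl
theorem ru1808 : ∀ i, i < 88641 → fr i = true := below_step fr 88592 49 88641 ru1807 rc1808 rfl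
theorem ru1809 : ∀ i, i < 88690 → fr i = true := below_step fr 88641 49 88690 ru1808 rc1809 rfl
theorem ru1810 : ∀ i, i < 88739 → fr i = true := below_step fr 88690 49 88739 ru1809 rc1810 rfl
theorem ru1811 : ∀ i, i < 88788 → fr i = true := below_step fr 88739 49 88788 ru1810 rc1811 rfl
theorem ru1812 : ∀ i, i < 88837 → fr i = true := below_step fr 88788 49 88837 ru1811 rc1812 rfl
theorem ru1813 : ∀ i, i < 88886 → fr i = true := below_step fr 88837 49 88886 ru1812 rc1813 rfl
theorem ru1814 : ∀ i, i < 88935 → fr i = true := below_step fr 88886 49 88935 ru1813 rc1814 rfl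
theorem ru1815 : ∀ i, i < 88984 → fr i = true := below_step fr 88935 49 88984 ru1814 rc1815 rfl
theorem ru1816 : ∀ i, i < 89033 → fr i = true := below_step fr 88984 49 89033 ru1815 rc1816 rfl
theorem ru1817 : ∀ i, i < 89082 → fr i = true := below_step fr 89033 49 89082 ru1816 rc1817 rfl
theorem ru1818 : ∀ i, i < 89131 → fr i = true := below_step fr 89082 49 89131 ru1817 rc1818 rfl
theorem ru1819 : ∀ i, i < 89180 → fr i = true := below_step fr 89131 49 89180 ru1818 rc1819 rfl
theorem ru1820 : ∀ i, i < 89229 → fr i = true := below_step fr 89180 49 89229 ru1819 rc1820 rfl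
theorem ru1821 : ∀ i, i < 89278 → fr i = true := below_step fr 89229 49 89278 ru1820 rc1821 rfl
theorem ru1822 : ∀ i, i < 89327 → fr i = true := below_step fr 89278 49 89327 ru1821 rc1822 rfl
theorem ru1823 : ∀ i, i < 89376 → fr i = true := below_step fr 89327 49 89376 ru1822 rc1823 rfl
theorem ru1824 : ∀ i, i < 89425 → fr i = true := below_step fr 89376 49 89425 ru1823 rc1824 rfl
theorem ru1825 : ∀ i, i < 89474 → fr i = true := below_step fr 89425 49 89474 ru1824 rc1825 rfl
theorem ru1826 : ∀ i, i < 89523 → fr i = true := below_step fr 89474 49 89523 ru1825 rc1826 rfl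
theorem ru1827 : ∀ i, i < 89572 → fr i = true := below_step fr 89523 49 89572 ru1826 rc1827 rfl
theorem ru1828 : ∀ i, i < 89621 → fr i = true := below_step fr 89572 49 89621 ru1827 rc1828 rfl
theorem ru1829 : ∀ i, i < 89670 → fr i = true := below_step fr 89621 49 89670 ru1828 rc1829 rfl
theorem ru1830 : ∀ i, i < 89719 → fr i = true := below_step fr 89670 49 89719 ru1829 rc1830 rfl
theorem ru1831 : ∀ i, i < 89768 → fr i = true := below_step fr 89719 49 89768 ru1830 rc1831 rfl
theorem ru1832 : ∀ i, i < 89817 → fr i = true := below_step fr 89768 49 89817 ru1831 rc1832 rfl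
theorem ru1833 : ∀ i, i < 89866 → fr i = true := below_step fr 89817 49 89866 ru1832 rc1833 rfl
theorem ru1834 : ∀ i, i < 89915 → fr i = true := below_step fr 89866 49 89915 ru1833 rc1834 rfl
theorem ru1835 : ∀ i, i < 89964 → fr i = true := below_step fr 89915 49 89964 ru1834 rc1835 rfl
theorem ru1836 : ∀ i, i < 90013 → fr i = true := below_step fr 89964 49 90013 ru1835 rc1836 rfl
theorem ru1837 : ∀ i, i < 90062 → fr i = true := below_step fr 90013 49 90062 ru1836 rc1837 rfl
theorem ru1838 : ∀ i, i < 90111 → fr i = true := below_step fr 90062 49 90111 ru1837 rc1838 rfl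
theorem ru1839 : ∀ i, i < 90160 → fr i = true := below_step fr 90111 49 90160 ru1838 rc1839 rfl
theorem ru1840 : ∀ i, i < 90209 → fr i = true := below_step fr 90160 49 90209 ru1839 rc1840 rfl
theorem ru1841 : ∀ i, i < 90258 → fr i = true := below_step fr 90209 49 90258 ru1840 rc1841 rfl
theorem ru1842 : ∀ i, i < 90307 → fr i = true := below_step fr 90258 49 90307 ru1841 rc1842 rfl
theorem ru1843 : ∀ i, i < 90356 → fr i = true := below_step fr 90307 49 90356 ru1842 rc1843 rfl
theorem ru1844 : ∀ i, i < 90405 → fr i = true := below_step fr 90356 49 90405 ru1843 rc1844 rfl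
theorem ru1845 : ∀ i, i < 90454 → fr i = true := below_step fr 90405 49 90454 ru1844 rc1845 rfl
theorem ru1846 : ∀ i, i < 90503 → fr i = true := below_step fr 90454 49 90503 ru1845 rc1846 rfl
theorem ru1847 : ∀ i, i < 90552 → fr i = true := below_step fr 90503 49 90552 ru1846 rc1847 rfl
theorem ru1848 : ∀ i, i < 90601 → fr i = true := below_step fr 90552 49 90601 ru1847 rc1848 rfl
theorem ru1849 : ∀ i, i < 90650 → fr i = true := below_step fr 90601 49 90650 ru1848 rc1849 rfl
theorem ru1850 : ∀ i, i < 90699 → fr i = true := below_step fr 90650 49 90699 ru1849 rc1850 rfl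
theorem ru1851 : ∀ i, i < 90748 → fr i = true := below_step fr 90699 49 90748 ru1850 rc1851 rfl
theorem ru1852 : ∀ i, i < 90797 → fr i = true := below_step fr 90748 49 90797 ru1851 rc1852 rfl
theorem ru1853 : ∀ i, i < 90846 → fr i = true := below_step fr 90797 49 90846 ru1852 rc1853 rfl
theorem ru1854 : ∀ i, i < 90895 → fr i = true := below_step fr 90846 49 90895 ru1853 rc1854 rfl
theorem ru1855 : ∀ i, i < 90944 → fr i = true := below_step fr 90895 49 90944 ru1854 rc1855 rfl
theorem ru1856 : ∀ i, i < 90993 → fr i = true := below_step fr 90944 49 90993 ru1855 rc1856 rfl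
theorem ru1857 : ∀ i, i < 91042 → fr i = true := below_step fr 90993 49 91042 ru1856 rc1857 rfl
theorem ru1858 : ∀ i, i < 91091 → fr i = true := below_step fr 91042 49 91091 ru1857 rc1858 rfl
theorem ru1859 : ∀ i, i < 91140 → fr i = true := below_step fr 91091 49 91140 ru1858 rc1859 rfl
theorem ru1860 : ∀ i, i < 91189 → fr i = true := below_step fr 91140 49 91189 ru1859 rc1860 rfl
theorem ru1861 : ∀ i, i < 91238 → fr i = true := below_step fr 91189 49 91238 ru1860 rc1861 rfl
theorem ru1862 : ∀ i, i < 91287 → fr i = true := below_step fr 91238 49 91287 ru1861 rc1862 rfl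
theorem ru1863 : ∀ i, i < 91336 → fr i = true := below_step fr 91287 49 91336 ru1862 rc1863 rfl
theorem ru1864 : ∀ i, i < 91385 → fr i = true := below_step fr 91336 49 91385 ru1863 rc1864 rfl
theorem ru1865 : ∀ i, i < 91434 → fr i = true := below_step fr 91385 49 91434 ru1864 rc1865 rfl
theorem ru1866 : ∀ i, i < 91483 → fr i = true := below_step fr 91434 49 91483 ru1865 rc1866 rfl
theorem ru1867 : ∀ i, i < 91532 → fr i = true := below_step fr 91483 49 91532 ru1866 rc1867 rfl
theorem ru1868 : ∀ i, i < 91581 → fr i = true := below_step fr 91532 49 91581 ru1867 rc1868 rfl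
theorem ru1869 : ∀ i, i < 91630 → fr i = true := below_step fr 91581 49 91630 ru1868 rc1869 rfl
theorem ru1870 : ∀ i, i < 91679 → fr i = true := below_step fr 91630 49 91679 ru1869 rc1870 rfl
theorem ru1871 : ∀ i, i < 91728 → fr i = true := below_step fr 91679 49 91728 ru1870 rc1871 rfl
theorem ru1872 : ∀ i, i < 91777 → fr i = true := below_step fr 91728 49 91777 ru1871 rc1872 rfl
theorem ru1873 : ∀ i, i < 91826 → fr i = true := below_step fr 91777 49 91826 ru1872 rc1873 rfl
theorem ru1874 : ∀ i, i < 91875 → fr i = true := below_step fr 91826 49 91875 ru1873 rc1874 rfl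
theorem ru1875 : ∀ i, i < 91924 → fr i = true := below_step fr 91875 49 91924 ru1874 rc1875 rfl
theorem ru1876 : ∀ i, i < 91973 → fr i = true := below_step fr 91924 49 91973 ru1875 rc1876 rfl
theorem ru1877 : ∀ i, i < 92022 → fr i = true := below_step fr 91973 49 92022 ru1876 rc1877 rfl
theorem ru1878 : ∀ i, i < 92071 → fr i = true := below_step fr 92022 49 92071 ru1877 rc1878 rfl
theorem ru1879 : ∀ i, i < 92120 → fr i = true := below_step fr 92071 49 92120 ru1878 rc1879 rfl
theorem ru1880 : ∀ i, i < 92169 → fr i = true := below_step fr 92120 49 92169 ru1879 rc1880 rfl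
theorem ru1881 : ∀ i, i < 92218 → fr i = true := below_step fr 92169 49 92218 ru1880 rc1881 rfl
theorem ru1882 : ∀ i, i < 92267 → fr i = true := below_step fr 92218 49 92267 ru1881 rc1882 rfl
theorem ru1883 : ∀ i, i < 92316 → fr i = true := below_step fr 92267 49 92316 ru1882 rc1883 rfl
theorem ru1884 : ∀ i, i < 92365 → fr i = true := below_step fr 92316 49 92365 ru1883 rc1884 rfl
theorem ru1885 : ∀ i, i < 92414 → fr i = true := below_step fr 92365 49 92414 ru1884 rc1885 rfl
theorem ru1886 : ∀ i, i < 92463 → fr i = true := below_step fr 92414 49 92463 ru1885 rc1886 rfl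
theorem ru1887 : ∀ i, i < 92512 → fr i = true := below_step fr 92463 49 92512 ru1886 rc1887 rfl
theorem ru1888 : ∀ i, i < 92561 → fr i = true := below_step fr 92512 49 92561 ru1887 rc1888 rfl
theorem ru1889 : ∀ i, i < 92610 → fr i = true := below_step fr 92561 49 92610 ru1888 rc1889 rfl
theorem ru1890 : ∀ i, i < 92659 → fr i = true := below_step fr 92610 49 92659 ru1889 rc1890 rfl
theorem ru1891 : ∀ i, i < 92708 → fr i = true := below_step fr 92659 49 92708 ru1890 rc1891 rfl
theorem ru1892 : ∀ i, i < 92757 → fr i = true := below_step fr 92708 49 92757 ru1891 rc1892 rfl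
theorem ru1893 : ∀ i, i < 92806 → fr i = true := below_step fr 92757 49 92806 ru1892 rc1893 rfl
theorem ru1894 : ∀ i, i < 92855 → fr i = true := below_step fr 92806 49 92855 ru1893 rc1894 rfl
theorem ru1895 : ∀ i, i < 92904 → fr i = true := below_step fr 92855 49 92904 ru1894 rc1895 rfl
theorem ru1896 : ∀ i, i < 92953 → fr i = true := below_step fr 92904 49 92953 ru1895 rc1896 rfl
theorem ru1897 : ∀ i, i < 93002 → fr i = true := below_step fr 92953 49 93002 ru1896 rc1897 rfl
theorem ru1898 : ∀ i, i < 93051 → fr i = true := below_step fr 93002 49 93051 ru1897 rc1898 rfl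
theorem ru1899 : ∀ i, i < 93100 → fr i = true := below_step fr 93051 49 93100 ru1898 rc1899 rfl
theorem ru1900 : ∀ i, i < 93149 → fr i = true := below_step fr 93100 49 93149 ru1899 rc1900 rfl
theorem ru1901 : ∀ i, i < 93198 → fr i = true := below_step fr 93149 49 93198 ru1900 rc1901 rfl
theorem ru1902 : ∀ i, i < 93247 → fr i = true := below_step fr 93198 49 93247 ru1901 rc1902 rfl
theorem ru1903 : ∀ i, i < 93296 → fr i = true := below_step fr 93247 49 93296 ru1902 rc1903 rfl
theorem ru1904 : ∀ i, i < 93345 → fr i = true := below_step fr 93296 49 93345 ru1903 rc1904 rfl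
theorem ru1905 : ∀ i, i < 93394 → fr i = true := below_step fr 93345 49 93394 ru1904 rc1905 rfl
theorem ru1906 : ∀ i, i < 93443 → fr i = true := below_step fr 93394 49 93443 ru1905 rc1906 rfl
theorem ru1907 : ∀ i, i < 93492 → fr i = true := below_step fr 93443 49 93492 ru1906 rc1907 rfl
theorem ru1908 : ∀ i, i < 93541 → fr i = true := below_step fr 93492 49 93541 ru1907 rc1908 rfl
theorem ru1909 : ∀ i, i < 93590 → fr i = true := below_step fr 93541 49 93590 ru1908 rc1909 rfl
theorem ru1910 : ∀ i, i < 93639 → fr i = true := below_step fr 93590 49 93639 ru1909 rc1910 rfl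
theorem ru1911 : ∀ i, i < 93688 → fr i = true := below_step fr 93639 49 93688 ru1910 rc1911 rfl
theorem ru1912 : ∀ i, i < 93737 → fr i = true := below_step fr 93688 49 93737 ru1911 rc1912 rfl
theorem ru1913 : ∀ i, i < 93786 → fr i = true := below_step fr 93737 49 93786 ru1912 rc1913 rfl
theorem ru1914 : ∀ i, i < 93835 → fr i = true := below_step fr 93786 49 93835 ru1913 rc1914 rfl
theorem ru1915 : ∀ i, i < 93884 → fr i = true := below_step fr 93835 49 93884 ru1914 rc1915 rfl
theorem ru1916 : ∀ i, i < 93933 → fr i = true := below_step fr 93884 49 93933 ru1915 rc1916 rfl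
theorem ru1917 : ∀ i, i < 93982 → fr i = true := below_step fr 93933 49 93982 ru1916 rc1917 rfl
theorem ru1918 : ∀ i, i < 94031 → fr i = true := below_step fr 93982 49 94031 ru1917 rc1918 rfl
theorem ru1919 : ∀ i, i < 94080 → fr i = true := below_step fr 94031 49 94080 ru1918 rc1919 rfl
theorem ru1920 : ∀ i, i < 94129 → fr i = true := below_step fr 94080 49 94129 ru1919 rc1920 rfl
theorem ru1921 : ∀ i, i < 94178 → fr i = true := below_step fr 94129 49 94178 ru1920 rc1921 rfl
theorem ru1922 : ∀ i, i < 94227 → fr i = true := below_step fr 94178 49 94227 ru1921 rc1922 rfl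
theorem ru1923 : ∀ i, i < 94276 → fr i = true := below_step fr 94227 49 94276 ru1922 rc1923 rfl
theorem ru1924 : ∀ i, i < 94325 → fr i = true := below_step fr 94276 49 94325 ru1923 rc1924 rfl
theorem ru1925 : ∀ i, i < 94374 → fr i = true := below_step fr 94325 49 94374 ru1924 rc1925 rfl
theorem ru1926 : ∀ i, i < 94423 → fr i = true := below_step fr 94374 49 94423 ru1925 rc1926 rfl
theorem ru1927 : ∀ i, i < 94472 → fr i = true := below_step fr 94423 49 94472 ru1926 rc1927 rfl
theorem ru1928 : ∀ i, i < 94521 → fr i = true := below_step fr 94472 49 94521 ru1927 rc1928 rfl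
theorem ru1929 : ∀ i, i < 94570 → fr i = true := below_step fr 94521 49 94570 ru1928 rc1929 rfl
theorem ru1930 : ∀ i, i < 94619 → fr i = true := below_step fr 94570 49 94619 ru1929 rc1930 rfl
theorem ru1931 : ∀ i, i < 94668 → fr i = true := below_step fr 94619 49 94668 ru1930 rc1931 rfl
theorem ru1932 : ∀ i, i < 94717 → fr i = true := below_step fr 94668 49 94717 ru1931 rc1932 rfl
theorem ru1933 : ∀ i, i < 94766 → fr i = true := below_step fr 94717 49 94766 ru1932 rc1933 rfl
theorem ru1934 : ∀ i, i < 94815 → fr i = true := below_step fr 94766 49 94815 ru1933 rc1934 rfl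
theorem ru1935 : ∀ i, i < 94864 → fr i = true := below_step fr 94815 49 94864 ru1934 rc1935 rfl
theorem ru1936 : ∀ i, i < 94913 → fr i = true := below_step fr 94864 49 94913 ru1935 rc1936 rfl
theorem ru1937 : ∀ i, i < 94962 → fr i = true := below_step fr 94913 49 94962 ru1936 rc1937 rfl
theorem ru1938 : ∀ i, i < 95011 → fr i = true := below_step fr 94962 49 95011 ru1937 rc1938 rfl
theorem ru1939 : ∀ i, i < 95060 → fr i = true := below_step fr 95011 49 95060 ru1938 rc1939 rfl
theorem ru1940 : ∀ i, i < 95109 → fr i = true := below_step fr 95060 49 95109 ru1939 rc1940 rfl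
theorem ru1941 : ∀ i, i < 95158 → fr i = true := below_step fr 95109 49 95158 ru1940 rc1941 rfl
theorem ru1942 : ∀ i, i < 95207 → fr i = true := below_step fr 95158 49 95207 ru1941 rc1942 rfl
theorem ru1943 : ∀ i, i < 95256 → fr i = true := below_step fr 95207 49 95256 ru1942 rc1943 rfl
theorem ru1944 : ∀ i, i < 95305 → fr i = true := below_step fr 95256 49 95305 ru1943 rc1944 rfl
theorem ru1945 : ∀ i, i < 95354 → fr i = true := below_step fr 95305 49 95354 ru1944 rc1945 rfl
theorem ru1946 : ∀ i, i < 95403 → fr i = true := below_step fr 95354 49 95403 ru1945 rc1946 rfl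
theorem ru1947 : ∀ i, i < 95452 → fr i = true := below_step fr 95403 49 95452 ru1946 rc1947 rfl
theorem ru1948 : ∀ i, i < 95501 → fr i = true := below_step fr 95452 49 95501 ru1947 rc1948 rfl
theorem ru1949 : ∀ i, i < 95550 → fr i = true := below_step fr 95501 49 95550 ru1948 rc1949 rfl
theorem ru1950 : ∀ i, i < 95599 → fr i = true := below_step fr 95550 49 95599 ru1949 rc1950 rfl
theorem ru1951 : ∀ i, i < 95648 → fr i = true := below_step fr 95599 49 95648 ru1950 rc1951 rfl
theorem ru1952 : ∀ i, i < 95697 → fr i = true := below_step fr 95648 49 95697 ru1951 rc1952 rfl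
theorem ru1953 : ∀ i, i < 95746 → fr i = true := below_step fr 95697 49 95746 ru1952 rc1953 rfl
theorem ru1954 : ∀ i, i < 95795 → fr i = true := below_step fr 95746 49 95795 ru1953 rc1954 rfl
theorem ru1955 : ∀ i, i < 95844 → fr i = true := below_step fr 95795 49 95844 ru1954 rc1955 rfl
theorem ru1956 : ∀ i, i < 95893 → fr i = true := below_step fr 95844 49 95893 ru1955 rc1956 rfl
theorem ru1957 : ∀ i, i < 95942 → fr i = true := below_step fr 95893 49 95942 ru1956 rc1957 rfl
theorem ru1958 : ∀ i, i < 95991 → fr i = true := below_step fr 95942 49 95991 ru1957 rc1958 rfl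
theorem ru1959 : ∀ i, i < 96040 → fr i = true := below_step fr 95991 49 96040 ru1958 rc1959 rfl
theorem ru1960 : ∀ i, i < 96089 → fr i = true := below_step fr 96040 49 96089 ru1959 rc1960 rfl
theorem ru1961 : ∀ i, i < 96138 → fr i = true := below_step fr 96089 49 96138 ru1960 rc1961 rfl
theorem ru1962 : ∀ i, i < 96187 → fr i = true := below_step fr 96138 49 96187 ru1961 rc1962 rfl
theorem ru1963 : ∀ i, i < 96236 → fr i = true := below_step fr 96187 49 96236 ru1962 rc1963 rfl
theorem ru1964 : ∀ i, i < 96285 → fr i = true := below_step fr 96236 49 96285 ru1963 rc1964 rfl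
theorem ru1965 : ∀ i, i < 96334 → fr i = true := below_step fr 96285 49 96334 ru1964 rc1965 rfl
theorem ru1966 : ∀ i, i < 96383 → fr i = true := below_step fr 96334 49 96383 ru1965 rc1966 rfl
theorem ru1967 : ∀ i, i < 96432 → fr i = true := below_step fr 96383 49 96432 ru1966 rc1967 rfl
theorem ru1968 : ∀ i, i < 96481 → fr i = true := below_step fr 96432 49 96481 ru1967 rc1968 rfl
theorem ru1969 : ∀ i, i < 96530 → fr i = true := below_step fr 96481 49 96530 ru1968 rc1969 rfl
theorem ru1970 : ∀ i, i < 96579 → fr i = true := below_step fr 96530 49 96579 ru1969 rc1970 rfl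
theorem ru1971 : ∀ i, i < 96628 → fr i = true := below_step fr 96579 49 96628 ru1970 rc1971 rfl
theorem ru1972 : ∀ i, i < 96677 → fr i = true := below_step fr 96628 49 96677 ru1971 rc1972 rfl
theorem ru1973 : ∀ i, i < 96726 → fr i = true := below_step fr 96677 49 96726 ru1972 rc1973 rfl
theorem ru1974 : ∀ i, i < 96775 → fr i = true := below_step fr 96726 49 96775 ru1973 rc1974 rfl
theorem ru1975 : ∀ i, i < 96824 → fr i = true := below_step fr 96775 49 96824 ru1974 rc1975 rfl
theorem ru1976 : ∀ i, i < 96873 → fr i = true := below_step fr 96824 49 96873 ru1975 rc1976 rfl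
theorem ru1977 : ∀ i, i < 96922 → fr i = true := below_step fr 96873 49 96922 ru1976 rc1977 rfl
theorem ru1978 : ∀ i, i < 96971 → fr i = true := below_step fr 96922 49 96971 ru1977 rc1978 rfl
theorem ru1979 : ∀ i, i < 97020 → fr i = true := below_step fr 96971 49 97020 ru1978 rc1979 rfl
theorem ru1980 : ∀ i, i < 97069 → fr i = true := below_step fr 97020 49 97069 ru1979 rc1980 rfl
theorem ru1981 : ∀ i, i < 97118 → fr i = true := below_step fr 97069 49 97118 ru1980 rc1981 rfl
theorem ru1982 : ∀ i, i < 97167 → fr i = true := below_step fr 97118 49 97167 ru1981 rc1982 rfl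
theorem ru1983 : ∀ i, i < 97216 → fr i = true := below_step fr 97167 49 97216 ru1982 rc1983 rfl
theorem ru1984 : ∀ i, i < 97265 → fr i = true := below_step fr 97216 49 97265 ru1983 rc1984 rfl
theorem ru1985 : ∀ i, i < 97314 → fr i = true := below_step fr 97265 49 97314 ru1984 rc1985 rfl
theorem ru1986 : ∀ i, i < 97363 → fr i = true := below_step fr 97314 49 97363 ru1985 rc1986 rfl
theorem ru1987 : ∀ i, i < 97412 → fr i = true := below_step fr 97363 49 97412 ru1986 rc1987 rfl
theorem ru1988 : ∀ i, i < 97461 → fr i = true := below_step fr 97412 49 97461 ru1987 rc1988 rfl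
theorem ru1989 : ∀ i, i < 97510 → fr i = true := below_step fr 97461 49 97510 ru1988 rc1989 rfl
theorem ru1990 : ∀ i, i < 97559 → fr i = true := below_step fr 97510 49 97559 ru1989 rc1990 rfl
theorem ru1991 : ∀ i, i < 97608 → fr i = true := below_step fr 97559 49 97608 ru1990 rc1991 rfl
theorem ru1992 : ∀ i, i < 97657 → fr i = true := below_step fr 97608 49 97657 ru1991 rc1992 rfl
theorem ru1993 : ∀ i, i < 97706 → fr i = true := below_step fr 97657 49 97706 ru1992 rc1993 rfl
theorem ru1994 : ∀ i, i < 97755 → fr i = true := below_step fr 97706 49 97755 ru1993 rc1994 rfl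
theorem ru1995 : ∀ i, i < 97804 → fr i = true := below_step fr 97755 49 97804 ru1994 rc1995 rfl
theorem ru1996 : ∀ i, i < 97853 → fr i = true := below_step fr 97804 49 97853 ru1995 rc1996 rfl
theorem ru1997 : ∀ i, i < 97902 → fr i = true := below_step fr 97853 49 97902 ru1996 rc1997 rfl
theorem ru1998 : ∀ i, i < 97951 → fr i = true := below_step fr 97902 49 97951 ru1997 rc1998 rfl
theorem ru1999 : ∀ i, i < 98000 → fr i = true := below_step fr 97951 49 98000 ru1998 rc1999 rfl
theorem ru2000 : ∀ i, i < 98049 → fr i = true := below_step fr 98000 49 98049 ru1999 rc2000 rfl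
theorem ru2001 : ∀ i, i < 98098 → fr i = true := below_step fr 98049 49 98098 ru2000 rc2001 rfl
theorem ru2002 : ∀ i, i < 98147 → fr i = true := below_step fr 98098 49 98147 ru2001 rc2002 rfl
theorem ru2003 : ∀ i, i < 98196 → fr i = true := below_step fr 98147 49 98196 ru2002 rc2003 rfl
theorem ru2004 : ∀ i, i < 98245 → fr i = true := below_step fr 98196 49 98245 ru2003 rc2004 rfl
theorem ru2005 : ∀ i, i < 98294 → fr i = true := below_step fr 98245 49 98294 ru2004 rc2005 rfl
theorem ru2006 : ∀ i, i < 98343 → fr i = true := below_step fr 98294 49 98343 ru2005 rc2006 rfl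
theorem ru2007 : ∀ i, i < 98392 → fr i = true := below_step fr 98343 49 98392 ru2006 rc2007 rfl
theorem ru2008 : ∀ i, i < 98441 → fr i = true := below_step fr 98392 49 98441 ru2007 rc2008 rfl
theorem ru2009 : ∀ i, i < 98490 → fr i = true := below_step fr 98441 49 98490 ru2008 rc2009 rfl
theorem ru2010 : ∀ i, i < 98539 → fr i = true := below_step fr 98490 49 98539 ru2009 rc2010 rfl
theorem ru2011 : ∀ i, i < 98588 → fr i = true := below_step fr 98539 49 98588 ru2010 rc2011 rfl
theorem ru2012 : ∀ i, i < 98637 → fr i = true := below_step fr 98588 49 98637 ru2011 rc2012 rfl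
theorem ru2013 : ∀ i, i < 98686 → fr i = true := below_step fr 98637 49 98686 ru2012 rc2013 rfl
theorem ru2014 : ∀ i, i < 98735 → fr i = true := below_step fr 98686 49 98735 ru2013 rc2014 rfl
theorem ru2015 : ∀ i, i < 98784 → fr i = true := below_step fr 98735 49 98784 ru2014 rc2015 rfl
theorem ru2016 : ∀ i, i < 98833 → fr i = true := below_step fr 98784 49 98833 ru2015 rc2016 rfl
theorem ru2017 : ∀ i, i < 98882 → fr i = true := below_step fr 98833 49 98882 ru2016 rc2017 rfl
theorem ru2018 : ∀ i, i < 98931 → fr i = true := below_step fr 98882 49 98931 ru2017 rc2018 rfl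
theorem ru2019 : ∀ i, i < 98980 → fr i = true := below_step fr 98931 49 98980 ru2018 rc2019 rfl
theorem ru2020 : ∀ i, i < 99029 → fr i = true := below_step fr 98980 49 99029 ru2019 rc2020 rfl
theorem ru2021 : ∀ i, i < 99078 → fr i = true := below_step fr 99029 49 99078 ru2020 rc2021 rfl
theorem ru2022 : ∀ i, i < 99127 → fr i = true := below_step fr 99078 49 99127 ru2021 rc2022 rfl
theorem ru2023 : ∀ i, i < 99176 → fr i = true := below_step fr 99127 49 99176 ru2022 rc2023 rfl
theorem ru2024 : ∀ i, i < 99225 → fr i = true := below_step fr 99176 49 99225 ru2023 rc2024 rfl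
theorem ru2025 : ∀ i, i < 99274 → fr i = true := below_step fr 99225 49 99274 ru2024 rc2025 rfl
theorem ru2026 : ∀ i, i < 99323 → fr i = true := below_step fr 99274 49 99323 ru2025 rc2026 rfl
theorem ru2027 : ∀ i, i < 99372 → fr i = true := below_step fr 99323 49 99372 ru2026 rc2027 rfl
theorem ru2028 : ∀ i, i < 99421 → fr i = true := below_step fr 99372 49 99421 ru2027 rc2028 rfl
theorem ru2029 : ∀ i, i < 99470 → fr i = true := below_step fr 99421 49 99470 ru2028 rc2029 rfl
theorem ru2030 : ∀ i, i < 99519 → fr i = true := below_step fr 99470 49 99519 ru2029 rc2030 rfl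
theorem ru2031 : ∀ i, i < 99568 → fr i = true := below_step fr 99519 49 99568 ru2030 rc2031 rfl
theorem ru2032 : ∀ i, i < 99617 → fr i = true := below_step fr 99568 49 99617 ru2031 rc2032 rfl
theorem ru2033 : ∀ i, i < 99666 → fr i = true := below_step fr 99617 49 99666 ru2032 rc2033 rfl
theorem ru2034 : ∀ i, i < 99715 → fr i = true := below_step fr 99666 49 99715 ru2033 rc2034 rfl
theorem ru2035 : ∀ i, i < 99764 → fr i = true := below_step fr 99715 49 99764 ru2034 rc2035 rfl
theorem ru2036 : ∀ i, i < 99813 → fr i = true := below_step fr 99764 49 99813 ru2035 rc2036 rfl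
theorem ru2037 : ∀ i, i < 99862 → fr i = true := below_step fr 99813 49 99862 ru2036 rc2037 rfl
theorem ru2038 : ∀ i, i < 99911 → fr i = true := below_step fr 99862 49 99911 ru2037 rc2038 rfl
theorem ru2039 : ∀ i, i < 99960 → fr i = true := below_step fr 99911 49 99960 ru2038 rc2039 rfl
theorem ru2040 : ∀ i, i < 100009 → fr i = true := below_step fr 99960 49 100009 ru2039 rc2040 rfl
theorem ru2041 : ∀ i, i < 100058 → fr i = true := below_step fr 100009 49 100058 ru2040 rc2041 rfl
theorem ru2042 : ∀ i, i < 100107 → fr i = true := below_step fr 100058 49 100107 ru2041 rc2042 rfl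
theorem ru2043 : ∀ i, i < 100156 → fr i = true := below_step fr 100107 49 100156 ru2042 rc2043 rfl
theorem ru2044 : ∀ i, i < 100205 → fr i = true := below_step fr 100156 49 100205 ru2043 rc2044 rfl
theorem ru2045 : ∀ i, i < 100254 → fr i = true := below_step fr 100205 49 100254 ru2044 rc2045 rfl
theorem ru2046 : ∀ i, i < 100303 → fr i = true := below_step fr 100254 49 100303 ru2045 rc2046 rfl
theorem ru2047 : ∀ i, i < 100352 → fr i = true := below_step fr 100303 49 100352 ru2046 rc2047 rfl
theorem ru2048 : ∀ i, i < 100401 → fr i = true := below_step fr 100352 49 100401 ru2047 rc2048 rfl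
theorem ru2049 : ∀ i, i < 100450 → fr i = true := below_step fr 100401 49 100450 ru2048 rc2049 rfl
theorem ru2050 : ∀ i, i < 100499 → fr i = true := below_step fr 100450 49 100499 ru2049 rc2050 rfl
theorem ru2051 : ∀ i, i < 100548 → fr i = true := below_step fr 100499 49 100548 ru2050 rc2051 rfl
theorem ru2052 : ∀ i, i < 100597 → fr i = true := below_step fr 100548 49 100597 ru2051 rc2052 rfl
theorem ru2053 : ∀ i, i < 100646 → fr i = true := below_step fr 100597 49 100646 ru2052 rc2053 rfl
theorem ru2054 : ∀ i, i < 100695 → fr i = true := below_step fr 100646 49 100695 ru2053 rc2054 rfl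
theorem ru2055 : ∀ i, i < 100744 → fr i = true := below_step fr 100695 49 100744 ru2054 rc2055 rfl
theorem ru2056 : ∀ i, i < 100793 → fr i = true := below_step fr 100744 49 100793 ru2055 rc2056 rfl
theorem ru2057 : ∀ i, i < 100842 → fr i = true := below_step fr 100793 49 100842 ru2056 rc2057 rfl
theorem ru2058 : ∀ i, i < 100891 → fr i = true := below_step fr 100842 49 100891 ru2057 rc2058 rfl
theorem ru2059 : ∀ i, i < 100940 → fr i = true := below_step fr 100891 49 100940 ru2058 rc2059 rfl
theorem ru2060 : ∀ i, i < 100989 → fr i = true := below_step fr 100940 49 100989 ru2059 rc2060 rfl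
theorem ru2061 : ∀ i, i < 101038 → fr i = true := below_step fr 100989 49 101038 ru2060 rc2061 rfl
theorem ru2062 : ∀ i, i < 101087 → fr i = true := below_step fr 101038 49 101087 ru2061 rc2062 rfl
theorem ru2063 : ∀ i, i < 101136 → fr i = true := below_step fr 101087 49 101136 ru2062 rc2063 rfl
theorem ru2064 : ∀ i, i < 101185 → fr i = true := below_step fr 101136 49 101185 ru2063 rc2064 rfl
theorem ru2065 : ∀ i, i < 101234 → fr i = true := below_step fr 101185 49 101234 ru2064 rc2065 rfl
theorem ru2066 : ∀ i, i < 101283 → fr i = true := below_step fr 101234 49 101283 ru2065 rc2066 rfl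
theorem ru2067 : ∀ i, i < 101332 → fr i = true := below_step fr 101283 49 101332 ru2066 rc2067 rfl
theorem ru2068 : ∀ i, i < 101381 → fr i = true := below_step fr 101332 49 101381 ru2067 rc2068 rfl
theorem ru2069 : ∀ i, i < 101430 → fr i = true := below_step fr 101381 49 101430 ru2068 rc2069 rfl
theorem ru2070 : ∀ i, i < 101479 → fr i = true := below_step fr 101430 49 101479 ru2069 rc2070 rfl
theorem ru2071 : ∀ i, i < 101528 → fr i = true := below_step fr 101479 49 101528 ru2070 rc2071 rfl
theorem ru2072 : ∀ i, i < 101577 → fr i = true := below_step fr 101528 49 101577 ru2071 rc2072 rfl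
theorem ru2073 : ∀ i, i < 101626 → fr i = true := below_step fr 101577 49 101626 ru2072 rc2073 rfl
theorem ru2074 : ∀ i, i < 101675 → fr i = true := below_step fr 101626 49 101675 ru2073 rc2074 rfl
theorem ru2075 : ∀ i, i < 101724 → fr i = true := below_step fr 101675 49 101724 ru2074 rc2075 rfl
theorem ru2076 : ∀ i, i < 101773 → fr i = true := below_step fr 101724 49 101773 ru2075 rc2076 rfl
theorem ru2077 : ∀ i, i < 101822 → fr i = true := below_step fr 101773 49 101822 ru2076 rc2077 rfl
theorem ru2078 : ∀ i, i < 101871 → fr i = true := below_step fr 101822 49 101871 ru2077 rc2078 rfl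
theorem ru2079 : ∀ i, i < 101920 → fr i = true := below_step fr 101871 49 101920 ru2078 rc2079 rfl
theorem ru2080 : ∀ i, i < 101969 → fr i = true := below_step fr 101920 49 101969 ru2079 rc2080 rfl
theorem ru2081 : ∀ i, i < 102018 → fr i = true := below_step fr 101969 49 102018 ru2080 rc2081 rfl
theorem ru2082 : ∀ i, i < 102067 → fr i = true := below_step fr 102018 49 102067 ru2081 rc2082 rfl
theorem ru2083 : ∀ i, i < 102116 → fr i = true := below_step fr 102067 49 102116 ru2082 rc2083 rfl
theorem ru2084 : ∀ i, i < 102165 → fr i = true := below_step fr 102116 49 102165 ru2083 rc2084 rfl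
theorem ru2085 : ∀ i, i < 102214 → fr i = true := below_step fr 102165 49 102214 ru2084 rc2085 rfl
theorem ru2086 : ∀ i, i < 102263 → fr i = true := below_step fr 102214 49 102263 ru2085 rc2086 rfl
theorem ru2087 : ∀ i, i < 102312 → fr i = true := below_step fr 102263 49 102312 ru2086 rc2087 rfl
theorem ru2088 : ∀ i, i < 102361 → fr i = true := below_step fr 102312 49 102361 ru2087 rc2088 rfl
theorem ru2089 : ∀ i, i < 102410 → fr i = true := below_step fr 102361 49 102410 ru2088 rc2089 rfl
theorem ru2090 : ∀ i, i < 102459 → fr i = true := below_step fr 102410 49 102459 ru2089 rc2090 rfl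
theorem ru2091 : ∀ i, i < 102508 → fr i = true := below_step fr 102459 49 102508 ru2090 rc2091 rfl
theorem ru2092 : ∀ i, i < 102557 → fr i = true := below_step fr 102508 49 102557 ru2091 rc2092 rfl
theorem ru2093 : ∀ i, i < 102606 → fr i = true := below_step fr 102557 49 102606 ru2092 rc2093 rfl
theorem ru2094 : ∀ i, i < 102655 → fr i = true := below_step fr 102606 49 102655 ru2093 rc2094 rfl
theorem ru2095 : ∀ i, i < 102704 → fr i = true := below_step fr 102655 49 102704 ru2094 rc2095 rfl
theorem ru2096 : ∀ i, i < 102753 → fr i = true := below_step fr 102704 49 102753 ru2095 rc2096 rfl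
theorem ru2097 : ∀ i, i < 102802 → fr i = true := below_step fr 102753 49 102802 ru2096 rc2097 rfl
theorem ru2098 : ∀ i, i < 102851 → fr i = true := below_step fr 102802 49 102851 ru2097 rc2098 rfl
theorem ru2099 : ∀ i, i < 102900 → fr i = true := below_step fr 102851 49 102900 ru2098 rc2099 rfl
theorem ru2100 : ∀ i, i < 102949 → fr i = true := below_step fr 102900 49 102949 ru2099 rc2100 rfl
theorem ru2101 : ∀ i, i < 102998 → fr i = true := below_step fr 102949 49 102998 ru2100 rc2101 rfl
theorem ru2102 : ∀ i, i < 103047 → fr i = true := below_step fr 102998 49 103047 ru2101 rc2102 rfl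
theorem ru2103 : ∀ i, i < 103096 → fr i = true := below_step fr 103047 49 103096 ru2102 rc2103 rfl
theorem ru2104 : ∀ i, i < 103145 → fr i = true := below_step fr 103096 49 103145 ru2103 rc2104 rfl
theorem ru2105 : ∀ i, i < 103194 → fr i = true := below_step fr 103145 49 103194 ru2104 rc2105 rfl
theorem ru2106 : ∀ i, i < 103243 → fr i = true := below_step fr 103194 49 103243 ru2105 rc2106 rfl
theorem ru2107 : ∀ i, i < 103292 → fr i = true := below_step fr 103243 49 103292 ru2106 rc2107 rfl
theorem ru2108 : ∀ i, i < 103341 → fr i = true := below_step fr 103292 49 103341 ru2107 rc2108 rfl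
theorem ru2109 : ∀ i, i < 103390 → fr i = true := below_step fr 103341 49 103390 ru2108 rc2109 rfl
theorem ru2110 : ∀ i, i < 103439 → fr i = true := below_step fr 103390 49 103439 ru2109 rc2110 rfl
theorem ru2111 : ∀ i, i < 103488 → fr i = true := below_step fr 103439 49 103488 ru2110 rc2111 rfl
theorem ru2112 : ∀ i, i < 103537 → fr i = true := below_step fr 103488 49 103537 ru2111 rc2112 rfl
theorem ru2113 : ∀ i, i < 103586 → fr i = true := below_step fr 103537 49 103586 ru2112 rc2113 rfl
theorem ru2114 : ∀ i, i < 103635 → fr i = true := below_step fr 103586 49 103635 ru2113 rc2114 rfl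
theorem ru2115 : ∀ i, i < 103684 → fr i = true := below_step fr 103635 49 103684 ru2114 rc2115 rfl
theorem ru2116 : ∀ i, i < 103733 → fr i = true := below_step fr 103684 49 103733 ru2115 rc2116 rfl
theorem ru2117 : ∀ i, i < 103782 → fr i = true := below_step fr 103733 49 103782 ru2116 rc2117 rfl
theorem ru2118 : ∀ i, i < 103831 → fr i = true := below_step fr 103782 49 103831 ru2117 rc2118 rfl
theorem ru2119 : ∀ i, i < 103880 → fr i = true := below_step fr 103831 49 103880 ru2118 rc2119 rfl
theorem ru2120 : ∀ i, i < 103929 → fr i = true := below_step fr 103880 49 103929 ru2119 rc2120 rfl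
theorem ru2121 : ∀ i, i < 103978 → fr i = true := below_step fr 103929 49 103978 ru2120 rc2121 rfl
theorem ru2122 : ∀ i, i < 104027 → fr i = true := below_step fr 103978 49 104027 ru2121 rc2122 rfl
theorem ru2123 : ∀ i, i < 104076 → fr i = true := below_step fr 104027 49 104076 ru2122 rc2123 rfl
theorem ru2124 : ∀ i, i < 104125 → fr i = true := below_step fr 104076 49 104125 ru2123 rc2124 rfl
theorem ru2125 : ∀ i, i < 104174 → fr i = true := below_step fr 104125 49 104174 ru2124 rc2125 rfl
theorem ru2126 : ∀ i, i < 104223 → fr i = true := below_step fr 104174 49 104223 ru2125 rc2126 rfl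
theorem ru2127 : ∀ i, i < 104272 → fr i = true := below_step fr 104223 49 104272 ru2126 rc2127 rfl
theorem ru2128 : ∀ i, i < 104321 → fr i = true := below_step fr 104272 49 104321 ru2127 rc2128 rfl
theorem ru2129 : ∀ i, i < 104370 → fr i = true := below_step fr 104321 49 104370 ru2128 rc2129 rfl
theorem ru2130 : ∀ i, i < 104419 → fr i = true := below_step fr 104370 49 104419 ru2129 rc2130 rfl
theorem ru2131 : ∀ i, i < 104468 → fr i = true := below_step fr 104419 49 104468 ru2130 rc2131 rfl
theorem ru2132 : ∀ i, i < 104517 → fr i = true := below_step fr 104468 49 104517 ru2131 rc2132 rfl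
theorem ru2133 : ∀ i, i < 104566 → fr i = true := below_step fr 104517 49 104566 ru2132 rc2133 rfl
theorem ru2134 : ∀ i, i < 104615 → fr i = true := below_step fr 104566 49 104615 ru2133 rc2134 rfl
theorem ru2135 : ∀ i, i < 104664 → fr i = true := below_step fr 104615 49 104664 ru2134 rc2135 rfl
theorem ru2136 : ∀ i, i < 104713 → fr i = true := below_step fr 104664 49 104713 ru2135 rc2136 rfl
theorem ru2137 : ∀ i, i < 104762 → fr i = true := below_step fr 104713 49 104762 ru2136 rc2137 rfl
theorem ru2138 : ∀ i, i < 104811 → fr i = true := below_step fr 104762 49 104811 ru2137 rc2138 rfl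
theorem ru2139 : ∀ i, i < 104860 → fr i = true := below_step fr 104811 49 104860 ru2138 rc2139 rfl
theorem ru2140 : ∀ i, i < 104909 → fr i = true := below_step fr 104860 49 104909 ru2139 rc2140 rfl
theorem ru2141 : ∀ i, i < 104958 → fr i = true := below_step fr 104909 49 104958 ru2140 rc2141 rfl
theorem ru2142 : ∀ i, i < 105007 → fr i = true := below_step fr 104958 49 105007 ru2141 rc2142 rfl
theorem ru2143 : ∀ i, i < 105056 → fr i = true := below_step fr 105007 49 105056 ru2142 rc2143 rfl
theorem ru2144 : ∀ i, i < 105105 → fr i = true := below_step fr 105056 49 105105 ru2143 rc2144 rfl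
theorem ru2145 : ∀ i, i < 105154 → fr i = true := below_step fr 105105 49 105154 ru2144 rc2145 rfl
theorem ru2146 : ∀ i, i < 105203 → fr i = true := below_step fr 105154 49 105203 ru2145 rc2146 rfl
theorem ru2147 : ∀ i, i < 105252 → fr i = true := below_step fr 105203 49 105252 ru2146 rc2147 rfl
theorem ru2148 : ∀ i, i < 105301 → fr i = true := below_step fr 105252 49 105301 ru2147 rc2148 rfl
theorem ru2149 : ∀ i, i < 105350 → fr i = true := below_step fr 105301 49 105350 ru2148 rc2149 rfl
theorem ru2150 : ∀ i, i < 105399 → fr i = true := below_step fr 105350 49 105399 ru2149 rc2150 rfl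
theorem ru2151 : ∀ i, i < 105448 → fr i = true := below_step fr 105399 49 105448 ru2150 rc2151 rfl
theorem ru2152 : ∀ i, i < 105497 → fr i = true := below_step fr 105448 49 105497 ru2151 rc2152 rfl
theorem ru2153 : ∀ i, i < 105546 → fr i = true := below_step fr 105497 49 105546 ru2152 rc2153 rfl
theorem ru2154 : ∀ i, i < 105595 → fr i = true := below_step fr 105546 49 105595 ru2153 rc2154 rfl
theorem ru2155 : ∀ i, i < 105644 → fr i = true := below_step fr 105595 49 105644 ru2154 rc2155 rfl
theorem ru2156 : ∀ i, i < 105693 → fr i = true := below_step fr 105644 49 105693 ru2155 rc2156 rfl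
theorem ru2157 : ∀ i, i < 105742 → fr i = true := below_step fr 105693 49 105742 ru2156 rc2157 rfl
theorem ru2158 : ∀ i, i < 105791 → fr i = true := below_step fr 105742 49 105791 ru2157 rc2158 rfl
theorem ru2159 : ∀ i, i < 105840 → fr i = true := below_step fr 105791 49 105840 ru2158 rc2159 rfl
theorem ru2160 : ∀ i, i < 105889 → fr i = true := below_step fr 105840 49 105889 ru2159 rc2160 rfl
theorem ru2161 : ∀ i, i < 105938 → fr i = true := below_step fr 105889 49 105938 ru2160 rc2161 rfl
theorem ru2162 : ∀ i, i < 105987 → fr i = true := below_step fr 105938 49 105987 ru2161 rc2162 rfl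
theorem ru2163 : ∀ i, i < 106036 → fr i = true := below_step fr 105987 49 106036 ru2162 rc2163 rfl
theorem ru2164 : ∀ i, i < 106085 → fr i = true := below_step fr 106036 49 106085 ru2163 rc2164 rfl
theorem ru2165 : ∀ i, i < 106134 → fr i = true := below_step fr 106085 49 106134 ru2164 rc2165 rfl
theorem ru2166 : ∀ i, i < 106183 → fr i = true := below_step fr 106134 49 106183 ru2165 rc2166 rfl
theorem ru2167 : ∀ i, i < 106232 → fr i = true := below_step fr 106183 49 106232 ru2166 rc2167 rfl
theorem ru2168 : ∀ i, i < 106281 → fr i = true := below_step fr 106232 49 106281 ru2167 rc2168 rfl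
theorem ru2169 : ∀ i, i < 106330 → fr i = true := below_step fr 106281 49 106330 ru2168 rc2169 rfl
theorem ru2170 : ∀ i, i < 106379 → fr i = true := below_step fr 106330 49 106379 ru2169 rc2170 rfl
theorem ru2171 : ∀ i, i < 106428 → fr i = true := below_step fr 106379 49 106428 ru2170 rc2171 rfl
theorem ru2172 : ∀ i, i < 106477 → fr i = true := below_step fr 106428 49 106477 ru2171 rc2172 rfl
theorem ru2173 : ∀ i, i < 106526 → fr i = true := below_step fr 106477 49 106526 ru2172 rc2173 rfl
theorem ru2174 : ∀ i, i < 106575 → fr i = true := below_step fr 106526 49 106575 ru2173 rc2174 rfl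
theorem ru2175 : ∀ i, i < 106624 → fr i = true := below_step fr 106575 49 106624 ru2174 rc2175 rfl
theorem ru2176 : ∀ i, i < 106673 → fr i = true := below_step fr 106624 49 106673 ru2175 rc2176 rfl
theorem ru2177 : ∀ i, i < 106722 → fr i = true := below_step fr 106673 49 106722 ru2176 rc2177 rfl
theorem ru2178 : ∀ i, i < 106771 → fr i = true := below_step fr 106722 49 106771 ru2177 rc2178 rfl
theorem ru2179 : ∀ i, i < 106820 → fr i = true := below_step fr 106771 49 106820 ru2178 rc2179 rfl
theorem ru2180 : ∀ i, i < 106869 → fr i = true := below_step fr 106820 49 106869 ru2179 rc2180 rfl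
theorem ru2181 : ∀ i, i < 106918 → fr i = true := below_step fr 106869 49 106918 ru2180 rc2181 rfl
theorem ru2182 : ∀ i, i < 106967 → fr i = true := below_step fr 106918 49 106967 ru2181 rc2182 rfl
theorem ru2183 : ∀ i, i < 107016 → fr i = true := below_step fr 106967 49 107016 ru2182 rc2183 rfl
theorem ru2184 : ∀ i, i < 107065 → fr i = true := below_step fr 107016 49 107065 ru2183 rc2184 rfl
theorem ru2185 : ∀ i, i < 107114 → fr i = true := below_step fr 107065 49 107114 ru2184 rc2185 rfl
theorem ru2186 : ∀ i, i < 107163 → fr i = true := below_step fr 107114 49 107163 ru2185 rc2186 rfl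
theorem ru2187 : ∀ i, i < 107212 → fr i = true := below_step fr 107163 49 107212 ru2186 rc2187 rfl
theorem ru2188 : ∀ i, i < 107261 → fr i = true := below_step fr 107212 49 107261 ru2187 rc2188 rfl
theorem ru2189 : ∀ i, i < 107310 → fr i = true := below_step fr 107261 49 107310 ru2188 rc2189 rfl
theorem ru2190 : ∀ i, i < 107359 → fr i = true := below_step fr 107310 49 107359 ru2189 rc2190 rfl
theorem ru2191 : ∀ i, i < 107408 → fr i = true := below_step fr 107359 49 107408 ru2190 rc2191 rfl
theorem ru2192 : ∀ i, i < 107457 → fr i = true := below_step fr 107408 49 107457 ru2191 rc2192 rfl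
theorem ru2193 : ∀ i, i < 107506 → fr i = true := below_step fr 107457 49 107506 ru2192 rc2193 rfl
theorem ru2194 : ∀ i, i < 107555 → fr i = true := below_step fr 107506 49 107555 ru2193 rc2194 rfl
theorem ru2195 : ∀ i, i < 107604 → fr i = true := below_step fr 107555 49 107604 ru2194 rc2195 rfl
theorem ru2196 : ∀ i, i < 107653 → fr i = true := below_step fr 107604 49 107653 ru2195 rc2196 rfl
theorem ru2197 : ∀ i, i < 107702 → fr i = true := below_step fr 107653 49 107702 ru2196 rc2197 rfl
theorem ru2198 : ∀ i, i < 107751 → fr i = true := below_step fr 107702 49 107751 ru2197 rc2198 rfl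
theorem ru2199 : ∀ i, i < 107800 → fr i = true := below_step fr 107751 49 107800 ru2198 rc2199 rfl
theorem ru2200 : ∀ i, i < 107849 → fr i = true := below_step fr 107800 49 107849 ru2199 rc2200 rfl
theorem ru2201 : ∀ i, i < 107898 → fr i = true := below_step fr 107849 49 107898 ru2200 rc2201 rfl
theorem ru2202 : ∀ i, i < 107947 → fr i = true := below_step fr 107898 49 107947 ru2201 rc2202 rfl
theorem ru2203 : ∀ i, i < 107996 → fr i = true := below_step fr 107947 49 107996 ru2202 rc2203 rfl
theorem ru2204 : ∀ i, i < 108045 → fr i = true := below_step fr 107996 49 108045 ru2203 rc2204 rfl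
theorem ru2205 : ∀ i, i < 108094 → fr i = true := below_step fr 108045 49 108094 ru2204 rc2205 rfl
theorem ru2206 : ∀ i, i < 108143 → fr i = true := below_step fr 108094 49 108143 ru2205 rc2206 rfl
theorem ru2207 : ∀ i, i < 108192 → fr i = true := below_step fr 108143 49 108192 ru2206 rc2207 rfl
theorem ru2208 : ∀ i, i < 108241 → fr i = true := below_step fr 108192 49 108241 ru2207 rc2208 rfl
theorem ru2209 : ∀ i, i < 108290 → fr i = true := below_step fr 108241 49 108290 ru2208 rc2209 rfl
theorem ru2210 : ∀ i, i < 108339 → fr i = true := below_step fr 108290 49 108339 ru2209 rc2210 rfl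
theorem ru2211 : ∀ i, i < 108388 → fr i = true := below_step fr 108339 49 108388 ru2210 rc2211 rfl
theorem ru2212 : ∀ i, i < 108437 → fr i = true := below_step fr 108388 49 108437 ru2211 rc2212 rfl
theorem ru2213 : ∀ i, i < 108486 → fr i = true := below_step fr 108437 49 108486 ru2212 rc2213 rfl
theorem ru2214 : ∀ i, i < 108535 → fr i = true := below_step fr 108486 49 108535 ru2213 rc2214 rfl
theorem ru2215 : ∀ i, i < 108584 → fr i = true := below_step fr 108535 49 108584 ru2214 rc2215 rfl
theorem ru2216 : ∀ i, i < 108633 → fr i = true := below_step fr 108584 49 108633 ru2215 rc2216 rfl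
theorem ru2217 : ∀ i, i < 108682 → fr i = true := below_step fr 108633 49 108682 ru2216 rc2217 rfl
theorem ru2218 : ∀ i, i < 108731 → fr i = true := below_step fr 108682 49 108731 ru2217 rc2218 rfl
theorem ru2219 : ∀ i, i < 108780 → fr i = true := below_step fr 108731 49 108780 ru2218 rc2219 rfl
theorem ru2220 : ∀ i, i < 108829 → fr i = true := below_step fr 108780 49 108829 ru2219 rc2220 rfl
theorem ru2221 : ∀ i, i < 108878 → fr i = true := below_step fr 108829 49 108878 ru2220 rc2221 rfl
theorem ru2222 : ∀ i, i < 108927 → fr i = true := below_step fr 108878 49 108927 ru2221 rc2222 rfl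
theorem ru2223 : ∀ i, i < 108976 → fr i = true := below_step fr 108927 49 108976 ru2222 rc2223 rfl
theorem ru2224 : ∀ i, i < 109025 → fr i = true := below_step fr 108976 49 109025 ru2223 rc2224 rfl
theorem ru2225 : ∀ i, i < 109074 → fr i = true := below_step fr 109025 49 109074 ru2224 rc2225 rfl
theorem ru2226 : ∀ i, i < 109123 → fr i = true := below_step fr 109074 49 109123 ru2225 rc2226 rfl
theorem ru2227 : ∀ i, i < 109172 → fr i = true := below_step fr 109123 49 109172 ru2226 rc2227 rfl
theorem ru2228 : ∀ i, i < 109221 → fr i = true := below_step fr 109172 49 109221 ru2227 rc2228 rfl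
theorem ru2229 : ∀ i, i < 109270 → fr i = true := below_step fr 109221 49 109270 ru2228 rc2229 rfl
theorem ru2230 : ∀ i, i < 109319 → fr i = true := below_step fr 109270 49 109319 ru2229 rc2230 rfl
theorem ru2231 : ∀ i, i < 109368 → fr i = true := below_step fr 109319 49 109368 ru2230 rc2231 rfl
theorem ru2232 : ∀ i, i < 109417 → fr i = true := below_step fr 109368 49 109417 ru2231 rc2232 rfl
theorem ru2233 : ∀ i, i < 109466 → fr i = true := below_step fr 109417 49 109466 ru2232 rc2233 rfl
theorem ru2234 : ∀ i, i < 109515 → fr i = true := below_step fr 109466 49 109515 ru2233 rc2234 rfl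
theorem ru2235 : ∀ i, i < 109564 → fr i = true := below_step fr 109515 49 109564 ru2234 rc2235 rfl
theorem ru2236 : ∀ i, i < 109613 → fr i = true := below_step fr 109564 49 109613 ru2235 rc2236 rfl
theorem ru2237 : ∀ i, i < 109662 → fr i = true := below_step fr 109613 49 109662 ru2236 rc2237 rfl
theorem ru2238 : ∀ i, i < 109711 → fr i = true := below_step fr 109662 49 109711 ru2237 rc2238 rfl
theorem ru2239 : ∀ i, i < 109760 → fr i = true := below_step fr 109711 49 109760 ru2238 rc2239 rfl
theorem ru2240 : ∀ i, i < 109809 → fr i = true := below_step fr 109760 49 109809 ru2239 rc2240 rfl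
theorem ru2241 : ∀ i, i < 109858 → fr i = true := below_step fr 109809 49 109858 ru2240 rc2241 rfl
theorem ru2242 : ∀ i, i < 109907 → fr i = true := below_step fr 109858 49 109907 ru2241 rc2242 rfl
theorem ru2243 : ∀ i, i < 109956 → fr i = true := below_step fr 109907 49 109956 ru2242 rc2243 rfl
theorem ru2244 : ∀ i, i < 110005 → fr i = true := below_step fr 109956 49 110005 ru2243 rc2244 rfl
theorem ru2245 : ∀ i, i < 110054 → fr i = true := below_step fr 110005 49 110054 ru2244 rc2245 rfl
theorem ru2246 : ∀ i, i < 110103 → fr i = true := below_step fr 110054 49 110103 ru2245 rc2246 rfl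
theorem ru2247 : ∀ i, i < 110152 → fr i = true := below_step fr 110103 49 110152 ru2246 rc2247 rfl
theorem ru2248 : ∀ i, i < 110201 → fr i = true := below_step fr 110152 49 110201 ru2247 rc2248 rfl
theorem ru2249 : ∀ i, i < 110250 → fr i = true := below_step fr 110201 49 110250 ru2248 rc2249 rfl
theorem ru2250 : ∀ i, i < 110299 → fr i = true := below_step fr 110250 49 110299 ru2249 rc2250 rfl
theorem ru2251 : ∀ i, i < 110348 → fr i = true := below_step fr 110299 49 110348 ru2250 rc2251 rfl
theorem ru2252 : ∀ i, i < 110397 → fr i = true := below_step fr 110348 49 110397 ru2251 rc2252 rfl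
theorem ru2253 : ∀ i, i < 110446 → fr i = true := below_step fr 110397 49 110446 ru2252 rc2253 rfl
theorem ru2254 : ∀ i, i < 110495 → fr i = true := below_step fr 110446 49 110495 ru2253 rc2254 rfl
theorem ru2255 : ∀ i, i < 110544 → fr i = true := below_step fr 110495 49 110544 ru2254 rc2255 rfl
theorem ru2256 : ∀ i, i < 110593 → fr i = true := below_step fr 110544 49 110593 ru2255 rc2256 rfl
theorem ru2257 : ∀ i, i < 110642 → fr i = true := below_step fr 110593 49 110642 ru2256 rc2257 rfl
theorem ru2258 : ∀ i, i < 110691 → fr i = true := below_step fr 110642 49 110691 ru2257 rc2258 rfl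
theorem ru2259 : ∀ i, i < 110740 → fr i = true := below_step fr 110691 49 110740 ru2258 rc2259 rfl
theorem ru2260 : ∀ i, i < 110789 → fr i = true := below_step fr 110740 49 110789 ru2259 rc2260 rfl
theorem ru2261 : ∀ i, i < 110838 → fr i = true := below_step fr 110789 49 110838 ru2260 rc2261 rfl
theorem ru2262 : ∀ i, i < 110887 → fr i = true := below_step fr 110838 49 110887 ru2261 rc2262 rfl
theorem ru2263 : ∀ i, i < 110936 → fr i = true := below_step fr 110887 49 110936 ru2262 rc2263 rfl
theorem ru2264 : ∀ i, i < 110985 → fr i = true := below_step fr 110936 49 110985 ru2263 rc2264 rfl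
theorem ru2265 : ∀ i, i < 111034 → fr i = true := below_step fr 110985 49 111034 ru2264 rc2265 rfl
theorem ru2266 : ∀ i, i < 111083 → fr i = true := below_step fr 111034 49 111083 ru2265 rc2266 rfl
theorem ru2267 : ∀ i, i < 111132 → fr i = true := below_step fr 111083 49 111132 ru2266 rc2267 rfl
theorem ru2268 : ∀ i, i < 111181 → fr i = true := below_step fr 111132 49 111181 ru2267 rc2268 rfl
theorem ru2269 : ∀ i, i < 111230 → fr i = true := below_step fr 111181 49 111230 ru2268 rc2269 rfl
theorem ru2270 : ∀ i, i < 111279 → fr i = true := below_step fr 111230 49 111279 ru2269 rc2270 rfl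
theorem ru2271 : ∀ i, i < 111328 → fr i = true := below_step fr 111279 49 111328 ru2270 rc2271 rfl
theorem ru2272 : ∀ i, i < 111377 → fr i = true := below_step fr 111328 49 111377 ru2271 rc2272 rfl
theorem ru2273 : ∀ i, i < 111426 → fr i = true := below_step fr 111377 49 111426 ru2272 rc2273 rfl
theorem ru2274 : ∀ i, i < 111475 → fr i = true := below_step fr 111426 49 111475 ru2273 rc2274 rfl
theorem ru2275 : ∀ i, i < 111524 → fr i = true := below_step fr 111475 49 111524 ru2274 rc2275 rfl
theorem ru2276 : ∀ i, i < 111573 → fr i = true := below_step fr 111524 49 111573 ru2275 rc2276 rfl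
theorem ru2277 : ∀ i, i < 111622 → fr i = true := below_step fr 111573 49 111622 ru2276 rc2277 rfl
theorem ru2278 : ∀ i, i < 111671 → fr i = true := below_step fr 111622 49 111671 ru2277 rc2278 rfl
theorem ru2279 : ∀ i, i < 111720 → fr i = true := below_step fr 111671 49 111720 ru2278 rc2279 rfl
theorem ru2280 : ∀ i, i < 111769 → fr i = true := below_step fr 111720 49 111769 ru2279 rc2280 rfl
theorem ru2281 : ∀ i, i < 111818 → fr i = true := below_step fr 111769 49 111818 ru2280 rc2281 rfl
theorem ru2282 : ∀ i, i < 111867 → fr i = true := below_step fr 111818 49 111867 ru2281 rc2282 rfl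
theorem ru2283 : ∀ i, i < 111916 → fr i = true := below_step fr 111867 49 111916 ru2282 rc2283 rfl
theorem ru2284 : ∀ i, i < 111965 → fr i = true := below_step fr 111916 49 111965 ru2283 rc2284 rfl
theorem ru2285 : ∀ i, i < 112014 → fr i = true := below_step fr 111965 49 112014 ru2284 rc2285 rfl
theorem ru2286 : ∀ i, i < 112063 → fr i = true := below_step fr 112014 49 112063 ru2285 rc2286 rfl
theorem ru2287 : ∀ i, i < 112112 → fr i = true := below_step fr 112063 49 112112 ru2286 rc2287 rfl
theorem ru2288 : ∀ i, i < 112161 → fr i = true := below_step fr 112112 49 112161 ru2287 rc2288 rfl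
theorem ru2289 : ∀ i, i < 112210 → fr i = true := below_step fr 112161 49 112210 ru2288 rc2289 rfl
theorem ru2290 : ∀ i, i < 112259 → fr i = true := below_step fr 112210 49 112259 ru2289 rc2290 rfl
theorem ru2291 : ∀ i, i < 112308 → fr i = true := below_step fr 112259 49 112308 ru2290 rc2291 rfl
theorem ru2292 : ∀ i, i < 112357 → fr i = true := below_step fr 112308 49 112357 ru2291 rc2292 rfl
theorem ru2293 : ∀ i, i < 112406 → fr i = true := below_step fr 112357 49 112406 ru2292 rc2293 rfl
theorem ru2294 : ∀ i, i < 112455 → fr i = true := below_step fr 112406 49 112455 ru2293 rc2294 rfl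
theorem ru2295 : ∀ i, i < 112504 → fr i = true := below_step fr 112455 49 112504 ru2294 rc2295 rfl
theorem ru2296 : ∀ i, i < 112553 → fr i = true := below_step fr 112504 49 112553 ru2295 rc2296 rfl
theorem ru2297 : ∀ i, i < 112602 → fr i = true := below_step fr 112553 49 112602 ru2296 rc2297 rfl
theorem ru2298 : ∀ i, i < 112651 → fr i = true := below_step fr 112602 49 112651 ru2297 rc2298 rfl
theorem ru2299 : ∀ i, i < 112700 → fr i = true := below_step fr 112651 49 112700 ru2298 rc2299 rfl
theorem ru2300 : ∀ i, i < 112749 → fr i = true := below_step fr 112700 49 112749 ru2299 rc2300 rfl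
theorem ru2301 : ∀ i, i < 112798 → fr i = true := below_step fr 112749 49 112798 ru2300 rc2301 rfl
theorem ru2302 : ∀ i, i < 112847 → fr i = true := below_step fr 112798 49 112847 ru2301 rc2302 rfl
theorem ru2303 : ∀ i, i < 112896 → fr i = true := below_step fr 112847 49 112896 ru2302 rc2303 rfl
theorem ru2304 : ∀ i, i < 112945 → fr i = true := below_step fr 112896 49 112945 ru2303 rc2304 rfl
theorem ru2305 : ∀ i, i < 112994 → fr i = true := below_step fr 112945 49 112994 ru2304 rc2305 rfl
theorem ru2306 : ∀ i, i < 113043 → fr i = true := below_step fr 112994 49 113043 ru2305 rc2306 rfl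
theorem ru2307 : ∀ i, i < 113092 → fr i = true := below_step fr 113043 49 113092 ru2306 rc2307 rfl
theorem ru2308 : ∀ i, i < 113141 → fr i = true := below_step fr 113092 49 113141 ru2307 rc2308 rfl
theorem ru2309 : ∀ i, i < 113190 → fr i = true := below_step fr 113141 49 113190 ru2308 rc2309 rfl
theorem ru2310 : ∀ i, i < 113239 → fr i = true := below_step fr 113190 49 113239 ru2309 rc2310 rfl
theorem ru2311 : ∀ i, i < 113288 → fr i = true := below_step fr 113239 49 113288 ru2310 rc2311 rfl
theorem ru2312 : ∀ i, i < 113337 → fr i = true := below_step fr 113288 49 113337 ru2311 rc2312 rfl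
theorem ru2313 : ∀ i, i < 113386 → fr i = true := below_step fr 113337 49 113386 ru2312 rc2313 rfl
theorem ru2314 : ∀ i, i < 113435 → fr i = true := below_step fr 113386 49 113435 ru2313 rc2314 rfl
theorem ru2315 : ∀ i, i < 113484 → fr i = true := below_step fr 113435 49 113484 ru2314 rc2315 rfl
theorem ru2316 : ∀ i, i < 113533 → fr i = true := below_step fr 113484 49 113533 ru2315 rc2316 rfl
theorem ru2317 : ∀ i, i < 113582 → fr i = true := below_step fr 113533 49 113582 ru2316 rc2317 rfl
theorem ru2318 : ∀ i, i < 113631 → fr i = true := below_step fr 113582 49 113631 ru2317 rc2318 rfl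
theorem ru2319 : ∀ i, i < 113680 → fr i = true := below_step fr 113631 49 113680 ru2318 rc2319 rfl
theorem ru2320 : ∀ i, i < 113729 → fr i = true := below_step fr 113680 49 113729 ru2319 rc2320 rfl
theorem ru2321 : ∀ i, i < 113778 → fr i = true := below_step fr 113729 49 113778 ru2320 rc2321 rfl
theorem ru2322 : ∀ i, i < 113827 → fr i = true := below_step fr 113778 49 113827 ru2321 rc2322 rfl
theorem ru2323 : ∀ i, i < 113876 → fr i = true := below_step fr 113827 49 113876 ru2322 rc2323 rfl
theorem ru2324 : ∀ i, i < 113925 → fr i = true := below_step fr 113876 49 113925 ru2323 rc2324 rfl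
theorem ru2325 : ∀ i, i < 113974 → fr i = true := below_step fr 113925 49 113974 ru2324 rc2325 rfl
theorem ru2326 : ∀ i, i < 114023 → fr i = true := below_step fr 113974 49 114023 ru2325 rc2326 rfl
theorem ru2327 : ∀ i, i < 114072 → fr i = true := below_step fr 114023 49 114072 ru2326 rc2327 rfl
theorem ru2328 : ∀ i, i < 114121 → fr i = true := below_step fr 114072 49 114121 ru2327 rc2328 rfl
theorem ru2329 : ∀ i, i < 114170 → fr i = true := below_step fr 114121 49 114170 ru2328 rc2329 rfl
theorem ru2330 : ∀ i, i < 114219 → fr i = true := below_step fr 114170 49 114219 ru2329 rc2330 rfl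
theorem ru2331 : ∀ i, i < 114268 → fr i = true := below_step fr 114219 49 114268 ru2330 rc2331 rfl
theorem ru2332 : ∀ i, i < 114317 → fr i = true := below_step fr 114268 49 114317 ru2331 rc2332 rfl
theorem ru2333 : ∀ i, i < 114366 → fr i = true := below_step fr 114317 49 114366 ru2332 rc2333 rfl
theorem ru2334 : ∀ i, i < 114415 → fr i = true := below_step fr 114366 49 114415 ru2333 rc2334 rfl
theorem ru2335 : ∀ i, i < 114464 → fr i = true := below_step fr 114415 49 114464 ru2334 rc2335 rfl
theorem ru2336 : ∀ i, i < 114513 → fr i = true := below_step fr 114464 49 114513 ru2335 rc2336 rfl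
theorem ru2337 : ∀ i, i < 114562 → fr i = true := below_step fr 114513 49 114562 ru2336 rc2337 rfl
theorem ru2338 : ∀ i, i < 114611 → fr i = true := below_step fr 114562 49 114611 ru2337 rc2338 rfl
theorem ru2339 : ∀ i, i < 114660 → fr i = true := below_step fr 114611 49 114660 ru2338 rc2339 rfl
theorem ru2340 : ∀ i, i < 114709 → fr i = true := below_step fr 114660 49 114709 ru2339 rc2340 rfl
theorem ru2341 : ∀ i, i < 114758 → fr i = true := below_step fr 114709 49 114758 ru2340 rc2341 rfl
theorem ru2342 : ∀ i, i < 114807 → fr i = true := below_step fr 114758 49 114807 ru2341 rc2342 rfl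
theorem ru2343 : ∀ i, i < 114856 → fr i = true := below_step fr 114807 49 114856 ru2342 rc2343 rfl
theorem ru2344 : ∀ i, i < 114905 → fr i = true := below_step fr 114856 49 114905 ru2343 rc2344 rfl
theorem ru2345 : ∀ i, i < 114954 → fr i = true := below_step fr 114905 49 114954 ru2344 rc2345 rfl
theorem ru2346 : ∀ i, i < 115003 → fr i = true := below_step fr 114954 49 115003 ru2345 rc2346 rfl
theorem ru2347 : ∀ i, i < 115052 → fr i = true := below_step fr 115003 49 115052 ru2346 rc2347 rfl
theorem ru2348 : ∀ i, i < 115101 → fr i = true := below_step fr 115052 49 115101 ru2347 rc2348 rfl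
theorem ru2349 : ∀ i, i < 115150 → fr i = true := below_step fr 115101 49 115150 ru2348 rc2349 rfl
theorem ru2350 : ∀ i, i < 115199 → fr i = true := below_step fr 115150 49 115199 ru2349 rc2350 rfl
theorem ru2351 : ∀ i, i < 115248 → fr i = true := below_step fr 115199 49 115248 ru2350 rc2351 rfl
theorem ru2352 : ∀ i, i < 115297 → fr i = true := below_step fr 115248 49 115297 ru2351 rc2352 rfl
theorem ru2353 : ∀ i, i < 115346 → fr i = true := below_step fr 115297 49 115346 ru2352 rc2353 rfl
theorem ru2354 : ∀ i, i < 115395 → fr i = true := below_step fr 115346 49 115395 ru2353 rc2354 rfl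
theorem ru2355 : ∀ i, i < 115444 → fr i = true := below_step fr 115395 49 115444 ru2354 rc2355 rfl
theorem ru2356 : ∀ i, i < 115493 → fr i = true := below_step fr 115444 49 115493 ru2355 rc2356 rfl
theorem ru2357 : ∀ i, i < 115542 → fr i = true := below_step fr 115493 49 115542 ru2356 rc2357 rfl
theorem ru2358 : ∀ i, i < 115591 → fr i = true := below_step fr 115542 49 115591 ru2357 rc2358 rfl
theorem ru2359 : ∀ i, i < 115640 → fr i = true := below_step fr 115591 49 115640 ru2358 rc2359 rfl
theorem ru2360 : ∀ i, i < 115689 → fr i = true := below_step fr 115640 49 115689 ru2359 rc2360 rfl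
theorem ru2361 : ∀ i, i < 115738 → fr i = true := below_step fr 115689 49 115738 ru2360 rc2361 rfl
theorem ru2362 : ∀ i, i < 115787 → fr i = true := below_step fr 115738 49 115787 ru2361 rc2362 rfl
theorem ru2363 : ∀ i, i < 115836 → fr i = true := below_step fr 115787 49 115836 ru2362 rc2363 rfl
theorem ru2364 : ∀ i, i < 115885 → fr i = true := below_step fr 115836 49 115885 ru2363 rc2364 rfl
theorem ru2365 : ∀ i, i < 115934 → fr i = true := below_step fr 115885 49 115934 ru2364 rc2365 rfl
theorem ru2366 : ∀ i, i < 115983 → fr i = true := below_step fr 115934 49 115983 ru2365 rc2366 rfl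
theorem ru2367 : ∀ i, i < 116032 → fr i = true := below_step fr 115983 49 116032 ru2366 rc2367 rfl
theorem ru2368 : ∀ i, i < 116081 → fr i = true := below_step fr 116032 49 116081 ru2367 rc2368 rfl
theorem ru2369 : ∀ i, i < 116130 → fr i = true := below_step fr 116081 49 116130 ru2368 rc2369 rfl
theorem ru2370 : ∀ i, i < 116179 → fr i = true := below_step fr 116130 49 116179 ru2369 rc2370 rfl
theorem ru2371 : ∀ i, i < 116228 → fr i = true := below_step fr 116179 49 116228 ru2370 rc2371 rfl
theorem ru2372 : ∀ i, i < 116277 → fr i = true := below_step fr 116228 49 116277 ru2371 rc2372 rfl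
theorem ru2373 : ∀ i, i < 116326 → fr i = true := below_step fr 116277 49 116326 ru2372 rc2373 rfl
theorem ru2374 : ∀ i, i < 116375 → fr i = true := below_step fr 116326 49 116375 ru2373 rc2374 rfl
theorem ru2375 : ∀ i, i < 116424 → fr i = true := below_step fr 116375 49 116424 ru2374 rc2375 rfl
theorem ru2376 : ∀ i, i < 116473 → fr i = true := below_step fr 116424 49 116473 ru2375 rc2376 rfl
theorem ru2377 : ∀ i, i < 116522 → fr i = true := below_step fr 116473 49 116522 ru2376 rc2377 rfl
theorem ru2378 : ∀ i, i < 116571 → fr i = true := below_step fr 116522 49 116571 ru2377 rc2378 rfl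
theorem ru2379 : ∀ i, i < 116620 → fr i = true := below_step fr 116571 49 116620 ru2378 rc2379 rfl
theorem ru2380 : ∀ i, i < 116669 → fr i = true := below_step fr 116620 49 116669 ru2379 rc2380 rfl
theorem ru2381 : ∀ i, i < 116718 → fr i = true := below_step fr 116669 49 116718 ru2380 rc2381 rfl
theorem ru2382 : ∀ i, i < 116767 → fr i = true := below_step fr 116718 49 116767 ru2381 rc2382 rfl
theorem ru2383 : ∀ i, i < 116816 → fr i = true := below_step fr 116767 49 116816 ru2382 rc2383 rfl
theorem ru2384 : ∀ i, i < 116865 → fr i = true := below_step fr 116816 49 116865 ru2383 rc2384 rfl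
theorem ru2385 : ∀ i, i < 116914 → fr i = true := below_step fr 116865 49 116914 ru2384 rc2385 rfl
theorem ru2386 : ∀ i, i < 116963 → fr i = true := below_step fr 116914 49 116963 ru2385 rc2386 rfl
theorem ru2387 : ∀ i, i < 117012 → fr i = true := below_step fr 116963 49 117012 ru2386 rc2387 rfl
theorem ru2388 : ∀ i, i < 117061 → fr i = true := below_step fr 117012 49 117061 ru2387 rc2388 rfl
theorem ru2389 : ∀ i, i < 117110 → fr i = true := below_step fr 117061 49 117110 ru2388 rc2389 rfl
theorem ru2390 : ∀ i, i < 117159 → fr i = true := below_step fr 117110 49 117159 ru2389 rc2390 rfl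
theorem ru2391 : ∀ i, i < 117208 → fr i = true := below_step fr 117159 49 117208 ru2390 rc2391 rfl
theorem ru2392 : ∀ i, i < 117257 → fr i = true := below_step fr 117208 49 117257 ru2391 rc2392 rfl
theorem ru2393 : ∀ i, i < 117306 → fr i = true := below_step fr 117257 49 117306 ru2392 rc2393 rfl
theorem ru2394 : ∀ i, i < 117355 → fr i = true := below_step fr 117306 49 117355 ru2393 rc2394 rfl
theorem ru2395 : ∀ i, i < 117404 → fr i = true := below_step fr 117355 49 117404 ru2394 rc2395 rfl
theorem ru2396 : ∀ i, i < 117453 → fr i = true := below_step fr 117404 49 117453 ru2395 rc2396 rfl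
theorem ru2397 : ∀ i, i < 117502 → fr i = true := below_step fr 117453 49 117502 ru2396 rc2397 rfl
theorem ru2398 : ∀ i, i < 117551 → fr i = true := below_step fr 117502 49 117551 ru2397 rc2398 rfl
theorem ru2399 : ∀ i, i < 117600 → fr i = true := below_step fr 117551 49 117600 ru2398 rc2399 rfl
theorem ru2400 : ∀ i, i < 117649 → fr i = true := below_step fr 117600 49 117649 ru2399 rc2400 rfl
theorem ru2401 : ∀ i, i < 117698 → fr i = true := below_step fr 117649 49 117698 ru2400 rc2401 rfl
theorem ru2402 : ∀ i, i < 117747 → fr i = true := below_step fr 117698 49 117747 ru2401 rc2402 rfl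
theorem ru2403 : ∀ i, i < 117796 → fr i = true := below_step fr 117747 49 117796 ru2402 rc2403 rfl
theorem ru2404 : ∀ i, i < 117845 → fr i = true := below_step fr 117796 49 117845 ru2403 rc2404 rfl
theorem ru2405 : ∀ i, i < 117894 → fr i = true := below_step fr 117845 49 117894 ru2404 rc2405 rfl
theorem ru2406 : ∀ i, i < 117943 → fr i = true := below_step fr 117894 49 117943 ru2405 rc2406 rfl
theorem ru2407 : ∀ i, i < 117992 → fr i = true := below_step fr 117943 49 117992 ru2406 rc2407 rfl
theorem ru2408 : ∀ i, i < 118041 → fr i = true := below_step fr 117992 49 118041 ru2407 rc2408 rfl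
theorem ru2409 : ∀ i, i < 118090 → fr i = true := below_step fr 118041 49 118090 ru2408 rc2409 rfl
theorem ru2410 : ∀ i, i < 118139 → fr i = true := below_step fr 118090 49 118139 ru2409 rc2410 rfl
theorem ru2411 : ∀ i, i < 118188 → fr i = true := below_step fr 118139 49 118188 ru2410 rc2411 rfl
theorem ru2412 : ∀ i, i < 118237 → fr i = true := below_step fr 118188 49 118237 ru2411 rc2412 rfl
theorem ru2413 : ∀ i, i < 118286 → fr i = true := below_step fr 118237 49 118286 ru2412 rc2413 rfl
theorem ru2414 : ∀ i, i < 118335 → fr i = true := below_step fr 118286 49 118335 ru2413 rc2414 rfl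
theorem ru2415 : ∀ i, i < 118384 → fr i = true := below_step fr 118335 49 118384 ru2414 rc2415 rfl
theorem ru2416 : ∀ i, i < 118433 → fr i = true := below_step fr 118384 49 118433 ru2415 rc2416 rfl
theorem ru2417 : ∀ i, i < 118482 → fr i = true := below_step fr 118433 49 118482 ru2416 rc2417 rfl
theorem ru2418 : ∀ i, i < 118531 → fr i = true := below_step fr 118482 49 118531 ru2417 rc2418 rfl
theorem ru2419 : ∀ i, i < 118580 → fr i = true := below_step fr 118531 49 118580 ru2418 rc2419 rfl
theorem ru2420 : ∀ i, i < 118629 → fr i = true := below_step fr 118580 49 118629 ru2419 rc2420 rfl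
theorem ru2421 : ∀ i, i < 118678 → fr i = true := below_step fr 118629 49 118678 ru2420 rc2421 rfl
theorem ru2422 : ∀ i, i < 118727 → fr i = true := below_step fr 118678 49 118727 ru2421 rc2422 rfl
theorem ru2423 : ∀ i, i < 118776 → fr i = true := below_step fr 118727 49 118776 ru2422 rc2423 rfl
theorem ru2424 : ∀ i, i < 118825 → fr i = true := below_step fr 118776 49 118825 ru2423 rc2424 rfl
theorem ru2425 : ∀ i, i < 118874 → fr i = true := below_step fr 118825 49 118874 ru2424 rc2425 rfl
theorem ru2426 : ∀ i, i < 118923 → fr i = true := below_step fr 118874 49 118923 ru2425 rc2426 rfl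
theorem ru2427 : ∀ i, i < 118972 → fr i = true := below_step fr 118923 49 118972 ru2426 rc2427 rfl
theorem ru2428 : ∀ i, i < 119021 → fr i = true := below_step fr 118972 49 119021 ru2427 rc2428 rfl
theorem ru2429 : ∀ i, i < 119070 → fr i = true := below_step fr 119021 49 119070 ru2428 rc2429 rfl
theorem ru2430 : ∀ i, i < 119119 → fr i = true := below_step fr 119070 49 119119 ru2429 rc2430 rfl
theorem ru2431 : ∀ i, i < 119168 → fr i = true := below_step fr 119119 49 119168 ru2430 rc2431 rfl
theorem ru2432 : ∀ i, i < 119217 → fr i = true := below_step fr 119168 49 119217 ru2431 rc2432 rfl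
theorem ru2433 : ∀ i, i < 119266 → fr i = true := below_step fr 119217 49 119266 ru2432 rc2433 rfl
theorem ru2434 : ∀ i, i < 119315 → fr i = true := below_step fr 119266 49 119315 ru2433 rc2434 rfl
theorem ru2435 : ∀ i, i < 119364 → fr i = true := below_step fr 119315 49 119364 ru2434 rc2435 rfl
theorem ru2436 : ∀ i, i < 119413 → fr i = true := below_step fr 119364 49 119413 ru2435 rc2436 rfl
theorem ru2437 : ∀ i, i < 119462 → fr i = true := below_step fr 119413 49 119462 ru2436 rc2437 rfl
theorem ru2438 : ∀ i, i < 119511 → fr i = true := below_step fr 119462 49 119511 ru2437 rc2438 rfl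
theorem ru2439 : ∀ i, i < 119560 → fr i = true := below_step fr 119511 49 119560 ru2438 rc2439 rfl
theorem ru2440 : ∀ i, i < 119609 → fr i = true := below_step fr 119560 49 119609 ru2439 rc2440 rfl
theorem ru2441 : ∀ i, i < 119658 → fr i = true := below_step fr 119609 49 119658 ru2440 rc2441 rfl
theorem ru2442 : ∀ i, i < 119707 → fr i = true := below_step fr 119658 49 119707 ru2441 rc2442 rfl
theorem ru2443 : ∀ i, i < 119756 → fr i = true := below_step fr 119707 49 119756 ru2442 rc2443 rfl
theorem ru2444 : ∀ i, i < 119805 → fr i = true := below_step fr 119756 49 119805 ru2443 rc2444 rfl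
theorem ru2445 : ∀ i, i < 119854 → fr i = true := below_step fr 119805 49 119854 ru2444 rc2445 rfl
theorem ru2446 : ∀ i, i < 119903 → fr i = true := below_step fr 119854 49 119903 ru2445 rc2446 rfl
theorem ru2447 : ∀ i, i < 119952 → fr i = true := below_step fr 119903 49 119952 ru2446 rc2447 rfl
theorem ru2448 : ∀ i, i < 120001 → fr i = true := below_step fr 119952 49 120001 ru2447 rc2448 rfl
theorem ru2449 : ∀ i, i < 120050 → fr i = true := below_step fr 120001 49 120050 ru2448 rc2449 rfl
theorem ru2450 : ∀ i, i < 120099 → fr i = true := below_step fr 120050 49 120099 ru2449 rc2450 rfl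
theorem ru2451 : ∀ i, i < 120148 → fr i = true := below_step fr 120099 49 120148 ru2450 rc2451 rfl
theorem ru2452 : ∀ i, i < 120197 → fr i = true := below_step fr 120148 49 120197 ru2451 rc2452 rfl
theorem ru2453 : ∀ i, i < 120246 → fr i = true := below_step fr 120197 49 120246 ru2452 rc2453 rfl
theorem ru2454 : ∀ i, i < 120295 → fr i = true := below_step fr 120246 49 120295 ru2453 rc2454 rfl
theorem ru2455 : ∀ i, i < 120344 → fr i = true := below_step fr 120295 49 120344 ru2454 rc2455 rfl
theorem ru2456 : ∀ i, i < 120393 → fr i = true := below_step fr 120344 49 120393 ru2455 rc2456 rfl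
theorem ru2457 : ∀ i, i < 120442 → fr i = true := below_step fr 120393 49 120442 ru2456 rc2457 rfl
theorem ru2458 : ∀ i, i < 120491 → fr i = true := below_step fr 120442 49 120491 ru2457 rc2458 rfl
theorem ru2459 : ∀ i, i < 120540 → fr i = true := below_step fr 120491 49 120540 ru2458 rc2459 rfl
theorem ru2460 : ∀ i, i < 120589 → fr i = true := below_step fr 120540 49 120589 ru2459 rc2460 rfl
theorem ru2461 : ∀ i, i < 120638 → fr i = true := below_step fr 120589 49 120638 ru2460 rc2461 rfl
theorem ru2462 : ∀ i, i < 120687 → fr i = true := below_step fr 120638 49 120687 ru2461 rc2462 rfl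
theorem ru2463 : ∀ i, i < 120736 → fr i = true := below_step fr 120687 49 120736 ru2462 rc2463 rfl
theorem ru2464 : ∀ i, i < 120785 → fr i = true := below_step fr 120736 49 120785 ru2463 rc2464 rfl
theorem ru2465 : ∀ i, i < 120834 → fr i = true := below_step fr 120785 49 120834 ru2464 rc2465 rfl
theorem ru2466 : ∀ i, i < 120883 → fr i = true := below_step fr 120834 49 120883 ru2465 rc2466 rfl
theorem ru2467 : ∀ i, i < 120932 → fr i = true := below_step fr 120883 49 120932 ru2466 rc2467 rfl
theorem ru2468 : ∀ i, i < 120981 → fr i = true := below_step fr 120932 49 120981 ru2467 rc2468 rfl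
theorem ru2469 : ∀ i, i < 121030 → fr i = true := below_step fr 120981 49 121030 ru2468 rc2469 rfl
theorem ru2470 : ∀ i, i < 121079 → fr i = true := below_step fr 121030 49 121079 ru2469 rc2470 rfl
theorem ru2471 : ∀ i, i < 121128 → fr i = true := below_step fr 121079 49 121128 ru2470 rc2471 rfl
theorem ru2472 : ∀ i, i < 121177 → fr i = true := below_step fr 121128 49 121177 ru2471 rc2472 rfl
theorem ru2473 : ∀ i, i < 121226 → fr i = true := below_step fr 121177 49 121226 ru2472 rc2473 rfl
theorem ru2474 : ∀ i, i < 121275 → fr i = true := below_step fr 121226 49 121275 ru2473 rc2474 rfl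
theorem ru2475 : ∀ i, i < 121324 → fr i = true := below_step fr 121275 49 121324 ru2474 rc2475 rfl
theorem ru2476 : ∀ i, i < 121373 → fr i = true := below_step fr 121324 49 121373 ru2475 rc2476 rfl
theorem ru2477 : ∀ i, i < 121422 → fr i = true := below_step fr 121373 49 121422 ru2476 rc2477 rfl
theorem ru2478 : ∀ i, i < 121471 → fr i = true := below_step fr 121422 49 121471 ru2477 rc2478 rfl
theorem ru2479 : ∀ i, i < 121520 → fr i = true := below_step fr 121471 49 121520 ru2478 rc2479 rfl
theorem ru2480 : ∀ i, i < 121569 → fr i = true := below_step fr 121520 49 121569 ru2479 rc2480 rfl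
theorem ru2481 : ∀ i, i < 121618 → fr i = true := below_step fr 121569 49 121618 ru2480 rc2481 rfl
theorem ru2482 : ∀ i, i < 121667 → fr i = true := below_step fr 121618 49 121667 ru2481 rc2482 rfl
theorem ru2483 : ∀ i, i < 121716 → fr i = true := below_step fr 121667 49 121716 ru2482 rc2483 rfl
theorem ru2484 : ∀ i, i < 121765 → fr i = true := below_step fr 121716 49 121765 ru2483 rc2484 rfl
theorem ru2485 : ∀ i, i < 121814 → fr i = true := below_step fr 121765 49 121814 ru2484 rc2485 rfl
theorem ru2486 : ∀ i, i < 121863 → fr i = true := below_step fr 121814 49 121863 ru2485 rc2486 rfl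
theorem ru2487 : ∀ i, i < 121912 → fr i = true := below_step fr 121863 49 121912 ru2486 rc2487 rfl
theorem ru2488 : ∀ i, i < 121961 → fr i = true := below_step fr 121912 49 121961 ru2487 rc2488 rfl
theorem ru2489 : ∀ i, i < 122010 → fr i = true := below_step fr 121961 49 122010 ru2488 rc2489 rfl
theorem ru2490 : ∀ i, i < 122059 → fr i = true := below_step fr 122010 49 122059 ru2489 rc2490 rfl
theorem ru2491 : ∀ i, i < 122108 → fr i = true := below_step fr 122059 49 122108 ru2490 rc2491 rfl
theorem ru2492 : ∀ i, i < 122157 → fr i = true := below_step fr 122108 49 122157 ru2491 rc2492 rfl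
theorem ru2493 : ∀ i, i < 122206 → fr i = true := below_step fr 122157 49 122206 ru2492 rc2493 rfl
theorem ru2494 : ∀ i, i < 122255 → fr i = true := below_step fr 122206 49 122255 ru2493 rc2494 rfl
theorem ru2495 : ∀ i, i < 122304 → fr i = true := below_step fr 122255 49 122304 ru2494 rc2495 rfl
theorem ru2496 : ∀ i, i < 122353 → fr i = true := below_step fr 122304 49 122353 ru2495 rc2496 rfl
theorem ru2497 : ∀ i, i < 122402 → fr i = true := below_step fr 122353 49 122402 ru2496 rc2497 rfl
theorem ru2498 : ∀ i, i < 122451 → fr i = true := below_step fr 122402 49 122451 ru2497 rc2498 rfl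
theorem ru2499 : ∀ i, i < 122500 → fr i = true := below_step fr 122451 49 122500 ru2498 rc2499 rfl
theorem ru2500 : ∀ i, i < 122549 → fr i = true := below_step fr 122500 49 122549 ru2499 rc2500 rfl
theorem ru2501 : ∀ i, i < 122598 → fr i = true := below_step fr 122549 49 122598 ru2500 rc2501 rfl
theorem ru2502 : ∀ i, i < 122647 → fr i = true := below_step fr 122598 49 122647 ru2501 rc2502 rfl
theorem ru2503 : ∀ i, i < 122696 → fr i = true := below_step fr 122647 49 122696 ru2502 rc2503 rfl
theorem ru2504 : ∀ i, i < 122745 → fr i = true := below_step fr 122696 49 122745 ru2503 rc2504 rfl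
theorem ru2505 : ∀ i, i < 122760 → fr i = true := below_step fr 122745 15 122760 ru2504 rc2505 rfl
theorem c0u0 : ∀ i, i < 3824 → fc0 i = true := below_step fc0 0 3824 3824 (below_zero fc0) c0c0 rfl
theorem c0u1 : ∀ i, i < 7648 → fc0 i = true := below_step fc0 3824 3824 7648 c0u0 c0c1 rfl
theorem c0u2 : ∀ i, i < 11472 → fc0 i = true := below_step fc0 7648 3824 11472 c0u1 c0c2 rfl
theorem c0u3 : ∀ i, i < 15296 → fc0 i = true := below_step fc0 11472 3824 15296 c0u2 c0c3 rfl
theorem c0u4 : ∀ i, i < 19120 → fc0 i = true := below_step fc0 15296 3824 19120 c0u3 c0c4 rfl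
theorem c0u5 : ∀ i, i < 22944 → fc0 i = true := below_step fc0 19120 3824 22944 c0u4 c0c5 rfl
theorem c0u6 : ∀ i, i < 26768 → fc0 i = true := below_step fc0 22944 3824 26768 c0u5 c0c6 rfl
theorem c0u7 : ∀ i, i < 30592 → fc0 i = true := below_step fc0 26768 3824 30592 c0u6 c0c7 rfl
theorem c0u8 : ∀ i, i < 34416 → fc0 i = true := below_step fc0 30592 3824 34416 c0u7 c0c8 rfl
theorem c0u9 : ∀ i, i < 38240 → fc0 i = true := below_step fc0 34416 3824 38240 c0u8 c0c9 rfl
theorem c0u10 : ∀ i, i < 42064 → fc0 i = true := below_step fc0 38240 3824 42064 c0u9 c0c10 rfl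
theorem c0u11 : ∀ i, i < 45888 → fc0 i = true := below_step fc0 42064 3824 45888 c0u10 c0c11 rfl
theorem c0u12 : ∀ i, i < 49712 → fc0 i = true := below_step fc0 45888 3824 49712 c0u11 c0c12 rfl
theorem c0u13 : ∀ i, i < 53536 → fc0 i = true := below_step fc0 49712 3824 53536 c0u12 c0c13 rfl
theorem c0u14 : ∀ i, i < 57360 → fc0 i = true := below_step fc0 53536 3824 57360 c0u13 c0c14 rfl
theorem c0u15 : ∀ i, i < 61184 → fc0 i = true := below_step fc0 57360 3824 61184 c0u14 c0c15 rfl
theorem c0u16 : ∀ i, i < 65008 → fc0 i = true := below_step fc0 61184 3824 65008 c0u15 c0c16 rfl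
theorem c0u17 : ∀ i, i < 68832 → fc0 i = true := below_step fc0 65008 3824 68832 c0u16 c0c17 rfl
theorem c0u18 : ∀ i, i < 72656 → fc0 i = true := below_step fc0 68832 3824 72656 c0u17 c0c18 rfl
theorem c0u19 : ∀ i, i < 76480 → fc0 i = true := below_step fc0 72656 3824 76480 c0u18 c0c19 rfl
theorem c0u20 : ∀ i, i < 80304 → fc0 i = true := below_step fc0 76480 3824 80304 c0u19 c0c20 rfl
theorem c0u21 : ∀ i, i < 84128 → fc0 i = true := below_step fc0 80304 3824 84128 c0u20 c0c21 rfl
theorem c0u22 : ∀ i, i < 87952 → fc0 i = true := below_step fc0 84128 3824 87952 c0u21 c0c22 rfl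
theorem c0u23 : ∀ i, i < 91776 → fc0 i = true := below_step fc0 87952 3824 91776 c0u22 c0c23 rfl
theorem c0u24 : ∀ i, i < 95600 → fc0 i = true := below_step fc0 91776 3824 95600 c0u23 c0c24 rfl
theorem c0u25 : ∀ i, i < 99424 → fc0 i = true := below_step fc0 95600 3824 99424 c0u24 c0c25 rfl
theorem c0u26 : ∀ i, i < 103248 → fc0 i = true := below_step fc0 99424 3824 103248 c0u25 c0c26 rfl
theorem c0u27 : ∀ i, i < 107072 → fc0 i = true := below_step fc0 103248 3824 107072 c0u26 c0c27 rfl
theorem c0u28 : ∀ i, i < 110896 → fc0 i = true := below_step fc0 107072 3824 110896 c0u27 c0c28 rfl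
theorem c0u29 : ∀ i, i < 114720 → fc0 i = true := below_step fc0 110896 3824 114720 c0u28 c0c29 rfl
theorem c0u30 : ∀ i, i < 118544 → fc0 i = true := below_step fc0 114720 3824 118544 c0u29 c0c30 rfl
theorem c0u31 : ∀ i, i < 122368 → fc0 i = true := below_step fc0 118544 3824 122368 c0u30 c0c31 rfl
theorem c0u32 : ∀ i, i < 122760 → fc0 i = true := below_step fc0 122368 392 122760 c0u31 c0c32 rfl
theorem c1u0 : ∀ i, i < 3824 → fc1 i = true := below_step fc1 0 3824 3824 (below_zero fc1) c1c0 rfl
theorem c1u1 : ∀ i, i < 7648 → fc1 i = true := below_step fc1 3824 3824 7648 c1u0 c1c1 rfl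
theorem c1u2 : ∀ i, i < 11472 → fc1 i = true := below_step fc1 7648 3824 11472 c1u1 c1c2 rfl
theorem c1u3 : ∀ i, i < 15296 → fc1 i = true := below_step fc1 11472 3824 15296 c1u2 c1c3 rfl
theorem c1u4 : ∀ i, i < 19120 → fc1 i = true := below_step fc1 15296 3824 19120 c1u3 c1c4 rfl
theorem c1u5 : ∀ i, i < 22944 → fc1 i = true := below_step fc1 19120 3824 22944 c1u4 c1c5 rfl
theorem c1u6 : ∀ i, i < 26768 → fc1 i = true := below_step fc1 22944 3824 26768 c1u5 c1c6 rfl
theorem c1u7 : ∀ i, i < 30592 → fc1 i = true := below_step fc1 26768 3824 30592 c1u6 c1c7 rfl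
theorem c1u8 : ∀ i, i < 34416 → fc1 i = true := below_step fc1 30592 3824 34416 c1u7 c1c8 rfl
theorem c1u9 : ∀ i, i < 38240 → fc1 i = true := below_step fc1 34416 3824 38240 c1u8 c1c9 rfl
theorem c1u10 : ∀ i, i < 42064 → fc1 i = true := below_step fc1 38240 3824 42064 c1u9 c1c10 rfl
theorem c1u11 : ∀ i, i < 45888 → fc1 i = true := below_step fc1 42064 3824 45888 c1u10 c1c11 rfl
theorem c1u12 : ∀ i, i < 49712 → fc1 i = true := below_step fc1 45888 3824 49712 c1u11 c1c12 rfl
theorem c1u13 : ∀ i, i < 53536 → fc1 i = true := below_step fc1 49712 3824 53536 c1u12 c1c13 rfl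
theorem c1u14 : ∀ i, i < 57360 → fc1 i = true := below_step fc1 53536 3824 57360 c1u13 c1c14 rfl
theorem c1u15 : ∀ i, i < 61184 → fc1 i = true := below_step fc1 57360 3824 61184 c1u14 c1c15 rfl
theorem c1u16 : ∀ i, i < 65008 → fc1 i = true := below_step fc1 61184 3824 65008 c1u15 c1c16 rfl
theorem c1u17 : ∀ i, i < 68832 → fc1 i = true := below_step fc1 65008 3824 68832 c1u16 c1c17 rfl
theorem c1u18 : ∀ i, i < 72656 → fc1 i = true := below_step fc1 68832 3824 72656 c1u17 c1c18 rfl
theorem c1u19 : ∀ i, i < 76480 → fc1 i = true := below_step fc1 72656 3824 76480 c1u18 c1c19 rfl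
theorem c1u20 : ∀ i, i < 80304 → fc1 i = true := below_step fc1 76480 3824 80304 c1u19 c1c20 rfl
theorem c1u21 : ∀ i, i < 84128 → fc1 i = true := below_step fc1 80304 3824 84128 c1u20 c1c21 rfl
theorem c1u22 : ∀ i, i < 87952 → fc1 i = true := below_step fc1 84128 3824 87952 c1u21 c1c22 rfl
theorem c1u23 : ∀ i, i < 91776 → fc1 i = true := below_step fc1 87952 3824 91776 c1u22 c1c23 rfl
theorem c1u24 : ∀ i, i < 95600 → fc1 i = true := below_step fc1 91776 3824 95600 c1u23 c1c24 rfl
theorem c1u25 : ∀ i, i < 99424 → fc1 i = true := below_step fc1 95600 3824 99424 c1u24 c1c25 rfl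
theorem c1u26 : ∀ i, i < 103248 → fc1 i = true := below_step fc1 99424 3824 103248 c1u25 c1c26 rfl
theorem c1u27 : ∀ i, i < 107072 → fc1 i = true := below_step fc1 103248 3824 107072 c1u26 c1c27 rfl
theorem c1u28 : ∀ i, i < 110896 → fc1 i = true := below_step fc1 107072 3824 110896 c1u27 c1c28 rfl
theorem c1u29 : ∀ i, i < 114720 → fc1 i = true := below_step fc1 110896 3824 114720 c1u28 c1c29 rfl
theorem c1u30 : ∀ i, i < 118544 → fc1 i = true := below_step fc1 114720 3824 118544 c1u29 c1c30 rfl
theorem c1u31 : ∀ i, i < 122368 → fc1 i = true := below_step fc1 118544 3824 122368 c1u30 c1c31 rfl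
theorem c1u32 : ∀ i, i < 122760 → fc1 i = true := below_step fc1 122368 392 122760 c1u31 c1c32 rfl
theorem c2u0 : ∀ i, i < 3824 → fc2 i = true := below_step fc2 0 3824 3824 (below_zero fc2) c2c0 rfl
theorem c2u1 : ∀ i, i < 7648 → fc2 i = true := below_step fc2 3824 3824 7648 c2u0 c2c1 rfl
theorem c2u2 : ∀ i, i < 11472 → fc2 i = true := below_step fc2 7648 3824 11472 c2u1 c2c2 rfl
theorem c2u3 : ∀ i, i < 15296 → fc2 i = true := below_step fc2 11472 3824 15296 c2u2 c2c3 rfl
theorem c2u4 : ∀ i, i < 19120 → fc2 i = true := below_step fc2 15296 3824 19120 c2u3 c2c4 rfl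
theorem c2u5 : ∀ i, i < 22944 → fc2 i = true := below_step fc2 19120 3824 22944 c2u4 c2c5 rfl
theorem c2u6 : ∀ i, i < 26768 → fc2 i = true := below_step fc2 22944 3824 26768 c2u5 c2c6 rfl
theorem c2u7 : ∀ i, i < 30592 → fc2 i = true := below_step fc2 26768 3824 30592 c2u6 c2c7 rfl
theorem c2u8 : ∀ i, i < 34416 → fc2 i = true := below_step fc2 30592 3824 34416 c2u7 c2c8 rfl
theorem c2u9 : ∀ i, i < 38240 → fc2 i = true := below_step fc2 34416 3824 38240 c2u8 c2c9 rfl
theorem c2u10 : ∀ i, i < 42064 → fc2 i = true := below_step fc2 38240 3824 42064 c2u9 c2c10 rfl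
theorem c2u11 : ∀ i, i < 45888 → fc2 i = true := below_step fc2 42064 3824 45888 c2u10 c2c11 rfl
theorem c2u12 : ∀ i, i < 49712 → fc2 i = true := below_step fc2 45888 3824 49712 c2u11 c2c12 rfl
theorem c2u13 : ∀ i, i < 53536 → fc2 i = true := below_step fc2 49712 3824 53536 c2u12 c2c13 rfl
theorem c2u14 : ∀ i, i < 57360 → fc2 i = true := below_step fc2 53536 3824 57360 c2u13 c2c14 rfl
theorem c2u15 : ∀ i, i < 61184 → fc2 i = true := below_step fc2 57360 3824 61184 c2u14 c2c15 rfl
theorem c2u16 : ∀ i, i < 65008 → fc2 i = true := below_step fc2 61184 3824 65008 c2u15 c2c16 rfl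
theorem c2u17 : ∀ i, i < 68832 → fc2 i = true := below_step fc2 65008 3824 68832 c2u16 c2c17 rfl
theorem c2u18 : ∀ i, i < 72656 → fc2 i = true := below_step fc2 68832 3824 72656 c2u17 c2c18 rfl
theorem c2u19 : ∀ i, i < 76480 → fc2 i = true := below_step fc2 72656 3824 76480 c2u18 c2c19 rfl
theorem c2u20 : ∀ i, i < 80304 → fc2 i = true := below_step fc2 76480 3824 80304 c2u19 c2c20 rfl
theorem c2u21 : ∀ i, i < 84128 → fc2 i = true := below_step fc2 80304 3824 84128 c2u20 c2c21 rfl
theorem c2u22 : ∀ i, i < 87952 → fc2 i = true := below_step fc2 84128 3824 87952 c2u21 c2c22 rfl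
theorem c2u23 : ∀ i, i < 91776 → fc2 i = true := below_step fc2 87952 3824 91776 c2u22 c2c23 rfl
theorem c2u24 : ∀ i, i < 95600 → fc2 i = true := below_step fc2 91776 3824 95600 c2u23 c2c24 rfl
theorem c2u25 : ∀ i, i < 99424 → fc2 i = true := below_step fc2 95600 3824 99424 c2u24 c2c25 rfl
theorem c2u26 : ∀ i, i < 103248 → fc2 i = true := below_step fc2 99424 3824 103248 c2u25 c2c26 rfl
theorem c2u27 : ∀ i, i < 107072 → fc2 i = true := below_step fc2 103248 3824 107072 c2u26 c2c27 rfl
theorem c2u28 : ∀ i, i < 110896 → fc2 i = true := below_step fc2 107072 3824 110896 c2u27 c2c28 rfl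
theorem c2u29 : ∀ i, i < 114720 → fc2 i = true := below_step fc2 110896 3824 114720 c2u28 c2c29 rfl
theorem c2u30 : ∀ i, i < 118544 → fc2 i = true := below_step fc2 114720 3824 118544 c2u29 c2c30 rfl
theorem c2u31 : ∀ i, i < 122368 → fc2 i = true := below_step fc2 118544 3824 122368 c2u30 c2c31 rfl
theorem c2u32 : ∀ i, i < 122760 → fc2 i = true := below_step fc2 122368 392 122760 c2u31 c2c32 rfl
theorem c3u0 : ∀ i, i < 3824 → fc3 i = true := below_step fc3 0 3824 3824 (below_zero fc3) c3c0 rfl
theorem c3u1 : ∀ i, i < 7648 → fc3 i = true := below_step fc3 3824 3824 7648 c3u0 c3c1 rfl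
theorem c3u2 : ∀ i, i < 11472 → fc3 i = true := below_step fc3 7648 3824 11472 c3u1 c3c2 rfl
theorem c3u3 : ∀ i, i < 15296 → fc3 i = true := below_step fc3 11472 3824 15296 c3u2 c3c3 rfl
theorem c3u4 : ∀ i, i < 19120 → fc3 i = true := below_step fc3 15296 3824 19120 c3u3 c3c4 rfl
theorem c3u5 : ∀ i, i < 22944 → fc3 i = true := below_step fc3 19120 3824 22944 c3u4 c3c5 rfl
theorem c3u6 : ∀ i, i < 26768 → fc3 i = true := below_step fc3 22944 3824 26768 c3u5 c3c6 rfl
theorem c3u7 : ∀ i, i < 30592 → fc3 i = true := below_step fc3 26768 3824 30592 c3u6 c3c7 rfl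
theorem c3u8 : ∀ i, i < 34416 → fc3 i = true := below_step fc3 30592 3824 34416 c3u7 c3c8 rfl
theorem c3u9 : ∀ i, i < 38240 → fc3 i = true := below_step fc3 34416 3824 38240 c3u8 c3c9 rfl
theorem c3u10 : ∀ i, i < 42064 → fc3 i = true := below_step fc3 38240 3824 42064 c3u9 c3c10 rfl
theorem c3u11 : ∀ i, i < 45888 → fc3 i = true := below_step fc3 42064 3824 45888 c3u10 c3c11 rfl
theorem c3u12 : ∀ i, i < 49712 → fc3 i = true := below_step fc3 45888 3824 49712 c3u11 c3c12 rfl
theorem c3u13 : ∀ i, i < 53536 → fc3 i = true := below_step fc3 49712 3824 53536 c3u12 c3c13 rfl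
theorem c3u14 : ∀ i, i < 57360 → fc3 i = true := below_step fc3 53536 3824 57360 c3u13 c3c14 rfl
theorem c3u15 : ∀ i, i < 61184 → fc3 i = true := below_step fc3 57360 3824 61184 c3u14 c3c15 rfl
theorem c3u16 : ∀ i, i < 65008 → fc3 i = true := below_step fc3 61184 3824 65008 c3u15 c3c16 rfl
theorem c3u17 : ∀ i, i < 68832 → fc3 i = true := below_step fc3 65008 3824 68832 c3u16 c3c17 rfl
theorem c3u18 : ∀ i, i < 72656 → fc3 i = true := below_step fc3 68832 3824 72656 c3u17 c3c18 rfl
theorem c3u19 : ∀ i, i < 76480 → fc3 i = true := below_step fc3 72656 3824 76480 c3u18 c3c19 rfl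
theorem c3u20 : ∀ i, i < 80304 → fc3 i = true := below_step fc3 76480 3824 80304 c3u19 c3c20 rfl
theorem c3u21 : ∀ i, i < 84128 → fc3 i = true := below_step fc3 80304 3824 84128 c3u20 c3c21 rfl
theorem c3u22 : ∀ i, i < 87952 → fc3 i = true := below_step fc3 84128 3824 87952 c3u21 c3c22 rfl
theorem c3u23 : ∀ i, i < 91776 → fc3 i = true := below_step fc3 87952 3824 91776 c3u22 c3c23 rfl
theorem c3u24 : ∀ i, i < 95600 → fc3 i = true := below_step fc3 91776 3824 95600 c3u23 c3c24 rfl
theorem c3u25 : ∀ i, i < 99424 → fc3 i = true := below_step fc3 95600 3824 99424 c3u24 c3c25 rfl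
theorem c3u26 : ∀ i, i < 103248 → fc3 i = true := below_step fc3 99424 3824 103248 c3u25 c3c26 rfl
theorem c3u27 : ∀ i, i < 107072 → fc3 i = true := below_step fc3 103248 3824 107072 c3u26 c3c27 rfl
theorem c3u28 : ∀ i, i < 110896 → fc3 i = true := below_step fc3 107072 3824 110896 c3u27 c3c28 rfl
theorem c3u29 : ∀ i, i < 114720 → fc3 i = true := below_step fc3 110896 3824 114720 c3u28 c3c29 rfl
theorem c3u30 : ∀ i, i < 118544 → fc3 i = true := below_step fc3 114720 3824 118544 c3u29 c3c30 rfl
theorem c3u31 : ∀ i, i < 122368 → fc3 i = true := below_step fc3 118544 3824 122368 c3u30 c3c31 rfl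
theorem c3u32 : ∀ i, i < 122760 → fc3 i = true := below_step fc3 122368 392 122760 c3u31 c3c32 rfl
theorem c4u0 : ∀ i, i < 3824 → fc4 i = true := below_step fc4 0 3824 3824 (below_zero fc4) c4c0 rfl
theorem c4u1 : ∀ i, i < 7648 → fc4 i = true := below_step fc4 3824 3824 7648 c4u0 c4c1 rfl
theorem c4u2 : ∀ i, i < 11472 → fc4 i = true := below_step fc4 7648 3824 11472 c4u1 c4c2 rfl
theorem c4u3 : ∀ i, i < 15296 → fc4 i = true := below_step fc4 11472 3824 15296 c4u2 c4c3 rfl
theorem c4u4 : ∀ i, i < 19120 → fc4 i = true := below_step fc4 15296 3824 19120 c4u3 c4c4 rfl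
theorem c4u5 : ∀ i, i < 22944 → fc4 i = true := below_step fc4 19120 3824 22944 c4u4 c4c5 rfl
theorem c4u6 : ∀ i, i < 26768 → fc4 i = true := below_step fc4 22944 3824 26768 c4u5 c4c6 rfl
theorem c4u7 : ∀ i, i < 30592 → fc4 i = true := below_step fc4 26768 3824 30592 c4u6 c4c7 rfl
theorem c4u8 : ∀ i, i < 34416 → fc4 i = true := below_step fc4 30592 3824 34416 c4u7 c4c8 rfl
theorem c4u9 : ∀ i, i < 38240 → fc4 i = true := below_step fc4 34416 3824 38240 c4u8 c4c9 rfl
theorem c4u10 : ∀ i, i < 42064 → fc4 i = true := below_step fc4 38240 3824 42064 c4u9 c4c10 rfl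
theorem c4u11 : ∀ i, i < 45888 → fc4 i = true := below_step fc4 42064 3824 45888 c4u10 c4c11 rfl
theorem c4u12 : ∀ i, i < 49712 → fc4 i = true := below_step fc4 45888 3824 49712 c4u11 c4c12 rfl
theorem c4u13 : ∀ i, i < 53536 → fc4 i = true := below_step fc4 49712 3824 53536 c4u12 c4c13 rfl
theorem c4u14 : ∀ i, i < 57360 → fc4 i = true := below_step fc4 53536 3824 57360 c4u13 c4c14 rfl
theorem c4u15 : ∀ i, i < 61184 → fc4 i = true := below_step fc4 57360 3824 61184 c4u14 c4c15 rfl
theorem c4u16 : ∀ i, i < 65008 → fc4 i = true := below_step fc4 61184 3824 65008 c4u15 c4c16 rfl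
theorem c4u17 : ∀ i, i < 68832 → fc4 i = true := below_step fc4 65008 3824 68832 c4u16 c4c17 rfl
theorem c4u18 : ∀ i, i < 72656 → fc4 i = true := below_step fc4 68832 3824 72656 c4u17 c4c18 rfl
theorem c4u19 : ∀ i, i < 76480 → fc4 i = true := below_step fc4 72656 3824 76480 c4u18 c4c19 rfl
theorem c4u20 : ∀ i, i < 80304 → fc4 i = true := below_step fc4 76480 3824 80304 c4u19 c4c20 rfl
theorem c4u21 : ∀ i, i < 84128 → fc4 i = true := below_step fc4 80304 3824 84128 c4u20 c4c21 rfl
theorem c4u22 : ∀ i, i < 87952 → fc4 i = true := below_step fc4 84128 3824 87952 c4u21 c4c22 rfl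
theorem c4u23 : ∀ i, i < 91776 → fc4 i = true := below_step fc4 87952 3824 91776 c4u22 c4c23 rfl
theorem c4u24 : ∀ i, i < 95600 → fc4 i = true := below_step fc4 91776 3824 95600 c4u23 c4c24 rfl
theorem c4u25 : ∀ i, i < 99424 → fc4 i = true := below_step fc4 95600 3824 99424 c4u24 c4c25 rfl
theorem c4u26 : ∀ i, i < 103248 → fc4 i = true := below_step fc4 99424 3824 103248 c4u25 c4c26 rfl
theorem c4u27 : ∀ i, i < 107072 → fc4 i = true := below_step fc4 103248 3824 107072 c4u26 c4c27 rfl
theorem c4u28 : ∀ i, i < 110896 → fc4 i = true := below_step fc4 107072 3824 110896 c4u27 c4c28 rfl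
theorem c4u29 : ∀ i, i < 114720 → fc4 i = true := below_step fc4 110896 3824 114720 c4u28 c4c29 rfl
theorem c4u30 : ∀ i, i < 118544 → fc4 i = true := below_step fc4 114720 3824 118544 c4u29 c4c30 rfl
theorem c4u31 : ∀ i, i < 122368 → fc4 i = true := below_step fc4 118544 3824 122368 c4u30 c4c31 rfl
theorem c4u32 : ∀ i, i < 122760 → fc4 i = true := below_step fc4 122368 392 122760 c4u31 c4c32 rfl
theorem c5u0 : ∀ i, i < 3824 → fc5 i = true := below_step fc5 0 3824 3824 (below_zero fc5) c5c0 rfl
theorem c5u1 : ∀ i, i < 7648 → fc5 i = true := below_step fc5 3824 3824 7648 c5u0 c5c1 rfl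
theorem c5u2 : ∀ i, i < 11472 → fc5 i = true := below_step fc5 7648 3824 11472 c5u1 c5c2 rfl
theorem c5u3 : ∀ i, i < 15296 → fc5 i = true := below_step fc5 11472 3824 15296 c5u2 c5c3 rfl
theorem c5u4 : ∀ i, i < 19120 → fc5 i = true := below_step fc5 15296 3824 19120 c5u3 c5c4 rfl
theorem c5u5 : ∀ i, i < 22944 → fc5 i = true := below_step fc5 19120 3824 22944 c5u4 c5c5 rfl
theorem c5u6 : ∀ i, i < 26768 → fc5 i = true := below_step fc5 22944 3824 26768 c5u5 c5c6 rfl
theorem c5u7 : ∀ i, i < 30592 → fc5 i = true := below_step fc5 26768 3824 30592 c5u6 c5c7 rfl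
theorem c5u8 : ∀ i, i < 34416 → fc5 i = true := below_step fc5 30592 3824 34416 c5u7 c5c8 rfl
theorem c5u9 : ∀ i, i < 38240 → fc5 i = true := below_step fc5 34416 3824 38240 c5u8 c5c9 rfl
theorem c5u10 : ∀ i, i < 42064 → fc5 i = true := below_step fc5 38240 3824 42064 c5u9 c5c10 rfl
theorem c5u11 : ∀ i, i < 45888 → fc5 i = true := below_step fc5 42064 3824 45888 c5u10 c5c11 rfl
theorem c5u12 : ∀ i, i < 49712 → fc5 i = true := below_step fc5 45888 3824 49712 c5u11 c5c12 rfl
theorem c5u13 : ∀ i, i < 53536 → fc5 i = true := below_step fc5 49712 3824 53536 c5u12 c5c13 rfl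
theorem c5u14 : ∀ i, i < 57360 → fc5 i = true := below_step fc5 53536 3824 57360 c5u13 c5c14 rfl
theorem c5u15 : ∀ i, i < 61184 → fc5 i = true := below_step fc5 57360 3824 61184 c5u14 c5c15 rfl
theorem c5u16 : ∀ i, i < 65008 → fc5 i = true := below_step fc5 61184 3824 65008 c5u15 c5c16 rfl
theorem c5u17 : ∀ i, i < 68832 → fc5 i = true := below_step fc5 65008 3824 68832 c5u16 c5c17 rfl
theorem c5u18 : ∀ i, i < 72656 → fc5 i = true := below_step fc5 68832 3824 72656 c5u17 c5c18 rfl
theorem c5u19 : ∀ i, i < 76480 → fc5 i = true := below_step fc5 72656 3824 76480 c5u18 c5c19 rfl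
theorem c5u20 : ∀ i, i < 80304 → fc5 i = true := below_step fc5 76480 3824 80304 c5u19 c5c20 rfl
theorem c5u21 : ∀ i, i < 84128 → fc5 i = true := below_step fc5 80304 3824 84128 c5u20 c5c21 rfl
theorem c5u22 : ∀ i, i < 87952 → fc5 i = true := below_step fc5 84128 3824 87952 c5u21 c5c22 rfl
theorem c5u23 : ∀ i, i < 91776 → fc5 i = true := below_step fc5 87952 3824 91776 c5u22 c5c23 rfl
theorem c5u24 : ∀ i, i < 95600 → fc5 i = true := below_step fc5 91776 3824 95600 c5u23 c5c24 rfl
theorem c5u25 : ∀ i, i < 99424 → fc5 i = true := below_step fc5 95600 3824 99424 c5u24 c5c25 rfl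
theorem c5u26 : ∀ i, i < 103248 → fc5 i = true := below_step fc5 99424 3824 103248 c5u25 c5c26 rfl
theorem c5u27 : ∀ i, i < 107072 → fc5 i = true := below_step fc5 103248 3824 107072 c5u26 c5c27 rfl
theorem c5u28 : ∀ i, i < 110896 → fc5 i = true := below_step fc5 107072 3824 110896 c5u27 c5c28 rfl
theorem c5u29 : ∀ i, i < 114720 → fc5 i = true := below_step fc5 110896 3824 114720 c5u28 c5c29 rfl
theorem c5u30 : ∀ i, i < 118544 → fc5 i = true := below_step fc5 114720 3824 118544 c5u29 c5c30 rfl
theorem c5u31 : ∀ i, i < 122368 → fc5 i = true := below_step fc5 118544 3824 122368 c5u30 c5c31 rfl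
theorem c5u32 : ∀ i, i < 122760 → fc5 i = true := below_step fc5 122368 392 122760 c5u31 c5c32 rfl
theorem c6u0 : ∀ i, i < 3824 → fc6 i = true := below_step fc6 0 3824 3824 (below_zero fc6) c6c0 rfl
theorem c6u1 : ∀ i, i < 7648 → fc6 i = true := below_step fc6 3824 3824 7648 c6u0 c6c1 rfl
theorem c6u2 : ∀ i, i < 11472 → fc6 i = true := below_step fc6 7648 3824 11472 c6u1 c6c2 rfl
theorem c6u3 : ∀ i, i < 15296 → fc6 i = true := below_step fc6 11472 3824 15296 c6u2 c6c3 rfl
theorem c6u4 : ∀ i, i < 19120 → fc6 i = true := below_step fc6 15296 3824 19120 c6u3 c6c4 rfl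
theorem c6u5 : ∀ i, i < 22944 → fc6 i = true := below_step fc6 19120 3824 22944 c6u4 c6c5 rfl
theorem c6u6 : ∀ i, i < 26768 → fc6 i = true := below_step fc6 22944 3824 26768 c6u5 c6c6 rfl
theorem c6u7 : ∀ i, i < 30592 → fc6 i = true := below_step fc6 26768 3824 30592 c6u6 c6c7 rfl
theorem c6u8 : ∀ i, i < 34416 → fc6 i = true := below_step fc6 30592 3824 34416 c6u7 c6c8 rfl
theorem c6u9 : ∀ i, i < 38240 → fc6 i = true := below_step fc6 34416 3824 38240 c6u8 c6c9 rfl
theorem c6u10 : ∀ i, i < 42064 → fc6 i = true := below_step fc6 38240 3824 42064 c6u9 c6c10 rfl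
theorem c6u11 : ∀ i, i < 45888 → fc6 i = true := below_step fc6 42064 3824 45888 c6u10 c6c11 rfl
theorem c6u12 : ∀ i, i < 49712 → fc6 i = true := below_step fc6 45888 3824 49712 c6u11 c6c12 rfl
theorem c6u13 : ∀ i, i < 53536 → fc6 i = true := below_step fc6 49712 3824 53536 c6u12 c6c13 rfl
theorem c6u14 : ∀ i, i < 57360 → fc6 i = true := below_step fc6 53536 3824 57360 c6u13 c6c14 rfl
theorem c6u15 : ∀ i, i < 61184 → fc6 i = true := below_step fc6 57360 3824 61184 c6u14 c6c15 rfl
theorem c6u16 : ∀ i, i < 65008 → fc6 i = true := below_step fc6 61184 3824 65008 c6u15 c6c16 rfl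
theorem c6u17 : ∀ i, i < 68832 → fc6 i = true := below_step fc6 65008 3824 68832 c6u16 c6c17 rfl
theorem c6u18 : ∀ i, i < 72656 → fc6 i = true := below_step fc6 68832 3824 72656 c6u17 c6c18 rfl
theorem c6u19 : ∀ i, i < 76480 → fc6 i = true := below_step fc6 72656 3824 76480 c6u18 c6c19 rfl
theorem c6u20 : ∀ i, i < 80304 → fc6 i = true := below_step fc6 76480 3824 80304 c6u19 c6c20 rfl
theorem c6u21 : ∀ i, i < 84128 → fc6 i = true := below_step fc6 80304 3824 84128 c6u20 c6c21 rfl
theorem c6u22 : ∀ i, i < 87952 → fc6 i = true := below_step fc6 84128 3824 87952 c6u21 c6c22 rfl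
theorem c6u23 : ∀ i, i < 91776 → fc6 i = true := below_step fc6 87952 3824 91776 c6u22 c6c23 rfl
theorem c6u24 : ∀ i, i < 95600 → fc6 i = true := below_step fc6 91776 3824 95600 c6u23 c6c24 rfl
theorem c6u25 : ∀ i, i < 99424 → fc6 i = true := below_step fc6 95600 3824 99424 c6u24 c6c25 rfl
theorem c6u26 : ∀ i, i < 103248 → fc6 i = true := below_step fc6 99424 3824 103248 c6u25 c6c26 rfl
theorem c6u27 : ∀ i, i < 107072 → fc6 i = true := below_step fc6 103248 3824 107072 c6u26 c6c27 rfl
theorem c6u28 : ∀ i, i < 110896 → fc6 i = true := below_step fc6 107072 3824 110896 c6u27 c6c28 rfl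
theorem c6u29 : ∀ i, i < 114720 → fc6 i = true := below_step fc6 110896 3824 114720 c6u28 c6c29 rfl
theorem c6u30 : ∀ i, i < 118544 → fc6 i = true := below_step fc6 114720 3824 118544 c6u29 c6c30 rfl
theorem c6u31 : ∀ i, i < 122368 → fc6 i = true := below_step fc6 118544 3824 122368 c6u30 c6c31 rfl
theorem c6u32 : ∀ i, i < 122760 → fc6 i = true := below_step fc6 122368 392 122760 c6u31 c6c32 rfl
theorem c7u0 : ∀ i, i < 3824 → fc7 i = true := below_step fc7 0 3824 3824 (below_zero fc7) c7c0 rfl
theorem c7u1 : ∀ i, i < 7648 → fc7 i = true := below_step fc7 3824 3824 7648 c7u0 c7c1 rfl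
theorem c7u2 : ∀ i, i < 11472 → fc7 i = true := below_step fc7 7648 3824 11472 c7u1 c7c2 rfl
theorem c7u3 : ∀ i, i < 15296 → fc7 i = true := below_step fc7 11472 3824 15296 c7u2 c7c3 rfl
theorem c7u4 : ∀ i, i < 19120 → fc7 i = true := below_step fc7 15296 3824 19120 c7u3 c7c4 rfl
theorem c7u5 : ∀ i, i < 22944 → fc7 i = true := below_step fc7 19120 3824 22944 c7u4 c7c5 rfl
theorem c7u6 : ∀ i, i < 26768 → fc7 i = true := below_step fc7 22944 3824 26768 c7u5 c7c6 rfl
theorem c7u7 : ∀ i, i < 30592 → fc7 i = true := below_step fc7 26768 3824 30592 c7u6 c7c7 rfl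
theorem c7u8 : ∀ i, i < 34416 → fc7 i = true := below_step fc7 30592 3824 34416 c7u7 c7c8 rfl
theorem c7u9 : ∀ i, i < 38240 → fc7 i = true := below_step fc7 34416 3824 38240 c7u8 c7c9 rfl
theorem c7u10 : ∀ i, i < 42064 → fc7 i = true := below_step fc7 38240 3824 42064 c7u9 c7c10 rfl
theorem c7u11 : ∀ i, i < 45888 → fc7 i = true := below_step fc7 42064 3824 45888 c7u10 c7c11 rfl
theorem c7u12 : ∀ i, i < 49712 → fc7 i = true := below_step fc7 45888 3824 49712 c7u11 c7c12 rfl
theorem c7u13 : ∀ i, i < 53536 → fc7 i = true := below_step fc7 49712 3824 53536 c7u12 c7c13 rfl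
theorem c7u14 : ∀ i, i < 57360 → fc7 i = true := below_step fc7 53536 3824 57360 c7u13 c7c14 rfl
theorem c7u15 : ∀ i, i < 61184 → fc7 i = true := below_step fc7 57360 3824 61184 c7u14 c7c15 rfl
theorem c7u16 : ∀ i, i < 65008 → fc7 i = true := below_step fc7 61184 3824 65008 c7u15 c7c16 rfl
theorem c7u17 : ∀ i, i < 68832 → fc7 i = true := below_step fc7 65008 3824 68832 c7u16 c7c17 rfl
theorem c7u18 : ∀ i, i < 72656 → fc7 i = true := below_step fc7 68832 3824 72656 c7u17 c7c18 rfl
theorem c7u19 : ∀ i, i < 76480 → fc7 i = true := below_step fc7 72656 3824 76480 c7u18 c7c19 rfl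
theorem c7u20 : ∀ i, i < 80304 → fc7 i = true := below_step fc7 76480 3824 80304 c7u19 c7c20 rfl
theorem c7u21 : ∀ i, i < 84128 → fc7 i = true := below_step fc7 80304 3824 84128 c7u20 c7c21 rfl
theorem c7u22 : ∀ i, i < 87952 → fc7 i = true := below_step fc7 84128 3824 87952 c7u21 c7c22 rfl
theorem c7u23 : ∀ i, i < 91776 → fc7 i = true := below_step fc7 87952 3824 91776 c7u22 c7c23 rfl
theorem c7u24 : ∀ i, i < 95600 → fc7 i = true := below_step fc7 91776 3824 95600 c7u23 c7c24 rfl
theorem c7u25 : ∀ i, i < 99424 → fc7 i = true := below_step fc7 95600 3824 99424 c7u24 c7c25 rfl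
theorem c7u26 : ∀ i, i < 103248 → fc7 i = true := below_step fc7 99424 3824 103248 c7u25 c7c26 rfl
theorem c7u27 : ∀ i, i < 107072 → fc7 i = true := below_step fc7 103248 3824 107072 c7u26 c7c27 rfl
theorem c7u28 : ∀ i, i < 110896 → fc7 i = true := below_step fc7 107072 3824 110896 c7u27 c7c28 rfl
theorem c7u29 : ∀ i, i < 114720 → fc7 i = true := below_step fc7 110896 3824 114720 c7u28 c7c29 rfl
theorem c7u30 : ∀ i, i < 118544 → fc7 i = true := below_step fc7 114720 3824 118544 c7u29 c7c30 rfl
theorem c7u31 : ∀ i, i < 122368 → fc7 i = true := below_step fc7 118544 3824 122368 c7u30 c7c31 rfl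
theorem c7u32 : ∀ i, i < 122760 → fc7 i = true := below_step fc7 122368 392 122760 c7u31 c7c32 rfl
theorem tu0 : ∀ v, 1 ≤ v → v ≤ 2549 → ft v = true := slots_step ft 0 2549 2549 (slots_zero ft) tc0 rfl
theorem tu1 : ∀ v, 1 ≤ v → v ≤ 5098 → ft v = true := slots_step ft 2549 2549 5098 tu0 tc1 rfl
theorem tu2 : ∀ v, 1 ≤ v → v ≤ 7647 → ft v = true := slots_step ft 5098 2549 7647 tu1 tc2 rfl
theorem tu3 : ∀ v, 1 ≤ v → v ≤ 10196 → ft v = true := slots_step ft 7647 2549 10196 tu2 tc3 rfl
theorem tu4 : ∀ v, 1 ≤ v → v ≤ 12745 → ft v = true := slots_step ft 10196 2549 12745 tu3 tc4 rfl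
theorem tu5 : ∀ v, 1 ≤ v → v ≤ 15294 → ft v = true := slots_step ft 12745 2549 15294 tu4 tc5 rfl
theorem tu6 : ∀ v, 1 ≤ v → v ≤ 17843 → ft v = true := slots_step ft 15294 2549 17843 tu5 tc6 rfl
theorem tu7 : ∀ v, 1 ≤ v → v ≤ 20392 → ft v = true := slots_step ft 17843 2549 20392 tu6 tc7 rfl
theorem tu8 : ∀ v, 1 ≤ v → v ≤ 22941 → ft v = true := slots_step ft 20392 2549 22941 tu7 tc8 rfl
theorem tu9 : ∀ v, 1 ≤ v → v ≤ 25490 → ft v = true := slots_step ft 22941 2549 25490 tu8 tc9 rfl
theorem tu10 : ∀ v, 1 ≤ v → v ≤ 28039 → ft v = true := slots_step ft 25490 2549 28039 tu9 tc10 rfl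
theorem tu11 : ∀ v, 1 ≤ v → v ≤ 30588 → ft v = true := slots_step ft 28039 2549 30588 tu10 tc11 rfl
theorem tu12 : ∀ v, 1 ≤ v → v ≤ 33137 → ft v = true := slots_step ft 30588 2549 33137 tu11 tc12 rfl
theorem tu13 : ∀ v, 1 ≤ v → v ≤ 35686 → ft v = true := slots_step ft 33137 2549 35686 tu12 tc13 rfl
theorem tu14 : ∀ v, 1 ≤ v → v ≤ 38235 → ft v = true := slots_step ft 35686 2549 38235 tu13 tc14 rfl
theorem tu15 : ∀ v, 1 ≤ v → v ≤ 40784 → ft v = true := slots_step ft 38235 2549 40784 tu14 tc15 rfl
theorem tu16 : ∀ v, 1 ≤ v → v ≤ 43333 → ft v = true := slots_step ft 40784 2549 43333 tu15 tc16 rfl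
theorem tu17 : ∀ v, 1 ≤ v → v ≤ 45882 → ft v = true := slots_step ft 43333 2549 45882 tu16 tc17 rfl
theorem tu18 : ∀ v, 1 ≤ v → v ≤ 48431 → ft v = true := slots_step ft 45882 2549 48431 tu17 tc18 rfl
theorem tu19 : ∀ v, 1 ≤ v → v ≤ 50980 → ft v = true := slots_step ft 48431 2549 50980 tu18 tc19 rfl
theorem tu20 : ∀ v, 1 ≤ v → v ≤ 53529 → ft v = true := slots_step ft 50980 2549 53529 tu19 tc20 rfl
theorem tu21 : ∀ v, 1 ≤ v → v ≤ 56078 → ft v = true := slots_step ft 53529 2549 56078 tu20 tc21 rfl
theorem tu22 : ∀ v, 1 ≤ v → v ≤ 58627 → ft v = true := slots_step ft 56078 2549 58627 tu21 tc22 rfl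
theorem tu23 : ∀ v, 1 ≤ v → v ≤ 61176 → ft v = true := slots_step ft 58627 2549 61176 tu22 tc23 rfl
theorem tu24 : ∀ v, 1 ≤ v → v ≤ 63725 → ft v = true := slots_step ft 61176 2549 63725 tu23 tc24 rfl
theorem tu25 : ∀ v, 1 ≤ v → v ≤ 66274 → ft v = true := slots_step ft 63725 2549 66274 tu24 tc25 rfl
theorem tu26 : ∀ v, 1 ≤ v → v ≤ 68823 → ft v = true := slots_step ft 66274 2549 68823 tu25 tc26 rfl
theorem tu27 : ∀ v, 1 ≤ v → v ≤ 71372 → ft v = true := slots_step ft 68823 2549 71372 tu26 tc27 rfl
theorem tu28 : ∀ v, 1 ≤ v → v ≤ 73921 → ft v = true := slots_step ft 71372 2549 73921 tu27 tc28 rfl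
theorem tu29 : ∀ v, 1 ≤ v → v ≤ 76470 → ft v = true := slots_step ft 73921 2549 76470 tu28 tc29 rfl
theorem tu30 : ∀ v, 1 ≤ v → v ≤ 79019 → ft v = true := slots_step ft 76470 2549 79019 tu29 tc30 rfl
theorem tu31 : ∀ v, 1 ≤ v → v ≤ 81568 → ft v = true := slots_step ft 79019 2549 81568 tu30 tc31 rfl
theorem tu32 : ∀ v, 1 ≤ v → v ≤ 84117 → ft v = true := slots_step ft 81568 2549 84117 tu31 tc32 rfl
theorem tu33 : ∀ v, 1 ≤ v → v ≤ 86666 → ft v = true := slots_step ft 84117 2549 86666 tu32 tc33 rfl
theorem tu34 : ∀ v, 1 ≤ v → v ≤ 89215 → ft v = true := slots_step ft 86666 2549 89215 tu33 tc34 rfl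
theorem tu35 : ∀ v, 1 ≤ v → v ≤ 91764 → ft v = true := slots_step ft 89215 2549 91764 tu34 tc35 rfl
theorem tu36 : ∀ v, 1 ≤ v → v ≤ 94313 → ft v = true := slots_step ft 91764 2549 94313 tu35 tc36 rfl
theorem tu37 : ∀ v, 1 ≤ v → v ≤ 96862 → ft v = true := slots_step ft 94313 2549 96862 tu36 tc37 rfl
theorem tu38 : ∀ v, 1 ≤ v → v ≤ 99411 → ft v = true := slots_step ft 96862 2549 99411 tu37 tc38 rfl
theorem tu39 : ∀ v, 1 ≤ v → v ≤ 101960 → ft v = true := slots_step ft 99411 2549 101960 tu38 tc39 rfl
theorem tu40 : ∀ v, 1 ≤ v → v ≤ 104509 → ft v = true := slots_step ft 101960 2549 104509 tu39 tc40 rfl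
theorem tu41 : ∀ v, 1 ≤ v → v ≤ 107058 → ft v = true := slots_step ft 104509 2549 107058 tu40 tc41 rfl
theorem tu42 : ∀ v, 1 ≤ v → v ≤ 109607 → ft v = true := slots_step ft 107058 2549 109607 tu41 tc42 rfl
theorem tu43 : ∀ v, 1 ≤ v → v ≤ 112156 → ft v = true := slots_step ft 109607 2549 112156 tu42 tc43 rfl
theorem tu44 : ∀ v, 1 ≤ v → v ≤ 114705 → ft v = true := slots_step ft 112156 2549 114705 tu43 tc44 rfl
theorem tu45 : ∀ v, 1 ≤ v → v ≤ 117254 → ft v = true := slots_step ft 114705 2549 117254 tu44 tc45 rfl
theorem tu46 : ∀ v, 1 ≤ v → v ≤ 119803 → ft v = true := slots_step ft 117254 2549 119803 tu45 tc46 rfl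
theorem tu47 : ∀ v, 1 ≤ v → v ≤ 122352 → ft v = true := slots_step ft 119803 2549 122352 tu46 tc47 rfl
theorem tu48 : ∀ v, 1 ≤ v → v ≤ 122759 → ft v = true := slots_step ft 122352 407 122759 tu47 tc48 rfl
theorem ou0 : ∀ i, i < 212 → fo i = true := below_step fo 0 212 212 (below_zero fo) oc0 rfl
theorem ou1 : ∀ i, i < 424 → fo i = true := below_step fo 212 212 424 ou0 oc1 rfl
theorem ou2 : ∀ i, i < 636 → fo i = true := below_step fo 424 212 636 ou1 oc2 rfl
theorem ou3 : ∀ i, i < 848 → fo i = true := below_step fo 636 212 848 ou2 oc3 rfl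
theorem ou4 : ∀ i, i < 1060 → fo i = true := below_step fo 848 212 1060 ou3 oc4 rfl
theorem ou5 : ∀ i, i < 1272 → fo i = true := below_step fo 1060 212 1272 ou4 oc5 rfl
theorem ou6 : ∀ i, i < 1484 → fo i = true := below_step fo 1272 212 1484 ou5 oc6 rfl
theorem ou7 : ∀ i, i < 1696 → fo i = true := below_step fo 1484 212 1696 ou6 oc7 rfl
theorem ou8 : ∀ i, i < 1908 → fo i = true := below_step fo 1696 212 1908 ou7 oc8 rfl
theorem ou9 : ∀ i, i < 2120 → fo i = true := below_step fo 1908 212 2120 ou8 oc9 rfl
theorem ou10 : ∀ i, i < 2332 → fo i = true := below_step fo 2120 212 2332 ou9 oc10 rfl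
theorem ou11 : ∀ i, i < 2544 → fo i = true := below_step fo 2332 212 2544 ou10 oc11 rfl
theorem ou12 : ∀ i, i < 2756 → fo i = true := below_step fo 2544 212 2756 ou11 oc12 rfl
theorem ou13 : ∀ i, i < 2968 → fo i = true := below_step fo 2756 212 2968 ou12 oc13 rfl
theorem ou14 : ∀ i, i < 3180 → fo i = true := below_step fo 2968 212 3180 ou13 oc14 rfl
theorem ou15 : ∀ i, i < 3392 → fo i = true := below_step fo 3180 212 3392 ou14 oc15 rfl
theorem ou16 : ∀ i, i < 3604 → fo i = true := below_step fo 3392 212 3604 ou15 oc16 rfl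
theorem ou17 : ∀ i, i < 3816 → fo i = true := below_step fo 3604 212 3816 ou16 oc17 rfl
theorem ou18 : ∀ i, i < 4028 → fo i = true := below_step fo 3816 212 4028 ou17 oc18 rfl
theorem ou19 : ∀ i, i < 4240 → fo i = true := below_step fo 4028 212 4240 ou18 oc19 rfl
theorem ou20 : ∀ i, i < 4452 → fo i = true := below_step fo 4240 212 4452 ou19 oc20 rfl
theorem ou21 : ∀ i, i < 4664 → fo i = true := below_step fo 4452 212 4664 ou20 oc21 rfl
theorem ou22 : ∀ i, i < 4876 → fo i = true := below_step fo 4664 212 4876 ou21 oc22 rfl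
theorem ou23 : ∀ i, i < 5088 → fo i = true := below_step fo 4876 212 5088 ou22 oc23 rfl
theorem ou24 : ∀ i, i < 5300 → fo i = true := below_step fo 5088 212 5300 ou23 oc24 rfl
theorem ou25 : ∀ i, i < 5512 → fo i = true := below_step fo 5300 212 5512 ou24 oc25 rfl
theorem ou26 : ∀ i, i < 5724 → fo i = true := below_step fo 5512 212 5724 ou25 oc26 rfl
theorem ou27 : ∀ i, i < 5936 → fo i = true := below_step fo 5724 212 5936 ou26 oc27 rfl
theorem ou28 : ∀ i, i < 6148 → fo i = true := below_step fo 5936 212 6148 ou27 oc28 rfl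
theorem ou29 : ∀ i, i < 6360 → fo i = true := below_step fo 6148 212 6360 ou28 oc29 rfl
theorem ou30 : ∀ i, i < 6572 → fo i = true := below_step fo 6360 212 6572 ou29 oc30 rfl
theorem ou31 : ∀ i, i < 6784 → fo i = true := below_step fo 6572 212 6784 ou30 oc31 rfl
theorem ou32 : ∀ i, i < 6996 → fo i = true := below_step fo 6784 212 6996 ou31 oc32 rfl
theorem ou33 : ∀ i, i < 7208 → fo i = true := below_step fo 6996 212 7208 ou32 oc33 rfl
theorem ou34 : ∀ i, i < 7420 → fo i = true := below_step fo 7208 212 7420 ou33 oc34 rfl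
theorem ou35 : ∀ i, i < 7632 → fo i = true := below_step fo 7420 212 7632 ou34 oc35 rfl
theorem ou36 : ∀ i, i < 7844 → fo i = true := below_step fo 7632 212 7844 ou35 oc36 rfl
theorem ou37 : ∀ i, i < 8056 → fo i = true := below_step fo 7844 212 8056 ou36 oc37 rfl
theorem ou38 : ∀ i, i < 8268 → fo i = true := below_step fo 8056 212 8268 ou37 oc38 rfl
theorem ou39 : ∀ i, i < 8480 → fo i = true := below_step fo 8268 212 8480 ou38 oc39 rfl
theorem ou40 : ∀ i, i < 8692 → fo i = true := below_step fo 8480 212 8692 ou39 oc40 rfl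
theorem ou41 : ∀ i, i < 8904 → fo i = true := below_step fo 8692 212 8904 ou40 oc41 rfl
theorem ou42 : ∀ i, i < 9116 → fo i = true := below_step fo 8904 212 9116 ou41 oc42 rfl
theorem ou43 : ∀ i, i < 9328 → fo i = true := below_step fo 9116 212 9328 ou42 oc43 rfl
theorem ou44 : ∀ i, i < 9540 → fo i = true := below_step fo 9328 212 9540 ou43 oc44 rfl
theorem ou45 : ∀ i, i < 9752 → fo i = true := below_step fo 9540 212 9752 ou44 oc45 rfl
theorem ou46 : ∀ i, i < 9964 → fo i = true := below_step fo 9752 212 9964 ou45 oc46 rfl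
theorem ou47 : ∀ i, i < 10176 → fo i = true := below_step fo 9964 212 10176 ou46 oc47 rfl
theorem ou48 : ∀ i, i < 10388 → fo i = true := below_step fo 10176 212 10388 ou47 oc48 rfl
theorem ou49 : ∀ i, i < 10600 → fo i = true := below_step fo 10388 212 10600 ou48 oc49 rfl
theorem ou50 : ∀ i, i < 10812 → fo i = true := below_step fo 10600 212 10812 ou49 oc50 rfl
theorem ou51 : ∀ i, i < 11024 → fo i = true := below_step fo 10812 212 11024 ou50 oc51 rfl
theorem ou52 : ∀ i, i < 11236 → fo i = true := below_step fo 11024 212 11236 ou51 oc52 rfl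
theorem ou53 : ∀ i, i < 11448 → fo i = true := below_step fo 11236 212 11448 ou52 oc53 rfl
theorem ou54 : ∀ i, i < 11660 → fo i = true := below_step fo 11448 212 11660 ou53 oc54 rfl
theorem ou55 : ∀ i, i < 11872 → fo i = true := below_step fo 11660 212 11872 ou54 oc55 rfl
theorem ou56 : ∀ i, i < 12084 → fo i = true := below_step fo 11872 212 12084 ou55 oc56 rfl
theorem ou57 : ∀ i, i < 12296 → fo i = true := below_step fo 12084 212 12296 ou56 oc57 rfl
theorem ou58 : ∀ i, i < 12508 → fo i = true := below_step fo 12296 212 12508 ou57 oc58 rfl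
theorem ou59 : ∀ i, i < 12720 → fo i = true := below_step fo 12508 212 12720 ou58 oc59 rfl
theorem ou60 : ∀ i, i < 12932 → fo i = true := below_step fo 12720 212 12932 ou59 oc60 rfl
theorem ou61 : ∀ i, i < 13144 → fo i = true := below_step fo 12932 212 13144 ou60 oc61 rfl
theorem ou62 : ∀ i, i < 13356 → fo i = true := below_step fo 13144 212 13356 ou61 oc62 rfl
theorem ou63 : ∀ i, i < 13568 → fo i = true := below_step fo 13356 212 13568 ou62 oc63 rfl
theorem ou64 : ∀ i, i < 13780 → fo i = true := below_step fo 13568 212 13780 ou63 oc64 rfl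
theorem ou65 : ∀ i, i < 13992 → fo i = true := below_step fo 13780 212 13992 ou64 oc65 rfl
theorem ou66 : ∀ i, i < 14204 → fo i = true := below_step fo 13992 212 14204 ou65 oc66 rfl
theorem ou67 : ∀ i, i < 14416 → fo i = true := below_step fo 14204 212 14416 ou66 oc67 rfl
theorem ou68 : ∀ i, i < 14628 → fo i = true := below_step fo 14416 212 14628 ou67 oc68 rfl
theorem ou69 : ∀ i, i < 14840 → fo i = true := below_step fo 14628 212 14840 ou68 oc69 rfl
theorem ou70 : ∀ i, i < 15052 → fo i = true := below_step fo 14840 212 15052 ou69 oc70 rfl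
theorem ou71 : ∀ i, i < 15264 → fo i = true := below_step fo 15052 212 15264 ou70 oc71 rfl
theorem ou72 : ∀ i, i < 15476 → fo i = true := below_step fo 15264 212 15476 ou71 oc72 rfl
theorem ou73 : ∀ i, i < 15688 → fo i = true := below_step fo 15476 212 15688 ou72 oc73 rfl
theorem ou74 : ∀ i, i < 15900 → fo i = true := below_step fo 15688 212 15900 ou73 oc74 rfl
theorem ou75 : ∀ i, i < 16112 → fo i = true := below_step fo 15900 212 16112 ou74 oc75 rfl
theorem ou76 : ∀ i, i < 16324 → fo i = true := below_step fo 16112 212 16324 ou75 oc76 rfl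
theorem ou77 : ∀ i, i < 16536 → fo i = true := below_step fo 16324 212 16536 ou76 oc77 rfl
theorem ou78 : ∀ i, i < 16748 → fo i = true := below_step fo 16536 212 16748 ou77 oc78 rfl
theorem ou79 : ∀ i, i < 16960 → fo i = true := below_step fo 16748 212 16960 ou78 oc79 rfl
theorem ou80 : ∀ i, i < 17172 → fo i = true := below_step fo 16960 212 17172 ou79 oc80 rfl
theorem ou81 : ∀ i, i < 17384 → fo i = true := below_step fo 17172 212 17384 ou80 oc81 rfl
theorem ou82 : ∀ i, i < 17596 → fo i = true := below_step fo 17384 212 17596 ou81 oc82 rfl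
theorem ou83 : ∀ i, i < 17808 → fo i = true := below_step fo 17596 212 17808 ou82 oc83 rfl
theorem ou84 : ∀ i, i < 18020 → fo i = true := below_step fo 17808 212 18020 ou83 oc84 rfl
theorem ou85 : ∀ i, i < 18232 → fo i = true := below_step fo 18020 212 18232 ou84 oc85 rfl
theorem ou86 : ∀ i, i < 18444 → fo i = true := below_step fo 18232 212 18444 ou85 oc86 rfl
theorem ou87 : ∀ i, i < 18656 → fo i = true := below_step fo 18444 212 18656 ou86 oc87 rfl
theorem ou88 : ∀ i, i < 18868 → fo i = true := below_step fo 18656 212 18868 ou87 oc88 rfl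
theorem ou89 : ∀ i, i < 19080 → fo i = true := below_step fo 18868 212 19080 ou88 oc89 rfl
theorem ou90 : ∀ i, i < 19292 → fo i = true := below_step fo 19080 212 19292 ou89 oc90 rfl
theorem ou91 : ∀ i, i < 19504 → fo i = true := below_step fo 19292 212 19504 ou90 oc91 rfl
theorem ou92 : ∀ i, i < 19716 → fo i = true := below_step fo 19504 212 19716 ou91 oc92 rfl
theorem ou93 : ∀ i, i < 19928 → fo i = true := below_step fo 19716 212 19928 ou92 oc93 rfl
theorem ou94 : ∀ i, i < 20140 → fo i = true := below_step fo 19928 212 20140 ou93 oc94 rfl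
theorem ou95 : ∀ i, i < 20352 → fo i = true := below_step fo 20140 212 20352 ou94 oc95 rfl
theorem ou96 : ∀ i, i < 20564 → fo i = true := below_step fo 20352 212 20564 ou95 oc96 rfl
theorem ou97 : ∀ i, i < 20776 → fo i = true := below_step fo 20564 212 20776 ou96 oc97 rfl
theorem ou98 : ∀ i, i < 20988 → fo i = true := below_step fo 20776 212 20988 ou97 oc98 rfl
theorem ou99 : ∀ i, i < 21200 → fo i = true := below_step fo 20988 212 21200 ou98 oc99 rfl
theorem ou100 : ∀ i, i < 21412 → fo i = true := below_step fo 21200 212 21412 ou99 oc100 rfl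
theorem ou101 : ∀ i, i < 21624 → fo i = true := below_step fo 21412 212 21624 ou100 oc101 rfl
theorem ou102 : ∀ i, i < 21836 → fo i = true := below_step fo 21624 212 21836 ou101 oc102 rfl
theorem ou103 : ∀ i, i < 22048 → fo i = true := below_step fo 21836 212 22048 ou102 oc103 rfl
theorem ou104 : ∀ i, i < 22260 → fo i = true := below_step fo 22048 212 22260 ou103 oc104 rfl
theorem ou105 : ∀ i, i < 22472 → fo i = true := below_step fo 22260 212 22472 ou104 oc105 rfl
theorem ou106 : ∀ i, i < 22684 → fo i = true := below_step fo 22472 212 22684 ou105 oc106 rfl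
theorem ou107 : ∀ i, i < 22896 → fo i = true := below_step fo 22684 212 22896 ou106 oc107 rfl
theorem ou108 : ∀ i, i < 23108 → fo i = true := below_step fo 22896 212 23108 ou107 oc108 rfl
theorem ou109 : ∀ i, i < 23320 → fo i = true := below_step fo 23108 212 23320 ou108 oc109 rfl
theorem ou110 : ∀ i, i < 23532 → fo i = true := below_step fo 23320 212 23532 ou109 oc110 rfl
theorem ou111 : ∀ i, i < 23744 → fo i = true := below_step fo 23532 212 23744 ou110 oc111 rfl
theorem ou112 : ∀ i, i < 23956 → fo i = true := below_step fo 23744 212 23956 ou111 oc112 rfl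
theorem ou113 : ∀ i, i < 24168 → fo i = true := below_step fo 23956 212 24168 ou112 oc113 rfl
theorem ou114 : ∀ i, i < 24380 → fo i = true := below_step fo 24168 212 24380 ou113 oc114 rfl
theorem ou115 : ∀ i, i < 24592 → fo i = true := below_step fo 24380 212 24592 ou114 oc115 rfl
theorem ou116 : ∀ i, i < 24804 → fo i = true := below_step fo 24592 212 24804 ou115 oc116 rfl
theorem ou117 : ∀ i, i < 25016 → fo i = true := below_step fo 24804 212 25016 ou116 oc117 rfl
theorem ou118 : ∀ i, i < 25228 → fo i = true := below_step fo 25016 212 25228 ou117 oc118 rfl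
theorem ou119 : ∀ i, i < 25440 → fo i = true := below_step fo 25228 212 25440 ou118 oc119 rfl
theorem ou120 : ∀ i, i < 25652 → fo i = true := below_step fo 25440 212 25652 ou119 oc120 rfl
theorem ou121 : ∀ i, i < 25864 → fo i = true := below_step fo 25652 212 25864 ou120 oc121 rfl
theorem ou122 : ∀ i, i < 26076 → fo i = true := below_step fo 25864 212 26076 ou121 oc122 rfl
theorem ou123 : ∀ i, i < 26288 → fo i = true := below_step fo 26076 212 26288 ou122 oc123 rfl
theorem ou124 : ∀ i, i < 26500 → fo i = true := below_step fo 26288 212 26500 ou123 oc124 rfl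
theorem ou125 : ∀ i, i < 26712 → fo i = true := below_step fo 26500 212 26712 ou124 oc125 rfl
theorem ou126 : ∀ i, i < 26924 → fo i = true := below_step fo 26712 212 26924 ou125 oc126 rfl
theorem ou127 : ∀ i, i < 27136 → fo i = true := below_step fo 26924 212 27136 ou126 oc127 rfl
theorem ou128 : ∀ i, i < 27348 → fo i = true := below_step fo 27136 212 27348 ou127 oc128 rfl
theorem ou129 : ∀ i, i < 27560 → fo i = true := below_step fo 27348 212 27560 ou128 oc129 rfl
theorem ou130 : ∀ i, i < 27772 → fo i = true := below_step fo 27560 212 27772 ou129 oc130 rfl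
theorem ou131 : ∀ i, i < 27984 → fo i = true := below_step fo 27772 212 27984 ou130 oc131 rfl
theorem ou132 : ∀ i, i < 28196 → fo i = true := below_step fo 27984 212 28196 ou131 oc132 rfl
theorem ou133 : ∀ i, i < 28408 → fo i = true := below_step fo 28196 212 28408 ou132 oc133 rfl
theorem ou134 : ∀ i, i < 28620 → fo i = true := below_step fo 28408 212 28620 ou133 oc134 rfl
theorem ou135 : ∀ i, i < 28832 → fo i = true := below_step fo 28620 212 28832 ou134 oc135 rfl
theorem ou136 : ∀ i, i < 29044 → fo i = true := below_step fo 28832 212 29044 ou135 oc136 rfl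
theorem ou137 : ∀ i, i < 29256 → fo i = true := below_step fo 29044 212 29256 ou136 oc137 rfl
theorem ou138 : ∀ i, i < 29468 → fo i = true := below_step fo 29256 212 29468 ou137 oc138 rfl
theorem ou139 : ∀ i, i < 29680 → fo i = true := below_step fo 29468 212 29680 ou138 oc139 rfl
theorem ou140 : ∀ i, i < 29892 → fo i = true := below_step fo 29680 212 29892 ou139 oc140 rfl
theorem ou141 : ∀ i, i < 30104 → fo i = true := below_step fo 29892 212 30104 ou140 oc141 rfl
theorem ou142 : ∀ i, i < 30316 → fo i = true := below_step fo 30104 212 30316 ou141 oc142 rfl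
theorem ou143 : ∀ i, i < 30528 → fo i = true := below_step fo 30316 212 30528 ou142 oc143 rfl
theorem ou144 : ∀ i, i < 30740 → fo i = true := below_step fo 30528 212 30740 ou143 oc144 rfl
theorem ou145 : ∀ i, i < 30952 → fo i = true := below_step fo 30740 212 30952 ou144 oc145 rfl
theorem ou146 : ∀ i, i < 31164 → fo i = true := below_step fo 30952 212 31164 ou145 oc146 rfl
theorem ou147 : ∀ i, i < 31376 → fo i = true := below_step fo 31164 212 31376 ou146 oc147 rfl
theorem ou148 : ∀ i, i < 31588 → fo i = true := below_step fo 31376 212 31588 ou147 oc148 rfl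
theorem ou149 : ∀ i, i < 31800 → fo i = true := below_step fo 31588 212 31800 ou148 oc149 rfl
theorem ou150 : ∀ i, i < 32012 → fo i = true := below_step fo 31800 212 32012 ou149 oc150 rfl
theorem ou151 : ∀ i, i < 32224 → fo i = true := below_step fo 32012 212 32224 ou150 oc151 rfl
theorem ou152 : ∀ i, i < 32436 → fo i = true := below_step fo 32224 212 32436 ou151 oc152 rfl
theorem ou153 : ∀ i, i < 32648 → fo i = true := below_step fo 32436 212 32648 ou152 oc153 rfl
theorem ou154 : ∀ i, i < 32860 → fo i = true := below_step fo 32648 212 32860 ou153 oc154 rfl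
theorem ou155 : ∀ i, i < 33072 → fo i = true := below_step fo 32860 212 33072 ou154 oc155 rfl
theorem ou156 : ∀ i, i < 33284 → fo i = true := below_step fo 33072 212 33284 ou155 oc156 rfl
theorem ou157 : ∀ i, i < 33496 → fo i = true := below_step fo 33284 212 33496 ou156 oc157 rfl
theorem ou158 : ∀ i, i < 33708 → fo i = true := below_step fo 33496 212 33708 ou157 oc158 rfl
theorem ou159 : ∀ i, i < 33920 → fo i = true := below_step fo 33708 212 33920 ou158 oc159 rfl
theorem ou160 : ∀ i, i < 34132 → fo i = true := below_step fo 33920 212 34132 ou159 oc160 rfl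
theorem ou161 : ∀ i, i < 34344 → fo i = true := below_step fo 34132 212 34344 ou160 oc161 rfl
theorem ou162 : ∀ i, i < 34556 → fo i = true := below_step fo 34344 212 34556 ou161 oc162 rfl
theorem ou163 : ∀ i, i < 34768 → fo i = true := below_step fo 34556 212 34768 ou162 oc163 rfl
theorem ou164 : ∀ i, i < 34980 → fo i = true := below_step fo 34768 212 34980 ou163 oc164 rfl
theorem ou165 : ∀ i, i < 35192 → fo i = true := below_step fo 34980 212 35192 ou164 oc165 rfl
theorem ou166 : ∀ i, i < 35404 → fo i = true := below_step fo 35192 212 35404 ou165 oc166 rfl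
theorem ou167 : ∀ i, i < 35616 → fo i = true := below_step fo 35404 212 35616 ou166 oc167 rfl
theorem ou168 : ∀ i, i < 35828 → fo i = true := below_step fo 35616 212 35828 ou167 oc168 rfl
theorem ou169 : ∀ i, i < 36040 → fo i = true := below_step fo 35828 212 36040 ou168 oc169 rfl
theorem ou170 : ∀ i, i < 36252 → fo i = true := below_step fo 36040 212 36252 ou169 oc170 rfl
theorem ou171 : ∀ i, i < 36464 → fo i = true := below_step fo 36252 212 36464 ou170 oc171 rfl
theorem ou172 : ∀ i, i < 36676 → fo i = true := below_step fo 36464 212 36676 ou171 oc172 rfl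
theorem ou173 : ∀ i, i < 36888 → fo i = true := below_step fo 36676 212 36888 ou172 oc173 rfl
theorem ou174 : ∀ i, i < 37100 → fo i = true := below_step fo 36888 212 37100 ou173 oc174 rfl
theorem ou175 : ∀ i, i < 37312 → fo i = true := below_step fo 37100 212 37312 ou174 oc175 rfl
theorem ou176 : ∀ i, i < 37524 → fo i = true := below_step fo 37312 212 37524 ou175 oc176 rfl
theorem ou177 : ∀ i, i < 37736 → fo i = true := below_step fo 37524 212 37736 ou176 oc177 rfl
theorem ou178 : ∀ i, i < 37948 → fo i = true := below_step fo 37736 212 37948 ou177 oc178 rfl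
theorem ou179 : ∀ i, i < 38160 → fo i = true := below_step fo 37948 212 38160 ou178 oc179 rfl
theorem ou180 : ∀ i, i < 38372 → fo i = true := below_step fo 38160 212 38372 ou179 oc180 rfl
theorem ou181 : ∀ i, i < 38584 → fo i = true := below_step fo 38372 212 38584 ou180 oc181 rfl
theorem ou182 : ∀ i, i < 38796 → fo i = true := below_step fo 38584 212 38796 ou181 oc182 rfl
theorem ou183 : ∀ i, i < 39008 → fo i = true := below_step fo 38796 212 39008 ou182 oc183 rfl
theorem ou184 : ∀ i, i < 39220 → fo i = true := below_step fo 39008 212 39220 ou183 oc184 rfl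
theorem ou185 : ∀ i, i < 39432 → fo i = true := below_step fo 39220 212 39432 ou184 oc185 rfl
theorem ou186 : ∀ i, i < 39644 → fo i = true := below_step fo 39432 212 39644 ou185 oc186 rfl
theorem ou187 : ∀ i, i < 39856 → fo i = true := below_step fo 39644 212 39856 ou186 oc187 rfl
theorem ou188 : ∀ i, i < 40068 → fo i = true := below_step fo 39856 212 40068 ou187 oc188 rfl
theorem ou189 : ∀ i, i < 40280 → fo i = true := below_step fo 40068 212 40280 ou188 oc189 rfl
theorem ou190 : ∀ i, i < 40492 → fo i = true := below_step fo 40280 212 40492 ou189 oc190 rfl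
theorem ou191 : ∀ i, i < 40704 → fo i = true := below_step fo 40492 212 40704 ou190 oc191 rfl
theorem ou192 : ∀ i, i < 40916 → fo i = true := below_step fo 40704 212 40916 ou191 oc192 rfl
theorem ou193 : ∀ i, i < 41128 → fo i = true := below_step fo 40916 212 41128 ou192 oc193 rfl
theorem ou194 : ∀ i, i < 41340 → fo i = true := below_step fo 41128 212 41340 ou193 oc194 rfl
theorem ou195 : ∀ i, i < 41552 → fo i = true := below_step fo 41340 212 41552 ou194 oc195 rfl
theorem ou196 : ∀ i, i < 41764 → fo i = true := below_step fo 41552 212 41764 ou195 oc196 rfl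
theorem ou197 : ∀ i, i < 41976 → fo i = true := below_step fo 41764 212 41976 ou196 oc197 rfl
theorem ou198 : ∀ i, i < 42188 → fo i = true := below_step fo 41976 212 42188 ou197 oc198 rfl
theorem ou199 : ∀ i, i < 42400 → fo i = true := below_step fo 42188 212 42400 ou198 oc199 rfl
theorem ou200 : ∀ i, i < 42612 → fo i = true := below_step fo 42400 212 42612 ou199 oc200 rfl
theorem ou201 : ∀ i, i < 42824 → fo i = true := below_step fo 42612 212 42824 ou200 oc201 rfl
theorem ou202 : ∀ i, i < 43036 → fo i = true := below_step fo 42824 212 43036 ou201 oc202 rfl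
theorem ou203 : ∀ i, i < 43248 → fo i = true := below_step fo 43036 212 43248 ou202 oc203 rfl
theorem ou204 : ∀ i, i < 43460 → fo i = true := below_step fo 43248 212 43460 ou203 oc204 rfl
theorem ou205 : ∀ i, i < 43672 → fo i = true := below_step fo 43460 212 43672 ou204 oc205 rfl
theorem ou206 : ∀ i, i < 43884 → fo i = true := below_step fo 43672 212 43884 ou205 oc206 rfl
theorem ou207 : ∀ i, i < 44096 → fo i = true := below_step fo 43884 212 44096 ou206 oc207 rfl
theorem ou208 : ∀ i, i < 44308 → fo i = true := below_step fo 44096 212 44308 ou207 oc208 rfl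
theorem ou209 : ∀ i, i < 44520 → fo i = true := below_step fo 44308 212 44520 ou208 oc209 rfl
theorem ou210 : ∀ i, i < 44732 → fo i = true := below_step fo 44520 212 44732 ou209 oc210 rfl
theorem ou211 : ∀ i, i < 44944 → fo i = true := below_step fo 44732 212 44944 ou210 oc211 rfl
theorem ou212 : ∀ i, i < 45156 → fo i = true := below_step fo 44944 212 45156 ou211 oc212 rfl
theorem ou213 : ∀ i, i < 45368 → fo i = true := below_step fo 45156 212 45368 ou212 oc213 rfl
theorem ou214 : ∀ i, i < 45580 → fo i = true := below_step fo 45368 212 45580 ou213 oc214 rfl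
theorem ou215 : ∀ i, i < 45792 → fo i = true := below_step fo 45580 212 45792 ou214 oc215 rfl
theorem ou216 : ∀ i, i < 46004 → fo i = true := below_step fo 45792 212 46004 ou215 oc216 rfl
theorem ou217 : ∀ i, i < 46216 → fo i = true := below_step fo 46004 212 46216 ou216 oc217 rfl
theorem ou218 : ∀ i, i < 46428 → fo i = true := below_step fo 46216 212 46428 ou217 oc218 rfl
theorem ou219 : ∀ i, i < 46640 → fo i = true := below_step fo 46428 212 46640 ou218 oc219 rfl
theorem ou220 : ∀ i, i < 46852 → fo i = true := below_step fo 46640 212 46852 ou219 oc220 rfl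
theorem ou221 : ∀ i, i < 47064 → fo i = true := below_step fo 46852 212 47064 ou220 oc221 rfl
theorem ou222 : ∀ i, i < 47276 → fo i = true := below_step fo 47064 212 47276 ou221 oc222 rfl
theorem ou223 : ∀ i, i < 47488 → fo i = true := below_step fo 47276 212 47488 ou222 oc223 rfl
theorem ou224 : ∀ i, i < 47700 → fo i = true := below_step fo 47488 212 47700 ou223 oc224 rfl
theorem ou225 : ∀ i, i < 47912 → fo i = true := below_step fo 47700 212 47912 ou224 oc225 rfl
theorem ou226 : ∀ i, i < 48124 → fo i = true := below_step fo 47912 212 48124 ou225 oc226 rfl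
theorem ou227 : ∀ i, i < 48336 → fo i = true := below_step fo 48124 212 48336 ou226 oc227 rfl
theorem ou228 : ∀ i, i < 48548 → fo i = true := below_step fo 48336 212 48548 ou227 oc228 rfl
theorem ou229 : ∀ i, i < 48760 → fo i = true := below_step fo 48548 212 48760 ou228 oc229 rfl
theorem ou230 : ∀ i, i < 48972 → fo i = true := below_step fo 48760 212 48972 ou229 oc230 rfl
theorem ou231 : ∀ i, i < 49184 → fo i = true := below_step fo 48972 212 49184 ou230 oc231 rfl
theorem ou232 : ∀ i, i < 49396 → fo i = true := below_step fo 49184 212 49396 ou231 oc232 rfl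
theorem ou233 : ∀ i, i < 49608 → fo i = true := below_step fo 49396 212 49608 ou232 oc233 rfl
theorem ou234 : ∀ i, i < 49820 → fo i = true := below_step fo 49608 212 49820 ou233 oc234 rfl
theorem ou235 : ∀ i, i < 50032 → fo i = true := below_step fo 49820 212 50032 ou234 oc235 rfl
theorem ou236 : ∀ i, i < 50244 → fo i = true := below_step fo 50032 212 50244 ou235 oc236 rfl
theorem ou237 : ∀ i, i < 50456 → fo i = true := below_step fo 50244 212 50456 ou236 oc237 rfl
theorem ou238 : ∀ i, i < 50668 → fo i = true := below_step fo 50456 212 50668 ou237 oc238 rfl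
theorem ou239 : ∀ i, i < 50880 → fo i = true := below_step fo 50668 212 50880 ou238 oc239 rfl
theorem ou240 : ∀ i, i < 51092 → fo i = true := below_step fo 50880 212 51092 ou239 oc240 rfl
theorem ou241 : ∀ i, i < 51304 → fo i = true := below_step fo 51092 212 51304 ou240 oc241 rfl
theorem ou242 : ∀ i, i < 51516 → fo i = true := below_step fo 51304 212 51516 ou241 oc242 rfl
theorem ou243 : ∀ i, i < 51728 → fo i = true := below_step fo 51516 212 51728 ou242 oc243 rfl
theorem ou244 : ∀ i, i < 51940 → fo i = true := below_step fo 51728 212 51940 ou243 oc244 rfl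
theorem ou245 : ∀ i, i < 52152 → fo i = true := below_step fo 51940 212 52152 ou244 oc245 rfl
theorem ou246 : ∀ i, i < 52364 → fo i = true := below_step fo 52152 212 52364 ou245 oc246 rfl
theorem ou247 : ∀ i, i < 52576 → fo i = true := below_step fo 52364 212 52576 ou246 oc247 rfl
theorem ou248 : ∀ i, i < 52788 → fo i = true := below_step fo 52576 212 52788 ou247 oc248 rfl
theorem ou249 : ∀ i, i < 53000 → fo i = true := below_step fo 52788 212 53000 ou248 oc249 rfl
theorem ou250 : ∀ i, i < 53212 → fo i = true := below_step fo 53000 212 53212 ou249 oc250 rfl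
theorem ou251 : ∀ i, i < 53424 → fo i = true := below_step fo 53212 212 53424 ou250 oc251 rfl
theorem ou252 : ∀ i, i < 53636 → fo i = true := below_step fo 53424 212 53636 ou251 oc252 rfl
theorem ou253 : ∀ i, i < 53848 → fo i = true := below_step fo 53636 212 53848 ou252 oc253 rfl
theorem ou254 : ∀ i, i < 54060 → fo i = true := below_step fo 53848 212 54060 ou253 oc254 rfl
theorem ou255 : ∀ i, i < 54272 → fo i = true := below_step fo 54060 212 54272 ou254 oc255 rfl
theorem ou256 : ∀ i, i < 54484 → fo i = true := below_step fo 54272 212 54484 ou255 oc256 rfl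
theorem ou257 : ∀ i, i < 54696 → fo i = true := below_step fo 54484 212 54696 ou256 oc257 rfl
theorem ou258 : ∀ i, i < 54908 → fo i = true := below_step fo 54696 212 54908 ou257 oc258 rfl
theorem ou259 : ∀ i, i < 55120 → fo i = true := below_step fo 54908 212 55120 ou258 oc259 rfl
theorem ou260 : ∀ i, i < 55332 → fo i = true := below_step fo 55120 212 55332 ou259 oc260 rfl
theorem ou261 : ∀ i, i < 55544 → fo i = true := below_step fo 55332 212 55544 ou260 oc261 rfl
theorem ou262 : ∀ i, i < 55756 → fo i = true := below_step fo 55544 212 55756 ou261 oc262 rfl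
theorem ou263 : ∀ i, i < 55968 → fo i = true := below_step fo 55756 212 55968 ou262 oc263 rfl
theorem ou264 : ∀ i, i < 56180 → fo i = true := below_step fo 55968 212 56180 ou263 oc264 rfl
theorem ou265 : ∀ i, i < 56392 → fo i = true := below_step fo 56180 212 56392 ou264 oc265 rfl
theorem ou266 : ∀ i, i < 56604 → fo i = true := below_step fo 56392 212 56604 ou265 oc266 rfl
theorem ou267 : ∀ i, i < 56816 → fo i = true := below_step fo 56604 212 56816 ou266 oc267 rfl
theorem ou268 : ∀ i, i < 57028 → fo i = true := below_step fo 56816 212 57028 ou267 oc268 rfl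
theorem ou269 : ∀ i, i < 57240 → fo i = true := below_step fo 57028 212 57240 ou268 oc269 rfl
theorem ou270 : ∀ i, i < 57452 → fo i = true := below_step fo 57240 212 57452 ou269 oc270 rfl
theorem ou271 : ∀ i, i < 57664 → fo i = true := below_step fo 57452 212 57664 ou270 oc271 rfl
theorem ou272 : ∀ i, i < 57876 → fo i = true := below_step fo 57664 212 57876 ou271 oc272 rfl
theorem ou273 : ∀ i, i < 58088 → fo i = true := below_step fo 57876 212 58088 ou272 oc273 rfl
theorem ou274 : ∀ i, i < 58300 → fo i = true := below_step fo 58088 212 58300 ou273 oc274 rfl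
theorem ou275 : ∀ i, i < 58512 → fo i = true := below_step fo 58300 212 58512 ou274 oc275 rfl
theorem ou276 : ∀ i, i < 58724 → fo i = true := below_step fo 58512 212 58724 ou275 oc276 rfl
theorem ou277 : ∀ i, i < 58936 → fo i = true := below_step fo 58724 212 58936 ou276 oc277 rfl
theorem ou278 : ∀ i, i < 59148 → fo i = true := below_step fo 58936 212 59148 ou277 oc278 rfl
theorem ou279 : ∀ i, i < 59360 → fo i = true := below_step fo 59148 212 59360 ou278 oc279 rfl
theorem ou280 : ∀ i, i < 59572 → fo i = true := below_step fo 59360 212 59572 ou279 oc280 rfl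
theorem ou281 : ∀ i, i < 59784 → fo i = true := below_step fo 59572 212 59784 ou280 oc281 rfl
theorem ou282 : ∀ i, i < 59996 → fo i = true := below_step fo 59784 212 59996 ou281 oc282 rfl
theorem ou283 : ∀ i, i < 60208 → fo i = true := below_step fo 59996 212 60208 ou282 oc283 rfl
theorem ou284 : ∀ i, i < 60420 → fo i = true := below_step fo 60208 212 60420 ou283 oc284 rfl
theorem ou285 : ∀ i, i < 60632 → fo i = true := below_step fo 60420 212 60632 ou284 oc285 rfl
theorem ou286 : ∀ i, i < 60844 → fo i = true := below_step fo 60632 212 60844 ou285 oc286 rfl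
theorem ou287 : ∀ i, i < 61056 → fo i = true := below_step fo 60844 212 61056 ou286 oc287 rfl
theorem ou288 : ∀ i, i < 61268 → fo i = true := below_step fo 61056 212 61268 ou287 oc288 rfl
theorem ou289 : ∀ i, i < 61480 → fo i = true := below_step fo 61268 212 61480 ou288 oc289 rfl
theorem ou290 : ∀ i, i < 61692 → fo i = true := below_step fo 61480 212 61692 ou289 oc290 rfl
theorem ou291 : ∀ i, i < 61904 → fo i = true := below_step fo 61692 212 61904 ou290 oc291 rfl
theorem ou292 : ∀ i, i < 62116 → fo i = true := below_step fo 61904 212 62116 ou291 oc292 rfl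
theorem ou293 : ∀ i, i < 62328 → fo i = true := below_step fo 62116 212 62328 ou292 oc293 rfl
theorem ou294 : ∀ i, i < 62540 → fo i = true := below_step fo 62328 212 62540 ou293 oc294 rfl
theorem ou295 : ∀ i, i < 62752 → fo i = true := below_step fo 62540 212 62752 ou294 oc295 rfl
theorem ou296 : ∀ i, i < 62964 → fo i = true := below_step fo 62752 212 62964 ou295 oc296 rfl
theorem ou297 : ∀ i, i < 63176 → fo i = true := below_step fo 62964 212 63176 ou296 oc297 rfl
theorem ou298 : ∀ i, i < 63388 → fo i = true := below_step fo 63176 212 63388 ou297 oc298 rfl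
theorem ou299 : ∀ i, i < 63600 → fo i = true := below_step fo 63388 212 63600 ou298 oc299 rfl
theorem ou300 : ∀ i, i < 63812 → fo i = true := below_step fo 63600 212 63812 ou299 oc300 rfl
theorem ou301 : ∀ i, i < 64024 → fo i = true := below_step fo 63812 212 64024 ou300 oc301 rfl
theorem ou302 : ∀ i, i < 64236 → fo i = true := below_step fo 64024 212 64236 ou301 oc302 rfl
theorem ou303 : ∀ i, i < 64448 → fo i = true := below_step fo 64236 212 64448 ou302 oc303 rfl
theorem ou304 : ∀ i, i < 64660 → fo i = true := below_step fo 64448 212 64660 ou303 oc304 rfl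
theorem ou305 : ∀ i, i < 64872 → fo i = true := below_step fo 64660 212 64872 ou304 oc305 rfl
theorem ou306 : ∀ i, i < 65084 → fo i = true := below_step fo 64872 212 65084 ou305 oc306 rfl
theorem ou307 : ∀ i, i < 65296 → fo i = true := below_step fo 65084 212 65296 ou306 oc307 rfl
theorem ou308 : ∀ i, i < 65508 → fo i = true := below_step fo 65296 212 65508 ou307 oc308 rfl
theorem ou309 : ∀ i, i < 65720 → fo i = true := below_step fo 65508 212 65720 ou308 oc309 rfl
theorem ou310 : ∀ i, i < 65932 → fo i = true := below_step fo 65720 212 65932 ou309 oc310 rfl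
theorem ou311 : ∀ i, i < 66144 → fo i = true := below_step fo 65932 212 66144 ou310 oc311 rfl
theorem ou312 : ∀ i, i < 66356 → fo i = true := below_step fo 66144 212 66356 ou311 oc312 rfl
theorem ou313 : ∀ i, i < 66568 → fo i = true := below_step fo 66356 212 66568 ou312 oc313 rfl
theorem ou314 : ∀ i, i < 66780 → fo i = true := below_step fo 66568 212 66780 ou313 oc314 rfl
theorem ou315 : ∀ i, i < 66992 → fo i = true := below_step fo 66780 212 66992 ou314 oc315 rfl
theorem ou316 : ∀ i, i < 67204 → fo i = true := below_step fo 66992 212 67204 ou315 oc316 rfl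
theorem ou317 : ∀ i, i < 67416 → fo i = true := below_step fo 67204 212 67416 ou316 oc317 rfl
theorem ou318 : ∀ i, i < 67628 → fo i = true := below_step fo 67416 212 67628 ou317 oc318 rfl
theorem ou319 : ∀ i, i < 67840 → fo i = true := below_step fo 67628 212 67840 ou318 oc319 rfl
theorem ou320 : ∀ i, i < 68052 → fo i = true := below_step fo 67840 212 68052 ou319 oc320 rfl
theorem ou321 : ∀ i, i < 68264 → fo i = true := below_step fo 68052 212 68264 ou320 oc321 rfl
theorem ou322 : ∀ i, i < 68476 → fo i = true := below_step fo 68264 212 68476 ou321 oc322 rfl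
theorem ou323 : ∀ i, i < 68688 → fo i = true := below_step fo 68476 212 68688 ou322 oc323 rfl
theorem ou324 : ∀ i, i < 68900 → fo i = true := below_step fo 68688 212 68900 ou323 oc324 rfl
theorem ou325 : ∀ i, i < 69112 → fo i = true := below_step fo 68900 212 69112 ou324 oc325 rfl
theorem ou326 : ∀ i, i < 69324 → fo i = true := below_step fo 69112 212 69324 ou325 oc326 rfl
theorem ou327 : ∀ i, i < 69536 → fo i = true := below_step fo 69324 212 69536 ou326 oc327 rfl
theorem ou328 : ∀ i, i < 69748 → fo i = true := below_step fo 69536 212 69748 ou327 oc328 rfl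
theorem ou329 : ∀ i, i < 69960 → fo i = true := below_step fo 69748 212 69960 ou328 oc329 rfl
theorem ou330 : ∀ i, i < 70172 → fo i = true := below_step fo 69960 212 70172 ou329 oc330 rfl
theorem ou331 : ∀ i, i < 70384 → fo i = true := below_step fo 70172 212 70384 ou330 oc331 rfl
theorem ou332 : ∀ i, i < 70596 → fo i = true := below_step fo 70384 212 70596 ou331 oc332 rfl
theorem ou333 : ∀ i, i < 70808 → fo i = true := below_step fo 70596 212 70808 ou332 oc333 rfl
theorem ou334 : ∀ i, i < 71020 → fo i = true := below_step fo 70808 212 71020 ou333 oc334 rfl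
theorem ou335 : ∀ i, i < 71232 → fo i = true := below_step fo 71020 212 71232 ou334 oc335 rfl
theorem ou336 : ∀ i, i < 71444 → fo i = true := below_step fo 71232 212 71444 ou335 oc336 rfl
theorem ou337 : ∀ i, i < 71656 → fo i = true := below_step fo 71444 212 71656 ou336 oc337 rfl
theorem ou338 : ∀ i, i < 71868 → fo i = true := below_step fo 71656 212 71868 ou337 oc338 rfl
theorem ou339 : ∀ i, i < 72080 → fo i = true := below_step fo 71868 212 72080 ou338 oc339 rfl
theorem ou340 : ∀ i, i < 72292 → fo i = true := below_step fo 72080 212 72292 ou339 oc340 rfl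
theorem ou341 : ∀ i, i < 72504 → fo i = true := below_step fo 72292 212 72504 ou340 oc341 rfl
theorem ou342 : ∀ i, i < 72716 → fo i = true := below_step fo 72504 212 72716 ou341 oc342 rfl
theorem ou343 : ∀ i, i < 72928 → fo i = true := below_step fo 72716 212 72928 ou342 oc343 rfl
theorem ou344 : ∀ i, i < 73140 → fo i = true := below_step fo 72928 212 73140 ou343 oc344 rfl
theorem ou345 : ∀ i, i < 73352 → fo i = true := below_step fo 73140 212 73352 ou344 oc345 rfl
theorem ou346 : ∀ i, i < 73564 → fo i = true := below_step fo 73352 212 73564 ou345 oc346 rfl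
theorem ou347 : ∀ i, i < 73776 → fo i = true := below_step fo 73564 212 73776 ou346 oc347 rfl
theorem ou348 : ∀ i, i < 73988 → fo i = true := below_step fo 73776 212 73988 ou347 oc348 rfl
theorem ou349 : ∀ i, i < 74200 → fo i = true := below_step fo 73988 212 74200 ou348 oc349 rfl
theorem ou350 : ∀ i, i < 74412 → fo i = true := below_step fo 74200 212 74412 ou349 oc350 rfl
theorem ou351 : ∀ i, i < 74624 → fo i = true := below_step fo 74412 212 74624 ou350 oc351 rfl
theorem ou352 : ∀ i, i < 74836 → fo i = true := below_step fo 74624 212 74836 ou351 oc352 rfl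
theorem ou353 : ∀ i, i < 75048 → fo i = true := below_step fo 74836 212 75048 ou352 oc353 rfl
theorem ou354 : ∀ i, i < 75260 → fo i = true := below_step fo 75048 212 75260 ou353 oc354 rfl
theorem ou355 : ∀ i, i < 75472 → fo i = true := below_step fo 75260 212 75472 ou354 oc355 rfl
theorem ou356 : ∀ i, i < 75684 → fo i = true := below_step fo 75472 212 75684 ou355 oc356 rfl
theorem ou357 : ∀ i, i < 75896 → fo i = true := below_step fo 75684 212 75896 ou356 oc357 rfl
theorem ou358 : ∀ i, i < 76108 → fo i = true := below_step fo 75896 212 76108 ou357 oc358 rfl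
theorem ou359 : ∀ i, i < 76320 → fo i = true := below_step fo 76108 212 76320 ou358 oc359 rfl
theorem ou360 : ∀ i, i < 76532 → fo i = true := below_step fo 76320 212 76532 ou359 oc360 rfl
theorem ou361 : ∀ i, i < 76744 → fo i = true := below_step fo 76532 212 76744 ou360 oc361 rfl
theorem ou362 : ∀ i, i < 76956 → fo i = true := below_step fo 76744 212 76956 ou361 oc362 rfl
theorem ou363 : ∀ i, i < 77168 → fo i = true := below_step fo 76956 212 77168 ou362 oc363 rfl
theorem ou364 : ∀ i, i < 77380 → fo i = true := below_step fo 77168 212 77380 ou363 oc364 rfl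
theorem ou365 : ∀ i, i < 77592 → fo i = true := below_step fo 77380 212 77592 ou364 oc365 rfl
theorem ou366 : ∀ i, i < 77804 → fo i = true := below_step fo 77592 212 77804 ou365 oc366 rfl
theorem ou367 : ∀ i, i < 78016 → fo i = true := below_step fo 77804 212 78016 ou366 oc367 rfl
theorem ou368 : ∀ i, i < 78228 → fo i = true := below_step fo 78016 212 78228 ou367 oc368 rfl
theorem ou369 : ∀ i, i < 78440 → fo i = true := below_step fo 78228 212 78440 ou368 oc369 rfl
theorem ou370 : ∀ i, i < 78652 → fo i = true := below_step fo 78440 212 78652 ou369 oc370 rfl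
theorem ou371 : ∀ i, i < 78864 → fo i = true := below_step fo 78652 212 78864 ou370 oc371 rfl
theorem ou372 : ∀ i, i < 79076 → fo i = true := below_step fo 78864 212 79076 ou371 oc372 rfl
theorem ou373 : ∀ i, i < 79288 → fo i = true := below_step fo 79076 212 79288 ou372 oc373 rfl
theorem ou374 : ∀ i, i < 79500 → fo i = true := below_step fo 79288 212 79500 ou373 oc374 rfl
theorem ou375 : ∀ i, i < 79712 → fo i = true := below_step fo 79500 212 79712 ou374 oc375 rfl
theorem ou376 : ∀ i, i < 79924 → fo i = true := below_step fo 79712 212 79924 ou375 oc376 rfl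
theorem ou377 : ∀ i, i < 80136 → fo i = true := below_step fo 79924 212 80136 ou376 oc377 rfl
theorem ou378 : ∀ i, i < 80348 → fo i = true := below_step fo 80136 212 80348 ou377 oc378 rfl
theorem ou379 : ∀ i, i < 80560 → fo i = true := below_step fo 80348 212 80560 ou378 oc379 rfl
theorem ou380 : ∀ i, i < 80772 → fo i = true := below_step fo 80560 212 80772 ou379 oc380 rfl
theorem ou381 : ∀ i, i < 80984 → fo i = true := below_step fo 80772 212 80984 ou380 oc381 rfl
theorem ou382 : ∀ i, i < 81196 → fo i = true := below_step fo 80984 212 81196 ou381 oc382 rfl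
theorem ou383 : ∀ i, i < 81408 → fo i = true := below_step fo 81196 212 81408 ou382 oc383 rfl
theorem ou384 : ∀ i, i < 81620 → fo i = true := below_step fo 81408 212 81620 ou383 oc384 rfl
theorem ou385 : ∀ i, i < 81832 → fo i = true := below_step fo 81620 212 81832 ou384 oc385 rfl
theorem ou386 : ∀ i, i < 82044 → fo i = true := below_step fo 81832 212 82044 ou385 oc386 rfl
theorem ou387 : ∀ i, i < 82256 → fo i = true := below_step fo 82044 212 82256 ou386 oc387 rfl
theorem ou388 : ∀ i, i < 82468 → fo i = true := below_step fo 82256 212 82468 ou387 oc388 rfl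
theorem ou389 : ∀ i, i < 82680 → fo i = true := below_step fo 82468 212 82680 ou388 oc389 rfl
theorem ou390 : ∀ i, i < 82892 → fo i = true := below_step fo 82680 212 82892 ou389 oc390 rfl
theorem ou391 : ∀ i, i < 83104 → fo i = true := below_step fo 82892 212 83104 ou390 oc391 rfl
theorem ou392 : ∀ i, i < 83316 → fo i = true := below_step fo 83104 212 83316 ou391 oc392 rfl
theorem ou393 : ∀ i, i < 83528 → fo i = true := below_step fo 83316 212 83528 ou392 oc393 rfl
theorem ou394 : ∀ i, i < 83740 → fo i = true := below_step fo 83528 212 83740 ou393 oc394 rfl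
theorem ou395 : ∀ i, i < 83952 → fo i = true := below_step fo 83740 212 83952 ou394 oc395 rfl
theorem ou396 : ∀ i, i < 84164 → fo i = true := below_step fo 83952 212 84164 ou395 oc396 rfl
theorem ou397 : ∀ i, i < 84376 → fo i = true := below_step fo 84164 212 84376 ou396 oc397 rfl
theorem ou398 : ∀ i, i < 84588 → fo i = true := below_step fo 84376 212 84588 ou397 oc398 rfl
theorem ou399 : ∀ i, i < 84800 → fo i = true := below_step fo 84588 212 84800 ou398 oc399 rfl
theorem ou400 : ∀ i, i < 85012 → fo i = true := below_step fo 84800 212 85012 ou399 oc400 rfl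
theorem ou401 : ∀ i, i < 85224 → fo i = true := below_step fo 85012 212 85224 ou400 oc401 rfl
theorem ou402 : ∀ i, i < 85436 → fo i = true := below_step fo 85224 212 85436 ou401 oc402 rfl
theorem ou403 : ∀ i, i < 85648 → fo i = true := below_step fo 85436 212 85648 ou402 oc403 rfl
theorem ou404 : ∀ i, i < 85860 → fo i = true := below_step fo 85648 212 85860 ou403 oc404 rfl
theorem ou405 : ∀ i, i < 86072 → fo i = true := below_step fo 85860 212 86072 ou404 oc405 rfl
theorem ou406 : ∀ i, i < 86284 → fo i = true := below_step fo 86072 212 86284 ou405 oc406 rfl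
theorem ou407 : ∀ i, i < 86496 → fo i = true := below_step fo 86284 212 86496 ou406 oc407 rfl
theorem ou408 : ∀ i, i < 86708 → fo i = true := below_step fo 86496 212 86708 ou407 oc408 rfl
theorem ou409 : ∀ i, i < 86920 → fo i = true := below_step fo 86708 212 86920 ou408 oc409 rfl
theorem ou410 : ∀ i, i < 87132 → fo i = true := below_step fo 86920 212 87132 ou409 oc410 rfl
theorem ou411 : ∀ i, i < 87344 → fo i = true := below_step fo 87132 212 87344 ou410 oc411 rfl
theorem ou412 : ∀ i, i < 87556 → fo i = true := below_step fo 87344 212 87556 ou411 oc412 rfl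
theorem ou413 : ∀ i, i < 87768 → fo i = true := below_step fo 87556 212 87768 ou412 oc413 rfl
theorem ou414 : ∀ i, i < 87980 → fo i = true := below_step fo 87768 212 87980 ou413 oc414 rfl
theorem ou415 : ∀ i, i < 88192 → fo i = true := below_step fo 87980 212 88192 ou414 oc415 rfl
theorem ou416 : ∀ i, i < 88404 → fo i = true := below_step fo 88192 212 88404 ou415 oc416 rfl
theorem ou417 : ∀ i, i < 88616 → fo i = true := below_step fo 88404 212 88616 ou416 oc417 rfl
theorem ou418 : ∀ i, i < 88828 → fo i = true := below_step fo 88616 212 88828 ou417 oc418 rfl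
theorem ou419 : ∀ i, i < 89040 → fo i = true := below_step fo 88828 212 89040 ou418 oc419 rfl
theorem ou420 : ∀ i, i < 89252 → fo i = true := below_step fo 89040 212 89252 ou419 oc420 rfl
theorem ou421 : ∀ i, i < 89464 → fo i = true := below_step fo 89252 212 89464 ou420 oc421 rfl
theorem ou422 : ∀ i, i < 89676 → fo i = true := below_step fo 89464 212 89676 ou421 oc422 rfl
theorem ou423 : ∀ i, i < 89888 → fo i = true := below_step fo 89676 212 89888 ou422 oc423 rfl
theorem ou424 : ∀ i, i < 90100 → fo i = true := below_step fo 89888 212 90100 ou423 oc424 rfl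
theorem ou425 : ∀ i, i < 90312 → fo i = true := below_step fo 90100 212 90312 ou424 oc425 rfl
theorem ou426 : ∀ i, i < 90524 → fo i = true := below_step fo 90312 212 90524 ou425 oc426 rfl
theorem ou427 : ∀ i, i < 90736 → fo i = true := below_step fo 90524 212 90736 ou426 oc427 rfl
theorem ou428 : ∀ i, i < 90948 → fo i = true := below_step fo 90736 212 90948 ou427 oc428 rfl
theorem ou429 : ∀ i, i < 91160 → fo i = true := below_step fo 90948 212 91160 ou428 oc429 rfl
theorem ou430 : ∀ i, i < 91372 → fo i = true := below_step fo 91160 212 91372 ou429 oc430 rfl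
theorem ou431 : ∀ i, i < 91584 → fo i = true := below_step fo 91372 212 91584 ou430 oc431 rfl
theorem ou432 : ∀ i, i < 91796 → fo i = true := below_step fo 91584 212 91796 ou431 oc432 rfl
theorem ou433 : ∀ i, i < 92008 → fo i = true := below_step fo 91796 212 92008 ou432 oc433 rfl
theorem ou434 : ∀ i, i < 92220 → fo i = true := below_step fo 92008 212 92220 ou433 oc434 rfl
theorem ou435 : ∀ i, i < 92432 → fo i = true := below_step fo 92220 212 92432 ou434 oc435 rfl
theorem ou436 : ∀ i, i < 92644 → fo i = true := below_step fo 92432 212 92644 ou435 oc436 rfl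
theorem ou437 : ∀ i, i < 92856 → fo i = true := below_step fo 92644 212 92856 ou436 oc437 rfl
theorem ou438 : ∀ i, i < 93068 → fo i = true := below_step fo 92856 212 93068 ou437 oc438 rfl
theorem ou439 : ∀ i, i < 93280 → fo i = true := below_step fo 93068 212 93280 ou438 oc439 rfl
theorem ou440 : ∀ i, i < 93492 → fo i = true := below_step fo 93280 212 93492 ou439 oc440 rfl
theorem ou441 : ∀ i, i < 93704 → fo i = true := below_step fo 93492 212 93704 ou440 oc441 rfl
theorem ou442 : ∀ i, i < 93916 → fo i = true := below_step fo 93704 212 93916 ou441 oc442 rfl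
theorem ou443 : ∀ i, i < 94128 → fo i = true := below_step fo 93916 212 94128 ou442 oc443 rfl
theorem ou444 : ∀ i, i < 94340 → fo i = true := below_step fo 94128 212 94340 ou443 oc444 rfl
theorem ou445 : ∀ i, i < 94552 → fo i = true := below_step fo 94340 212 94552 ou444 oc445 rfl
theorem ou446 : ∀ i, i < 94764 → fo i = true := below_step fo 94552 212 94764 ou445 oc446 rfl
theorem ou447 : ∀ i, i < 94976 → fo i = true := below_step fo 94764 212 94976 ou446 oc447 rfl
theorem ou448 : ∀ i, i < 95188 → fo i = true := below_step fo 94976 212 95188 ou447 oc448 rfl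
theorem ou449 : ∀ i, i < 95400 → fo i = true := below_step fo 95188 212 95400 ou448 oc449 rfl
theorem ou450 : ∀ i, i < 95612 → fo i = true := below_step fo 95400 212 95612 ou449 oc450 rfl
theorem ou451 : ∀ i, i < 95824 → fo i = true := below_step fo 95612 212 95824 ou450 oc451 rfl
theorem ou452 : ∀ i, i < 96036 → fo i = true := below_step fo 95824 212 96036 ou451 oc452 rfl
theorem ou453 : ∀ i, i < 96248 → fo i = true := below_step fo 96036 212 96248 ou452 oc453 rfl
theorem ou454 : ∀ i, i < 96460 → fo i = true := below_step fo 96248 212 96460 ou453 oc454 rfl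
theorem ou455 : ∀ i, i < 96672 → fo i = true := below_step fo 96460 212 96672 ou454 oc455 rfl
theorem ou456 : ∀ i, i < 96884 → fo i = true := below_step fo 96672 212 96884 ou455 oc456 rfl
theorem ou457 : ∀ i, i < 97096 → fo i = true := below_step fo 96884 212 97096 ou456 oc457 rfl
theorem ou458 : ∀ i, i < 97308 → fo i = true := below_step fo 97096 212 97308 ou457 oc458 rfl
theorem ou459 : ∀ i, i < 97520 → fo i = true := below_step fo 97308 212 97520 ou458 oc459 rfl
theorem ou460 : ∀ i, i < 97732 → fo i = true := below_step fo 97520 212 97732 ou459 oc460 rfl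
theorem ou461 : ∀ i, i < 97944 → fo i = true := below_step fo 97732 212 97944 ou460 oc461 rfl
theorem ou462 : ∀ i, i < 98156 → fo i = true := below_step fo 97944 212 98156 ou461 oc462 rfl
theorem ou463 : ∀ i, i < 98368 → fo i = true := below_step fo 98156 212 98368 ou462 oc463 rfl
theorem ou464 : ∀ i, i < 98580 → fo i = true := below_step fo 98368 212 98580 ou463 oc464 rfl
theorem ou465 : ∀ i, i < 98792 → fo i = true := below_step fo 98580 212 98792 ou464 oc465 rfl
theorem ou466 : ∀ i, i < 99004 → fo i = true := below_step fo 98792 212 99004 ou465 oc466 rfl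
theorem ou467 : ∀ i, i < 99216 → fo i = true := below_step fo 99004 212 99216 ou466 oc467 rfl
theorem ou468 : ∀ i, i < 99428 → fo i = true := below_step fo 99216 212 99428 ou467 oc468 rfl
theorem ou469 : ∀ i, i < 99640 → fo i = true := below_step fo 99428 212 99640 ou468 oc469 rfl
theorem ou470 : ∀ i, i < 99852 → fo i = true := below_step fo 99640 212 99852 ou469 oc470 rfl
theorem ou471 : ∀ i, i < 100064 → fo i = true := below_step fo 99852 212 100064 ou470 oc471 rfl
theorem ou472 : ∀ i, i < 100276 → fo i = true := below_step fo 100064 212 100276 ou471 oc472 rfl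
theorem ou473 : ∀ i, i < 100488 → fo i = true := below_step fo 100276 212 100488 ou472 oc473 rfl
theorem ou474 : ∀ i, i < 100700 → fo i = true := below_step fo 100488 212 100700 ou473 oc474 rfl
theorem ou475 : ∀ i, i < 100912 → fo i = true := below_step fo 100700 212 100912 ou474 oc475 rfl
theorem ou476 : ∀ i, i < 101124 → fo i = true := below_step fo 100912 212 101124 ou475 oc476 rfl
theorem ou477 : ∀ i, i < 101336 → fo i = true := below_step fo 101124 212 101336 ou476 oc477 rfl
theorem ou478 : ∀ i, i < 101548 → fo i = true := below_step fo 101336 212 101548 ou477 oc478 rfl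
theorem ou479 : ∀ i, i < 101760 → fo i = true := below_step fo 101548 212 101760 ou478 oc479 rfl
theorem ou480 : ∀ i, i < 101972 → fo i = true := below_step fo 101760 212 101972 ou479 oc480 rfl
theorem ou481 : ∀ i, i < 102184 → fo i = true := below_step fo 101972 212 102184 ou480 oc481 rfl
theorem ou482 : ∀ i, i < 102396 → fo i = true := below_step fo 102184 212 102396 ou481 oc482 rfl
theorem ou483 : ∀ i, i < 102608 → fo i = true := below_step fo 102396 212 102608 ou482 oc483 rfl
theorem ou484 : ∀ i, i < 102820 → fo i = true := below_step fo 102608 212 102820 ou483 oc484 rfl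
theorem ou485 : ∀ i, i < 103032 → fo i = true := below_step fo 102820 212 103032 ou484 oc485 rfl
theorem ou486 : ∀ i, i < 103244 → fo i = true := below_step fo 103032 212 103244 ou485 oc486 rfl
theorem ou487 : ∀ i, i < 103456 → fo i = true := below_step fo 103244 212 103456 ou486 oc487 rfl
theorem ou488 : ∀ i, i < 103668 → fo i = true := below_step fo 103456 212 103668 ou487 oc488 rfl
theorem ou489 : ∀ i, i < 103880 → fo i = true := below_step fo 103668 212 103880 ou488 oc489 rfl
theorem ou490 : ∀ i, i < 104092 → fo i = true := below_step fo 103880 212 104092 ou489 oc490 rfl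
theorem ou491 : ∀ i, i < 104304 → fo i = true := below_step fo 104092 212 104304 ou490 oc491 rfl
theorem ou492 : ∀ i, i < 104516 → fo i = true := below_step fo 104304 212 104516 ou491 oc492 rfl
theorem ou493 : ∀ i, i < 104728 → fo i = true := below_step fo 104516 212 104728 ou492 oc493 rfl
theorem ou494 : ∀ i, i < 104940 → fo i = true := below_step fo 104728 212 104940 ou493 oc494 rfl
theorem ou495 : ∀ i, i < 105152 → fo i = true := below_step fo 104940 212 105152 ou494 oc495 rfl
theorem ou496 : ∀ i, i < 105364 → fo i = true := below_step fo 105152 212 105364 ou495 oc496 rfl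
theorem ou497 : ∀ i, i < 105576 → fo i = true := below_step fo 105364 212 105576 ou496 oc497 rfl
theorem ou498 : ∀ i, i < 105788 → fo i = true := below_step fo 105576 212 105788 ou497 oc498 rfl
theorem ou499 : ∀ i, i < 106000 → fo i = true := below_step fo 105788 212 106000 ou498 oc499 rfl
theorem ou500 : ∀ i, i < 106212 → fo i = true := below_step fo 106000 212 106212 ou499 oc500 rfl
theorem ou501 : ∀ i, i < 106424 → fo i = true := below_step fo 106212 212 106424 ou500 oc501 rfl
theorem ou502 : ∀ i, i < 106636 → fo i = true := below_step fo 106424 212 106636 ou501 oc502 rfl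
theorem ou503 : ∀ i, i < 106848 → fo i = true := below_step fo 106636 212 106848 ou502 oc503 rfl
theorem ou504 : ∀ i, i < 107060 → fo i = true := below_step fo 106848 212 107060 ou503 oc504 rfl
theorem ou505 : ∀ i, i < 107272 → fo i = true := below_step fo 107060 212 107272 ou504 oc505 rfl
theorem ou506 : ∀ i, i < 107484 → fo i = true := below_step fo 107272 212 107484 ou505 oc506 rfl
theorem ou507 : ∀ i, i < 107696 → fo i = true := below_step fo 107484 212 107696 ou506 oc507 rfl
theorem ou508 : ∀ i, i < 107908 → fo i = true := below_step fo 107696 212 107908 ou507 oc508 rfl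
theorem ou509 : ∀ i, i < 108120 → fo i = true := below_step fo 107908 212 108120 ou508 oc509 rfl
theorem ou510 : ∀ i, i < 108332 → fo i = true := below_step fo 108120 212 108332 ou509 oc510 rfl
theorem ou511 : ∀ i, i < 108544 → fo i = true := below_step fo 108332 212 108544 ou510 oc511 rfl
theorem ou512 : ∀ i, i < 108756 → fo i = true := below_step fo 108544 212 108756 ou511 oc512 rfl
theorem ou513 : ∀ i, i < 108968 → fo i = true := below_step fo 108756 212 108968 ou512 oc513 rfl
theorem ou514 : ∀ i, i < 109180 → fo i = true := below_step fo 108968 212 109180 ou513 oc514 rfl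
theorem ou515 : ∀ i, i < 109392 → fo i = true := below_step fo 109180 212 109392 ou514 oc515 rfl
theorem ou516 : ∀ i, i < 109604 → fo i = true := below_step fo 109392 212 109604 ou515 oc516 rfl
theorem ou517 : ∀ i, i < 109816 → fo i = true := below_step fo 109604 212 109816 ou516 oc517 rfl
theorem ou518 : ∀ i, i < 110028 → fo i = true := below_step fo 109816 212 110028 ou517 oc518 rfl
theorem ou519 : ∀ i, i < 110240 → fo i = true := below_step fo 110028 212 110240 ou518 oc519 rfl
theorem ou520 : ∀ i, i < 110452 → fo i = true := below_step fo 110240 212 110452 ou519 oc520 rfl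
theorem ou521 : ∀ i, i < 110664 → fo i = true := below_step fo 110452 212 110664 ou520 oc521 rfl
theorem ou522 : ∀ i, i < 110876 → fo i = true := below_step fo 110664 212 110876 ou521 oc522 rfl
theorem ou523 : ∀ i, i < 111088 → fo i = true := below_step fo 110876 212 111088 ou522 oc523 rfl
theorem ou524 : ∀ i, i < 111300 → fo i = true := below_step fo 111088 212 111300 ou523 oc524 rfl
theorem ou525 : ∀ i, i < 111512 → fo i = true := below_step fo 111300 212 111512 ou524 oc525 rfl
theorem ou526 : ∀ i, i < 111724 → fo i = true := below_step fo 111512 212 111724 ou525 oc526 rfl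
theorem ou527 : ∀ i, i < 111936 → fo i = true := below_step fo 111724 212 111936 ou526 oc527 rfl
theorem ou528 : ∀ i, i < 112148 → fo i = true := below_step fo 111936 212 112148 ou527 oc528 rfl
theorem ou529 : ∀ i, i < 112360 → fo i = true := below_step fo 112148 212 112360 ou528 oc529 rfl
theorem ou530 : ∀ i, i < 112572 → fo i = true := below_step fo 112360 212 112572 ou529 oc530 rfl
theorem ou531 : ∀ i, i < 112784 → fo i = true := below_step fo 112572 212 112784 ou530 oc531 rfl
theorem ou532 : ∀ i, i < 112996 → fo i = true := below_step fo 112784 212 112996 ou531 oc532 rfl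
theorem ou533 : ∀ i, i < 113208 → fo i = true := below_step fo 112996 212 113208 ou532 oc533 rfl
theorem ou534 : ∀ i, i < 113420 → fo i = true := below_step fo 113208 212 113420 ou533 oc534 rfl
theorem ou535 : ∀ i, i < 113632 → fo i = true := below_step fo 113420 212 113632 ou534 oc535 rfl
theorem ou536 : ∀ i, i < 113844 → fo i = true := below_step fo 113632 212 113844 ou535 oc536 rfl
theorem ou537 : ∀ i, i < 114056 → fo i = true := below_step fo 113844 212 114056 ou536 oc537 rfl
theorem ou538 : ∀ i, i < 114268 → fo i = true := below_step fo 114056 212 114268 ou537 oc538 rfl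
theorem ou539 : ∀ i, i < 114480 → fo i = true := below_step fo 114268 212 114480 ou538 oc539 rfl
theorem ou540 : ∀ i, i < 114692 → fo i = true := below_step fo 114480 212 114692 ou539 oc540 rfl
theorem ou541 : ∀ i, i < 114904 → fo i = true := below_step fo 114692 212 114904 ou540 oc541 rfl
theorem ou542 : ∀ i, i < 115116 → fo i = true := below_step fo 114904 212 115116 ou541 oc542 rfl
theorem ou543 : ∀ i, i < 115328 → fo i = true := below_step fo 115116 212 115328 ou542 oc543 rfl
theorem ou544 : ∀ i, i < 115540 → fo i = true := below_step fo 115328 212 115540 ou543 oc544 rfl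
theorem ou545 : ∀ i, i < 115752 → fo i = true := below_step fo 115540 212 115752 ou544 oc545 rfl
theorem ou546 : ∀ i, i < 115964 → fo i = true := below_step fo 115752 212 115964 ou545 oc546 rfl
theorem ou547 : ∀ i, i < 116176 → fo i = true := below_step fo 115964 212 116176 ou546 oc547 rfl
theorem ou548 : ∀ i, i < 116388 → fo i = true := below_step fo 116176 212 116388 ou547 oc548 rfl
theorem ou549 : ∀ i, i < 116600 → fo i = true := below_step fo 116388 212 116600 ou548 oc549 rfl
theorem ou550 : ∀ i, i < 116812 → fo i = true := below_step fo 116600 212 116812 ou549 oc550 rfl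
theorem ou551 : ∀ i, i < 117024 → fo i = true := below_step fo 116812 212 117024 ou550 oc551 rfl
theorem ou552 : ∀ i, i < 117236 → fo i = true := below_step fo 117024 212 117236 ou551 oc552 rfl
theorem ou553 : ∀ i, i < 117448 → fo i = true := below_step fo 117236 212 117448 ou552 oc553 rfl
theorem ou554 : ∀ i, i < 117660 → fo i = true := below_step fo 117448 212 117660 ou553 oc554 rfl
theorem ou555 : ∀ i, i < 117872 → fo i = true := below_step fo 117660 212 117872 ou554 oc555 rfl
theorem ou556 : ∀ i, i < 118084 → fo i = true := below_step fo 117872 212 118084 ou555 oc556 rfl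
theorem ou557 : ∀ i, i < 118296 → fo i = true := below_step fo 118084 212 118296 ou556 oc557 rfl
theorem ou558 : ∀ i, i < 118508 → fo i = true := below_step fo 118296 212 118508 ou557 oc558 rfl
theorem ou559 : ∀ i, i < 118720 → fo i = true := below_step fo 118508 212 118720 ou558 oc559 rfl
theorem ou560 : ∀ i, i < 118932 → fo i = true := below_step fo 118720 212 118932 ou559 oc560 rfl
theorem ou561 : ∀ i, i < 119144 → fo i = true := below_step fo 118932 212 119144 ou560 oc561 rfl
theorem ou562 : ∀ i, i < 119356 → fo i = true := below_step fo 119144 212 119356 ou561 oc562 rfl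
theorem ou563 : ∀ i, i < 119568 → fo i = true := below_step fo 119356 212 119568 ou562 oc563 rfl
theorem ou564 : ∀ i, i < 119780 → fo i = true := below_step fo 119568 212 119780 ou563 oc564 rfl
theorem ou565 : ∀ i, i < 119992 → fo i = true := below_step fo 119780 212 119992 ou564 oc565 rfl
theorem ou566 : ∀ i, i < 120204 → fo i = true := below_step fo 119992 212 120204 ou565 oc566 rfl
theorem ou567 : ∀ i, i < 120416 → fo i = true := below_step fo 120204 212 120416 ou566 oc567 rfl
theorem ou568 : ∀ i, i < 120628 → fo i = true := below_step fo 120416 212 120628 ou567 oc568 rfl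
theorem ou569 : ∀ i, i < 120840 → fo i = true := below_step fo 120628 212 120840 ou568 oc569 rfl
theorem ou570 : ∀ i, i < 121052 → fo i = true := below_step fo 120840 212 121052 ou569 oc570 rfl
theorem ou571 : ∀ i, i < 121264 → fo i = true := below_step fo 121052 212 121264 ou570 oc571 rfl
theorem ou572 : ∀ i, i < 121476 → fo i = true := below_step fo 121264 212 121476 ou571 oc572 rfl
theorem ou573 : ∀ i, i < 121688 → fo i = true := below_step fo 121476 212 121688 ou572 oc573 rfl
theorem ou574 : ∀ i, i < 121900 → fo i = true := below_step fo 121688 212 121900 ou573 oc574 rfl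
theorem ou575 : ∀ i, i < 122112 → fo i = true := below_step fo 121900 212 122112 ou574 oc575 rfl
theorem ou576 : ∀ i, i < 122324 → fo i = true := below_step fo 122112 212 122324 ou575 oc576 rfl
theorem ou577 : ∀ i, i < 122536 → fo i = true := below_step fo 122324 212 122536 ou576 oc577 rfl
theorem ou578 : ∀ i, i < 122748 → fo i = true := below_step fo 122536 212 122748 ou577 oc578 rfl
theorem ou579 : ∀ i, i < 122760 → fo i = true := below_step fo 122748 12 122760 ou578 oc579 rfl
theorem l0z : countBelow fl0 0 = 0 := rfl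
theorem l0n0 : countBelow fl0 7649 = 1 := countBelow_step fl0 0 7649 7649 0 1 1 l0z l0k0 rfl rfl
theorem l0n1 : countBelow fl0 15298 = 1 := countBelow_step fl0 7649 7649 15298 1 0 1 l0n0 l0k1 rfl rfl
theorem l0n2 : countBelow fl0 22947 = 1 := countBelow_step fl0 15298 7649 22947 1 0 1 l0n1 l0k2 rfl rfl
theorem l0n3 : countBelow fl0 30596 = 1 := countBelow_step fl0 22947 7649 30596 1 0 1 l0n2 l0k3 rfl rfl
theorem l0n4 : countBelow fl0 38245 = 1 := countBelow_step fl0 30596 7649 38245 1 0 1 l0n3 l0k4 rfl rfl
theorem l0n5 : countBelow fl0 45894 = 1 := countBelow_step fl0 38245 7649 45894 1 0 1 l0n4 l0k5 rfl rfl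
theorem l0n6 : countBelow fl0 53543 = 1 := countBelow_step fl0 45894 7649 53543 1 0 1 l0n5 l0k6 rfl rfl
theorem l0n7 : countBelow fl0 61192 = 1 := countBelow_step fl0 53543 7649 61192 1 0 1 l0n6 l0k7 rfl rfl
theorem l0n8 : countBelow fl0 68841 = 1 := countBelow_step fl0 61192 7649 68841 1 0 1 l0n7 l0k8 rfl rfl
theorem l0n9 : countBelow fl0 76490 = 1 := countBelow_step fl0 68841 7649 76490 1 0 1 l0n8 l0k9 rfl rfl
theorem l0n10 : countBelow fl0 84139 = 1 := countBelow_step fl0 76490 7649 84139 1 0 1 l0n9 l0k10 rfl rfl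
theorem l0n11 : countBelow fl0 91788 = 1 := countBelow_step fl0 84139 7649 91788 1 0 1 l0n10 l0k11 rfl rfl
theorem l0n12 : countBelow fl0 99437 = 1 := countBelow_step fl0 91788 7649 99437 1 0 1 l0n11 l0k12 rfl rfl
theorem l0n13 : countBelow fl0 107086 = 1 := countBelow_step fl0 99437 7649 107086 1 0 1 l0n12 l0k13 rfl rfl
theorem l0n14 : countBelow fl0 114735 = 1 := countBelow_step fl0 107086 7649 114735 1 0 1 l0n13 l0k14 rfl rfl
theorem l0n15 : countBelow fl0 122384 = 1 := countBelow_step fl0 114735 7649 122384 1 0 1 l0n14 l0k15 rfl rfl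
theorem l0n16 : countBelow fl0 122760 = 1 := countBelow_step fl0 122384 376 122760 1 0 1 l0n15 l0k16 rfl rfl
theorem l1z : countBelow fl1 0 = 0 := rfl
theorem l1n0 : countBelow fl1 7649 = 3575 := countBelow_step fl1 0 7649 7649 0 3575 3575 l1z l1k0 rfl rfl
theorem l1n1 : countBelow fl1 15298 = 6849 := countBelow_step fl1 7649 7649 15298 3575 3274 6849 l1n0 l1k1 rfl rfl
theorem l1n2 : countBelow fl1 22947 = 10110 := countBelow_step fl1 15298 7649 22947 6849 3261 10110 l1n1 l1k2 rfl rfl
theorem l1n3 : countBelow fl1 30596 = 13417 := countBelow_step fl1 22947 7649 30596 10110 3307 13417 l1n2 l1k3 rfl rfl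
theorem l1n4 : countBelow fl1 38245 = 16715 := countBelow_step fl1 30596 7649 38245 13417 3298 16715 l1n3 l1k4 rfl rfl
theorem l1n5 : countBelow fl1 45894 = 20103 := countBelow_step fl1 38245 7649 45894 16715 3388 20103 l1n4 l1k5 rfl rfl
theorem l1n6 : countBelow fl1 53543 = 23439 := countBelow_step fl1 45894 7649 53543 20103 3336 23439 l1n5 l1k6 rfl rfl
theorem l1n7 : countBelow fl1 61192 = 27138 := countBelow_step fl1 53543 7649 61192 23439 3699 27138 l1n6 l1k7 rfl rfl
theorem l1n8 : countBelow fl1 68841 = 30746 := countBelow_step fl1 61192 7649 68841 27138 3608 30746 l1n7 l1k8 rfl rfl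
theorem l1n9 : countBelow fl1 76490 = 34281 := countBelow_step fl1 68841 7649 76490 30746 3535 34281 l1n8 l1k9 rfl rfl
theorem l1n10 : countBelow fl1 84139 = 37821 := countBelow_step fl1 76490 7649 84139 34281 3540 37821 l1n9 l1k10 rfl rfl
theorem l1n11 : countBelow fl1 91788 = 41594 := countBelow_step fl1 84139 7649 91788 37821 3773 41594 l1n10 l1k11 rfl rfl
theorem l1n12 : countBelow fl1 99437 = 45512 := countBelow_step fl1 91788 7649 99437 41594 3918 45512 l1n11 l1k12 rfl rfl
theorem l1n13 : countBelow fl1 107086 = 49495 := countBelow_step fl1 99437 7649 107086 45512 3983 49495 l1n12 l1k13 rfl rfl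
theorem l1n14 : countBelow fl1 114735 = 53634 := countBelow_step fl1 107086 7649 114735 49495 4139 53634 l1n13 l1k14 rfl rfl
theorem l1n15 : countBelow fl1 122384 = 58380 := countBelow_step fl1 114735 7649 122384 53634 4746 58380 l1n14 l1k15 rfl rfl
theorem l1n16 : countBelow fl1 122760 = 58653 := countBelow_step fl1 122384 376 122760 58380 273 58653 l1n15 l1k16 rfl rfl
theorem l2z : countBelow fl2 0 = 0 := rfl
theorem l2n0 : countBelow fl2 7649 = 2974 := countBelow_step fl2 0 7649 7649 0 2974 2974 l2z l2k0 rfl rfl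
theorem l2n1 : countBelow fl2 15298 = 6554 := countBelow_step fl2 7649 7649 15298 2974 3580 6554 l2n0 l2k1 rfl rfl
theorem l2n2 : countBelow fl2 22947 = 10137 := countBelow_step fl2 15298 7649 22947 6554 3583 10137 l2n1 l2k2 rfl rfl
theorem l2n3 : countBelow fl2 30596 = 13781 := countBelow_step fl2 22947 7649 30596 10137 3644 13781 l2n2 l2k3 rfl rfl
theorem l2n4 : countBelow fl2 38245 = 17336 := countBelow_step fl2 30596 7649 38245 13781 3555 17336 l2n3 l2k4 rfl rfl
theorem l2n5 : countBelow fl2 45894 = 20830 := countBelow_step fl2 38245 7649 45894 17336 3494 20830 l2n4 l2k5 rfl rfl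
theorem l2n6 : countBelow fl2 53543 = 24447 := countBelow_step fl2 45894 7649 53543 20830 3617 24447 l2n5 l2k6 rfl rfl
theorem l2n7 : countBelow fl2 61192 = 27591 := countBelow_step fl2 53543 7649 61192 24447 3144 27591 l2n6 l2k7 rfl rfl
theorem l2n8 : countBelow fl2 68841 = 30917 := countBelow_step fl2 61192 7649 68841 27591 3326 30917 l2n7 l2k8 rfl rfl
theorem l2n9 : countBelow fl2 76490 = 34265 := countBelow_step fl2 68841 7649 76490 30917 3348 34265 l2n8 l2k9 rfl rfl
theorem l2n10 : countBelow fl2 84139 = 37546 := countBelow_step fl2 76490 7649 84139 34265 3281 37546 l2n9 l2k10 rfl rfl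
theorem l2n11 : countBelow fl2 91788 = 40801 := countBelow_step fl2 84139 7649 91788 37546 3255 40801 l2n10 l2k11 rfl rfl
theorem l2n12 : countBelow fl2 99437 = 43814 := countBelow_step fl2 91788 7649 99437 40801 3013 43814 l2n11 l2k12 rfl rfl
theorem l2n13 : countBelow fl2 107086 = 46833 := countBelow_step fl2 99437 7649 107086 43814 3019 46833 l2n12 l2k13 rfl rfl
theorem l2n14 : countBelow fl2 114735 = 49655 := countBelow_step fl2 107086 7649 114735 46833 2822 49655 l2n13 l2k14 rfl rfl
theorem l2n15 : countBelow fl2 122384 = 52052 := countBelow_step fl2 114735 7649 122384 49655 2397 52052 l2n14 l2k15 rfl rfl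
theorem l2n16 : countBelow fl2 122760 = 52136 := countBelow_step fl2 122384 376 122760 52052 84 52136 l2n15 l2k16 rfl rfl
theorem l3z : countBelow fl3 0 = 0 := rfl
theorem l3n0 : countBelow fl3 7649 = 364 := countBelow_step fl3 0 7649 7649 0 364 364 l3z l3k0 rfl rfl
theorem l3n1 : countBelow fl3 15298 = 738 := countBelow_step fl3 7649 7649 15298 364 374 738 l3n0 l3k1 rfl rfl
theorem l3n2 : countBelow fl3 22947 = 1123 := countBelow_step fl3 15298 7649 22947 738 385 1123 l3n1 l3k2 rfl rfl
theorem l3n3 : countBelow fl3 30596 = 1505 := countBelow_step fl3 22947 7649 30596 1123 382 1505 l3n2 l3k3 rfl rfl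
theorem l3n4 : countBelow fl3 38245 = 1928 := countBelow_step fl3 30596 7649 38245 1505 423 1928 l3n3 l3k4 rfl rfl
theorem l3n5 : countBelow fl3 45894 = 2293 := countBelow_step fl3 38245 7649 45894 1928 365 2293 l3n4 l3k5 rfl rfl
theorem l3n6 : countBelow fl3 53543 = 2656 := countBelow_step fl3 45894 7649 53543 2293 363 2656 l3n5 l3k6 rfl rfl
theorem l3n7 : countBelow fl3 61192 = 3002 := countBelow_step fl3 53543 7649 61192 2656 346 3002 l3n6 l3k7 rfl rfl
theorem l3n8 : countBelow fl3 68841 = 3321 := countBelow_step fl3 61192 7649 68841 3002 319 3321 l3n7 l3k8 rfl rfl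
theorem l3n9 : countBelow fl3 76490 = 3615 := countBelow_step fl3 68841 7649 76490 3321 294 3615 l3n8 l3k9 rfl rfl
theorem l3n10 : countBelow fl3 84139 = 4001 := countBelow_step fl3 76490 7649 84139 3615 386 4001 l3n9 l3k10 rfl rfl
theorem l3n11 : countBelow fl3 91788 = 4275 := countBelow_step fl3 84139 7649 91788 4001 274 4275 l3n10 l3k11 rfl rfl
theorem l3n12 : countBelow fl3 99437 = 4626 := countBelow_step fl3 91788 7649 99437 4275 351 4626 l3n11 l3k12 rfl rfl
theorem l3n13 : countBelow fl3 107086 = 4922 := countBelow_step fl3 99437 7649 107086 4626 296 4922 l3n12 l3k13 rfl rfl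
theorem l3n14 : countBelow fl3 114735 = 5269 := countBelow_step fl3 107086 7649 114735 4922 347 5269 l3n13 l3k14 rfl rfl
theorem l3n15 : countBelow fl3 122384 = 5568 := countBelow_step fl3 114735 7649 122384 5269 299 5568 l3n14 l3k15 rfl rfl
theorem l3n16 : countBelow fl3 122760 = 5586 := countBelow_step fl3 122384 376 122760 5568 18 5586 l3n15 l3k16 rfl rfl
theorem l4z : countBelow fl4 0 = 0 := rfl
theorem l4n0 : countBelow fl4 7649 = 735 := countBelow_step fl4 0 7649 7649 0 735 735 l4z l4k0 rfl rfl
theorem l4n1 : countBelow fl4 15298 = 1156 := countBelow_step fl4 7649 7649 15298 735 421 1156 l4n0 l4k1 rfl rfl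
theorem l4n2 : countBelow fl4 22947 = 1576 := countBelow_step fl4 15298 7649 22947 1156 420 1576 l4n1 l4k2 rfl rfl
theorem l4n3 : countBelow fl4 30596 = 1892 := countBelow_step fl4 22947 7649 30596 1576 316 1892 l4n2 l4k3 rfl rfl
theorem l4n4 : countBelow fl4 38245 = 2265 := countBelow_step fl4 30596 7649 38245 1892 373 2265 l4n3 l4k4 rfl rfl
theorem l4n5 : countBelow fl4 45894 = 2667 := countBelow_step fl4 38245 7649 45894 2265 402 2667 l4n4 l4k5 rfl rfl
theorem l4n6 : countBelow fl4 53543 = 3000 := countBelow_step fl4 45894 7649 53543 2667 333 3000 l4n5 l4k6 rfl rfl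
theorem l4n7 : countBelow fl4 61192 = 3460 := countBelow_step fl4 53543 7649 61192 3000 460 3460 l4n6 l4k7 rfl rfl
theorem l4n8 : countBelow fl4 68841 = 3856 := countBelow_step fl4 61192 7649 68841 3460 396 3856 l4n7 l4k8 rfl rfl
theorem l4n9 : countBelow fl4 76490 = 4328 := countBelow_step fl4 68841 7649 76490 3856 472 4328 l4n8 l4k9 rfl rfl
theorem l4n10 : countBelow fl4 84139 = 4770 := countBelow_step fl4 76490 7649 84139 4328 442 4770 l4n9 l4k10 rfl rfl
theorem l4n11 : countBelow fl4 91788 = 5117 := countBelow_step fl4 84139 7649 91788 4770 347 5117 l4n10 l4k11 rfl rfl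
theorem l4n12 : countBelow fl4 99437 = 5484 := countBelow_step fl4 91788 7649 99437 5117 367 5484 l4n11 l4k12 rfl rfl
theorem l4n13 : countBelow fl4 107086 = 5835 := countBelow_step fl4 99437 7649 107086 5484 351 5835 l4n12 l4k13 rfl rfl
theorem l4n14 : countBelow fl4 114735 = 6176 := countBelow_step fl4 107086 7649 114735 5835 341 6176 l4n13 l4k14 rfl rfl
theorem l4n15 : countBelow fl4 122384 = 6383 := countBelow_step fl4 114735 7649 122384 6176 207 6383 l4n14 l4k15 rfl rfl
theorem l4n16 : countBelow fl4 122760 = 6384 := countBelow_step fl4 122384 376 122760 6383 1 6384 l4n15 l4k16 rfl rfl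
theorem hsub : allBelow (fixAll sl) 1 = true := by decide +kernel

noncomputable def permData : PermData PresON.cc.C PresON.cc.inv PresON.R S 122759 where
  pt := pt
  hinvC := PresON.hinvC
  hinv2 := PresON.hinv2
  hinvE := PresON.hinvE
  hchk := by
    intro c hc
    have hc' : c < 8 := hc
    interval_cases c
    exacts [c0u32, c1u32, c2u32, c3u32, c4u32, c5u32, c6u32, c7u32]
  hrel := fix_of_leaves' rl 122760 ru2505
  hsub := fun b hb => fix_of_leaves sl 1 hsub b hb 0 (by decide)
  hRC := PresON.hRC
  hSC := by decide +kernel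
  tp := tp
  cK := 16
  htree := tu48


noncomputable def orbData : OrbData permData where
  sl := sl
  hsl := rfl
  ot := ot
  db := 6
  rep := rep
  hchk := allBelow_of_forall _ _ ou579

theorem ocnt0 : countBelow (fun j => Nat.beq (orbData.lab j) 0) 122760 = 1 := l0n16
theorem orep0 : orbData.lab (orbData.rep 0) = 0 := by decide +kernel
theorem ocnt1 : countBelow (fun j => Nat.beq (orbData.lab j) 1) 122760 = 58653 := l1n16
theorem orep1 : orbData.lab (orbData.rep 1) = 1 := by decide +kernel
theorem ocnt2 : countBelow (fun j => Nat.beq (orbData.lab j) 2) 122760 = 52136 := l2n16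
theorem orep2 : orbData.lab (orbData.rep 2) = 2 := by decide +kernel
theorem ocnt3 : countBelow (fun j => Nat.beq (orbData.lab j) 3) 122760 = 5586 := l3n16
theorem orep3 : orbData.lab (orbData.rep 3) = 3 := by decide +kernel
theorem ocnt4 : countBelow (fun j => Nat.beq (orbData.lab j) 4) 122760 = 6384 := l4n16
theorem orep4 : orbData.lab (orbData.rep 4) = 4 := by decide +kernel
end Cfsg.Agent.Lib.Helper35.ON122760
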